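import Cfsg.Agent.SporadicA.M24.ElevenTwoFour

/-!
# The case `e = 5`, `|K| = 2` of the Sylow 11-subgroups does not occur

Task T5 of the elimination for the prime 11 in a simple group of order `244823040`.
-/

set_option autoImplicit false

namespace Cfsg.Agent.SporadicA.M24.ElevenFiveTwo

open Cfsg Subgroup Cfsg.Agent.Characters.Core
open Cfsg.Agent.SmallSimple Cfsg.Agent.SmallSimple.PrimeLocal
open Cfsg.Agent.M23.Block
open Cfsg.Agent.SporadicA.M24.Sylow23
open Cfsg.Agent.SporadicA.M24.ElevenTwoLocal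

universe u

variable {G : Type u} [Group G] [Finite G]

/-- In a simple group of order `244823040` a Sylow 11-subgroup does not have `e = 5` and
`|K| = 2`. -/
theorem five_two_false [IsSimpleGroup G] (hcard : Nat.card G = 244823040) {P : Sylow 11 G}
    {K : Subgroup G} (h : IsLocal 11 P 5 K) (hK : Nat.card K = 2) : False := by
  have hfact5 : Fact (Nat.Prime 5) := ⟨by norm_num⟩
  have hfact11 : Fact (Nat.Prime 11) := ⟨by norm_num⟩
  obtain ⟨Q, t, L⟩ := exists_loc hcard h hK
  obtain ⟨M, NE, X, ε, d, S, B⟩ := exists_blk (not_prime hcard) 11 (by norm_num) P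
    (card_P11 hcard P) 5 2 (relIndex_of_local h) (by norm_num)
  obtain ⟨e5, K5, h5⟩ := exists_local (p := 5) (not_comm hcard) (by rw [hcard]; norm_num)
    (by rw [hcard]; norm_num) Q
  have he1 := h5.one_lt
  have he2 := h5.dvd_pred
  have he3 : e5 = 2 ∨ e5 = 4 := by
    have h1 : e5 ∣ 4 := he2
    have h2 := Nat.le_of_dvd (by norm_num) h1
    interval_cases e5
    · exact Or.inl rfl
    · omega
    · exact Or.inr rfl
  rcases he3 with rfl | rfl
  · obtain ⟨M5, NE5, X5, ε5, d5, S5, B5⟩ := exists_blk (not_prime hcard) 5 (by norm_num) Q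
      (card_Q hcard Q) 2 2 (relIndex_of_local h5) (by norm_num)
    exact ElevenTwoBase.two_false hcard L B5 B
  · obtain ⟨M5, NE5, X5, ε5, d5, S5, B5⟩ := exists_blk (not_prime hcard) 5 (by norm_num) Q
      (card_Q hcard Q) 4 1 (relIndex_of_local h5) (by norm_num)
    exact ElevenTwoFour.four_false hcard L B5 B

end Cfsg.Agent.SporadicA.M24.ElevenFiveTwo
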