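import Cfsg.Agent.M23.Adm

/-!
# Averages over the `p'`-part of the centraliser of a Sylow subgroup of prime order

* `sum_eq_zero`: `χ` outside the principal `p`-block has sum zero over the coset `x K`.
* `sum_mem`: for `χ` in the principal block the sum is `|K| χ(x)`.
* `inter_rule`: orthogonality of the principal `p`-block and the principal `q`-block.
* `fix_of_not_mem`, `fix_of_mem`: dimensions of fixed spaces of `K`.
-/

set_option autoImplicit false

namespace Cfsg.Agent.SporadicA.M24.BlockAvg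

open Cfsg Cfsg.Agent.Characters.Core
open scoped ComplexConjugate
open Cfsg.Agent.Blocks.PPart
open Cfsg.Agent.SmallSimple
open Cfsg.Agent.M23.Adm (V V_eq)

universe u

variable {G : Type u} [Group G] [Finite G] {p : ℕ}

section general

/-- `K` is the set of `p`-regular elements of the centraliser of `P`. -/
def IsReg (p : ℕ) (P : Subgroup G) (K : Subgroup G) : Prop :=
  ∀ y, y ∈ K ↔ y ∈ Subgroup.centralizer (P : Set G) ∧ ¬ p ∣ orderOf y

theorem isReg_of_isLocal [hp : Fact p.Prime] {P : Sylow p G} {e : ℕ} {K : Subgroup G}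
    (h : PrimeLocal.IsLocal p P e K) : IsReg p (P : Subgroup G) K := by
  intro y
  rw [h.mem_iff]
  refine and_congr_right fun hy => ?_
  constructor
  · intro hy1 hd
    exact h.not_dvd (hd.trans (orderOf_dvd_of_pow_eq_one hy1))
  · intro hd
    have h1 : orderOf y ∣ p * Nat.card K := by
      rw [← h.card_centralizer, ← Subgroup.orderOf_mk y hy]
      exact orderOf_dvd_natCard _
    have h2 : (orderOf y).Coprime p := ((Nat.Prime.coprime_iff_not_dvd hp.out).2 hd).symm
    exact orderOf_dvd_iff_pow_eq_one.1 (h2.dvd_of_dvd_mul_left h1)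

variable [Fact p.Prime] (P : Sylow p G) (hP : Nat.card P = p)

include hP

/-- The sum of a class function over the section of `x`. -/
theorem sum_section {x : G} (hx : x ∈ P) (hx1 : x ≠ 1) {K : Subgroup G}
    (hK : IsReg p (P : Subgroup G) K) [Fintype G] [Fintype K] {ψ : G → ℂ}
    (hψ : ∀ c g, ψ (c * g * c⁻¹) = ψ g) [DecidablePred fun g : G => ∃ z, IsPPart p g z ∧ IsConj x z] :
    (Nat.card (Subgroup.centralizer ({x} : Set G)) : ℂ) *
        ∑ g : G, (if ∃ z, IsPPart p g z ∧ IsConj x z then ψ g else 0) =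
      Nat.card G * ∑ k : K, ψ (x * k) := by
  classical
  have hox := Cfsg.Agent.Blocks.CyclicOrtho.orderOf_eq P hP hx hx1
  have hcent := Cfsg.Agent.Blocks.CyclicOrtho.centralizer_eq P hP hx hx1
  have hKc : ∀ k ∈ K, Commute x k := fun k hk =>
    Subgroup.mem_centralizer_iff.1 ((hK k).1 hk).1 x hx
  have hpart : ∀ c : G, ∀ k ∈ K, IsPPart p (c * (x * k) * c⁻¹) (c * x * c⁻¹) := by
    intro c k hk
    exact isPPart_conj ⟨k, rfl, hKc k hk, ⟨1, by rw [hox, pow_one]⟩, ((hK k).1 hk).2⟩ c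
  let φ : G × K → G := fun a => a.1 * (x * (a.2 : G)) * a.1⁻¹
  have h1 : ∑ a : G × K, ψ (φ a) = Nat.card G * ∑ k : K, ψ (x * k) := by
    rw [Fintype.sum_prod_type]
    simp only [φ, hψ]
    rw [Finset.sum_const, Finset.card_univ, nsmul_eq_mul, ← Nat.card_eq_fintype_card]
  have h2 : ∀ g : G, ((Finset.univ.filter fun a : G × K => φ a = g).card : ℂ) =
      if ∃ z, IsPPart p g z ∧ IsConj x z then
        (Nat.card (Subgroup.centralizer ({x} : Set G)) : ℂ) else 0 := by
    intro g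
    split_ifs with hg
    · obtain ⟨z, hz, hxz⟩ := hg
      obtain ⟨c₀, hc₀⟩ := isConj_iff.1 hxz
      obtain ⟨y₀, hy₀, hzy, -, hyr⟩ := hz
      have hconj : ∀ c w : G, orderOf (c * w * c⁻¹) = orderOf w := fun c w => by
        have := orderOf_injective (MulAut.conj c).toMonoidHom (MulAut.conj c).injective w
        simpa using this
      have hk₀ : c₀⁻¹ * y₀ * c₀ ∈ K := by
        rw [hK]
        constructor
        · show _ ∈ Subgroup.centralizer ((P : Subgroup G) : Set G)
          rw [← hcent, Subgroup.mem_centralizer_singleton_iff]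
          have h3 : c₀ * x * c₀⁻¹ * y₀ = y₀ * (c₀ * x * c₀⁻¹) := by rw [hc₀]; exact hzy.eq
          calc c₀⁻¹ * y₀ * c₀ * x = c₀⁻¹ * (y₀ * (c₀ * x * c₀⁻¹)) * c₀ := by group
            _ = c₀⁻¹ * (c₀ * x * c₀⁻¹ * y₀) * c₀ := by rw [h3]
            _ = x * (c₀⁻¹ * y₀ * c₀) := by group
        · have := hconj c₀⁻¹ y₀
          rw [inv_inv] at this
          rwa [this]
      have hcard : (Finset.univ.filter fun a : G × K => φ a = g).card =
          Nat.card (Subgroup.centralizer ({x} : Set G)) := by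
        have hfin := Fintype.ofFinite (Subgroup.centralizer ({x} : Set G))
        have hzp : IsPPart p g z := ⟨y₀, hy₀, hzy, by
          obtain ⟨c, hc⟩ := isConj_iff.1 hxz
          exact ⟨1, by rw [← hc, hconj, hox, pow_one]⟩, hyr⟩
        have hmem : ∀ a ∈ Finset.univ.filter (fun a : G × K => φ a = g),
            c₀⁻¹ * a.1 ∈ Subgroup.centralizer ({x} : Set G) := by
          intro a ha
          have h3 : IsPPart p g (a.1 * x * a.1⁻¹) := by
            rw [← (Finset.mem_filter.1 ha).2]; exact hpart a.1 a.2 a.2.2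
          have h4 := isPPart_unique h3 hzp
          rw [← hc₀] at h4
          rw [Subgroup.mem_centralizer_singleton_iff]
          calc c₀⁻¹ * a.1 * x = c₀⁻¹ * (a.1 * x * a.1⁻¹) * a.1 := by group
            _ = c₀⁻¹ * (c₀ * x * c₀⁻¹) * a.1 := by rw [h4]
            _ = x * (c₀⁻¹ * a.1) := by group
        have hmemK : ∀ s ∈ Subgroup.centralizer ({x} : Set G),
            s⁻¹ * (c₀⁻¹ * y₀ * c₀) * s ∈ K := by
          intro s hs
          have h5 := (hK _).1 hk₀
          rw [hK]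
          refine ⟨Subgroup.mul_mem _ (Subgroup.mul_mem _ (Subgroup.inv_mem _ ?_) h5.1) ?_, ?_⟩
          · exact hcent ▸ hs
          · exact hcent ▸ hs
          · have := hconj s⁻¹ (c₀⁻¹ * y₀ * c₀)
            rw [inv_inv] at this
            rw [this]
            exact h5.2
        rw [Nat.card_eq_fintype_card]
        refine Finset.card_bij' (fun a ha => (⟨c₀⁻¹ * a.1, hmem a ha⟩ : Subgroup.centralizer ({x} : Set G)))
          (fun s _ => (c₀ * s, ⟨(s : G)⁻¹ * (c₀⁻¹ * y₀ * c₀) * s, hmemK s s.2⟩)) ?_ ?_ ?_ ?_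
        · intro a _
          exact Finset.mem_univ _
        · intro s _
          rw [Finset.mem_filter]
          refine ⟨Finset.mem_univ _, ?_⟩
          show c₀ * (s : G) * (x * ((s : G)⁻¹ * (c₀⁻¹ * y₀ * c₀) * s)) * (c₀ * (s : G))⁻¹ = g
          have h6 := Subgroup.mem_centralizer_singleton_iff.1 s.2
          calc c₀ * (s : G) * (x * ((s : G)⁻¹ * (c₀⁻¹ * y₀ * c₀) * s)) * (c₀ * (s : G))⁻¹
              = c₀ * ((s : G) * x) * (s : G)⁻¹ * c₀⁻¹ * y₀ := by group
            _ = c₀ * (x * s) * (s : G)⁻¹ * c₀⁻¹ * y₀ := by rw [h6]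
            _ = c₀ * x * c₀⁻¹ * y₀ := by group
            _ = g := by rw [hc₀, hy₀]
        · intro a ha
          have h7 : φ a = g := (Finset.mem_filter.1 ha).2
          have h8 := Subgroup.mem_centralizer_singleton_iff.1 (hmem a ha)
          apply Prod.ext
          · show c₀ * (c₀⁻¹ * a.1) = a.1
            group
          · apply Subtype.ext
            show (c₀⁻¹ * a.1)⁻¹ * (c₀⁻¹ * y₀ * c₀) * (c₀⁻¹ * a.1) = a.2
            have h9 : y₀ = z⁻¹ * g := by rw [← hy₀]; group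
            have h10 : a.1 * x * a.1⁻¹ = z := by
              have h3 : IsPPart p g (a.1 * x * a.1⁻¹) := by
                rw [← h7]; exact hpart a.1 a.2 a.2.2
              exact isPPart_unique h3 hzp
            rw [h9, ← h7, ← h10]
            show (c₀⁻¹ * a.1)⁻¹ * (c₀⁻¹ * ((a.1 * x * a.1⁻¹)⁻¹ * (a.1 * (x * (a.2 : G)) * a.1⁻¹)) * c₀)
              * (c₀⁻¹ * a.1) = a.2
            group
        · intro s _
          apply Subtype.ext
          show c₀⁻¹ * (c₀ * (s : G)) = s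
          group
      rw [hcard]
    · norm_cast
      rw [Finset.card_eq_zero, Finset.filter_eq_empty_iff]
      intro a _ ha
      exact hg ⟨_, ha ▸ hpart a.1 a.2 a.2.2, isConj_iff.2 ⟨a.1, rfl⟩⟩
  rw [← h1, ← Finset.sum_fiberwise Finset.univ φ, Finset.mul_sum]
  refine Finset.sum_congr rfl fun g _ => ?_
  rw [Finset.sum_congr rfl (g := fun _ => ψ g) (fun a ha => by rw [(Finset.mem_filter.1 ha).2]),
    Finset.sum_const, nsmul_eq_mul, h2 g]
  split_ifs <;> simp

/-- **(Z)** A character outside the principal block has sum zero over `x K`. -/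
theorem sum_eq_zero {M : Ideal AlgInt} (hM : IsPModular p M) {x : G} (hx : x ∈ P) (hx1 : x ≠ 1)
    {K : Subgroup G} (hK : IsReg p (P : Subgroup G) K) [Fintype K] {ψ : IrrCharacter G}
    (hψ : ψ ∉ principalBlock M G) : ∑ k : K, (ψ : G → ℂ) (x * k) = 0 := by
  classical
  have := Fintype.ofFinite G
  have : Finite (IrrCharacter G) := finite_irr
  have := Fintype.ofFinite (IrrCharacter G)
  have h1 := sum_section P hP hx hx1 hK (ψ := (ψ : G → ℂ))
    (fun c g => isIrr_isClassFunction ψ.2 g c)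
  have h2 : ∑ g : G, (if ∃ z, IsPPart p g z ∧ IsConj x z then (ψ : G → ℂ) g else 0) = 0 := by
    have h3 := classInner_sum_smul_irr
      (fun χ : IrrCharacter G => if χ ∈ principalBlock M G then conj ((χ : G → ℂ) x) else 0) ψ
    rw [if_neg hψ, classInner_def] at h3
    have h4 : ∀ g : G, (∑ χ : IrrCharacter G,
        (if χ ∈ principalBlock M G then conj ((χ : G → ℂ) x) else 0) • (χ : G → ℂ)) g =
        if ∃ z, IsPPart p g z ∧ IsConj x z then (p : ℂ) else 0 := by
      intro g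
      have hk := Cfsg.Agent.Blocks.CyclicOrtho.kernel_eq P hP hM hx hx1 g
      rw [finsum_mem_def, finsum_eq_sum_of_fintype] at hk
      rw [Finset.sum_apply, Finset.sum_congr rfl (g := fun χ : IrrCharacter G =>
        (principalBlock M G).indicator (fun χ : IrrCharacter G =>
          (χ : G → ℂ) g * conj ((χ : G → ℂ) x)) χ), hk]
      · split_ifs <;> rfl
      · intro χ _
        rw [Pi.smul_apply, smul_eq_mul, Set.indicator_apply]
        split_ifs <;> ring
    rw [Finset.sum_congr rfl fun g _ => by rw [h4 g]] at h3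
    have hc : (Nat.card G : ℂ) ≠ 0 := card_ne_zero_complex
    have hp0 : (p : ℂ) ≠ 0 := Nat.cast_ne_zero.2 (Fact.out : p.Prime).ne_zero
    have h5 := (mul_eq_zero.1 h3).resolve_left (inv_ne_zero hc)
    have h6 : (p : ℂ) * ∑ g : G, (if ∃ z, IsPPart p g z ∧ IsConj x z then (ψ : G → ℂ) g else 0) =
        conj (∑ g : G, (if ∃ z, IsPPart p g z ∧ IsConj x z then (p : ℂ) else 0) *
          conj ((ψ : G → ℂ) g)) := by
      rw [map_sum, Finset.mul_sum]
      refine Finset.sum_congr rfl fun g _ => ?_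
      split_ifs <;> simp
    rw [h5, map_zero] at h6
    exact (mul_eq_zero.1 h6).resolve_left hp0
  rw [h2, mul_zero] at h1
  have hc : (Nat.card G : ℂ) ≠ 0 := card_ne_zero_complex
  exact (mul_eq_zero.1 h1.symm).resolve_left hc

/-- In the principal block the sum over `x K` is `|K| χ(x)`. -/
theorem sum_mem {M : Ideal AlgInt} (hM : IsPModular p M) {x : G} (hx : x ∈ P) (hx1 : x ≠ 1)
    {K : Subgroup G} (hK : ∀ k ∈ K, k ∈ Subgroup.centralizer (P : Set G) ∧ ¬ p ∣ orderOf k)
    [Fintype K] {χ : IrrCharacter G} (hχ : χ ∈ principalBlock M G) :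
    ∑ k : K, (χ : G → ℂ) (x * k) = Nat.card K * (χ : G → ℂ) x := by
  rw [Finset.sum_congr rfl (g := fun _ => (χ : G → ℂ) x), Finset.sum_const, Finset.card_univ,
    nsmul_eq_mul, Nat.card_eq_fintype_card]
  intro k _
  exact Cfsg.Agent.Blocks.CyclicOrtho.mul_eq P hP hM hx hx1
    (Subgroup.mem_centralizer_iff.1 (hK k k.2).1 x hx) (hK k k.2).2 hχ

omit hP in
/-- Sum of the values of `χ` over `(P - 1) K`. -/
noncomputable def W (P K : Subgroup G) (χ : G → ℂ) : ℂ :=
  ∑ᶠ x : {x : P // x ≠ 1}, ∑ᶠ k : K, χ ((x : P) * k)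

omit [Finite G] [Fact p.Prime] hP in
theorem W_eq (P K : Subgroup G) (χ : G → ℂ) [Fintype {x : P // x ≠ 1}] [Fintype K] :
    W P K χ = ∑ x : {x : P // x ≠ 1}, ∑ k : K, χ ((x : P) * k) := by
  unfold W
  rw [finsum_eq_sum_of_fintype]
  exact Finset.sum_congr rfl fun x _ => finsum_eq_sum_of_fintype _

theorem W_mem {M : Ideal AlgInt} (hM : IsPModular p M) {K : Subgroup G}
    (hK : ∀ k ∈ K, k ∈ Subgroup.centralizer (P : Set G) ∧ ¬ p ∣ orderOf k)
    {χ : IrrCharacter G} (hχ : χ ∈ principalBlock M G) :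
    W (P : Subgroup G) K (χ : G → ℂ) = Nat.card K * V (P : Subgroup G) (χ : G → ℂ) := by
  classical
  have := Fintype.ofFinite K
  have := Fintype.ofFinite {x : (P : Subgroup G) // x ≠ 1}
  rw [W_eq, V_eq, Finset.mul_sum]
  refine Finset.sum_congr rfl fun x _ => ?_
  exact sum_mem P hP hM x.1.2 (fun h => x.2 (Subtype.ext h)) hK hχ

theorem W_not_mem {M : Ideal AlgInt} (hM : IsPModular p M) {K : Subgroup G}
    (hK : IsReg p (P : Subgroup G) K) {χ : IrrCharacter G} (hχ : χ ∉ principalBlock M G) :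
    W (P : Subgroup G) K (χ : G → ℂ) = 0 := by
  classical
  have := Fintype.ofFinite K
  have := Fintype.ofFinite {x : (P : Subgroup G) // x ≠ 1}
  rw [W_eq]
  refine Finset.sum_eq_zero fun x _ => ?_
  exact sum_eq_zero P hP hM x.1.2 (fun h => x.2 (Subtype.ext h)) hK hχ

omit [Fact p.Prime] hP in
/-- The sum of a character over `P K`, `K` centralising `P`. -/
theorem exists_sum_prod {χ : G → ℂ} (hχ : IsCharacter G χ) (P K : Subgroup G)
    (hPK : ∀ x ∈ P, ∀ k ∈ K, Commute x k) [Fintype P] [Fintype K] :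
    ∃ m : ℕ, ∑ x : P, ∑ k : K, χ (x * k) = m * (Nat.card P * Nat.card K) := by
  let f : P × K →* G := MonoidHom.noncommCoprod P.subtype K.subtype
    (fun x k => hPK x x.2 k k.2)
  obtain ⟨m, hm⟩ := classInner_isNat (isCharacter_comp f hχ) (isCharacter_one (G := P × K))
  rw [classInner_def] at hm
  have hc : (Nat.card (P × K) : ℂ) ≠ 0 := card_ne_zero_complex
  rw [inv_mul_eq_iff_eq_mul₀ hc, Nat.card_prod, Nat.cast_mul] at hm
  refine ⟨m, ?_⟩
  rw [mul_comm, ← hm, Fintype.sum_prod_type]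
  refine Finset.sum_congr rfl fun x _ => Finset.sum_congr rfl fun k _ => ?_
  have h1 : f (x, k) = (x : G) * k := rfl
  simp [h1]

/-- The dimension `f` of the fixed space of `K` and the dimension `f'` of the fixed space
of `P K`. -/
theorem exists_fix {χ : G → ℂ} (hχ : IsCharacter G χ) (K : Subgroup G)
    (hPK : ∀ x ∈ P, ∀ k ∈ K, Commute x k) [Fintype K] :
    ∃ f f' : ℕ, ∑ k : K, χ k = f * Nat.card K ∧
      (f : ℂ) * Nat.card K + W (P : Subgroup G) K χ = (p * f' : ℕ) * Nat.card K := by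
  classical
  have := Fintype.ofFinite (P : Subgroup G)
  have := Fintype.ofFinite {x : (P : Subgroup G) // x ≠ 1}
  obtain ⟨f, hf⟩ := TheoremBCor.exists_sum_eq hχ K
  obtain ⟨f', hf'⟩ := exists_sum_prod hχ (P : Subgroup G) K hPK
  refine ⟨f, f', hf, ?_⟩
  rw [← Finset.add_sum_erase Finset.univ _ (Finset.mem_univ (1 : (P : Subgroup G)))] at hf'
  have h1 : ∑ x ∈ Finset.univ.erase (1 : (P : Subgroup G)), ∑ k : K, χ ((x : G) * k) =
      W (P : Subgroup G) K χ := by
    rw [W_eq]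
    exact Finset.sum_subtype _ (fun x => by simp) _
  rw [h1, hP] at hf'
  simp only [Subgroup.coe_one, one_mul] at hf'
  rw [hf] at hf'
  rw [hf']
  push_cast
  ring

/-- Outside the principal block the dimension of the fixed space of `K` is divisible by `p`. -/
theorem fix_of_not_mem {M : Ideal AlgInt} (hM : IsPModular p M) {K : Subgroup G}
    (hK : IsReg p (P : Subgroup G) K) [Fintype K] {χ : IrrCharacter G}
    (hχ : χ ∉ principalBlock M G) :
    ∃ f : ℕ, ∑ k : K, (χ : G → ℂ) k = f * Nat.card K ∧ p ∣ f := by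
  obtain ⟨f, f', h1, h2⟩ := exists_fix P hP (isIrr_isCharacter χ.2) K
    (fun x hx k hk => Subgroup.mem_centralizer_iff.1 ((hK k).1 hk).1 x hx)
  refine ⟨f, h1, f', ?_⟩
  rw [W_not_mem P hP hM hK hχ, add_zero] at h2
  have hc : (Nat.card K : ℂ) ≠ 0 := card_ne_zero_complex
  exact_mod_cast mul_right_cancel₀ hc h2

/-- In the principal block the dimension `f` of the fixed space of `K` satisfies
`f + V = p f'`. -/
theorem fix_of_mem {M : Ideal AlgInt} (hM : IsPModular p M) {K : Subgroup G}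
    (hK : ∀ k ∈ K, k ∈ Subgroup.centralizer (P : Set G) ∧ ¬ p ∣ orderOf k)
    [Fintype K] {χ : IrrCharacter G} (hχ : χ ∈ principalBlock M G) :
    ∃ f f' : ℕ, ∑ k : K, (χ : G → ℂ) k = f * Nat.card K ∧
      (f : ℂ) + V (P : Subgroup G) (χ : G → ℂ) = (p * f' : ℕ) := by
  obtain ⟨f, f', h1, h2⟩ := exists_fix P hP (isIrr_isCharacter χ.2) K
    (fun x hx k hk => Subgroup.mem_centralizer_iff.1 (hK k hk).1 x hx)
  refine ⟨f, f', h1, ?_⟩
  rw [W_mem P hP hM hK hχ] at h2
  have hc : (Nat.card K : ℂ) ≠ 0 := card_ne_zero_complex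
  apply mul_right_cancel₀ hc
  rw [← h2]
  ring

end general

section two

variable {q : ℕ} [Fact p.Prime] [Fact q.Prime] (P : Sylow p G) (hP : Nat.card P = p)
  (Q : Sylow q G) (hQ : Nat.card Q = q)

include hP hQ

theorem sum_W_mul {K L : Subgroup G} [Fintype (IrrCharacter G)]
    (hne : ∀ x ∈ P, x ≠ 1 → ∀ k ∈ K, ∀ y ∈ Q, y ≠ 1 → ∀ l ∈ L, ¬ IsConj (x * k) (y * l)) :
    ∑ χ : IrrCharacter G, W (P : Subgroup G) K (χ : G → ℂ) *
      conj (W (Q : Subgroup G) L (χ : G → ℂ)) = 0 := by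
  classical
  have := Fintype.ofFinite K
  have := Fintype.ofFinite L
  have := Fintype.ofFinite {x : (P : Subgroup G) // x ≠ 1}
  have := Fintype.ofFinite {x : (Q : Subgroup G) // x ≠ 1}
  have h1 : ∀ χ : IrrCharacter G, W (P : Subgroup G) K (χ : G → ℂ) *
      conj (W (Q : Subgroup G) L (χ : G → ℂ)) =
      ∑ a : {x : (P : Subgroup G) // x ≠ 1} × K, ∑ b : {x : (Q : Subgroup G) // x ≠ 1} × L,
        (χ : G → ℂ) ((a.1 : (P : Subgroup G)) * a.2) *
          conj ((χ : G → ℂ) ((b.1 : (Q : Subgroup G)) * b.2)) := by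
    intro χ
    rw [W_eq, W_eq, ← Fintype.sum_prod_type' (f := fun (x : {x : (P : Subgroup G) // x ≠ 1}) (k : K) =>
      (χ : G → ℂ) ((x : (P : Subgroup G)) * k)),
      ← Fintype.sum_prod_type' (f := fun (x : {x : (Q : Subgroup G) // x ≠ 1}) (k : L) =>
      (χ : G → ℂ) ((x : (Q : Subgroup G)) * k)), map_sum, Finset.sum_mul_sum]
  rw [Finset.sum_congr rfl fun χ _ => h1 χ, Finset.sum_comm]
  refine Finset.sum_eq_zero fun a _ => ?_
  rw [Finset.sum_comm]
  refine Finset.sum_eq_zero fun b _ => ?_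
  have h2 := (Cfsg.Agent.S0145.result (((a.1 : (P : Subgroup G)) : G) * a.2)
    (((b.1 : (Q : Subgroup G)) : G) * b.2)).2
    (hne _ a.1.1.2 (fun h => a.1.2 (Subtype.ext h)) _ a.2.2 _ b.1.1.2
      (fun h => b.1.2 (Subtype.ext h)) _ b.2.2)
  rwa [finsum_eq_sum_of_fintype] at h2

/-- **(X)** Orthogonality of the principal `p`-block and the principal `q`-block. -/
theorem inter_rule {M : Ideal AlgInt} (hM : IsPModular p M) {M' : Ideal AlgInt}
    (hM' : IsPModular q M') {K L : Subgroup G} (hK : IsReg p (P : Subgroup G) K)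
    (hL : IsReg q (Q : Subgroup G) L) (s : Finset (IrrCharacter G))
    (hs : ∀ χ, χ ∈ s ↔ χ ∈ principalBlock M G ∧ χ ∈ principalBlock M' G)
    (hne : ∀ x ∈ P, x ≠ 1 → ∀ k ∈ K, ∀ y ∈ Q, y ≠ 1 → ∀ l ∈ L, ¬ IsConj (x * k) (y * l)) :
    ∑ χ ∈ s, V (P : Subgroup G) (χ : G → ℂ) * conj (V (Q : Subgroup G) (χ : G → ℂ)) = 0 := by
  classical
  have : Finite (IrrCharacter G) := finite_irr
  have := Fintype.ofFinite (IrrCharacter G)
  have h1 := sum_W_mul P hP Q hQ hne
  have h2 : ∑ χ : IrrCharacter G, W (P : Subgroup G) K (χ : G → ℂ) *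
      conj (W (Q : Subgroup G) L (χ : G → ℂ)) =
      ∑ χ ∈ s, W (P : Subgroup G) K (χ : G → ℂ) *
      conj (W (Q : Subgroup G) L (χ : G → ℂ)) := by
    refine (Finset.sum_subset (Finset.subset_univ _) fun χ _ hχ => ?_).symm
    rw [hs, not_and_or] at hχ
    rcases hχ with h | h
    · rw [W_not_mem P hP hM hK h, zero_mul]
    · rw [W_not_mem Q hQ hM' hL h, map_zero, mul_zero]
  rw [h2, Finset.sum_congr rfl (g := fun χ : IrrCharacter G => ((Nat.card K : ℂ) * Nat.card L) *
    (V (P : Subgroup G) (χ : G → ℂ) * conj (V (Q : Subgroup G) (χ : G → ℂ)))), ← Finset.mul_sum] at h1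
  · have hc : (Nat.card K : ℂ) ≠ 0 := card_ne_zero_complex
    have hc' : (Nat.card L : ℂ) ≠ 0 := card_ne_zero_complex
    exact (mul_eq_zero.1 h1).resolve_left (mul_ne_zero hc hc')
  · intro χ hχ
    have h3 := (hs χ).1 hχ
    rw [W_mem P hP hM (fun k hk => (hK k).1 hk) h3.1, W_mem Q hQ hM' (fun k hk => (hL k).1 hk) h3.2,
      map_mul, Complex.conj_natCast]
    ring

/-- The elements `x k` and `y l` are not conjugate if `p` does not divide `|L|`, `p ≠ q`. -/
theorem not_isConj {K L : Subgroup G} (hpq : p ≠ q) (hK : IsReg p (P : Subgroup G) K)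
    (hL : IsReg q (Q : Subgroup G) L) (hpL : ¬ p ∣ Nat.card L) :
    ∀ x ∈ P, x ≠ 1 → ∀ k ∈ K, ∀ y ∈ Q, y ≠ 1 → ∀ l ∈ L, ¬ IsConj (x * k) (y * l) := by
  intro x hx hx1 k hk y hy hy1 l hl hconj
  have hp : p.Prime := Fact.out
  have hq : q.Prime := Fact.out
  have hox := Cfsg.Agent.Blocks.CyclicOrtho.orderOf_eq P hP hx hx1
  have hoy := Cfsg.Agent.Blocks.CyclicOrtho.orderOf_eq Q hQ hy hy1
  have hcx : Commute x k := Subgroup.mem_centralizer_iff.1 ((hK k).1 hk).1 x hx
  have hcy : Commute y l := Subgroup.mem_centralizer_iff.1 ((hL l).1 hl).1 y hy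
  have h1 : orderOf (x * k) = p * orderOf k := by
    rw [hcx.orderOf_mul_eq_mul_orderOf_of_coprime, hox]
    rw [hox]
    exact (Nat.Prime.coprime_iff_not_dvd hp).2 ((hK k).1 hk).2
  have h2 : orderOf (y * l) = q * orderOf l := by
    rw [hcy.orderOf_mul_eq_mul_orderOf_of_coprime, hoy]
    rw [hoy]
    exact (Nat.Prime.coprime_iff_not_dvd hq).2 ((hL l).1 hl).2
  have h3 : orderOf (x * k) = orderOf (y * l) := by
    obtain ⟨c, hc⟩ := isConj_iff.1 hconj
    rw [← hc]
    have := orderOf_injective (MulAut.conj c).toMonoidHom (MulAut.conj c).injective (x * k)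
    simpa using this.symm
  have h4 : p ∣ q * orderOf l := by
    rw [← h2, ← h3, h1]
    exact dvd_mul_right _ _
  rcases (Nat.Prime.dvd_mul hp).1 h4 with h | h
  · exact hpq ((Nat.prime_dvd_prime_iff_eq hp hq).1 h)
  · refine hpL (h.trans ?_)
    rw [← Subgroup.orderOf_mk l hl]
    exact orderOf_dvd_natCard _

omit hP hQ in
/-- Integer version of `inter_rule`, for the data delivered by `M23.Block.exists_blk`. -/
theorem inter_int (hP : Nat.card P = p) (hQ : Nat.card Q = q) {M M' : Ideal AlgInt}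
    {e t e' t' : ℕ} {NE X NE' X' : Finset (IrrCharacter G)} {ε ε' : IrrCharacter G → ℤ} {d d' : ℤ}
    {S : IrrCharacter G → Finset (P →* ℂˣ)} {S' : IrrCharacter G → Finset (Q →* ℂˣ)}
    (B : M23.Block.Blk p P e t M NE X ε d S) (B' : M23.Block.Blk q Q e' t' M' NE' X' ε' d' S')
    {K L : Subgroup G} (hK : IsReg p (P : Subgroup G) K) (hL : IsReg q (Q : Subgroup G) L)
    (hpq : p ≠ q) (hpL : ¬ p ∣ Nat.card L) (s : Finset (IrrCharacter G))
    (hs : ∀ χ, χ ∈ s ↔ (χ ∈ NE ∨ χ ∈ X) ∧ (χ ∈ NE' ∨ χ ∈ X')) (U U' : IrrCharacter G → ℤ)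
    (hU : ∀ χ ∈ s, V (P : Subgroup G) (χ : G → ℂ) = U χ)
    (hU' : ∀ χ ∈ s, V (Q : Subgroup G) (χ : G → ℂ) = U' χ) :
    ∑ χ ∈ s, U χ * U' χ = 0 := by
  have h1 := inter_rule P hP Q hQ B.modular B'.modular hK hL s
    (fun χ => by rw [hs, B.mem_iff, B'.mem_iff]) (not_isConj P hP Q hQ hpq hK hL hpL)
  rw [Finset.sum_congr rfl (g := fun χ : IrrCharacter G => ((U χ * U' χ : ℤ) : ℂ))] at h1
  · exact_mod_cast h1
  · intro χ hχ
    rw [hU χ hχ, hU' χ hχ]
    simp

end two

section values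

variable [Fact p.Prime] {P : Sylow p G}

/-- `V` of a non-exceptional character. -/
theorem V_NE (hP : Nat.card P = p) {M : Ideal AlgInt}
    {e t : ℕ} {NE X : Finset (IrrCharacter G)} {ε : IrrCharacter G → ℤ} {d : ℤ}
    {S : IrrCharacter G → Finset (P →* ℂˣ)} (B : M23.Block.Blk p P e t M NE X ε d S)
    {χ : IrrCharacter G} (hχ : χ ∈ NE) :
    V (P : Subgroup G) (χ : G → ℂ) = (((p : ℤ) - 1) * ε χ : ℤ) := by
  have hp : p.Prime := Fact.out
  have hone : ¬ p ∣ orderOf (1 : G) := by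
    rw [orderOf_one]; exact fun h => hp.one_lt.ne' (Nat.dvd_one.1 h)
  rw [M23.Adm.V_const (P : Subgroup G) (c := ε χ), hP, Nat.cast_sub hp.one_lt.le]
  · push_cast; ring
  · intro x hx hx1
    have := B.val_NE χ hχ x hx hx1 1 (one_mem _) hone
    rwa [mul_one] at this

/-- `V` of an exceptional character. -/
theorem V_X {M : Ideal AlgInt}
    {e t : ℕ} {NE X : Finset (IrrCharacter G)} {ε : IrrCharacter G → ℤ} {d : ℤ}
    {S : IrrCharacter G → Finset (P →* ℂˣ)} (B : M23.Block.Blk p P e t M NE X ε d S)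
    {Θ : IrrCharacter G} (hΘ : Θ ∈ X) :
    V (P : Subgroup G) (Θ : G → ℂ) = (-d * e : ℤ) := by
  have hp : p.Prime := Fact.out
  have hone : ¬ p ∣ orderOf (1 : G) := by
    rw [orderOf_one]; exact fun h => hp.one_lt.ne' (Nat.dvd_one.1 h)
  obtain ⟨h1, h2, h3⟩ := B.val_X Θ hΘ
  rw [M23.Adm.V_sum_hom (S := S Θ) (d := d) h2, h1]
  · push_cast; ring
  · intro x hx1
    have := h3 x hx1 1 (one_mem _) hone
    rwa [mul_one] at this

end values

end Cfsg.Agent.SporadicA.M24.BlockAvg
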