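import Cfsg.Agent.SporadicA.M24.ElevenTwelveArith
import Cfsg.Agent.SporadicA.M24.Adm
import Cfsg.Agent.SporadicA.M24.BlockAvg
import Cfsg.Agent.SmallSimple.AvgFormula
import Cfsg.Agent.Characters.SchurBound

/-!
# A simple group of order `244823040`: the case `|N(P₁₁) : C(P₁₁)| = 10`, `|C(P₁₁)| = 132`

`twelve_false`: this case is impossible.
-/

set_option autoImplicit false
set_option linter.unusedSectionVars false

namespace Cfsg.Agent.SporadicA.M24.ElevenTwelve

open Cfsg Subgroup Cfsg.Agent.Characters.Core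
open scoped ComplexConjugate
open Cfsg.Agent.Blocks.Basic (irr_one_eq_charDegree)
open Cfsg.Agent.SmallSimple Cfsg.Agent.SmallSimple.PrimeLocal
open Cfsg.Agent.M23.Block (Blk exists_blk)
open Cfsg.Agent.SporadicA.M24.BlockAvg

universe u

variable {G : Type u} [Group G] [Finite G]

/-! ### An element of order five centralises `K` -/

theorem comm_of_five {u : G} {K : Subgroup G} (hu : u ∈ normalizer (K : Set G))
    (ho : orderOf u = 5) (hk : Nat.card K = 12) : ∀ k ∈ K, u * k = k * u := by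
  have h5 : Fact (Nat.Prime 5) := ⟨by norm_num⟩
  have h3 : Fact (Nat.Prime 3) := ⟨by norm_num⟩
  have h2 : Fact (Nat.Prime 2) := ⟨by norm_num⟩
  have hAK : ∀ b ∈ zpowers u, ∀ v ∈ K, b * v * b⁻¹ ∈ K := by
    intro b hb v hv
    have h1 : b ∈ normalizer (K : Set G) := (zpowers_le.2 hu) hb
    exact (mem_normalizer_iff.1 h1 v).1 hv
  have hj3 : ∀ j, 0 < j → 3 ^ j ∣ Nat.card K → ¬ 5 ∣ 3 ^ j - 1 := by
    intro j hj0 hj
    rw [hk] at hj
    have : j < 2 := by
      by_contra hcon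
      have h1 := (pow_dvd_pow 3 (not_lt.1 hcon)).trans hj
      norm_num at h1
    have : j = 1 := by omega
    subst this; norm_num
  have hj2 : ∀ j, 0 < j → 2 ^ j ∣ Nat.card K → ¬ 5 ∣ 2 ^ j - 1 := by
    intro j hj0 hj
    rw [hk] at hj
    have : j < 3 := by
      by_contra hcon
      have h1 := (pow_dvd_pow 2 (not_lt.1 hcon)).trans hj
      norm_num at h1
    interval_cases j <;> norm_num
  obtain ⟨a, haK, hao, hau⟩ := M22.NonSelfCent.exists_commuting (q := 5) (r := 3) K hu ho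
    (by rw [hk]; norm_num) (by rw [hk]; norm_num) hj3
  obtain ⟨b, hbK, hbo, hbu⟩ := M22.NonSelfCent.exists_commuting (q := 5) (r := 2) K hu ho
    (by rw [hk]; norm_num) (by rw [hk]; norm_num) hj2
  set F : Subgroup G := K ⊓ centralizer ({u} : Set G) with hF
  have haF : a ∈ F := ⟨haK, mem_centralizer_singleton_iff.2 hau.symm⟩
  have hbF : b ∈ F := ⟨hbK, mem_centralizer_singleton_iff.2 hbu.symm⟩
  have hF3 : 3 ∣ Nat.card F := by
    rw [← hao, ← Subgroup.orderOf_mk a haF]; exact orderOf_dvd_natCard _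
  have hF2 : 2 ∣ Nat.card F := by
    rw [← hbo, ← Subgroup.orderOf_mk b hbF]; exact orderOf_dvd_natCard _
  have hF12 : Nat.card F ∣ 12 := by rw [← hk]; exact card_dvd_of_le inf_le_left
  let act : MulAction (zpowers u) K :=
    { smul := fun b s => ⟨b * s * (b : G)⁻¹, hAK b b.2 s s.2⟩
      one_smul := fun s => Subtype.ext (by
        show ((1 : zpowers u) : G) * s * ((1 : zpowers u) : G)⁻¹ = s
        simp)
      mul_smul := fun b c s => Subtype.ext (by
        show ((b * c : zpowers u) : G) * s * ((b * c : zpowers u) : G)⁻¹ =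
          b * (c * s * (c : G)⁻¹) * (b : G)⁻¹
        rw [Subgroup.coe_mul]; group) }
  have hA : IsPGroup 5 (zpowers u) := by
    apply IsPGroup.of_card (n := 1)
    rw [Nat.card_zpowers, ho, pow_one]
  have hmod := hA.card_modEq_card_fixedPoints K
  have hfix : Nat.card (MulAction.fixedPoints (zpowers u) K) = Nat.card F := by
    refine Nat.card_congr
      { toFun := fun s => ⟨s.1, s.1.2, ?_⟩
        invFun := fun s => ⟨⟨s.1, s.2.1⟩, ?_⟩
        left_inv := fun s => rfl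
        right_inv := fun s => rfl }
    · have h1 := s.2 ⟨u, mem_zpowers u⟩
      have h2 : u * (s.1 : G) * u⁻¹ = s.1 := congrArg Subtype.val h1
      refine mem_centralizer_singleton_iff.2 ?_
      calc (s.1 : G) * u = u * s.1 * u⁻¹ * u := by rw [h2]
        _ = u * s.1 := by group
    · rintro ⟨c, hc⟩
      apply Subtype.ext
      show c * (s : G) * c⁻¹ = s
      obtain ⟨i, rfl⟩ := mem_zpowers_iff.1 hc
      have h1 : Commute u (s : G) := (mem_centralizer_singleton_iff.1 s.2.2).symm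
      rw [(h1.zpow_left i).eq, mul_inv_cancel_right]
  rw [hfix, hk] at hmod
  have hF12' : Nat.card F = 12 := by
    obtain ⟨c, hc⟩ := hF12
    have h6 : 6 ∣ Nat.card F := by omega
    obtain ⟨c', hc'⟩ := h6
    have : Nat.card F ≤ 12 := Nat.le_of_dvd (by norm_num) ⟨c, hc⟩
    have h7 : c' ≤ 2 := by omega
    have h8 : 0 < Nat.card F := Nat.card_pos
    unfold Nat.ModEq at hmod
    interval_cases c' <;> omega
  have hFK : F = K := Subgroup.eq_of_le_of_card_ge inf_le_left (by rw [hF12', hk])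
  intro k hk'
  rw [← hFK] at hk'
  exact (mem_centralizer_singleton_iff.1 hk'.2).symm

/-! ### General facts on a Sylow subgroup of prime order -/

section Prime

variable {p : ℕ} [hp : Fact p.Prime] {P : Sylow p G} (hP : Nat.card P = p)

include hP

/-- Integrality of the class sum at an element of `P`. -/
theorem ci {e : ℕ} {K : Subgroup G} (h : IsLocal p P e K) {x : G} (hx : x ∈ P) (hx1 : x ≠ 1)
    {χ : G → ℂ} (hχ : IsIrrCharacter G χ) {z : ℤ} (hz : χ x = z) (hz1 : z = 1 ∨ z = -1) :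
    charDegree χ * (p * Nat.card K) ∣ Nat.card G := by
  have h1 := InvolColumn.dvd_index_mul hχ hz
  have h2 : charDegree χ ∣ (centralizer ({x} : Set G)).index := by
    have h3 := Int.natAbs_dvd_natAbs.2 h1
    rw [Int.natAbs_mul, Int.natAbs_natCast, Int.natAbs_natCast] at h3
    rcases hz1 with rfl | rfl <;> simpa using h3
  have h3 := (centralizer ({x} : Set G)).card_mul_index
  have h4 : Nat.card (centralizer ({x} : Set G)) = p * Nat.card K := by
    rw [Cfsg.Agent.Blocks.CyclicOrtho.centralizer_eq P hP hx hx1]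
    exact h.card_centralizer
  rw [h4] at h3
  rw [← h3, mul_comm (charDegree χ)]
  exact mul_dvd_mul_left _ h2

/-- Values of characters of the principal block at elements of the centraliser of `P`. -/
theorem dvd_sub_of_mem {M : Ideal AlgInt} (hM : IsPModular p M) {t : G}
    (htC : t ∈ centralizer (P : Set G)) (htp : ¬ p ∣ orderOf t) {χ : IrrCharacter G}
    (hχ : χ ∈ principalBlock M G) {z : ℤ} (hz : (χ : G → ℂ) t = z) :
    (p : ℤ) ∣ (charDegree (χ : G → ℂ) : ℤ) - z := by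
  refine M23.SylowTools.dvd_sub_of_mul_eq hM (P := (P : Subgroup G)) hP χ.2 htC htp ?_
    (by rw [irr_one_eq_charDegree χ.2]; push_cast; rfl) hz
  intro x hx hx1
  exact Cfsg.Agent.Blocks.CyclicOrtho.mul_eq P hP hM hx hx1
    (mem_centralizer_iff.1 htC x hx) htp hχ

/-- Values of characters of defect zero at elements of the centraliser of `P`. -/
theorem dvd_of_dvd_degree {M : Ideal AlgInt} (hM : IsPModular p M) (hG : p ∣ Nat.card G)
    (hG2 : ¬ p ^ 2 ∣ Nat.card G) {t : G}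
    (htC : t ∈ centralizer (P : Set G)) (htp : ¬ p ∣ orderOf t) {χ : IrrCharacter G}
    (hχ : p ∣ charDegree (χ : G → ℂ)) {z : ℤ} (hz : (χ : G → ℂ) t = z) : (p : ℤ) ∣ z := by
  have h0 : ∀ w : G, p ∣ orderOf w → (χ : G → ℂ) w = 0 := fun w hw =>
    KBlock.eq_zero_of_defect_zero χ hp.out (n := 1) (by rwa [pow_one]) hG2
      (by rwa [pow_one]) hw
  have h1 := M23.SylowTools.dvd_sub_of_mul_eq hM (P := (P : Subgroup G)) hP χ.2 htC htp (by
    intro x hx hx1
    have hox := Cfsg.Agent.Blocks.CyclicOrtho.orderOf_eq P hP hx hx1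
    have hc : Commute x t := mem_centralizer_iff.1 htC x hx
    rw [h0 x hox.symm.dvd, h0 (x * t)]
    rw [hc.orderOf_mul_eq_mul_orderOf_of_coprime, hox]
    · exact dvd_mul_right _ _
    · rw [hox]
      exact (Nat.Prime.coprime_iff_not_dvd hp.out).2 htp) (n := (charDegree (χ : G → ℂ) : ℤ)) (z := z)
    (by rw [irr_one_eq_charDegree χ.2]; push_cast; rfl) hz
  have h2 : (p : ℤ) ∣ (charDegree (χ : G → ℂ) : ℤ) := by exact_mod_cast hχ
  have h3 := dvd_sub h2 h1
  rwa [sub_sub_cancel] at h3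

variable {e t : ℕ} {M : Ideal AlgInt} {NE X : Finset (IrrCharacter G)} {ε : IrrCharacter G → ℤ}
  {d : ℤ} {S : IrrCharacter G → Finset (P →* ℂˣ)}

theorem dvd_degree_sub (B : Blk p P e t M NE X ε d S) {χ : IrrCharacter G} (hχ : χ ∈ NE) :
    (p : ℤ) ∣ (charDegree (χ : G → ℂ) : ℤ) - ε χ := by
  obtain ⟨m, hm⟩ := M23.Adm.exists_add_V (isIrr_isCharacter χ.2) (P : Subgroup G)
  have hP' : Nat.card (P : Subgroup G) = p := hP
  rw [irr_one_eq_charDegree χ.2, V_NE hP B hχ, hP'] at hm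
  have h1 : (charDegree (χ : G → ℂ) : ℤ) + (((p : ℤ) - 1) * ε χ) = p * m := by exact_mod_cast hm
  exact ⟨m - ε χ, by linarith⟩

theorem dvd_degree_exc (B : Blk p P e t M NE X ε d S) {χ : IrrCharacter G} (hχ : χ ∈ X) :
    (p : ℤ) ∣ (charDegree (χ : G → ℂ) : ℤ) - d * e := by
  obtain ⟨m, hm⟩ := M23.Adm.exists_add_V (isIrr_isCharacter χ.2) (P : Subgroup G)
  have hP' : Nat.card (P : Subgroup G) = p := hP
  rw [irr_one_eq_charDegree χ.2, V_X B hχ, hP'] at hm
  have h1 : (charDegree (χ : G → ℂ) : ℤ) + (-d * e) = p * m := by exact_mod_cast hm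
  exact ⟨m, by linarith⟩

theorem val_NE (B : Blk p P e t M NE X ε d S) {χ : IrrCharacter G} (hχ : χ ∈ NE) {x : G}
    (hx : x ∈ P) (hx1 : x ≠ 1) : (χ : G → ℂ) x = ε χ := by
  have ho1 : ¬ p ∣ orderOf (1 : G) := by
    rw [orderOf_one]; exact fun h => hp.out.one_lt.ne' (Nat.dvd_one.1 h)
  have := B.val_NE χ hχ x hx hx1 1 (one_mem _) ho1
  rwa [mul_one] at this

/-- The value of a single exceptional character. -/
theorem val_X (B : Blk p P e 1 M NE X ε d S) {χ : IrrCharacter G} (hχ : χ ∈ X) {x : G}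
    (hx : x ∈ P) (hx1 : x ≠ 1) : (χ : G → ℂ) x = ((-d : ℤ) : ℂ) := by
  have h1 := AvgFormula.sum_exc B hP hx hx1 hχ
  obtain ⟨Θ, hΘ⟩ := Finset.card_eq_one.1 B.kb.card_X
  have h2 : χ = Θ := by rw [hΘ] at hχ; exact Finset.mem_singleton.1 hχ
  subst h2
  rw [hΘ, Finset.sum_singleton] at h1
  have h3 := congrArg conj h1
  rw [Complex.conj_conj, map_neg, map_intCast] at h3
  rw [h3]; push_cast; rfl

end Prime

/-! ### The set-up -/

open ElevenTwelveArith (AdmAt sOf adm)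

def chk11 (n : ℕ) : Bool :=
  !(adm n && n * n ≤ 244823040) || n == 45 || n == 3840 ||
    ((!(n % 11 == 1) || decide (0 ≤ sOf n)) && (!(n % 11 == 10) || decide (sOf n ≤ 0)))

theorem search11 : ∀ a < 9, ∀ b < 3, ∀ c < 2, ∀ d < 2, ∀ e < 2,
    chk11 (2 ^ a * 3 ^ b * 5 ^ c * 7 ^ d * 23 ^ e) = true := by
  decide +kernel

theorem smooth11 {n : ℕ} (h : n ∣ 1854720) :
    ∃ a < 9, ∃ b < 3, ∃ c < 2, ∃ d < 2, ∃ e < 2, n = 2 ^ a * 3 ^ b * 5 ^ c * 7 ^ d * 23 ^ e := by
  have h1 : n ∣ 2 ^ 8 * (3 ^ 2 * (5 ^ 1 * (7 ^ 1 * 23 ^ 1))) := by norm_num; exact h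
  obtain ⟨x, y, hx, hy, hxy⟩ := (Nat.dvd_mul).1 h1
  obtain ⟨z, w, hz, hw, hzw⟩ := (Nat.dvd_mul).1 hy
  obtain ⟨s, t, hs, ht, hst⟩ := (Nat.dvd_mul).1 hw
  obtain ⟨u, v, hu, hv, huv⟩ := (Nat.dvd_mul).1 ht
  obtain ⟨a, ha, rfl⟩ := (Nat.dvd_prime_pow Nat.prime_two).1 hx
  obtain ⟨b, hb, rfl⟩ := (Nat.dvd_prime_pow Nat.prime_three).1 hz
  obtain ⟨c, hc, rfl⟩ := (Nat.dvd_prime_pow (by norm_num : Nat.Prime 5)).1 hs
  obtain ⟨d, hd, rfl⟩ := (Nat.dvd_prime_pow (by norm_num : Nat.Prime 7)).1 hu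
  obtain ⟨e, he, rfl⟩ := (Nat.dvd_prime_pow (by norm_num : Nat.Prime 23)).1 hv
  exact ⟨a, by omega, b, by omega, c, by omega, d, by omega, e, by omega, by
    rw [← hxy, ← hzw, ← hst, ← huv]; ring⟩

theorem nonneg_of {n : ℕ} {σ s : ℤ} (hn : n * (11 * 12) ∣ 244823040) (hs : AdmAt n s)
    (hsq : n * n ≤ 244823040) (h45 : n ≠ 45) (h3840 : n ≠ 3840) (hσ : σ = 1 ∨ σ = -1)
    (h11 : (11 : ℤ) ∣ n - σ) : 0 ≤ σ * s := by
  have hn' : n ∣ 1854720 := by
    have : n * (11 * 12) ∣ 1854720 * (11 * 12) := by norm_num at hn ⊢; exact hn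
    exact Nat.dvd_of_mul_dvd_mul_right (by norm_num) this
  obtain ⟨a, ha, b, hb, c, hc, d, hd, e, he, h⟩ := smooth11 hn'
  have h2 := search11 a ha b hb c hc d hd e he
  rw [← h] at h2
  have h3 := hs.adm_eq
  have h4 := hs.eq.1
  have h5' : ¬ 244823040 < n * n := by omega
  simp only [chk11, Bool.or_eq_true, Bool.not_eq_true', Bool.and_eq_false_iff, h3, beq_iff_eq, h45,
    h3840, decide_eq_false_iff_not, not_le, Bool.and_eq_true, beq_eq_false_iff_ne, false_or,
    or_false, Bool.true_eq_false, ne_eq, decide_eq_true_eq, h5'] at h2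
  obtain ⟨h6, h7⟩ := h2
  subst h4
  rcases hσ with rfl | rfl
  · rcases h6 with h6 | h6
    · omega
    · rw [one_mul]; exact h6
  · rcases h7 with h7 | h7
    · omega
    · rw [neg_one_mul]; linarith

variable [IsSimpleGroup G]

/-- The centraliser of a nontrivial `23'`-element is a `23'`-group. -/
theorem not_dvd_centralizer (hcard : Nat.card G = 244823040) {g : G} (hg : g ≠ 1)
    (h23 : ¬ 23 ∣ orderOf g) : ¬ 23 ∣ Nat.card (centralizer ({g} : Set G)) := by
  intro hdvd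
  have hp : Fact (Nat.Prime 23) := ⟨by norm_num⟩
  obtain ⟨⟨x, hx⟩, hox⟩ := exists_prime_orderOf_dvd_card' 23 hdvd
  have hox' : orderOf x = 23 := by rwa [← Subgroup.orderOf_coe] at hox
  obtain ⟨P, hP⟩ := IsPGroup.exists_le_sylow (IsPGroup.of_card (n := 1)
    (by rw [Nat.card_zpowers, hox', pow_one]) : IsPGroup 23 (zpowers x))
  have hPx : (P : Subgroup G) = zpowers x := by
    refine (Subgroup.eq_of_le_of_card_ge hP ?_).symm
    rw [Nat.card_zpowers, hox']
    exact (Sylow23.card_P hcard P).le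
  have hgP : g ∈ (P : Subgroup G) := by
    rw [← Sylow23.centralizer_eq hcard P, mem_centralizer_iff]
    intro y hy
    have hy' : y ∈ zpowers x := by rw [← hPx]; exact hy
    obtain ⟨i, rfl⟩ := mem_zpowers_iff.1 hy'
    exact (Commute.zpow_left (mem_centralizer_singleton_iff.1 hx : Commute x g) i)
  have h1 : orderOf g ∣ 23 := by
    have := orderOf_dvd_natCard (⟨g, hgP⟩ : (P : Subgroup G))
    rw [Subgroup.orderOf_mk] at this
    have h2 : Nat.card (P : Subgroup G) = 23 := Sylow23.card_P hcard P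
    rwa [h2] at this
  rcases (Nat.dvd_prime (by norm_num)).1 h1 with h | h
  · exact hg (orderOf_eq_one_iff.1 h)
  · exact h23 h.symm.dvd

/-- The situation considered here. -/
structure Ctx (P : Sylow 11 G) (K : Subgroup G) (Q : Sylow 5 G) (e : ℕ) (L : Subgroup G)
    (t : G) : Prop where
  card : Nat.card G = 244823040
  lP : IsLocal 11 P 10 K
  cK : Nat.card K = 12
  lQ : IsLocal 5 Q e L
  KL : K ≤ L
  tK : t ∈ K
  t2 : t ^ 2 = 1
  t1 : t ≠ 1

theorem exists_ctx (hcard : Nat.card G = 244823040) {P : Sylow 11 G} {K : Subgroup G}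
    (h : IsLocal 11 P 10 K) (hK : Nat.card K = 12) : ∃ Q e L t, Ctx P K Q e L t := by
  have h5 : Fact (Nat.Prime 5) := ⟨by norm_num⟩
  have h2 : Fact (Nat.Prime 2) := ⟨by norm_num⟩
  have hN := h.card_normalizer
  rw [hK] at hN
  obtain ⟨⟨u, hu⟩, huo⟩ := exists_prime_orderOf_dvd_card' (G := normalizer (P : Set G)) 5
    (by rw [hN]; norm_num)
  have huo' : orderOf u = 5 := by rwa [← Subgroup.orderOf_coe] at huo
  have hcomm := comm_of_five (h.normalizer_le hu) huo' hK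
  obtain ⟨Q, hQ⟩ := IsPGroup.exists_le_sylow (IsPGroup.of_card (n := 1)
    (by rw [Nat.card_zpowers, huo', pow_one]) : IsPGroup 5 (zpowers u))
  have hQ5 : Nat.card Q = 5 := card_of_not_sq_dvd
    (by rw [hcard]; norm_num) (by rw [hcard]; norm_num) Q
  have hQu : (Q : Subgroup G) = zpowers u := by
    refine (Subgroup.eq_of_le_of_card_ge hQ ?_).symm
    rw [Nat.card_zpowers, huo']
    exact hQ5.le
  obtain ⟨e, L, hL⟩ := exists_local (Sylow23.not_comm hcard) (p := 5)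
    (by rw [hcard]; norm_num) (by rw [hcard]; norm_num) Q
  obtain ⟨⟨t, ht⟩, hto⟩ := exists_prime_orderOf_dvd_card' (G := K) 2 (by rw [hK]; norm_num)
  have hto' : orderOf t = 2 := by rwa [← Subgroup.orderOf_coe] at hto
  refine ⟨Q, e, L, t, hcard, h, hK, hL, fun k hk => ?_, ht, ?_, ?_⟩
  · refine hL.mem_of_coprime k ?_ ?_
    · rw [mem_centralizer_iff]
      intro y hy
      have hy' : y ∈ zpowers u := by rw [← hQu]; exact hy
      obtain ⟨i, rfl⟩ := mem_zpowers_iff.1 hy'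
      exact (Commute.zpow_left (hcomm k hk : Commute u k) i)
    · intro hd
      have h3 : orderOf k ∣ 12 := by
        rw [← hK, ← Subgroup.orderOf_mk k hk]; exact orderOf_dvd_natCard _
      have := hd.trans h3
      norm_num at this
  · rw [← hto', pow_orderOf_eq_one]
  · rintro rfl
    rw [orderOf_one] at hto'
    norm_num at hto'

namespace Ctx

variable {P : Sylow 11 G} {K : Subgroup G} {Q : Sylow 5 G} {e : ℕ} {L : Subgroup G} {t : G}

theorem hP (c : Ctx P K Q e L t) : Nat.card P = 11 := by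
  have : Fact (Nat.Prime 11) := ⟨by norm_num⟩
  exact card_of_not_sq_dvd (by rw [c.card]; norm_num) (by rw [c.card]; norm_num) P

theorem hQ (c : Ctx P K Q e L t) : Nat.card Q = 5 := by
  have : Fact (Nat.Prime 5) := ⟨by norm_num⟩
  exact card_of_not_sq_dvd (by rw [c.card]; norm_num) (by rw [c.card]; norm_num) Q

theorem tP (c : Ctx P K Q e L t) : t ∈ centralizer (P : Set G) := c.lP.le_centralizer c.tK

theorem tQ (c : Ctx P K Q e L t) : t ∈ centralizer (Q : Set G) :=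
  c.lQ.le_centralizer (c.KL c.tK)

theorem ord (c : Ctx P K Q e L t) : orderOf t = 2 := by
  have : Fact (Nat.Prime 2) := ⟨by norm_num⟩
  exact orderOf_eq_prime c.t2 c.t1

theorem k12 (c : Ctx P K Q e L t) : 12 ∣ Nat.card L := by
  rw [← c.cK]; exact card_dvd_of_le c.KL

theorem k11 (c : Ctx P K Q e L t) : ¬ 11 ∣ Nat.card L := by
  intro hdvd
  have : Fact (Nat.Prime 11) := ⟨by norm_num⟩
  obtain ⟨⟨z, hz⟩, hzo⟩ := exists_prime_orderOf_dvd_card' 11 hdvd
  have hzo' : orderOf z = 11 := by rwa [← Subgroup.orderOf_coe] at hzo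
  obtain ⟨P', hP'⟩ := IsPGroup.exists_le_sylow (IsPGroup.of_card (n := 1)
    (by rw [Nat.card_zpowers, hzo', pow_one]) : IsPGroup 11 (zpowers z))
  have hP'z : (P' : Subgroup G) = zpowers z := by
    refine (Subgroup.eq_of_le_of_card_ge hP' ?_).symm
    rw [Nat.card_zpowers, hzo']
    exact (card_of_not_sq_dvd (by rw [c.card]; norm_num) (by rw [c.card]; norm_num) P').le
  have h1 : (Q : Subgroup G) ≤ centralizer (P' : Set G) := by
    intro x hx
    rw [mem_centralizer_iff]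
    intro y hy
    have hy' : y ∈ zpowers z := by rw [← hP'z]; exact hy
    obtain ⟨i, rfl⟩ := mem_zpowers_iff.1 hy'
    exact (Commute.zpow_left (c.lQ.comm z hz x hx : Commute z x) i)
  have h2 := card_dvd_of_le h1
  have h3 : Nat.card (Q : Subgroup G) = 5 := c.hQ
  rw [h3, LocalData.card_centralizer_eq P' P, c.lP.card_centralizer, c.cK] at h2
  norm_num at h2

theorem index (c : Ctx P K Q e L t) :
    ∃ m, (centralizer ({t} : Set G)).index = 23 * m ∧ m ∣ 193536 := by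
  have h0 := (centralizer ({t} : Set G)).card_mul_index
  rw [c.card] at h0
  have h11 : 11 ∣ Nat.card (centralizer ({t} : Set G)) := by
    have h1 : (P : Subgroup G) ≤ centralizer ({t} : Set G) := fun x hx =>
      mem_centralizer_singleton_iff.2 (mem_centralizer_iff.1 c.tP x hx)
    have h2 := card_dvd_of_le h1
    have h3 : Nat.card (P : Subgroup G) = 11 := c.hP
    rwa [h3] at h2
  have h5 : 5 ∣ Nat.card (centralizer ({t} : Set G)) := by
    have h1 : (Q : Subgroup G) ≤ centralizer ({t} : Set G) := fun x hx =>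
      mem_centralizer_singleton_iff.2 (mem_centralizer_iff.1 c.tQ x hx)
    have h2 := card_dvd_of_le h1
    have h3 : Nat.card (Q : Subgroup G) = 5 := c.hQ
    rwa [h3] at h2
  have h23 := not_dvd_centralizer c.card c.t1 (by rw [c.ord]; norm_num)
  obtain ⟨a, ha⟩ : 55 ∣ Nat.card (centralizer ({t} : Set G)) := by omega
  have h23' : 23 ∣ (centralizer ({t} : Set G)).index := by
    have h1 : 23 ∣ Nat.card (centralizer ({t} : Set G)) * (centralizer ({t} : Set G)).index := by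
      rw [h0]; norm_num
    exact ((Nat.Prime.dvd_mul (by norm_num)).1 h1).resolve_left h23
  obtain ⟨m, hm⟩ := h23'
  refine ⟨m, hm, a, ?_⟩
  rw [ha, hm] at h0
  nlinarith

theorem sq_le (c : Ctx P K Q e L t) (χ : IrrCharacter G) :
    charDegree (χ : G → ℂ) * charDegree (χ : G → ℂ) ≤ 244823040 := by
  have h1 := Sylow23.charDegree_lt c.card χ
  nlinarith

theorem adm (c : Ctx P K Q e L t) (R : Sylow 23 G) (χ : IrrCharacter G) :
    ∃ s : ℤ, M23.Adm.V (R : Subgroup G) (χ : G → ℂ) = s ∧ AdmAt (charDegree (χ : G → ℂ)) s :=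
  Adm.adm c.card R χ

/-- The value at `t`. -/
theorem val (c : Ctx P K Q e L t) {χ : IrrCharacter G} (hχ : χ ≠ ⟨1, isIrr_one⟩) :
    ∃ z : ℤ, (χ : G → ℂ) t = z ∧ |z| < charDegree (χ : G → ℂ) ∧
      (4 : ℤ) ∣ charDegree (χ : G → ℂ) - z ∧
      (charDegree (χ : G → ℂ) : ℤ) ∣ ((centralizer ({t} : Set G)).index : ℤ) * z := by
  have hG : commutator G = ⊤ :=
    MTwelve.SmallDegree.commutator_eq_top_of_card (by rw [c.card]; norm_num)
  obtain ⟨z, h1, h2, h3⟩ := InvolColumn.exists_int hG χ.2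
    (fun h => hχ (Subtype.ext h)) c.t2 c.t1
  exact ⟨z, h1, h2, h3, InvolColumn.dvd_index_mul χ.2 h1⟩

theorem blkP (c : Ctx P K Q e L t) : ∃ M NE X ε d S, Blk 11 P 10 1 M NE X ε d S := by
  have : Fact (Nat.Prime 11) := ⟨by norm_num⟩
  exact exists_blk (Sylow23.not_prime c.card) 11 (by norm_num) P c.hP 10 1
    (Sylow23.relIndex_of_local c.lP) (by norm_num)

theorem exists_ne_one {p : ℕ} (hp : p.Prime) {P : Sylow p G} (hP : Nat.card P = p) :
    ∃ x ∈ P, x ≠ 1 := by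
  have : Nontrivial (P : Subgroup G) := by
    rw [← Finite.one_lt_card_iff_nontrivial]
    exact hp.one_lt.trans_eq hP.symm
  obtain ⟨x, hx⟩ := exists_ne (1 : (P : Subgroup G))
  exact ⟨x, x.2, fun h => hx (Subtype.ext h)⟩

theorem charDegree_triv : charDegree ((⟨1, isIrr_one⟩ : IrrCharacter G) : G → ℂ) = 1 :=
  Sylow23.charDegree_one'

/-- The character of degree `3840` in the principal `11`-block and its value at `t`. -/
theorem okH (c : Ctx P K Q e L t) :
    ElevenTwelveArith.okH (centralizer ({t} : Set G)).index = true := by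
  classical
  have h11 : Fact (Nat.Prime 11) := ⟨by norm_num⟩
  have h5 : Fact (Nat.Prime 5) := ⟨by norm_num⟩
  obtain ⟨M, NE, X, ε, d, S, B⟩ := c.blkP
  obtain ⟨M', hM'⟩ := Cfsg.Agent.Blocks.ExistsModular.exists_isPModular (p := 5) (by norm_num)
  obtain ⟨Θ, hX⟩ := Finset.card_eq_one.1 B.kb.card_X
  have hΘ : Θ ∈ X := by rw [hX]; exact Finset.mem_singleton_self _
  let R : Sylow 23 G := default
  choose s hs hadm using c.adm R
  obtain ⟨y, hy, hy1⟩ := exists_ne_one h11.out c.hP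
  -- the relation at `R`
  have hrel : ∑ χ ∈ NE, ε χ * s χ = d * s Θ := by
    have h23 : Fact (Nat.Prime 23) := ⟨by norm_num⟩
    have h1 := M23.Adm.sum_V NE (fun χ => (ε χ : ℂ)) (fun χ => (χ : G → ℂ)) (R : Subgroup G)
      (g := (Θ : G → ℂ)) (d := d) (by
        intro x hx hx1
        refine B.kb.rel Θ hΘ x ?_
        rw [Cfsg.Agent.Blocks.CyclicOrtho.orderOf_eq R (Sylow23.card_P c.card R) hx hx1]
        norm_num)
    rw [hs Θ, Finset.sum_congr rfl (g := fun χ => ((ε χ * s χ : ℤ) : ℂ))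
      (fun χ _ => by rw [hs χ]; push_cast; rfl)] at h1
    exact_mod_cast h1
  have hmem : ∀ χ : IrrCharacter G, (χ ∈ NE ∨ χ ∈ X) → χ ≠ ⟨1, isIrr_one⟩ →
      5 ∣ charDegree (χ : G → ℂ) → ∃ z : ℤ, (χ : G → ℂ) t = z ∧ |z| < charDegree (χ : G → ℂ) ∧
      (220 : ℤ) ∣ charDegree (χ : G → ℂ) - z ∧
      (charDegree (χ : G → ℂ) : ℤ) ∣ ((centralizer ({t} : Set G)).index : ℤ) * z := by
    intro χ hχ hχ1 hd
    obtain ⟨z, h1, h2, h3, h4⟩ := c.val hχ1
    refine ⟨z, h1, h2, ?_, h4⟩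
    have h5' := dvd_sub_of_mem c.hP B.modular c.tP (by rw [c.ord]; norm_num)
      ((B.mem_iff χ).2 hχ) h1
    have h6 := dvd_of_dvd_degree c.hQ hM' (by rw [c.card]; norm_num) (by rw [c.card]; norm_num)
      c.tQ (by rw [c.ord]; norm_num) hd h1
    have h7 : (5 : ℤ) ∣ (charDegree (χ : G → ℂ) : ℤ) := by exact_mod_cast hd
    push_cast at h5' h6
    omega
  by_contra hok
  have h3840 : ∀ χ : IrrCharacter G, (χ ∈ NE ∨ χ ∈ X) → charDegree (χ : G → ℂ) ≠ 3840 := by
    intro χ hχ hdeg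
    have hχ1 : χ ≠ ⟨1, isIrr_one⟩ := by
      rintro rfl
      rw [charDegree_triv] at hdeg
      norm_num at hdeg
    obtain ⟨z, h1, h2, h3, h4⟩ := hmem χ hχ hχ1 (by rw [hdeg]; norm_num)
    rw [hdeg] at h2 h3 h4
    have h5' := InvolColumn.sum_sq_le {⟨1, isIrr_one⟩, χ} t
      (fun ψ => if ψ = χ then z else 1) (by
        intro ψ hψ
        rw [Finset.mem_insert, Finset.mem_singleton] at hψ
        rcases hψ with rfl | rfl
        · rw [if_neg (Ne.symm hχ1)]; simp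
        · rw [if_pos rfl, h1])
    rw [Finset.sum_pair (Ne.symm hχ1), if_neg (Ne.symm hχ1), if_pos rfl, one_pow] at h5'
    have h6 := (centralizer ({t} : Set G)).card_mul_index
    rw [c.card] at h6
    have h7 : z ∈ ElevenTwelveArith.zc (centralizer ({t} : Set G)).index 3840 220 := by
      refine ElevenTwelveArith.mem_zc (by norm_num) h3 h2 h4 ?_
      calc (1 + z ^ 2) * ((centralizer ({t} : Set G)).index : ℤ) ≤
          (Nat.card (centralizer ({t} : Set G)) : ℤ) * ((centralizer ({t} : Set G)).index : ℤ) :=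
            mul_le_mul_of_nonneg_right h5' (by positivity)
        _ = 244823040 := by exact_mod_cast h6
    apply hok
    unfold ElevenTwelveArith.okH
    rw [Bool.not_eq_true', List.isEmpty_eq_false_iff]
    exact List.ne_nil_of_mem h7
  have h45 : ∀ χ : IrrCharacter G, (χ ∈ NE ∨ χ ∈ X) → charDegree (χ : G → ℂ) ≠ 45 := by
    intro χ hχ hdeg
    have hχ1 : χ ≠ ⟨1, isIrr_one⟩ := by
      rintro rfl
      rw [charDegree_triv] at hdeg
      norm_num at hdeg
    obtain ⟨z, h1, h2, h3, h4⟩ := hmem χ hχ hχ1 (by rw [hdeg]; norm_num)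
    rw [hdeg] at h2 h3
    rw [abs_lt] at h2
    push_cast at h2 h3
    omega
  have hpos : ∀ χ ∈ NE.erase ⟨1, isIrr_one⟩, 0 ≤ ε χ * s χ := by
    intro χ hχ
    obtain ⟨-, hχN⟩ := Finset.mem_erase.1 hχ
    have h1 := ci c.hP c.lP hy hy1 χ.2 (val_NE c.hP B hχN hy hy1) (B.kb.eps χ hχN)
    rw [c.cK, c.card] at h1
    exact nonneg_of h1 (hadm χ) (c.sq_le χ) (h45 χ (Or.inl hχN)) (h3840 χ (Or.inl hχN))
      (B.kb.eps χ hχN) (dvd_degree_sub c.hP B hχN)
  have hposX : 0 ≤ -d * s Θ := by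
    have hd : -d = 1 ∨ -d = -1 := by rcases B.kb.hd with h | h <;> rw [h] <;> norm_num
    have h1 := ci c.hP c.lP hy hy1 Θ.2 (val_X c.hP B hΘ hy hy1) hd
    rw [c.cK, c.card] at h1
    have h2 := dvd_degree_exc c.hP B hΘ
    exact nonneg_of h1 (hadm Θ) (c.sq_le Θ) (h45 Θ (Or.inr hΘ)) (h3840 Θ (Or.inr hΘ)) hd
      (by push_cast at h2; omega)
  have hone : s ⟨1, isIrr_one⟩ = 22 := by
    have h1 := hadm ⟨1, isIrr_one⟩
    rw [charDegree_triv] at h1
    unfold AdmAt at h1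
    omega
  rw [← Finset.add_sum_erase NE _ B.kb.one_mem, B.kb.eps_one, hone] at hrel
  have h1 := Finset.sum_nonneg hpos
  linarith

/-! ### The principal `5`-block -/

section Five

open scoped Classical in
/-- The average of `χ` over the coset `y K`. -/
noncomputable def aOf (NE X : Finset (IrrCharacter G)) (ε : IrrCharacter G → ℤ) (d : ℤ)
    (χ : IrrCharacter G) : ℤ := if χ ∈ NE then ε χ else if χ ∈ X then -d else 0

variable {M : Ideal AlgInt} {NE X : Finset (IrrCharacter G)} {ε : IrrCharacter G → ℤ}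
  {d : ℤ} {S : IrrCharacter G → Finset (P →* ℂˣ)}
  {t' : ℕ} {M' : Ideal AlgInt} {NE' X' : Finset (IrrCharacter G)} {ε' : IrrCharacter G → ℤ}
  {d' : ℤ} {S' : IrrCharacter G → Finset (Q →* ℂˣ)}

theorem isReg (c : Ctx P K Q e L t) : IsReg 11 (P : Subgroup G) K := by
  have h11 : Fact (Nat.Prime 11) := ⟨by norm_num⟩
  exact isReg_of_isLocal c.lP

theorem sum_aOf (c : Ctx P K Q e L t) (B : Blk 11 P 10 1 M NE X ε d S) [Fintype K] {y : G}
    (hy : y ∈ P) (hy1 : y ≠ 1) (χ : IrrCharacter G) :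
    ∑ k : K, (χ : G → ℂ) (y * k) = 12 * (aOf NE X ε d χ : ℂ) := by
  have h11 : Fact (Nat.Prime 11) := ⟨by norm_num⟩
  have hreg : ∀ k ∈ K, k ∈ centralizer (P : Set G) ∧ ¬ 11 ∣ orderOf k := fun k hk =>
    (c.isReg k).1 hk
  unfold aOf
  split_ifs with h1 h2
  · rw [sum_mem P c.hP B.modular hy hy1 hreg ((B.mem_iff χ).2 (Or.inl h1)), c.cK,
      val_NE c.hP B h1 hy hy1]
    push_cast; rfl
  · rw [sum_mem P c.hP B.modular hy hy1 hreg ((B.mem_iff χ).2 (Or.inr h2)), c.cK,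
      val_X c.hP B h2 hy hy1]
    push_cast; rfl
  · rw [sum_eq_zero P c.hP B.modular hy hy1 c.isReg (fun h => ?_)]
    · simp
    · rcases (B.mem_iff χ).1 h with h | h
      · exact h1 h
      · exact h2 h

theorem aOf_one (B : Blk 11 P 10 1 M NE X ε d S) : aOf NE X ε d ⟨1, isIrr_one⟩ = 1 := by
  unfold aOf
  rw [if_pos B.kb.one_mem, B.kb.eps_one]

theorem aOf_cases (c : Ctx P K Q e L t) (B : Blk 11 P 10 1 M NE X ε d S) (χ : IrrCharacter G)
    {z : ℤ} (hz : (χ : G → ℂ) t = z) : aOf NE X ε d χ = 0 ∨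
    ((aOf NE X ε d χ = 1 ∨ aOf NE X ε d χ = -1) ∧
      (11 : ℤ) ∣ charDegree (χ : G → ℂ) - aOf NE X ε d χ ∧
      (11 : ℤ) ∣ charDegree (χ : G → ℂ) - z) := by
  have h11 : Fact (Nat.Prime 11) := ⟨by norm_num⟩
  have hval : (χ ∈ NE ∨ χ ∈ X) → (11 : ℤ) ∣ charDegree (χ : G → ℂ) - z := fun h =>
    dvd_sub_of_mem c.hP B.modular c.tP (by rw [c.ord]; norm_num) ((B.mem_iff χ).2 h) hz
  unfold aOf
  split_ifs with h1 h2
  · exact Or.inr ⟨B.kb.eps χ h1, dvd_degree_sub c.hP B h1, hval (Or.inl h1)⟩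
  · refine Or.inr ⟨?_, ?_, hval (Or.inr h2)⟩
    · rcases B.kb.hd with h | h <;> rw [h] <;> norm_num
    · have h3 := dvd_degree_exc c.hP B h2
      push_cast at h3
      omega
  · exact Or.inl rfl

theorem aOf_ne_zero (B : Blk 11 P 10 1 M NE X ε d S) {χ : IrrCharacter G}
    (h : χ ∈ principalBlock M G) : aOf NE X ε d χ ≠ 0 := by
  unfold aOf
  split_ifs with h1 h2
  · rcases B.kb.eps χ h1 with h | h <;> rw [h] <;> norm_num
  · rcases B.kb.hd with h | h <;> rw [h] <;> norm_num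
  · rcases (B.mem_iff χ).1 h with h | h
    · exact absurd h h1
    · exact absurd h h2

/-- The relation at the elements of `y K`. -/
theorem rel_aOf (c : Ctx P K Q e L t) (B : Blk 11 P 10 1 M NE X ε d S)
    (B' : Blk 5 Q e t' M' NE' X' ε' d' S') {Θ : IrrCharacter G} (hΘ : Θ ∈ X') :
    ∑ χ ∈ NE', ε' χ * aOf NE X ε d χ = d' * aOf NE X ε d Θ := by
  classical
  have h11 : Fact (Nat.Prime 11) := ⟨by norm_num⟩
  have := Fintype.ofFinite K
  obtain ⟨y, hy, hy1⟩ := exists_ne_one h11.out c.hP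
  have h1 : ∀ k : K, ∑ χ ∈ NE', (ε' χ : ℂ) * (χ : G → ℂ) (y * k) = d' * (Θ : G → ℂ) (y * k) := by
    intro k
    refine B'.kb.rel Θ hΘ _ fun hd => ?_
    have hk := (c.isReg k).1 k.2
    have hc : Commute y (k : G) := mem_centralizer_iff.1 hk.1 y hy
    have hox := Cfsg.Agent.Blocks.CyclicOrtho.orderOf_eq P c.hP hy hy1
    rw [hc.orderOf_mul_eq_mul_orderOf_of_coprime (by
      rw [hox]; exact (Nat.Prime.coprime_iff_not_dvd h11.out).2 hk.2), hox] at hd
    have h2 : orderOf (k : G) ∣ 12 := by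
      rw [← c.cK, Subgroup.orderOf_coe]; exact orderOf_dvd_natCard _
    have h3 := hd.trans (mul_dvd_mul_left 11 h2)
    norm_num at h3
  have h2 : ∑ k : K, ∑ χ ∈ NE', (ε' χ : ℂ) * (χ : G → ℂ) (y * k) =
      ∑ k : K, d' * (Θ : G → ℂ) (y * k) := Finset.sum_congr rfl fun k _ => h1 k
  rw [Finset.sum_comm] at h2
  simp only [← Finset.mul_sum, c.sum_aOf B hy hy1] at h2
  have h3 : (12 : ℂ) * ∑ χ ∈ NE', ((ε' χ * aOf NE X ε d χ : ℤ) : ℂ) =
      12 * ((d' * aOf NE X ε d Θ : ℤ) : ℂ) := by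
    rw [Finset.mul_sum]
    push_cast
    rw [show (12 : ℂ) * (d' * aOf NE X ε d Θ) = d' * (12 * aOf NE X ε d Θ) by ring, ← h2]
    exact Finset.sum_congr rfl fun χ _ => by ring
  have h4 := mul_left_cancel₀ (by norm_num : (12 : ℂ) ≠ 0) h3
  exact_mod_cast h4

/-- Congruences for the values at `t` of the characters of the principal `5`-block. -/
theorem five_val (c : Ctx P K Q e L t) (B' : Blk 5 Q e t' M' NE' X' ε' d' S')
    {χ : IrrCharacter G} (hχ : χ ∈ NE' ∨ χ ∈ X') {z : ℤ} (hz : (χ : G → ℂ) t = z)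
    (h4 : (4 : ℤ) ∣ charDegree (χ : G → ℂ) - z) :
    (20 : ℤ) ∣ charDegree (χ : G → ℂ) - z ∧ (11 ∣ charDegree (χ : G → ℂ) → (11 : ℤ) ∣ z) := by
  have h11 : Fact (Nat.Prime 11) := ⟨by norm_num⟩
  have h5 : Fact (Nat.Prime 5) := ⟨by norm_num⟩
  obtain ⟨M'', hM''⟩ := Cfsg.Agent.Blocks.ExistsModular.exists_isPModular (p := 11) (by norm_num)
  constructor
  · have h1 := dvd_sub_of_mem c.hQ B'.modular c.tQ (by rw [c.ord]; norm_num)
      ((B'.mem_iff χ).2 hχ) hz
    push_cast at h1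
    omega
  · intro hd
    exact dvd_of_dvd_degree c.hP hM'' (by rw [c.card]; norm_num) (by rw [c.card]; norm_num)
      c.tP (by rw [c.ord]; norm_num) hd hz

/-- No character of degree `24` in the principal `5`-block if `e = 4`. -/
theorem ne24 (c : Ctx P K Q e L t) (B : Blk 11 P 10 1 M NE X ε d S)
    (B' : Blk 5 Q e t' M' NE' X' ε' d' S') {χ : IrrCharacter G} (hχ : χ ∈ NE' ∨ χ ∈ X')
    {σ : ℤ} (h5 : (5 : ℤ) ∣ charDegree (χ : G → ℂ) - σ)
    (hV : M23.Adm.V (Q : Subgroup G) (χ : G → ℂ) = ((4 * σ : ℤ) : ℂ)) :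
    charDegree (χ : G → ℂ) ≠ 24 := by
  intro hdeg
  have h11 : Fact (Nat.Prime 11) := ⟨by norm_num⟩
  have hf5 : Fact (Nat.Prime 5) := ⟨by norm_num⟩
  have := Fintype.ofFinite K
  have hχ1 : χ ≠ ⟨1, isIrr_one⟩ := by
    rintro rfl
    rw [charDegree_triv] at hdeg
    norm_num at hdeg
  obtain ⟨z, hz, -⟩ := c.val hχ1
  have hnot : χ ∉ principalBlock M G := by
    intro h
    have h1 := aOf_ne_zero B h
    rcases c.aOf_cases B χ hz with h2 | ⟨h2, h3, -⟩
    · exact h1 h2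
    · rw [hdeg] at h3
      push_cast at h3
      omega
  obtain ⟨f, hf, hf11⟩ := fix_of_not_mem P c.hP B.modular c.isReg hnot
  obtain ⟨f', f'', hf', hf''⟩ := fix_of_mem Q c.hQ B'.modular (K := K) (fun k hk =>
    ⟨c.lQ.le_centralizer (c.KL hk), fun hd => by
      have h2 : orderOf (k : G) ∣ 12 := by
        rw [← c.cK, ← Subgroup.orderOf_mk k hk]; exact orderOf_dvd_natCard _
      have h3 := hd.trans h2
      norm_num at h3⟩) ((B'.mem_iff χ).2 hχ)
  have hff : f = f' := by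
    have h1 := hf.symm.trans hf'
    have hc : (Nat.card K : ℂ) ≠ 0 := card_ne_zero_complex
    exact_mod_cast mul_right_cancel₀ hc h1
  subst hff
  rw [hV] at hf''
  have h6 : (f : ℤ) + 4 * σ = 5 * f'' := by exact_mod_cast hf''
  have h7 : f ≤ 24 := by
    have h8 : ‖∑ k : K, (χ : G → ℂ) k‖ ≤ ∑ k : K, (24 : ℝ) := by
      refine (norm_sum_le _ _).trans (Finset.sum_le_sum fun k _ => ?_)
      have := Cfsg.Agent.Characters.SchurBound.norm_le (isIrr_isCharacter χ.2)
        (irr_one_eq_charDegree χ.2) (k : G)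
      rw [hdeg] at this
      exact_mod_cast this
    rw [hf, Finset.sum_const, Finset.card_univ, ← Nat.card_eq_fintype_card, nsmul_eq_mul,
      norm_mul, Complex.norm_natCast, Complex.norm_natCast, c.cK] at h8
    have h9 : (f : ℝ) * 12 ≤ 24 * 12 := by push_cast at h8; linarith
    have h10 : (f : ℝ) ≤ 24 := by linarith
    exact_mod_cast h10
  rw [hdeg] at h5
  push_cast at h5
  obtain ⟨g, rfl⟩ := hf11
  push_cast at h6
  omega

theorem sum_three {NE' : Finset (IrrCharacter G)} [DecidableEq (IrrCharacter G)]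
    (h1 : (⟨1, isIrr_one⟩ : IrrCharacter G) ∈ NE') {α β γ : IrrCharacter G} (hab : α ≠ β)
    (hac : α ≠ γ) (hbc : β ≠ γ) (hE : NE'.erase ⟨1, isIrr_one⟩ = {α, β, γ}) {A : Type*}
    [AddCommGroup A] (F : IrrCharacter G → A) :
    ∑ χ ∈ NE', F χ = F ⟨1, isIrr_one⟩ + F α + F β + F γ := by
  rw [← Finset.add_sum_erase NE' F h1, hE, Finset.sum_insert (by simp [hab, hac]),
    Finset.sum_pair hbc]
  abel

theorem dat (c : Ctx P K Q e L t) (B : Blk 11 P 10 1 M NE X ε d S)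
    (B' : Blk 5 Q e t' M' NE' X' ε' d' S') {χ : IrrCharacter G} (hχ : χ ∈ NE' ∨ χ ∈ X')
    {σ : ℤ} (hσ : σ = 1 ∨ σ = -1) (h5 : (5 : ℤ) ∣ charDegree (χ : G → ℂ) - σ)
    (hV : M23.Adm.V (Q : Subgroup G) (χ : G → ℂ) = ((4 * σ : ℤ) : ℂ)) {x : G} (hx : x ∈ Q)
    (hx1 : x ≠ 1) (hxσ : (χ : G → ℂ) x = σ) {z : ℤ} (hz : (χ : G → ℂ) t = z)
    (hlt : |z| < charDegree (χ : G → ℂ)) (h4 : (4 : ℤ) ∣ charDegree (χ : G → ℂ) - z)
    (hom : (charDegree (χ : G → ℂ) : ℤ) ∣ ((centralizer ({t} : Set G)).index : ℤ) * z)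
    {s : ℤ} (hs : AdmAt (charDegree (χ : G → ℂ)) s) :
    ElevenTwelveArith.Dat (centralizer ({t} : Set G)).index (Nat.card L)
      (charDegree (χ : G → ℂ)) σ s (aOf NE X ε d χ) z := by
  have hf5 : Fact (Nat.Prime 5) := ⟨by norm_num⟩
  obtain ⟨h20, h11⟩ := c.five_val B' hχ hz h4
  have hpos : 0 < charDegree (χ : G → ℂ) := by
    rw [abs_lt] at hlt
    omega
  refine ⟨hpos, ?_, c.sq_le χ, hσ, h5, hs, c.aOf_cases B χ hz, h20, h11, hlt, hom,
    c.ne24 B B' hχ h5 hV⟩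
  rw [← c.card]
  exact ci c.hQ c.lQ hx hx1 χ.2 hxσ hσ

theorem relR (c : Ctx P K Q e L t) (B' : Blk 5 Q e t' M' NE' X' ε' d' S') (R : Sylow 23 G)
    {s : IrrCharacter G → ℤ}
    (hs : ∀ χ : IrrCharacter G, M23.Adm.V (R : Subgroup G) (χ : G → ℂ) = s χ)
    {Θ : IrrCharacter G} (hΘ : Θ ∈ X') : ∑ χ ∈ NE', ε' χ * s χ = d' * s Θ := by
  have h23 : Fact (Nat.Prime 23) := ⟨by norm_num⟩
  have h1 := M23.Adm.sum_V NE' (fun χ => (ε' χ : ℂ)) (fun χ => (χ : G → ℂ)) (R : Subgroup G)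
    (g := (Θ : G → ℂ)) (d := d') (by
      intro x hx hx1
      refine B'.kb.rel Θ hΘ x ?_
      rw [Cfsg.Agent.Blocks.CyclicOrtho.orderOf_eq R (Sylow23.card_P c.card R) hx hx1]
      norm_num)
  rw [hs Θ, Finset.sum_congr rfl (g := fun χ => ((ε' χ * s χ : ℤ) : ℂ))
    (fun χ _ => by rw [hs χ]; push_cast; rfl)] at h1
  exact_mod_cast h1

theorem exists_val (c : Ctx P K Q e L t) (χ : IrrCharacter G) : ∃ z : ℤ, (χ : G → ℂ) t = z ∧
    (χ ≠ ⟨1, isIrr_one⟩ → |z| < charDegree (χ : G → ℂ) ∧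
      (4 : ℤ) ∣ charDegree (χ : G → ℂ) - z ∧
      (charDegree (χ : G → ℂ) : ℤ) ∣ ((centralizer ({t} : Set G)).index : ℤ) * z) := by
  by_cases hχ : χ = ⟨1, isIrr_one⟩
  · subst hχ
    exact ⟨1, by simp, fun h => absurd rfl h⟩
  · obtain ⟨z, h1, h2⟩ := c.val hχ
    exact ⟨z, h1, fun _ => h2⟩

theorem compl (c : Ctx P K Q e L t) : AvgFormula.Compl 5 (Q : Subgroup G) L :=
  ⟨c.lQ.card_centralizer, (Nat.Prime.coprime_iff_not_dvd (by norm_num)).2 c.lQ.not_dvd,
    c.lQ.mem_iff⟩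

theorem four_false (c : Ctx P K Q 4 L t) : False := by
  classical
  have hf5 : Fact (Nat.Prime 5) := ⟨by norm_num⟩
  obtain ⟨M, NE, X, ε, d, S, B⟩ := c.blkP
  obtain ⟨M', NE', X', ε', d', S', B'⟩ := exists_blk (Sylow23.not_prime c.card) 5 (by norm_num) Q
    c.hQ 4 1 (Sylow23.relIndex_of_local c.lQ) (by norm_num)
  obtain ⟨Θ, hX⟩ := Finset.card_eq_one.1 B'.kb.card_X
  have hΘ : Θ ∈ X' := by rw [hX]; exact Finset.mem_singleton_self _
  let R : Sylow 23 G := default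
  choose s hs hadm using c.adm R
  choose z hz hzf using c.exists_val
  obtain ⟨x, hx, hx1⟩ := exists_ne_one hf5.out c.hQ
  obtain ⟨α, β, γ, hab, hac, hbc, hE⟩ := Finset.card_eq_three.1
    (show (NE'.erase ⟨1, isIrr_one⟩).card = 3 by
      rw [Finset.card_erase_of_mem B'.kb.one_mem, B'.kb.card_NE])
  have hα := Finset.mem_erase.1 (show α ∈ NE'.erase ⟨1, isIrr_one⟩ by rw [hE]; simp)
  have hβ := Finset.mem_erase.1 (show β ∈ NE'.erase ⟨1, isIrr_one⟩ by rw [hE]; simp)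
  have hγ := Finset.mem_erase.1 (show γ ∈ NE'.erase ⟨1, isIrr_one⟩ by rw [hE]; simp)
  have hΘ1 : Θ ≠ ⟨1, isIrr_one⟩ := by
    rintro rfl
    exact Finset.disjoint_left.1 B'.kb.disj B'.kb.one_mem hΘ
  have hd : -d' = 1 ∨ -d' = -1 := by rcases B'.kb.hd with h | h <;> rw [h] <;> norm_num
  have key : ∀ χ : IrrCharacter G, χ ≠ ⟨1, isIrr_one⟩ ∧ χ ∈ NE' →
      ElevenTwelveArith.Dat (centralizer ({t} : Set G)).index (Nat.card L)
        (charDegree (χ : G → ℂ)) (ε' χ) (s χ) (aOf NE X ε d χ) (z χ) := by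
    rintro χ ⟨hχ1, hχ⟩
    obtain ⟨h1, h2, h3⟩ := hzf χ hχ1
    refine c.dat B B' (Or.inl hχ) (B'.kb.eps χ hχ) (dvd_degree_sub c.hQ B' hχ) ?_ hx hx1
      (val_NE c.hQ B' hχ hx hx1) (hz χ) h1 h2 h3 (hadm χ)
    rw [V_NE c.hQ B' hχ]
    norm_num
  have keyΘ : ElevenTwelveArith.Dat (centralizer ({t} : Set G)).index (Nat.card L)
        (charDegree (Θ : G → ℂ)) (-d') (s Θ) (aOf NE X ε d Θ) (z Θ) := by
    obtain ⟨h1, h2, h3⟩ := hzf Θ hΘ1
    refine c.dat B B' (Or.inr hΘ) hd ?_ ?_ hx hx1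
      (val_X c.hQ B' hΘ hx hx1) (hz Θ) h1 h2 h3 (hadm Θ)
    · have h4 := dvd_degree_exc c.hQ B' hΘ
      push_cast at h4
      omega
    · rw [V_X B' hΘ]
      push_cast
      ring
  have hzone : z ⟨1, isIrr_one⟩ = 1 := by
    have h1 := hz ⟨1, isIrr_one⟩
    have h2 : ((⟨1, isIrr_one⟩ : IrrCharacter G) : G → ℂ) t = 1 := rfl
    rw [h2] at h1
    exact_mod_cast h1.symm
  have hsone : s ⟨1, isIrr_one⟩ = 22 := by
    have h1 := hadm ⟨1, isIrr_one⟩
    rw [charDegree_triv] at h1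
    unfold AdmAt at h1
    omega
  have h3 := fun (F : IrrCharacter G → ℤ) => sum_three B'.kb.one_mem hab hac hbc hE F
  have relD := B'.kb.rel_one Θ hΘ
  rw [h3, B'.kb.eps_one, charDegree_triv] at relD
  have relV := c.relR B' R hs hΘ
  rw [h3, B'.kb.eps_one, hsone] at relV
  have relA := c.rel_aOf B B' hΘ
  rw [h3, B'.kb.eps_one, aOf_one B] at relA
  have relZ : ∑ χ ∈ NE', ε' χ * z χ = d' * z Θ := by
    have h1 := B'.kb.rel Θ hΘ t (by rw [c.ord]; norm_num)
    rw [hz Θ, Finset.sum_congr rfl (g := fun χ => ((ε' χ * z χ : ℤ) : ℂ))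
      (fun χ _ => by rw [hz χ]; push_cast; rfl)] at h1
    exact_mod_cast h1
  rw [h3, B'.kb.eps_one, hzone] at relZ
  have hnorm := InvolColumn.sum_sq_le (NE' ∪ X') t z (fun χ _ => hz χ)
  rw [Finset.sum_union B'.kb.disj, h3 (fun χ => z χ ^ 2), hX, Finset.sum_singleton, hzone] at hnorm
  have hidx := (centralizer ({t} : Set G)).card_mul_index
  rw [c.card] at hidx
  have havg := AvgFormula.avg B' c.compl c.hQ hx hx1 hΘ (a := t) (b := t)
    (by rw [c.ord]; norm_num) (by rw [c.ord]; norm_num)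
  refine ElevenTwelveArith.All.contra (h := (centralizer ({t} : Set G)).index)
    (k := Nat.card L) ⟨c.k12, c.k11, c.index, c.okH, key α hα, key β hβ, key γ hγ, keyΘ,
    by push_cast at relD; linarith, by linarith, by linarith, by linarith, ?_, ?_⟩
  · calc (1 + z α ^ 2 + z β ^ 2 + z γ ^ 2 + z Θ ^ 2) * ((centralizer ({t} : Set G)).index : ℤ) ≤
        (Nat.card (centralizer ({t} : Set G)) : ℤ) * ((centralizer ({t} : Set G)).index : ℤ) :=
          mul_le_mul_of_nonneg_right (by linarith) (by positivity)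
      _ = 244823040 := by exact_mod_cast hidx
  · rw [sum_three B'.kb.one_mem hab hac hbc hE] at havg
    generalize Nat.card {q : G × G × L // IsConj t q.1 ∧ IsConj t q.2.1 ∧
      q.1 * q.2.1 = x * q.2.2} = n at havg
    refine ⟨n, ?_⟩
    simp only [Pi.one_apply, B'.kb.eps_one, hz α, hz β, hz γ, hz Θ, irr_one_eq_charDegree α.2,
      irr_one_eq_charDegree β.2, irr_one_eq_charDegree γ.2, irr_one_eq_charDegree Θ.2,
      c.card] at havg
    have hcast : ∀ {σ : ℤ}, σ = 1 ∨ σ = -1 → ∀ (w : ℤ) (D : ℕ),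
        (w : ℚ) ^ 2 / (σ * D) = σ * (w * w / D) := by
      intro σ hσ w D
      rcases hσ with rfl | rfl
      · push_cast; ring
      · push_cast
        rw [neg_one_mul, div_neg]; ring
    rw [hcast (B'.kb.eps α hα.2), hcast (B'.kb.eps β hβ.2), hcast (B'.kb.eps γ hγ.2), hcast hd]
    have h5 : ((n * 244823040 : ℚ) : ℂ) = ((((centralizer ({t} : Set G)).index : ℚ) *
        (centralizer ({t} : Set G)).index * Nat.card L *
        (1 + ε' α * (z α * z α / charDegree (α : G → ℂ)) +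
          ε' β * (z β * z β / charDegree (β : G → ℂ)) +
          ε' γ * (z γ * z γ / charDegree (γ : G → ℂ)) +
          (-d' : ℤ) * (z Θ * z Θ / charDegree (Θ : G → ℂ))) : ℚ) : ℂ) := by
      push_cast
      push_cast at havg
      rw [havg]
      ring
    exact_mod_cast h5

theorem two_false (c : Ctx P K Q 2 L t) : False := by
  classical
  have hf5 : Fact (Nat.Prime 5) := ⟨by norm_num⟩
  obtain ⟨M, NE, X, ε, d, S, B⟩ := c.blkP
  obtain ⟨M', NE', X', ε', d', S', B'⟩ := exists_blk (Sylow23.not_prime c.card) 5 (by norm_num) Q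
    c.hQ 2 2 (Sylow23.relIndex_of_local c.lQ) (by norm_num)
  obtain ⟨Θ, hΘ⟩ : X'.Nonempty := by
    rw [← Finset.card_pos, B'.kb.card_X]; norm_num
  let R : Sylow 23 G := default
  choose s hs hadm using c.adm R
  obtain ⟨x, hx, hx1⟩ := exists_ne_one hf5.out c.hQ
  obtain ⟨α, hE⟩ := Finset.card_eq_one.1
    (show (NE'.erase ⟨1, isIrr_one⟩).card = 1 by
      rw [Finset.card_erase_of_mem B'.kb.one_mem, B'.kb.card_NE])
  have hα := Finset.mem_erase.1 (show α ∈ NE'.erase ⟨1, isIrr_one⟩ by rw [hE]; simp)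
  have hΘ1 : Θ ≠ ⟨1, isIrr_one⟩ := by
    rintro rfl
    exact Finset.disjoint_left.1 B'.kb.disj B'.kb.one_mem hΘ
  obtain ⟨z, hz, hlt, h4, hom⟩ := c.val hα.1
  obtain ⟨zΘ, hzΘ, -, -, -⟩ := c.val hΘ1
  obtain ⟨h20, h11⟩ := c.five_val B' (Or.inl hα.2) hz h4
  have hci := ci c.hQ c.lQ hx hx1 α.2 (val_NE c.hQ B' hα.2 hx hx1) (B'.kb.eps α hα.2)
  rw [c.card] at hci
  have relD := B'.kb.rel_one Θ hΘ
  rw [← Finset.add_sum_erase NE' _ B'.kb.one_mem, hE, Finset.sum_singleton, B'.kb.eps_one,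
    charDegree_triv] at relD
  have relA := c.rel_aOf B B' hΘ
  rw [← Finset.add_sum_erase NE' _ B'.kb.one_mem, hE, Finset.sum_singleton, B'.kb.eps_one,
    aOf_one B] at relA
  have haΘ := c.aOf_cases B Θ hzΘ
  have haα := c.aOf_cases B α hz
  have hfN := Sylow23.charDegree_dvd c.card Θ
  have hσ := B'.kb.eps α hα.2
  have h5 := dvd_degree_sub c.hQ B' hα.2
  have hd := B'.kb.hd
  have hsq := c.sq_le α
  have hadmα := hadm α
  have hadmΘ := hadm Θ
  generalize aOf NE X ε d α = a at relA haα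
  generalize aOf NE X ε d Θ = aΘ at relA haΘ
  generalize charDegree (α : G → ℂ) = D at *
  generalize charDegree (Θ : G → ℂ) = f at *
  generalize ε' α = σ at *
  generalize s α = sα at *
  generalize s Θ = sΘ at *
  have hk := c.k12
  by_cases h24 : D = 24
  · subst h24
    push_cast at h5 relD haα
    have hσ' : σ = -1 := by omega
    subst hσ'
    have hd' : d' = -1 ∧ f = 23 := by
      rcases hd with rfl | rfl <;> constructor <;> omega
    obtain ⟨rfl, rfl⟩ := hd'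
    push_cast at haΘ
    omega
  · have hD1 : D ≠ 1 := by
      rintro rfl
      rw [abs_lt] at hlt
      omega
    have hmem := ElevenTwelveArith.mem_cand (n := D) (σ := σ) (s := sα) (by
      obtain ⟨m, hm⟩ := hk
      rw [hm] at hci
      have h2 : D * 60 ∣ 4080384 * 60 := by
        refine dvd_trans ⟨m, by ring⟩ (hci.trans (by norm_num))
      exact Nat.dvd_of_mul_dvd_mul_right (by norm_num) h2) hadmα hsq hD1 h24 hσ h5
    have hchk : (ElevenTwelveArith.cand.all fun p => p.1 == 11 ||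
        !(244823040 % (1 + p.1).natAbs == 0 && ElevenTwelveArith.adm (1 + p.1).natAbs)) = true := by
      decide +kernel
    rw [List.all_eq_true] at hchk
    have h6 := hchk _ hmem
    have h7 : (1 + σ * D).natAbs = f := by
      have : 1 + σ * (D : ℤ) = d' * f := by push_cast at relD; linarith
      rw [this, Int.natAbs_mul]
      rcases hd with rfl | rfl <;> simp
    simp only [h7, hadmΘ.adm_eq, Nat.mod_eq_zero_of_dvd hfN, Bool.or_eq_true, beq_iff_eq,
      beq_self_eq_true, Bool.and_self, Bool.not_true, Bool.false_eq_true, or_false] at h6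
    have hD11 : D = 11 ∧ σ = 1 := by
      rcases hσ with rfl | rfl <;> omega
    obtain ⟨rfl, rfl⟩ := hD11
    have h8 := h11 (dvd_refl 11)
    rw [abs_lt] at hlt
    push_cast at h20 hlt
    omega

end Five

end Ctx

/-- **(T6)** The case `|N(P₁₁) : C(P₁₁)| = 10`, `|C(P₁₁)| = 132` does not occur. -/
theorem twelve_false (hcard : Nat.card G = 244823040) {P : Sylow 11 G} {K : Subgroup G}
    (h : IsLocal 11 P 10 K) (hk : Nat.card K = 12) : False := by
  obtain ⟨Q, e, L, t, c⟩ := exists_ctx hcard h hk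
  have he : e ∣ 4 := c.lQ.dvd_pred
  have he1 := c.lQ.one_lt
  have he4 : e ≤ 4 := Nat.le_of_dvd (by norm_num) he
  have : e = 2 ∨ e = 4 := by
    interval_cases e <;> simp_all
  rcases this with rfl | rfl
  · exact c.two_false
  · exact c.four_false

end Cfsg.Agent.SporadicA.M24.ElevenTwelve
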