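import Cfsg.Agent.SporadicA.M24.ElevenSeven
import Cfsg.Agent.SporadicA.M24.ElevenFiveTwo
import Cfsg.Agent.SporadicA.M24.ElevenTwelve
import Cfsg.Agent.M24P11.FiveFinal

/-!
# Sylow 11-subgroups in a simple group of order `244823040`

A Sylow 11-subgroup `P` is self-centralising and `|N(P) : C(P)| = 10`.
-/

set_option autoImplicit false
set_option linter.unusedSectionVars false

namespace Cfsg.Agent.SporadicA.M24.Sylow11

open Cfsg Subgroup
open Cfsg.Agent.SmallSimple Cfsg.Agent.SmallSimple.PrimeLocal
open Cfsg.Agent.SporadicA.M24.Sylow23 (not_comm)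

universe u

variable {G : Type u} [Group G] [Finite G] [IsSimpleGroup G]

theorem card_P (hcard : Nat.card G = 244823040) (P : Sylow 11 G) : Nat.card P = 11 :=
  ElevenTwo.card_eleven hcard P

/-- The local data: `e = 10`, `K = 1`. -/
theorem local_data (hcard : Nat.card G = 244823040) (P : Sylow 11 G) :
    ∃ K : Subgroup G, IsLocal 11 P 10 K ∧ Nat.card K = 1 := by
  have : Fact (Nat.Prime 11) := ⟨by norm_num⟩
  obtain ⟨e, K, h⟩ := exists_local (not_comm hcard) (p := 11) (by rw [hcard]; norm_num)
    (by rw [hcard]; norm_num) P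
  rcases ElevenCases.cases hcard h (ElevenSeven.not_seven_dvd hcard h) with
    ⟨rfl, hk | hk | hk | hk⟩ | ⟨rfl, hk | hk | hk | hk⟩
  · exact (ElevenFiveTwo.five_two_false hcard h hk).elim
  · exact (M24P11.FiveFinal.five24 hcard h hk).elim
  · exact (M24P11.FiveFinal.five288 hcard h hk).elim
  · exact (ElevenV.five_false hcard h hk).elim
  · exact ⟨K, h, hk⟩
  · exact (ElevenTwelve.twelve_false hcard h hk).elim
  · exact (ElevenV.ten_false hcard h (Or.inl hk)).elim
  · exact (ElevenV.ten_false hcard h (Or.inr hk)).elim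

/-- The Sylow `11`-subgroups are self-centralising. -/
theorem centralizer_eq (hcard : Nat.card G = 244823040) (P : Sylow 11 G) :
    centralizer (P : Set G) = (P : Subgroup G) := by
  obtain ⟨K, h, hK⟩ := local_data hcard P
  have h1 := h.card_centralizer
  rw [hK] at h1
  have h2 : (P : Subgroup G) ≤ centralizer (P : Set G) := by
    intro x hx
    rw [mem_centralizer_iff]
    intro y hy
    exact comm_of_card_prime (by norm_num) (P : Subgroup G) (card_P hcard P) y hy x hx
  refine (Subgroup.eq_of_le_of_card_ge h2 ?_).symm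
  rw [h1]
  exact (card_P hcard P).symm.le

theorem relIndex_eq (hcard : Nat.card G = 244823040) (P : Sylow 11 G) :
    (centralizer (P : Set G)).relIndex (normalizer (P : Set G)) = 10 := by
  have : Fact (Nat.Prime 11) := ⟨by norm_num⟩
  obtain ⟨K, h, hK⟩ := local_data hcard P
  exact Sylow23.relIndex_of_local h

theorem card_normalizer (hcard : Nat.card G = 244823040) (P : Sylow 11 G) :
    Nat.card (normalizer (P : Set G)) = 110 := by
  obtain ⟨K, h, hK⟩ := local_data hcard P
  have h1 := h.card_normalizer
  rw [hK] at h1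
  exact h1

end Cfsg.Agent.SporadicA.M24.Sylow11
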