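import Cfsg.Agent.SporadicA.M24.Seven
import Cfsg.Agent.M24Order.Setup

/-!
# The principal 5- and 7-blocks, for `M24Order.Setup.Hyp`
-/

set_option autoImplicit false

namespace Cfsg.Agent.SporadicA.M24.Convert

open Cfsg Subgroup
open Cfsg.Agent.Characters.Core
open Cfsg.Agent.SmallSimple.DegreeData

universe u

variable {G : Type u} [Group G] [Finite G]

/-- The two structures of hypotheses have the same fields. -/
def conv (H : M24Order.Setup.Hyp G) : Setup.Hyp G :=
  { hcard := H.hcard, hcomm := H.hcomm, P := H.P, hP := H.hP, hCP := H.hCP, heP := H.heP,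
    Q := H.Q, hQ := H.hQ, hCQ := H.hCQ, heQ := H.heQ, D := H.D, E := H.E }

/-- **The principal 5- and 7-blocks.** -/
theorem exists_blocks [IsSimpleGroup G] (H : M24Order.Setup.Hyp G) (R : Sylow 5 G)
    (S : Sylow 7 G) :
    ∃ (K : Subgroup G) (M : Ideal AlgInt) (B : Finset (IrrCharacter G)) (ε : IrrCharacter G → ℤ)
      (a b c d : IrrCharacter G), Seven.B5 R K M B ε a b c d ∧
    ((∃ (K' : Subgroup G) (M' : Ideal AlgInt) (D : BlockData 7 M' S 3 2) (a' : IrrCharacter G),
      Seven.B7three S K' M' D a' b) ∨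
    (∃ (K' : Subgroup G) (M' : Ideal AlgInt) (B' : Finset (IrrCharacter G))
      (ε' : IrrCharacter G → ℤ) (l' : List (IrrCharacter G)),
      Seven.B7six S K' M' B' ε' l' b)) :=
  Seven.exists_blocks (conv H) R S

end Cfsg.Agent.SporadicA.M24.Convert
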