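import Cfsg.Agent.M23.SylowTools
import Cfsg.Agent.M22.NonSelfCent
import Cfsg.Agent.S0165

/-!
# The principal `p`-block for `|P| = p` with the determinant data and the congruence mod `p`

`exists_kblock'` is `M22.NonSelfCent.exists_kblock` together with the congruence
`χ(w) ≡ χ(1) mod p` for `w ∈ C(P)` of order prime to `p`.
`not_defect_zero`: no nontrivial character of the principal `p`-block is of `r`-defect zero if
`C(P)` contains an element of order `r`.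
-/

set_option autoImplicit false
set_option linter.unusedSectionVars false

namespace Cfsg.Agent.SporadicA.M24.KBlock

open Cfsg Cfsg.Agent.Characters.Core
open Cfsg.Agent.Blocks.Basic (irr_one_eq_charDegree)
open Cfsg.Agent.SmallSimple
open Cfsg.Agent.M22.NonSelfCent

universe u

variable {G : Type u} [Group G] [Finite G]

theorem exists_kblock' [IsSimpleGroup G] (hG : ¬ (Nat.card G).Prime) (p : ℕ) [Fact p.Prime]
    (hp2 : p ≠ 2) (P : Sylow p G) (hP : Nat.card P = p) (e t : ℕ)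
    (he : (Subgroup.centralizer (P : Set G)).relIndex (Subgroup.normalizer (P : Set G)) = e)
    (ht : e * t = p - 1) :
    ∃ NE X ε d, KBlock p (P : Subgroup G) e t NE X ε d ∧
      ∀ χ : IrrCharacter G, (χ ∈ NE ∨ χ ∈ X) → ∀ w ∈ Subgroup.centralizer (P : Set G),
        ¬ p ∣ orderOf w → ∀ z : ℤ, (χ : G → ℂ) w = z →
        (p : ℤ) ∣ (charDegree (χ : G → ℂ) : ℤ) - z := by
  have hp : p.Prime := Fact.out
  obtain ⟨M, hM⟩ := Cfsg.Agent.Blocks.ExistsModular.exists_isPModular hp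
  obtain ⟨NE, X, ε, d, S, -, h2, h3, h4, h5, h6, h7, h8, h9, -, h11⟩ :=
    TheoremB.theoremB p hp2 M hM P hP e t he ht
  obtain ⟨χ₁, hχ₁, hχ₁', hε₁⟩ := h7
  have h12 : χ₁ = ⟨1, isIrr_one⟩ := Subtype.ext hχ₁'
  subst h12
  have he0 : e ≠ 0 := by
    rintro rfl
    have := hp.two_le
    omega
  have hone : ¬ p ∣ orderOf (1 : G) := by
    rw [orderOf_one]; exact fun h => hp.one_lt.ne' (Nat.dvd_one.1 h)
  refine ⟨NE, X, ε, d, ⟨h2, h3, h4, h5, h6, hχ₁, hε₁, h11, fun Θ hΘ => ?_,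
    fun K hK hcop hKne χ hχ hχ1 => ?_, fun K hK hcop hKne Θ hΘ => ?_⟩, ?_⟩
  · have h13 := h11 Θ hΘ 1 hone
    rw [irr_one_eq_charDegree Θ.2] at h13
    have h14 : ∑ χ ∈ NE, (ε χ : ℂ) * (χ : G → ℂ) 1 =
        ((∑ χ ∈ NE, ε χ * (charDegree (χ : G → ℂ) : ℤ) : ℤ) : ℂ) := by
      push_cast
      refine Finset.sum_congr rfl fun χ _ => ?_
      rw [irr_one_eq_charDegree χ.2]
    rw [h14] at h13
    exact_mod_cast h13
  · exact neData hG P hP χ hχ1 (h5 χ hχ) (h8 χ hχ) K hK hcop hKne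
  · obtain ⟨h15, h16, h17⟩ := h9 Θ hΘ
    refine xData hG P hP Θ ?_ h6 he0 (S Θ) h15 h16 h17 K hK hcop hKne
    rintro rfl
    exact (Finset.disjoint_left.1 h2) hχ₁ hΘ
  · intro χ hχ w hw hwp z hz
    have hmul : ∀ x ∈ (P : Subgroup G), x ≠ 1 → (χ : G → ℂ) (x * w) = (χ : G → ℂ) x := by
      intro x hx hx1
      rcases hχ with hχ | hχ
      · have h11 := h8 χ hχ x hx hx1 1 (one_mem _) hone
        rw [mul_one] at h11
        rw [h11, h8 χ hχ x hx hx1 w hw hwp]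
      · have h11 := (h9 χ hχ).2.2 ⟨x, hx⟩ (fun h => hx1 (congrArg Subtype.val h)) 1
          (one_mem _) hone
        rw [mul_one] at h11
        rw [(h9 χ hχ).2.2 ⟨x, hx⟩ (fun h => hx1 (congrArg Subtype.val h)) w hw hwp]
        exact h11.symm
    exact M23.SylowTools.dvd_sub_of_mul_eq hM (P := (P : Subgroup G)) hP χ.2 hw hwp hmul
      (n := (charDegree (χ : G → ℂ) : ℤ)) (z := z)
      (by rw [irr_one_eq_charDegree χ.2]; push_cast; rfl) hz

/-- Characters of `r`-defect zero vanish on `r`-singular elements. -/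
theorem eq_zero_of_defect_zero (χ : IrrCharacter G) {r n : ℕ} (hr : r.Prime)
    (hn : r ^ n ∣ Nat.card G) (hn' : ¬ r ^ (n + 1) ∣ Nat.card G)
    (hd : r ^ n ∣ charDegree (χ : G → ℂ)) {w : G} (hw : r ∣ orderOf w) :
    (χ : G → ℂ) w = 0 := by
  obtain ⟨χ, hχ⟩ := χ
  have hdeg := irr_one_eq_charDegree hχ
  obtain ⟨m, ρ, hρ, rfl⟩ := hχ
  refine Cfsg.Agent.S0165.result ρ r n hr hn hn' ?_ w hw
  have h1 : ((Module.finrank ℂ (Fin m → ℂ) : ℕ) : ℂ) = charDegree ρ.character := by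
    rw [← ρ.char_one]; exact hdeg
  have h2 : Module.finrank ℂ (Fin m → ℂ) = charDegree ρ.character := by exact_mod_cast h1
  rw [h2]; exact hd

theorem not_defect_zero {p : ℕ} {P : Subgroup G} {NE X : Finset (IrrCharacter G)}
    (h : ∀ χ : IrrCharacter G, (χ ∈ NE ∨ χ ∈ X) → ∀ w ∈ Subgroup.centralizer (P : Set G),
        ¬ p ∣ orderOf w → ∀ z : ℤ, (χ : G → ℂ) w = z →
        (p : ℤ) ∣ (charDegree (χ : G → ℂ) : ℤ) - z)
    {χ : IrrCharacter G} (hχ : χ ∈ NE ∨ χ ∈ X) (hpd : ¬ p ∣ charDegree (χ : G → ℂ)) {r n : ℕ}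
    (hr : r.Prime) (hn : r ^ n ∣ Nat.card G) (hn' : ¬ r ^ (n + 1) ∣ Nat.card G)
    {K : Subgroup G} (hK : K ≤ Subgroup.centralizer (P : Set G)) (hpK : ¬ p ∣ Nat.card K)
    (hrK : r ∣ Nat.card K) : ¬ r ^ n ∣ charDegree (χ : G → ℂ) := by
  intro hd
  have : Fact r.Prime := ⟨hr⟩
  obtain ⟨w, hw⟩ := exists_prime_orderOf_dvd_card' (G := K) r hrK
  have hw' : orderOf (w : G) = r := by rw [Subgroup.orderOf_coe, hw]
  have hwp : ¬ p ∣ orderOf (w : G) := by
    intro h1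
    apply hpK
    refine h1.trans ?_
    rw [Subgroup.orderOf_coe]
    exact orderOf_dvd_natCard w
  have h0 := eq_zero_of_defect_zero χ hr hn hn' hd (w := (w : G)) (by rw [hw'])
  have h1 := h χ hχ w (hK w.2) hwp 0 (by rw [h0]; simp)
  rw [sub_zero] at h1
  exact hpd (by exact_mod_cast h1)

end Cfsg.Agent.SporadicA.M24.KBlock
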