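import Cfsg.Agent.SmallSimple.PrimeLocal
import Cfsg.Agent.SmallSimple.BlockIndex
import Cfsg.Agent.SmallSimple.Order5040
import Cfsg.Agent.S0228

/-!
# `|C(P)| = 5 * 12`, `|N(P)| = 240`, an involution `u` with `|C(u)| = 7680`

`alternating`: the 5-complement `K` of `C(P)` is an alternating group of degree 4, or `K` has an
involution which is central in `N(P)`.
-/

set_option autoImplicit false

namespace Cfsg.Agent.SporadicA.M24.KFiveLocal

open Cfsg Subgroup
open Cfsg.Agent.SmallSimple

universe u

variable {G : Type u} [Group G] [Finite G]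

/-- Sylow count inside the centraliser of an element commuting with `P`. -/
theorem card_centralizer_eq {p : ℕ} [hp : Fact p.Prime] (P : Sylow p G) {t : G}
    (ht : t ∈ centralizer (P : Set G)) :
    ∃ n : ℕ, n ≡ 1 [MOD p] ∧ Nat.card (centralizer ({t} : Set G)) =
      Nat.card ((normalizer (P : Set G) ⊓ centralizer ({t} : Set G) : Subgroup G)) * n := by
  set C : Subgroup G := centralizer ({t} : Set G) with hC
  have hPC : (P : Subgroup G) ≤ C := by
    intro x hx
    rw [hC, mem_centralizer_singleton_iff]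
    exact mem_centralizer_iff.1 ht x hx
  let P' : Sylow p C := P.subtype hPC
  refine ⟨Nat.card (Sylow p C), card_sylow_modEq_one p C, ?_⟩
  have h1 : Nat.card (Sylow p C) = (normalizer (P' : Set C)).index :=
    P'.card_eq_index_normalizer
  have h2 : normalizer (P' : Set C) = (normalizer (P : Set G)).subgroupOf C := by
    ext x
    rw [mem_subgroupOf]
    change x ∈ normalizer ((P' : Subgroup C) : Set C) ↔
      (x : G) ∈ normalizer ((P : Subgroup G) : Set G)
    rw [mem_normalizer_iff, mem_normalizer_iff]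
    constructor
    · intro h y
      constructor
      · intro hy
        have h3 := (h ⟨y, hPC hy⟩).1 (by exact hy)
        exact h3
      · intro hy
        have hyC : y ∈ C := by
          have h4 : (x : G) * y * (x : G)⁻¹ ∈ C := hPC hy
          have h5 := C.mul_mem (C.mul_mem (C.inv_mem x.2) h4) x.2
          have h6 : (x : G)⁻¹ * ((x : G) * y * (x : G)⁻¹) * x = y := by group
          rwa [h6] at h5
        exact (h ⟨y, hyC⟩).2 hy
    · intro h y
      exact h y
  rw [h1, h2]
  have h3 := card_mul_index ((normalizer (P : Set G)).subgroupOf C)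
  rw [← h3]
  congr 1
  have h4 : (normalizer (P : Set G)).subgroupOf C =
      (normalizer (P : Set G) ⊓ C).subgroupOf C := (inf_subgroupOf_right _ _).symm
  rw [h4]
  exact Nat.card_congr (subgroupOfEquivOfLe inf_le_right).toEquiv

omit [Finite G] in
/-- `|A ⊓ T| = |B ⊓ T| * r` with `r ∣ |A : B|`, if `B` is normal in `A`. -/
theorem exists_card_inf {A B : Subgroup G} (hBA : B ≤ A) (hn : (B.subgroupOf A).Normal)
    (T : Subgroup G) : ∃ r, r ∣ B.relIndex A ∧
      Nat.card (A ⊓ T : Subgroup G) = Nat.card (B ⊓ T : Subgroup G) * r := by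
  refine ⟨B.relIndex (A ⊓ T), ?_, ?_⟩
  · have h1 : (B.subgroupOf A).relIndex ((A ⊓ T).subgroupOf A) = B.relIndex (A ⊓ T) :=
      relIndex_subgroupOf inf_le_left
    rw [← h1]
    exact relIndex_dvd_index_of_normal _ _
  · have h1 := relIndex_mul_relIndex (⊥ : Subgroup G) (B ⊓ T) (A ⊓ T) bot_le
      (inf_le_inf_right T hBA)
    rw [relIndex_bot_left, relIndex_bot_left] at h1
    have h2 : (B ⊓ T).relIndex (A ⊓ T) = B.relIndex (A ⊓ T) := by
      rw [← inf_relIndex_right B (A ⊓ T), ← inf_assoc, inf_of_le_left hBA]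
    rw [← h1, h2]

/-- Orders of centralisers in `K` and in `N(P)`. -/
theorem card_inf {p : ℕ} [hp : Fact p.Prime] {P : Sylow p G} {e : ℕ} {K : Subgroup G}
    (h : PrimeLocal.IsLocal p P e K) (hP : Nat.card P = p) {t : G} (ht : t ∈ K) :
    ∃ e' : ℕ, e' ∣ e ∧
      Nat.card ((normalizer (P : Set G) ⊓ centralizer ({t} : Set G) : Subgroup G)) =
        p * (e' * Nat.card (K ⊓ centralizer ({t} : Set G) : Subgroup G)) := by
  have hKC : K ≤ centralizer (P : Set G) := fun x hx => ((h.mem_iff x).1 hx).1
  have hCN := SylowPrimeCount.centralizer_le_normalizer' (P : Subgroup G)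
  have hNK : normalizer (P : Set G) ≤ normalizer (K : Set G) :=
    PrimeLocal.normalizer_le_normalizer (P := (P : Subgroup G)) h.mem_iff
  have hn1 : ((centralizer (P : Set G)).subgroupOf (normalizer (P : Set G))).Normal := by
    refine ⟨fun x hx g => ?_⟩
    rw [mem_subgroupOf] at hx ⊢
    rw [mem_centralizer_iff] at hx ⊢
    intro y hy
    have h1 : (g : G)⁻¹ * y * g ∈ (P : Subgroup G) := by
      have := (mem_normalizer_iff.1 (inv_mem g.2) y).1 hy
      simpa using this
    have h2 := hx _ h1
    change y * ((g : G) * x * (g : G)⁻¹) = (g : G) * x * (g : G)⁻¹ * y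
    calc y * ((g : G) * x * (g : G)⁻¹) = g * (((g : G)⁻¹ * y * g) * x) * (g : G)⁻¹ := by group
      _ = g * (x * ((g : G)⁻¹ * y * g)) * (g : G)⁻¹ := by rw [h2]
      _ = (g : G) * x * (g : G)⁻¹ * y := by group
  have hn2 : (K.subgroupOf (centralizer (P : Set G))).Normal := by
    refine ⟨fun x hx g => ?_⟩
    rw [mem_subgroupOf] at hx ⊢
    exact (mem_normalizer_iff.1 (hNK (hCN g.2)) _).1 hx
  obtain ⟨r, hr1, hr2⟩ := exists_card_inf hCN hn1 (centralizer ({t} : Set G))
  obtain ⟨s, hs1, hs2⟩ := exists_card_inf hKC hn2 (centralizer ({t} : Set G))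
  have hidx : (centralizer (P : Set G)).relIndex (normalizer (P : Set G)) = e :=
    BlockIndex.relIndex_eq h
  have hidx2 : K.relIndex (centralizer (P : Set G)) = p := by
    have h1 := relIndex_mul_relIndex (⊥ : Subgroup G) _ _ bot_le hKC
    rw [relIndex_bot_left, relIndex_bot_left, h.card_centralizer] at h1
    have h4 : 0 < Nat.card K := Nat.card_pos
    apply Nat.eq_of_mul_eq_mul_left h4
    rw [h1]; ring
  replace hr1 : r ∣ (centralizer (P : Set G)).relIndex (normalizer (P : Set G)) := hr1
  rw [hidx] at hr1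
  rw [hidx2] at hs1
  have hs : s = p := by
    rcases (Nat.dvd_prime hp.out).1 hs1 with h1 | h1
    · exfalso
      rw [h1, mul_one] at hs2
      have hPle : (P : Subgroup G) ≤ centralizer (P : Set G) ⊓ centralizer ({t} : Set G) := by
        refine le_inf ?_ ?_
        · intro x hx
          rw [mem_centralizer_iff]
          intro y hy
          exact PrimeLocal.comm_of_card_prime hp.out (P : Subgroup G) hP y hy x hx
        · intro x hx
          rw [mem_centralizer_singleton_iff]
          exact mem_centralizer_iff.1 (hKC ht) x hx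
      have h2 := Subgroup.card_dvd_of_le hPle
      rw [hs2] at h2
      have h3 : Nat.card (K ⊓ centralizer ({t} : Set G) : Subgroup G) ∣ Nat.card K :=
        Subgroup.card_dvd_of_le inf_le_left
      apply h.not_dvd
      have hP' : Nat.card (P : Subgroup G) = p := hP
      rw [hP'] at h2
      exact h2.trans h3
    · exact h1
  refine ⟨r, hr1, ?_⟩
  have h7 : Nat.card (normalizer (P : Set G) ⊓ centralizer ({t} : Set G) : Subgroup G) =
      Nat.card (centralizer (P : Set G) ⊓ centralizer ({t} : Set G) : Subgroup G) * r := hr2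
  rw [h7, hs2, hs]
  ring

/-- `|C_K(u)| = 4`. -/
theorem card_inf_centralizer {P : Sylow 5 G} {K : Subgroup G} (h : PrimeLocal.IsLocal 5 P 4 K)
    (hP : Nat.card P = 5) (hk : Nat.card K = 12) {u : G} (hu : u ∈ K) (hu1 : u ≠ 1)
    (hu2 : u * u = 1) (hc : Nat.card (centralizer ({u} : Set G)) = 7680) :
    Nat.card (K ⊓ centralizer ({u} : Set G) : Subgroup G) = 4 := by
  have : Fact (Nat.Prime 5) := ⟨by norm_num⟩
  obtain ⟨n, hn1, hn2⟩ := card_centralizer_eq P ((h.mem_iff u).1 hu).1
  obtain ⟨e, he1, he2⟩ := card_inf h hP hu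
  set V : Subgroup G := K ⊓ centralizer ({u} : Set G) with hV
  have huV : u ∈ V := mem_inf.2 ⟨hu, by rw [mem_centralizer_singleton_iff]⟩
  have hVK : Nat.card V ∣ 12 := hk ▸ Subgroup.card_dvd_of_le inf_le_left
  have h2V : 2 ∣ Nat.card V := by
    have h1 : orderOf u = 2 := orderOf_eq_prime (by rw [pow_two, hu2]) hu1
    have h2 : orderOf (⟨u, huV⟩ : V) = 2 := by rw [← h1, ← Subgroup.orderOf_coe]
    rw [← h2]
    exact orderOf_dvd_natCard _
  rw [hc, he2] at hn2
  have he : e ∈ Nat.divisors 4 := Nat.mem_divisors.2 ⟨he1, by norm_num⟩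
  have hv : Nat.card V ∈ Nat.divisors 12 := Nat.mem_divisors.2 ⟨hVK, by norm_num⟩
  have hn : n ∣ 1536 := ⟨e * Nat.card V, by
    have : 5 * 1536 = 5 * (n * (e * Nat.card V)) := by rw [← mul_assoc, ← mul_assoc]; rw [show (5:ℕ) * 1536 = 7680 by norm_num, hn2]; ring
    omega⟩
  have hn' : n ∈ Nat.divisors 1536 := Nat.mem_divisors.2 ⟨hn, by norm_num⟩
  have harith : ∀ e ∈ Nat.divisors 4, ∀ v ∈ Nat.divisors 12, ∀ n ∈ Nat.divisors 1536,
      n % 5 = 1 → v % 2 = 0 → 7680 = 5 * (e * v) * n → v = 4 ∨ v = 6 := by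
    decide +kernel
  rcases harith e he _ hv n hn' hn1 (by omega) hn2 with h4 | h6
  · exact h4
  · exfalso
    have hidx : V.relIndex K = 2 := by
      have h1 := relIndex_mul_relIndex (⊥ : Subgroup G) V K bot_le inf_le_left
      rw [relIndex_bot_left, relIndex_bot_left, h6, hk] at h1
      omega
    have hn : (V.subgroupOf K).Normal := normal_of_index_eq_two hidx
    obtain ⟨g, hg, hgu⟩ : ∃ g ∈ K, g * u ≠ u * g := by
      by_contra hcon
      push Not at hcon
      have h1 : K ≤ V := fun g hg => mem_inf.2 ⟨hg, by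
        rw [mem_centralizer_singleton_iff]; exact hcon g hg⟩
      have h2 := Subgroup.card_le_of_le h1
      omega
    have hvV : g * u * g⁻¹ ∈ V := by
      have h1 := hn.conj_mem ⟨u, hu⟩ (mem_subgroupOf.2 huV) ⟨g, hg⟩
      exact mem_subgroupOf.1 h1
    have h4 := Order5040.four_dvd_card huV hvV (by rw [pow_two, hu2])
      (by rw [conj_pow, pow_two, hu2, mul_one, mul_inv_cancel]) hu1
      (fun h' => hu1 (by simpa using h')) (fun h' => hgu (by
        rw [eq_mul_inv_iff_mul_eq] at h'; exact h'.symm))
      (mem_centralizer_singleton_iff.1 (mem_inf.1 hvV).2).symm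
    omega

/-- The complement `K` is an alternating group of degree 4. -/
theorem alternating {P : Sylow 5 G} {K : Subgroup G} (h : PrimeLocal.IsLocal 5 P 4 K)
    (hP : Nat.card P = 5) (hk : Nat.card K = 12) {u : G} (hu : u ∈ K) (hu1 : u ≠ 1)
    (hu2 : u * u = 1) (hc : Nat.card (centralizer ({u} : Set G)) = 7680)
    (hno : ∀ t ∈ K, t ≠ 1 → t * t = 1 → ¬ normalizer (P : Set G) ≤ centralizer ({t} : Set G)) :
    Nonempty (K ≃* alternatingGroup (Fin 4)) := by
  have h4 := card_inf_centralizer h hP hk hu hu1 hu2 hc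
  apply S0228.result hk
  rintro ⟨z, hzK⟩ hz2 hzc
  have hz2' : orderOf z = 2 := by rw [← hz2, ← Subgroup.orderOf_coe]
  have hz1 : z ≠ 1 := by
    rintro rfl
    rw [orderOf_one] at hz2'
    omega
  have hzz : z * z = 1 := by
    rw [← pow_two, ← hz2', pow_orderOf_eq_one]
  have hzcent : ∀ g ∈ K, g * z = z * g := by
    intro g hg
    have := mem_center_iff.1 hzc ⟨g, hg⟩
    exact congrArg Subtype.val this
  set V : Subgroup G := K ⊓ centralizer ({u} : Set G) with hV
  -- a central involution of `K` lies in `V`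
  have hcen : ∀ w ∈ K, w ≠ 1 → (∀ g ∈ K, g * w = w * g) → w = z := by
    intro w hw hw1 hwc
    by_contra hwz
    have hu_nc : ¬ ∀ g ∈ K, g * u = u * g := by
      intro hcon
      have h1 : K ≤ V := fun g hg => mem_inf.2 ⟨hg, by
        rw [mem_centralizer_singleton_iff]; exact hcon g hg⟩
      have h2 := Subgroup.card_le_of_le h1
      omega
    have huV : u ∈ V := mem_inf.2 ⟨hu, by rw [mem_centralizer_singleton_iff]⟩
    have hzV : z ∈ V := mem_inf.2 ⟨hzK, by
      rw [mem_centralizer_singleton_iff]; exact (hzcent u hu).symm⟩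
    have hwV : w ∈ V := mem_inf.2 ⟨hw, by
      rw [mem_centralizer_singleton_iff]; exact (hwc u hu).symm⟩
    have huz : u ≠ z := fun h' => hu_nc (by rw [h']; exact hzcent)
    have hwu : w ≠ u := fun h' => hu_nc (by rw [← h']; exact hwc)
    have hwuz : w ≠ u * z := by
      intro h'
      apply hu_nc
      have h5 : u = w * z := by rw [h', mul_assoc, hzz, mul_one]
      intro g hg
      rw [h5, ← mul_assoc, hwc g hg, mul_assoc, hzcent g hg, mul_assoc]
    have huz1 : u * z ≠ 1 := by
      intro h'
      apply huz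
      have : u = z⁻¹ := eq_inv_of_mul_eq_one_left h'
      rw [this, inv_eq_iff_mul_eq_one, hzz]
    have huzu : u * z ≠ u := fun h' => hz1 (by simpa using h')
    have huzz : u * z ≠ z := fun h' => hu1 (by simpa using h')
    classical
    have h3 : ({1, u, z, u * z, w} : Finset G).card = 5 := by
      rw [Finset.card_insert_of_notMem, Finset.card_insert_of_notMem,
        Finset.card_insert_of_notMem, Finset.card_insert_of_notMem, Finset.card_singleton]
      · rw [Finset.mem_singleton]; exact fun h' => hwuz h'.symm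
      · rw [Finset.mem_insert, Finset.mem_singleton]
        rintro (h' | h')
        · exact huzz h'.symm
        · exact hwz h'.symm
      · rw [Finset.mem_insert, Finset.mem_insert, Finset.mem_singleton]
        rintro (h' | h' | h')
        · exact huz h'
        · exact huzu h'.symm
        · exact hwu h'.symm
      · rw [Finset.mem_insert, Finset.mem_insert, Finset.mem_insert, Finset.mem_singleton]
        rintro (h' | h' | h' | h')
        · exact hu1 h'.symm
        · exact hz1 h'.symm
        · exact huz1 h'.symm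
        · exact hw1 h'.symm
    have h5 : (({1, u, z, u * z, w} : Finset G) : Set G) ⊆ (V : Set G) := by
      intro x hx
      simp only [Finset.coe_insert, Finset.coe_singleton, Set.mem_insert_iff,
        Set.mem_singleton_iff] at hx
      rcases hx with rfl | rfl | rfl | rfl | rfl
      · exact V.one_mem
      · exact huV
      · exact hzV
      · exact V.mul_mem huV hzV
      · exact hwV
    have h6 := Set.ncard_le_ncard h5
    rw [Set.ncard_coe_finset, h3] at h6
    have h7 : (V : Set G).ncard = 4 := h4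
    omega
  apply hno z hzK hz1 hzz
  intro g hg
  have hgK : ∀ g ∈ normalizer (P : Set G), ∀ x ∈ K, g * x * g⁻¹ ∈ K := by
    intro g hg x hx
    exact (mem_normalizer_iff.1
      (PrimeLocal.normalizer_le_normalizer (P := (P : Subgroup G)) h.mem_iff hg) _).1 hx
  have h5 := hcen (g * z * g⁻¹) (hgK g hg z hzK) (fun h' => hz1 (by simpa using h')) (by
    intro x hx
    have h6 : g⁻¹ * x * g ∈ K := by
      have := hgK g⁻¹ (inv_mem hg) x hx
      simpa using this
    have h7 := hzcent _ h6
    calc x * (g * z * g⁻¹) = g * ((g⁻¹ * x * g) * z) * g⁻¹ := by group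
      _ = g * (z * (g⁻¹ * x * g)) * g⁻¹ := by rw [h7]
      _ = g * z * g⁻¹ * x := by group)
  rw [mem_centralizer_singleton_iff]
  exact mul_inv_eq_iff_eq_mul.1 h5

end Cfsg.Agent.SporadicA.M24.KFiveLocal
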