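import Cfsg.Agent.SporadicA.M24.Gram
import Cfsg.Agent.SporadicA.M24.KFiveLocal

/-!
# `K ≅ A₄`, `K` the complement of a Sylow 5-subgroup in its centralizer

In the case `e₇ = 3`, `|K| = 12`: no involution of `K` is central in `N(R)`
(`not_central`), hence `K ≅ A₄` if `K` has an involution `u` with `|C(u)| = 7680`
(`alternating`).
-/

set_option autoImplicit false
set_option linter.unusedSectionVars false

open Cfsg Subgroup
open Cfsg.Agent.Characters.Core
open Cfsg.Agent.SmallSimple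
open Cfsg.Agent.SmallSimple.FlatBlock
open Cfsg.Agent.SmallSimple.DegreeData
open Cfsg.Agent.M23Order.Base
open Cfsg.Agent.SporadicA.M24.Setup Cfsg.Agent.SporadicA.M24.Five Cfsg.Agent.SporadicA.M24.Seven
open Cfsg.Agent.SporadicA.M24.Col

namespace Cfsg.Agent.SporadicA.M24.KFive

universe u

/-! ### Arithmetic -/

/-- the orders of the centraliser -/
def ns : List ℕ := [240, 1440, 3840, 5040, 8640, 13440, 23040, 30240, 80640, 138240, 483840]

theorem mem_ns {n k : ℕ} (h1 : n = 240 * k) (h2 : k % 5 = 1) (h3 : n ∣ 967680) : n ∈ ns := by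
  have h4 : k ∣ 4032 := by
    rw [h1] at h3
    exact Nat.dvd_of_mul_dvd_mul_left (k := 240) (by norm_num) (by norm_num; exact h3)
  have h5 : k ∈ Nat.divisors 4032 := Nat.mem_divisors.2 ⟨h4, by norm_num⟩
  have h6 : ∀ k ∈ Nat.divisors 4032, k % 5 = 1 → 240 * k ∈ ns := by decide +kernel
  rw [h1]
  exact h6 k h5 h2

theorem ns_le : ∀ n ∈ ns, n ≤ 483840 := by decide

/-- the values congruent to `r` modulo 20 -/
def rg (r : ℤ) : List ℤ := (List.range 81).map fun i : ℕ => 20 * ((i : ℤ) - 40) + r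

theorem mem_rg {x r : ℤ} {n : ℕ} (hr : 0 ≤ r) (hr' : r < 20) (hx : x % 20 = r)
    (h : x ^ 2 ≤ n) (hn : n ≤ 483840) : x ∈ rg r := by
  have hn' : (n : ℤ) ≤ 483840 := by exact_mod_cast hn
  have h1 : x < 700 := by nlinarith
  have h2 : -700 < x := by nlinarith
  rw [rg, List.mem_map]
  exact ⟨(x / 20 + 40).toNat, by rw [List.mem_range]; omega, by omega⟩

/-- the quadratic form of the pair formula -/
def F (a b c d : ℤ) : ℤ := 127512 - 23 * (a * a) - 63 * (b * b) + 72 * (c * c) + 22 * (d * d)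

/-- first test -/
def c1 (n idx v b f : ℤ) : Bool :=
  decide (n < 1 + v * v + b * b + 2 * (f * f)) || (idx * v) % 1035 != 0 || (idx * f) % 990 != 0

/-- second test -/
def c2 (n idx x : ℤ) : Bool := decide (n < x * x) || (idx * x) % 5544 != 0

/-- third test -/
def c3 (n idx v b f x z w : ℤ) : Bool :=
  decide (n < z * z) || (idx * z) % 1771 != 0 || (idx * w) % 5796 != 0 ||
    decide (n < 1 + x * x + b * b + z * z + w * w + v * v + 2 * (f * f)) ||
    decide (170229045 * (n - (1 + x * x + b * b + z * z + w * w + v * v + 2 * (f * f))) <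
      (1 + 5544 * x + 2024 * b + 1771 * z + 5796 * w + 1035 * v + 1980 * f) *
      (1 + 5544 * x + 2024 * b + 1771 * z + 5796 * w + 1035 * v + 1980 * f)) ||
    (List.range 13).all fun k => (k * n : ℤ) * (k * n) != 4608 * F x b z w

/-- the index -/
def ix (n : ℕ) : ℤ := ((244823040 / n : ℕ) : ℤ)

/-- the search -/
def search : Bool :=
  ns.all fun n => (rg 15).all fun v => c1 n (ix n) v (2 * v - 46) (v - 45) ||
    (rg 4).all fun x => c2 n (ix n) x || (rg 11).all fun z =>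
      c3 n (ix n) v (2 * v - 46) (v - 45) x z (x + (2 * v - 46) - 1 - z)

theorem search_true : search = true := by decide +kernel

/-- The conclusion of the search. -/
theorem search_spec {n k : ℕ} {x z w v b f : ℤ} (hn : n ∈ ns)
    (hv : v % 20 = 15) (hb : b = 2 * v - 46)
    (hf : f = v - 45) (hx : x % 20 = 4) (hz : z % 20 = 11) (hrel : w = x + b - 1 - z)
    (h1035 : 1035 ∣ ix n * v) (h990 : 990 ∣ ix n * f) (h5544 : 5544 ∣ ix n * x)
    (h1771 : 1771 ∣ ix n * z) (h5796 : 5796 ∣ ix n * w)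
    (hnorm : 1 + x ^ 2 + b ^ 2 + z ^ 2 + w ^ 2 + v ^ 2 + 2 * f ^ 2 ≤ n)
    (hgram : (1 + 5544 * x + 2024 * b + 1771 * z + 5796 * w + 1035 * v + 1980 * f) ^ 2 ≤
      170229045 * (n - (1 + x ^ 2 + b ^ 2 + z ^ 2 + w ^ 2 + v ^ 2 + 2 * f ^ 2)))
    (hk : k ≤ 12) (hpair : ((k : ℤ) * n) ^ 2 = 4608 * F x b z w) : False := by
  have hle := ns_le n hn
  have hs0 : 0 ≤ x ^ 2 := sq_nonneg x
  have hs1 : 0 ≤ b ^ 2 := sq_nonneg b
  have hs2 : 0 ≤ z ^ 2 := sq_nonneg z
  have hs3 : 0 ≤ w ^ 2 := sq_nonneg w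
  have hs4 : 0 ≤ v ^ 2 := sq_nonneg v
  have hs5 : 0 ≤ f ^ 2 := sq_nonneg f
  have hvr : v ∈ rg 15 := mem_rg (by norm_num) (by norm_num) hv (n := n) (by linarith) hle
  have hxr : x ∈ rg 4 := mem_rg (by norm_num) (by norm_num) hx (n := n) (by linarith) hle
  have hzr : z ∈ rg 11 := mem_rg (by norm_num) (by norm_num) hz (n := n) (by linarith) hle
  have h0 := search_true
  unfold search at h0
  have h1 := List.all_eq_true.1 (List.all_eq_true.1 h0 n hn) v hvr
  rw [← hb, ← hf] at h1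
  have e1 : c1 n (ix n) v b f = false := by
    simp only [c1, Bool.or_eq_false_iff, decide_eq_false_iff_not, bne_eq_false_iff_eq]
    refine ⟨⟨?_, Int.emod_eq_zero_of_dvd h1035⟩, Int.emod_eq_zero_of_dvd h990⟩
    rw [← pow_two, ← pow_two, ← pow_two]
    linarith
  rw [e1, Bool.false_or] at h1
  have h2 := List.all_eq_true.1 h1 x hxr
  have e2 : c2 n (ix n) x = false := by
    simp only [c2, Bool.or_eq_false_iff, decide_eq_false_iff_not, bne_eq_false_iff_eq]
    refine ⟨?_, Int.emod_eq_zero_of_dvd h5544⟩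
    rw [← pow_two]
    linarith
  rw [e2, Bool.false_or] at h2
  have h3 := List.all_eq_true.1 h2 z hzr
  rw [← hrel] at h3
  simp only [c3, ← pow_two, Bool.or_eq_true, decide_eq_true_eq, bne_iff_ne, ne_eq] at h3
  rcases h3 with ((((h3 | h3) | h3) | h3) | h3) | h3
  · linarith
  · exact h3 (Int.emod_eq_zero_of_dvd h1771)
  · exact h3 (Int.emod_eq_zero_of_dvd h5796)
  · linarith
  · linarith
  · have h4 := List.all_eq_true.1 h3 k (List.mem_range.2 (by omega))
    rw [bne_iff_ne] at h4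
    exact h4 hpair

/-- The second line. -/
theorem line_two {n : ℕ} {v b : ℤ} (hn : n ∈ ns) (hv : v % 20 = 15)
    (h : 90 * v - 47 * b + 1978 = 0) (h1035 : 1035 ∣ ix n * v) (hnorm : v ^ 2 + b ^ 2 ≤ n) :
    False := by
  have hle' : (n : ℤ) ≤ 483840 := by exact_mod_cast ns_le n hn
  have h1 : v < 700 := by nlinarith [sq_nonneg b]
  have h2 : -700 < v := by nlinarith [sq_nonneg b]
  have h3 : v = 95 ∧ b = 224 := by omega
  obtain ⟨rfl, rfl⟩ := h3
  have h6 : 59201 ≤ (n : ℤ) := by linarith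
  have h7 : (ns.all fun n => decide (n < 59201) || (ix n * 95) % 1035 != 0) = true := by
    decide +kernel
  have h10 := List.all_eq_true.1 h7 n hn
  simp only [Bool.or_eq_true, decide_eq_true_eq, bne_iff_ne, ne_eq] at h10
  rcases h10 with h10 | h10
  · omega
  · exact h10 (Int.emod_eq_zero_of_dvd h1035)

/-! ### No central involution -/

variable {G : Type u} [Group G] [Finite G] [IsSimpleGroup G] (H : Hyp G)

include H

/-- Characters of degree divisible by `5` at elements commuting with a Sylow 5-subgroup. -/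
theorem five_dvd {R : Sylow 5 G} {M : Ideal AlgInt} (hM : IsPModular 5 M) {t : G}
    {v : IrrCharacter G → ℤ} (h : Column t v) (ht : t ∈ centralizer (R : Set G))
    {χ : IrrCharacter G} (hχ : 5 ∣ dg χ) : (5 : ℤ) ∣ v χ := by
  have h5p : Fact (Nat.Prime 5) := ⟨by norm_num⟩
  exact ElevenTwelve.dvd_of_dvd_degree (card_five H R) hM (by rw [H.hcard]; norm_num)
    (by rw [H.hcard]; norm_num) ht (h.not_dvd (by norm_num) (by norm_num)) hχ (h.val χ)

set_option maxHeartbeats 1000000 in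
/-- No involution of `K` is central in `N(R)`. -/
theorem not_central {R : Sylow 5 G} {K : Subgroup G} {M : Ideal AlgInt}
    {B : Finset (IrrCharacter G)} {ε : IrrCharacter G → ℤ} {a b c d : IrrCharacter G}
    (h5 : B5 R K M B ε a b c d) (hk : Nat.card K = 12) {S : Sylow 7 G} {K' : Subgroup G}
    {M' : Ideal AlgInt} {D : BlockData 7 M' S 3 2} {a' : IrrCharacter G}
    (h7 : B7three S K' M' D a' b) {t : G} (ht : t ∈ K) (ht1 : t ≠ 1) (ht2 : t * t = 1) :
    ¬ normalizer (R : Set G) ≤ centralizer ({t} : Set G) := by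
  classical
  intro hN
  have h5p : Fact (Nat.Prime 5) := ⟨by norm_num⟩
  have h7p : Fact (Nat.Prime 7) := ⟨by norm_num⟩
  have hR := card_five H R
  obtain ⟨v, hv⟩ := exists_col H.hcomm ht2 ht1
  have htC : t ∈ centralizer (R : Set G) := ((h5.loc.loc.mem_iff t).1 ht).1
  obtain ⟨hdc, hdd⟩ : dg c = 1771 ∧ dg d = 5796 := by
    rcases h5.dg_cd with ⟨-, -, h⟩ | ⟨h, h', -⟩
    · omega
    · exact ⟨h, h'⟩
  -- the order of the centraliser
  set n := Nat.card (centralizer ({t} : Set G)) with hn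
  obtain ⟨k, hk1, hk2⟩ := KFiveLocal.card_centralizer_eq R htC
  rw [inf_of_le_left hN, h5.loc.loc.card_normalizer, hk, ← hn] at hk2
  have hns : n ∈ ns := mem_ns hk2 hk1 (card_dvd H hv)
  have hidx : ((centralizer ({t} : Set G)).index : ℤ) = ix n := by
    have h1 := (centralizer ({t} : Set G)).card_mul_index
    rw [← hn, H.hcard] at h1
    unfold ix
    rw [← h1, Nat.mul_div_cancel_left _ Nat.card_pos]
  -- congruences
  have hnt : ∀ χ : IrrCharacter G, dg χ ≠ 1 → χ ≠ tr G := by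
    rintro χ h rfl
    exact h dg_tr
  obtain ⟨Θ, Θ', hΘΘ, hX⟩ := Finset.card_eq_two.1 D.card_X
  have hΘ : Θ ∈ D.X := by rw [hX]; simp
  have hΘ' : Θ' ∈ D.X := by rw [hX]; simp
  have dΘ : dg Θ = 990 := by
    have := D.deg_X Θ hΘ
    rw [h7.f_eq] at this; exact this
  have dΘ' : dg Θ' = 990 := by
    have := D.deg_X Θ' hΘ'
    rw [h7.f_eq] at this; exact this
  have hx4 := hv.mod4 a (hnt a (by rw [h5.dg_a]; norm_num))
  have hb4 := hv.mod4 b (hnt b (by rw [h5.dg_b]; norm_num))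
  have hz4 := hv.mod4 c (hnt c (by rw [hdc]; norm_num))
  have hv4 := hv.mod4 a' (hnt a' (by rw [h7.dg_a]; norm_num))
  have hf4 := hv.mod4 Θ (hnt Θ (by rw [dΘ]; norm_num))
  have hB : ∀ χ ∈ B, v χ ≡ ε χ [ZMOD 5] := fun χ hχ =>
    h5.loc.toFlat.val_modEq hR hχ htC (hv.not_dvd (by norm_num) (by norm_num)) (hv.val χ)
  have hx5 := hB a ((h5.mem a).2 (by simp))
  have hb5 := hB b ((h5.mem b).2 (by simp))
  have hz5 := hB c ((h5.mem c).2 (by simp))
  rw [h5.ε_a] at hx5
  rw [h5.ε_b] at hb5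
  rw [h5.ε_c] at hz5
  have hv5 := five_dvd H h5.loc.modular hv htC (χ := a') (by rw [h7.dg_a]; norm_num)
  have hf5 := five_dvd H h5.loc.modular hv htC (χ := Θ) (by rw [dΘ]; norm_num)
  rw [h5.dg_a] at hx4
  rw [h5.dg_b] at hb4
  rw [hdc] at hz4
  rw [h7.dg_a] at hv4
  rw [dΘ] at hf4
  -- relations
  have hfr := seven_rel h7 hv hΘ
  have hfr' := seven_rel h7 hv hΘ'
  have hrel := five_rel h5 hv
  -- norm and Gram
  have hnd : [tr G, a, b, c, d, a', Θ, Θ'].Nodup := by
    have hne : ∀ χ ψ : IrrCharacter G, dg χ ≠ dg ψ → χ ≠ ψ := by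
      rintro χ _ h rfl; exact h rfl
    simp only [List.nodup_cons, List.mem_cons, List.not_mem_nil, or_false, not_or,
      List.nodup_nil, and_true, not_false_eq_true]
    refine ⟨⟨hne _ _ ?_, hne _ _ ?_, hne _ _ ?_, hne _ _ ?_, hne _ _ ?_, hne _ _ ?_,
      hne _ _ ?_⟩, ⟨hne _ _ ?_, hne _ _ ?_, hne _ _ ?_, hne _ _ ?_, hne _ _ ?_, hne _ _ ?_⟩,
      ⟨hne _ _ ?_, hne _ _ ?_, hne _ _ ?_, hne _ _ ?_, hne _ _ ?_⟩,
      ⟨hne _ _ ?_, hne _ _ ?_, hne _ _ ?_, hne _ _ ?_⟩,
      ⟨hne _ _ ?_, hne _ _ ?_, hne _ _ ?_⟩, ⟨hne _ _ ?_, hne _ _ ?_⟩, hΘΘ⟩ <;>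
    simp only [dg_tr, h5.dg_a, h5.dg_b, hdc, hdd, h7.dg_a, dΘ, dΘ'] <;> norm_num
  have hnorm := hv.norm_list hnd
  have hgram := Gram.gram_list hv hnd
  simp only [List.map_cons, List.map_nil, List.sum_cons, List.sum_nil, add_zero, hv.v_tr,
    dg_tr, h5.dg_a, h5.dg_b, hdc, hdd, h7.dg_a, dΘ, dΘ', H.hcard, ← hn, hfr, hfr'] at hnorm hgram
  push_cast at hnorm hgram
  -- the pair formula
  obtain ⟨k', hk'1, hk'2, -, -, -⟩ := five_pair h5
  have hpair := hk'1 t t v v hv hv
  have hle := hk'2 t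
  rw [hk] at hle
  have hpair' : ((k' t : ℤ) * n) ^ 2 = 4608 * F (v a) (v b) (v c) (v d) := by
    have h1 := (centralizer ({t} : Set G)).card_mul_index
    rw [← hn, H.hcard] at h1
    have h1' : (n : ℚ) * ((centralizer ({t} : Set G)).index : ℚ) = 244823040 := by
      exact_mod_cast h1
    rw [H.hcard, hk, hdc, hdd] at hpair
    have h2 : (((k' t : ℚ) * n) ^ 2 : ℚ) = 4608 * F (v a) (v b) (v c) (v d) := by
      have h3 : (5 * ((k' t : ℚ) * n) ^ 2) * 244823040 =
          (5 * (4608 * F (v a) (v b) (v c) (v d)) : ℚ) * 244823040 := by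
        unfold F
        push_cast at hpair ⊢
        calc (5 * ((k' t : ℚ) * n) ^ 2) * 244823040
            = (5 * ((k' t : ℚ) * k' t) * 244823040) * n ^ 2 := by ring
          _ = ((n : ℚ) * ((centralizer ({t} : Set G)).index : ℚ)) *
              ((n : ℚ) * ((centralizer ({t} : Set G)).index : ℚ)) * 12 *
              (1 - (v a * v a : ℚ) / 5544 - (v b * v b : ℚ) / 2024 + (v c * v c : ℚ) / 1771 +
                (v d * v d : ℚ) / 5796) := by rw [hpair]; ring
          _ = _ := by rw [h1']; ring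
      have h4 := mul_right_cancel₀ (by norm_num : (244823040 : ℚ) ≠ 0) h3
      exact mul_left_cancel₀ (by norm_num : (5 : ℚ) ≠ 0) h4
    exact_mod_cast h2
  have hdvd := hv.dvd
  rw [hidx] at hdvd
  have d1 := hdvd a'
  have d2 := hdvd Θ
  have d3 := hdvd a
  have d4 := hdvd c
  have d5 := hdvd d
  rw [h7.dg_a] at d1
  rw [dΘ] at d2
  rw [h5.dg_a] at d3
  rw [hdc] at d4
  rw [hdd] at d5
  unfold Int.ModEq at hx5 hb5 hz5
  rcases seven_lines H h7 hv with h | h
  · refine search_spec (v := v a') (b := v b) (f := v Θ) (x := v a) (z := v c) (w := v d)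
      (k := k' t) hns (by omega) (by omega) (by omega) (by omega) (by omega) (by omega)
      d1 d2 d3 d4 d5 ?_ ?_ hle hpair'
    · rw [hfr]; linarith
    · rw [hfr]; linarith
  · refine line_two (v := v a') (b := v b) hns (by omega) h d1 ?_
    have e1 := sq_nonneg (v a)
    have e2 := sq_nonneg (v c)
    have e3 := sq_nonneg (v d)
    have e4 := sq_nonneg (1 - v a' + v b)
    linarith

/-- `K ≅ A₄`. -/
theorem alternating {R : Sylow 5 G} {K : Subgroup G} {M : Ideal AlgInt}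
    {B : Finset (IrrCharacter G)} {ε : IrrCharacter G → ℤ} {a b c d : IrrCharacter G}
    (h5 : B5 R K M B ε a b c d) (hk : Nat.card K = 12) {S : Sylow 7 G} {K' : Subgroup G}
    {M' : Ideal AlgInt} {D : BlockData 7 M' S 3 2} {a' : IrrCharacter G}
    (h7 : B7three S K' M' D a' b) {u : G} (hu : u ∈ K) (hu1 : u ≠ 1) (hu2 : u * u = 1)
    (hc : Nat.card (centralizer ({u} : Set G)) = 7680) :
    Nonempty (K ≃* alternatingGroup (Fin 4)) :=
  KFiveLocal.alternating h5.loc.loc (card_five H R) hk hu hu1 hu2 hc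
    fun _ ht ht1 ht2 => not_central H h5 hk h7 ht ht1 ht2

end Cfsg.Agent.SporadicA.M24.KFive
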