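import Cfsg.Agent.SporadicA.M24.InvolEleven

/-!
# `|K| ∈ {12, 192}`, `K` the complement of a Sylow 5-subgroup in its centralizer

`card_K` : in the situation of `B5` (principal 5-block) the degrees are `1771`, `5796` and
`|K| ∈ {12, 192}`. Proof: values of the principal 5-block at the involution `u` of
`InvolEleven.exists_invol`, `|C(u)| ≤ 15646`, the relation and the pair formula.
-/

set_option autoImplicit false
set_option linter.unusedSectionVars false

open Cfsg Subgroup
open Cfsg.Agent.Characters.Core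
open Cfsg.Agent.SmallSimple
open Cfsg.Agent.SmallSimple.FlatBlock
open Cfsg.Agent.M23Order.Base
open Cfsg.Agent.SporadicA.M24.Setup Cfsg.Agent.SporadicA.M24.Seven

namespace Cfsg.Agent.SporadicA.M24.KillThree

universe u

/-- integer square root -/
def sq : ℕ → ℕ → ℕ → ℕ
  | 0, _, r => r
  | b + 1, n, r => if (r + 2 ^ b) * (r + 2 ^ b) ≤ n then sq b n (r + 2 ^ b) else sq b n r

/-- the test for one value of the quadratic form -/
def chk (R K : ℕ) (F : ℤ) (nrm : ℕ) : Bool :=
  decide (15646 < nrm) || decide (F < 0) ||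
    (let N := R * F.toNat
     let n := sq 20 N 0
     decide (n * n ≤ N) && decide (N < (n + 1) * (n + 1)) &&
      (n * n != N || (n != 0 && (List.range (K + 1)).all fun k => k == 0 || n % k != 0 ||
        (let c := n / k
         decide (15646 < c) || c % 10 != 0 || 244823040 % c != 0 || decide (c < nrm)))))

theorem chk_spec {R K : ℕ} (hR0 : 0 < R) {F : ℤ} {nrm : ℕ} (h : chk R K F nrm = true) {c k : ℕ}
    (hc1 : nrm ≤ c) (hc2 : c ≤ 15646) (hc3 : 10 ∣ c) (hc4 : c ∣ 244823040) (hk : k ≤ K)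
    (h1 : ((k : ℤ) * c) ^ 2 = R * F) : False := by
  have hc0 : 0 < c := Nat.pos_of_dvd_of_pos hc4 (by norm_num)
  have hR : 0 ≤ (R : ℤ) * F := by rw [← h1]; positivity
  have hF : 0 ≤ F := nonneg_of_mul_nonneg_right hR (by exact_mod_cast hR0)
  have h2 : (k * c) * (k * c) = R * F.toNat := by
    have h3 : ((F.toNat : ℕ) : ℤ) = F := Int.toNat_of_nonneg hF
    have h4 : (((k * c) * (k * c) : ℕ) : ℤ) = ((R * F.toNat : ℕ) : ℤ) := by
      push_cast
      rw [h3, ← h1]; ring
    exact_mod_cast h4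
  simp only [chk, Bool.or_eq_true, decide_eq_true_eq, Bool.and_eq_true, bne_iff_ne, ne_eq,
    List.all_eq_true, List.mem_range, beq_iff_eq] at h
  rcases h with (h | h) | ⟨⟨h3, h4⟩, h5⟩
  · omega
  · omega
  · generalize sq 20 (R * F.toNat) 0 = n at h3 h4 h5
    rw [← h2] at h3 h4 h5
    have e1 : n ≤ k * c := Nat.mul_self_le_mul_self_iff.1 h3
    have e2 : k * c < n + 1 := Nat.mul_self_lt_mul_self_iff.1 h4
    have e3 : n = k * c := by omega
    rcases h5 with h5 | ⟨h5, h6⟩
    · exact h5 (by rw [e3])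
    · have hk0 : k ≠ 0 := by
        rintro rfl
        rw [zero_mul] at e3
        exact h5 e3
      have e4 : n / k = c := by
        rw [e3]; exact Nat.mul_div_cancel_left c (Nat.pos_of_ne_zero hk0)
      have e5 : n % k = 0 := by rw [e3]; exact Nat.mul_mod_right k c
      have h7 := h6 k (by omega)
      rw [e4, e5] at h7
      rcases h7 with (h7 | h7) | (((h7 | h7) | h7) | h7)
      · exact hk0 h7
      · exact h7 rfl
      · omega
      · exact h7 (Nat.mod_eq_zero_of_dvd hc3)
      · exact h7 (Nat.mod_eq_zero_of_dvd hc4)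
      · omega

/-- the values of the variables -/
def rng (r : ℤ) : List ℤ := (List.range 14).map fun i : ℕ => 20 * ((i : ℤ) - 7) + r

theorem mem_rng {r x : ℤ} (hr : 0 ≤ r) (hr' : r < 20) (hx : x % 20 = r) (h : x ^ 2 ≤ 15646) :
    x ∈ rng r := by
  have h1 : x < 126 := by nlinarith
  have h2 : -126 < x := by nlinarith
  rw [rng, List.mem_map]
  refine ⟨(x / 20 + 7).toNat, ?_, ?_⟩
  · rw [List.mem_range]; omega
  · omega

/-- the first case: degrees `5544, 2024, 1771, 5796` -/
def F₁ (a b c d : ℤ) : ℤ := 127512 - 23 * (a * a) - 63 * (b * b) + 72 * (c * c) + 22 * (d * d)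

/-- the second case: degrees `5544, 2024, 736, 6831` -/
def F₂ (a b c d : ℤ) : ℤ :=
  1530144 - 276 * (a * a) - 756 * (b * b) + 2079 * (c * c) + 224 * (d * d)

/-- the norm -/
def nrm (a b c d : ℤ) : ℕ := (1 + a * a + b * b + c * c + d * d).toNat

/-- the search -/
def search (R K : ℕ) (F : ℤ → ℤ → ℤ → ℤ → ℤ) (r : ℤ) : Bool :=
  (rng 4).all fun a => (rng 4).all fun b => (rng r).all fun c =>
    chk R K (F a b c (a + b - c - 1)) (nrm a b c (a + b - c - 1))

theorem search1 : search 768 2 F₁ 11 = true := by decide +kernel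
theorem search2 : search 12288 32 F₁ 11 = true := by decide +kernel
theorem search3 : search 64 2 F₂ 16 = true := by decide +kernel
theorem search4 : search 1024 32 F₂ 16 = true := by decide +kernel

theorem search_spec {R K : ℕ} {F : ℤ → ℤ → ℤ → ℤ → ℤ} {r : ℤ} (hR : 0 < R)
    (h : search R K F r = true) (hr : 0 ≤ r) (hr' : r < 20) {a b x y : ℤ} {c k : ℕ}
    (ha : a % 20 = 4) (hb : b % 20 = 4) (hx : x % 20 = r) (hrel : 1 - a - b + x + y = 0)
    (hn : 1 + a ^ 2 + b ^ 2 + x ^ 2 + y ^ 2 ≤ c) (hc2 : c ≤ 15646) (hc3 : 10 ∣ c)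
    (hc4 : c ∣ 244823040) (hk : k ≤ K) (h1 : ((k : ℤ) * c) ^ 2 = R * F a b x y) : False := by
  have hy : y = a + b - x - 1 := by linarith
  have hc : (c : ℤ) ≤ 15646 := by exact_mod_cast hc2
  have e1 := mem_rng (by norm_num) (by norm_num) ha (by nlinarith [sq_nonneg b, sq_nonneg x, sq_nonneg y])
  have e2 := mem_rng (by norm_num) (by norm_num) hb (by nlinarith [sq_nonneg a, sq_nonneg x, sq_nonneg y])
  have e3 := mem_rng hr hr' hx (by nlinarith [sq_nonneg b, sq_nonneg a, sq_nonneg y])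
  have h2 := List.all_eq_true.1 (List.all_eq_true.1 (List.all_eq_true.1 h a e1) b e2) x e3
  rw [← hy] at h2
  refine chk_spec hR h2 ?_ hc2 hc3 hc4 hk h1
  unfold nrm
  have h3 : 1 + a * a + b * b + x * x + y * y ≤ c := by nlinarith
  omega

variable {G : Type u} [Group G] [Finite G] [IsSimpleGroup G]

/-- `|K| ∈ {12, 192}`. -/
theorem card_K (H : Hyp G) {R : Sylow 5 G} {K : Subgroup G} {M : Ideal AlgInt}
    {B : Finset (IrrCharacter G)} {ε : IrrCharacter G → ℤ} {a b c d : IrrCharacter G}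
    (h : B5 R K M B ε a b c d) :
    dg c = 1771 ∧ dg d = 5796 ∧ (Nat.card K = 12 ∨ Nat.card K = 192) := by
  classical
  have h5 : Fact (Nat.Prime 5) := ⟨by norm_num⟩
  obtain ⟨u, hu2, hu1, huR, h10, hle, -⟩ := InvolEleven.exists_invol H R
  have hR : Nat.card R = 5 := by
    refine Simple168Max.card_sylow_eq_prime R ?_ ?_ <;> rw [H.hcard] <;> norm_num
  have hou : ¬ 5 ∣ orderOf u := by
    intro h1
    have h2 := h1.trans (orderOf_dvd_of_pow_eq_one hu2)
    omega
  have hB : B = [tr G, a, b, c, d].toFinset := by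
    ext χ; rw [h.mem, List.mem_toFinset]
  have hsum : ∀ F : IrrCharacter G → ℂ, ∑ χ ∈ B, F χ = F (tr G) + (F a + (F b + (F c + F d))) := by
    intro F
    rw [hB, List.sum_toFinset F h.nodup]
    simp
  have hnt : ∀ χ ∈ [a, b, c, d], χ ≠ tr G := by
    rintro χ hχ rfl
    exact (List.nodup_cons.1 h.nodup).1 hχ
  have hval : ∀ χ ∈ [a, b, c, d], ∃ z : ℤ, (χ : G → ℂ) u = z ∧ (4 : ℤ) ∣ dg χ - z ∧
      z ≡ ε χ [ZMOD 5] := by
    intro χ hχ
    have h1 : (χ : G → ℂ) ≠ 1 := fun h' => hnt χ hχ (Subtype.ext h')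
    obtain ⟨z, hz, -, hz4⟩ := InvolColumn.exists_int H.hcomm χ.2 h1 hu2 hu1
    exact ⟨z, hz, hz4, h.loc.toFlat.val_modEq hR ((h.mem χ).2 (List.mem_cons_of_mem _ hχ)) huR
      hou hz⟩
  obtain ⟨x, hx, hx4, hx5⟩ := hval a (by simp)
  obtain ⟨y, hy, hy4, hy5⟩ := hval b (by simp)
  obtain ⟨z, hz, hz4, hz5⟩ := hval c (by simp)
  obtain ⟨w, hw, hw4, hw5⟩ := hval d (by simp)
  rw [h.ε_a] at hx5
  rw [h.ε_b] at hy5
  rw [h.ε_c] at hz5
  rw [h.ε_d] at hw5
  rw [h.dg_a] at hx4
  rw [h.dg_b] at hy4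
  have hx20 : x % 20 = 4 := by unfold Int.ModEq at hx5; omega
  have hy20 : y % 20 = 4 := by unfold Int.ModEq at hy5; omega
  have ht : (tr G : G → ℂ) = 1 := rfl
  have hrel : 1 - x - y + z + w = 0 := by
    have h1 := h.loc.toFlat.rel u hou
    rw [hsum, h.loc.toFlat.ε_one, h.ε_a, h.ε_b, h.ε_c, h.ε_d, hx, hy, hz, hw, ht] at h1
    have h2 : ((1 - x - y + z + w : ℤ) : ℂ) = 0 := by
      rw [← h1]; push_cast; simp; ring
    exact_mod_cast h2
  set n := Nat.card (centralizer ({u} : Set G)) with hn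
  have hnorm : 1 + x ^ 2 + y ^ 2 + z ^ 2 + w ^ 2 ≤ n := by
    let f : IrrCharacter G → ℤ := fun χ => if χ = tr G then 1 else if χ = a then x else
      if χ = b then y else if χ = c then z else w
    have hnd := h.nodup
    simp only [List.nodup_cons, List.mem_cons, List.not_mem_nil, or_false, not_or,
      List.nodup_nil, and_true, not_false_eq_true] at hnd
    obtain ⟨⟨n1, n2, n3, n4⟩, ⟨n5, n6, n7⟩, ⟨n8, n9⟩, n10⟩ := hnd
    have h1 := InvolColumn.sum_sq_le B u f (by
      intro χ hχ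
      rw [h.mem] at hχ
      simp only [List.mem_cons, List.not_mem_nil, or_false] at hχ
      rcases hχ with rfl | rfl | rfl | rfl | rfl
      · simp [f, ht]
      · simp [f, Ne.symm n1, hx]
      · simp [f, Ne.symm n2, Ne.symm n5, hy]
      · simp [f, Ne.symm n3, Ne.symm n6, Ne.symm n8, hz]
      · simp [f, Ne.symm n4, Ne.symm n7, Ne.symm n9, Ne.symm n10, hw])
    refine le_trans (le_of_eq ?_) h1
    have h2 : ∀ F : IrrCharacter G → ℤ, ∑ χ ∈ B, F χ = F (tr G) + (F a + (F b + (F c + F d))) := by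
      intro F
      rw [hB, List.sum_toFinset F h.nodup]
      simp
    rw [h2]
    simp only [f, if_true, if_neg (Ne.symm n1), if_neg (Ne.symm n2), if_neg (Ne.symm n3),
      if_neg (Ne.symm n4), if_neg (Ne.symm n5), if_neg (Ne.symm n6), if_neg (Ne.symm n7),
      if_neg (Ne.symm n8), if_neg (Ne.symm n9), if_neg (Ne.symm n10)]
    ring
  obtain ⟨k, hk1, hk2, -, -, -⟩ := h.loc.pair
  have hidx := card_mul_index (centralizer ({u} : Set G))
  rw [← hn, H.hcard] at hidx
  have hdvd : n ∣ 244823040 := ⟨_, hidx.symm⟩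
  have hpair := hk1 u u (by rw [← pow_two]; exact hu2) (by rw [← pow_two]; exact hu2)
  rw [hsum, h.loc.toFlat.ε_one, h.ε_a, h.ε_b, h.ε_c, h.ε_d, hx, hy, hz, hw, ht, H.hcard, dg_eq a,
    dg_eq b, dg_eq c, dg_eq d, h.dg_a, h.dg_b] at hpair
  have hidx' : (n : ℂ) * ((centralizer ({u} : Set G)).index : ℂ) = 244823040 := by
    exact_mod_cast hidx
  have hn0 : (n : ℂ) ≠ 0 := by
    exact_mod_cast (Nat.card_pos (α := centralizer ({u} : Set G))).ne'
  have key : ∀ S : ℂ, ((5 : ℕ) * (k u * k u) : ℂ) * ((244823040 : ℕ) : ℂ) =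
      (centralizer ({u} : Set G)).index * (centralizer ({u} : Set G)).index * Nat.card K * S →
      5 * ((k u : ℂ) * n) ^ 2 = 244823040 * Nat.card K * S := by
    intro S hS
    have h1 : (5 * ((k u : ℂ) * n) ^ 2) * 244823040 =
        (244823040 * Nat.card K * S) * 244823040 := by
      calc (5 * ((k u : ℂ) * n) ^ 2) * 244823040 =
          (((5 : ℕ) * (k u * k u) : ℂ) * ((244823040 : ℕ) : ℂ)) * n ^ 2 := by push_cast; ring
        _ = ((centralizer ({u} : Set G)).index * (centralizer ({u} : Set G)).index *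
            Nat.card K * S) * n ^ 2 := by rw [hS]
        _ = (n * ((centralizer ({u} : Set G)).index : ℂ)) *
            (n * ((centralizer ({u} : Set G)).index : ℂ)) * Nat.card K * S := by ring
        _ = _ := by rw [hidx']; ring
    exact mul_right_cancel₀ (by norm_num) h1
  have hpair' := key _ hpair
  rcases h.dg_cd with ⟨hc, hd, hK⟩ | ⟨hc, hd, hK⟩
  · exfalso
    rw [hc] at hz4 hpair'
    rw [hd] at hw4 hpair'
    have hz20 : z % 20 = 16 := by unfold Int.ModEq at hz5; omega
    have hform : (((k u : ℤ) * n) ^ 2 : ℤ) = 32 * Nat.card K * F₂ x y z w := by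
      have h1 : ((((k u : ℤ) * n) ^ 2 : ℤ) : ℂ) = ((32 * Nat.card K * F₂ x y z w : ℤ) : ℂ) := by
        have h2 : (5 : ℂ) * ((k u : ℂ) * n) ^ 2 = 5 * (32 * Nat.card K *
            (1530144 - 276 * (x * x) - 756 * (y * y) + 2079 * (z * z) + 224 * (w * w))) := by
          rw [hpair']
          simp only [Pi.one_apply]
          push_cast
          ring
        unfold F₂
        push_cast
        exact mul_left_cancel₀ (by norm_num) h2
      exact_mod_cast h1
    rcases hK with hK | hK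
    · rw [hK] at hform
      exact search_spec (by norm_num) search3 (by norm_num) (by norm_num) hx20 hy20 hz20 hrel
        hnorm hle h10 hdvd (hK ▸ hk2 u) (by rw [hform]; norm_num)
    · rw [hK] at hform
      exact search_spec (by norm_num) search4 (by norm_num) (by norm_num) hx20 hy20 hz20 hrel
        hnorm hle h10 hdvd (hK ▸ hk2 u) (by rw [hform]; norm_num)
  · refine ⟨hc, hd, ?_⟩
    rw [hc] at hz4 hpair'
    rw [hd] at hw4 hpair'
    have hz20 : z % 20 = 11 := by unfold Int.ModEq at hz5; omega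
    have hform : (((k u : ℤ) * n) ^ 2 : ℤ) = 384 * Nat.card K * F₁ x y z w := by
      have h1 : ((((k u : ℤ) * n) ^ 2 : ℤ) : ℂ) = ((384 * Nat.card K * F₁ x y z w : ℤ) : ℂ) := by
        have h2 : (5 : ℂ) * ((k u : ℂ) * n) ^ 2 = 5 * (384 * Nat.card K *
            (127512 - 23 * (x * x) - 63 * (y * y) + 72 * (z * z) + 22 * (w * w))) := by
          rw [hpair']
          simp only [Pi.one_apply]
          push_cast
          ring
        unfold F₁
        push_cast
        exact mul_left_cancel₀ (by norm_num) h2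
      exact_mod_cast h1
    rcases hK with hK | hK | hK | hK
    · exfalso
      rw [hK] at hform
      exact search_spec (by norm_num) search1 (by norm_num) (by norm_num) hx20 hy20 hz20 hrel
        hnorm hle h10 hdvd (hK ▸ hk2 u) (by rw [hform]; norm_num)
    · exact Or.inl hK
    · exfalso
      rw [hK] at hform
      exact search_spec (by norm_num) search2 (by norm_num) (by norm_num) hx20 hy20 hz20 hrel
        hnorm hle h10 hdvd (hK ▸ hk2 u) (by rw [hform]; norm_num)
    · exact Or.inr hK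

end Cfsg.Agent.SporadicA.M24.KillThree
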