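import Cfsg.Agent.SmallSimple.PrimeLocal
import Cfsg.Agent.SmallSimple.Order5040
import Cfsg.Agent.SmallSimple.BlockIndex

/-!
# Conjugates of an involution in the complement of the centralizer of a Sylow subgroup

`P` of order `p`, `t` commuting with `P`:

* `relIndex_modEq` : `|C(t) : C(t) ∩ N(P)| ≡ 1` modulo `p`;
* `card_mul_relIndex` (T1) : `|C(t)| N_t = |N(P)| n`, `N_t = |N(P) : C(t) ∩ N(P)|`,
  `n = |C(t) : C(t) ∩ N(P)|`;
* `card_orbit` : `N_t` is the number of `N(P)`-conjugates of `t`;
* `relIndex_ne_four` : `N_t ≠ 4` if the complement has order 12.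
-/

set_option autoImplicit false
set_option linter.unusedSectionVars false

namespace Cfsg.Agent.SporadicA.M24.RowT1

open Cfsg Subgroup
open Cfsg.Agent.SmallSimple

universe u

variable {G : Type u} [Group G] [Finite G] {p : ℕ}

theorem le_centralizer {P : Sylow p G} {t : G} (ht : t ∈ centralizer (P : Set G)) :
    (P : Subgroup G) ≤ centralizer ({t} : Set G) := by
  intro x hx
  rw [mem_centralizer_singleton_iff]
  exact mem_centralizer_iff.1 ht x hx

theorem relIndex_modEq [Fact p.Prime] {P : Sylow p G} {t : G}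
    (ht : t ∈ centralizer (P : Set G)) :
    (normalizer (P : Set G)).relIndex (centralizer ({t} : Set G)) ≡ 1 [MOD p] := by
  have hle := le_centralizer ht
  have h1 := (P.subtype hle).card_eq_index_normalizer
  have h2 : normalizer ((P.subtype hle : Subgroup (centralizer ({t} : Set G))) :
      Set (centralizer ({t} : Set G))) =
      (normalizer (P : Set G)).subgroupOf (centralizer ({t} : Set G)) := by
    rw [Sylow.coe_subtype]
    exact (subgroupOf_normalizer_eq hle).symm
  have h3 := card_sylow_modEq_one p (centralizer ({t} : Set G))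
  rw [h1] at h3
  rw [relIndex, ← h2]
  exact h3

/-- **(T1)** -/
theorem card_mul_relIndex (P : Sylow p G) (t : G) :
    Nat.card (centralizer ({t} : Set G)) *
      (centralizer ({t} : Set G)).relIndex (normalizer (P : Set G)) =
    Nat.card (normalizer (P : Set G)) *
      (normalizer (P : Set G)).relIndex (centralizer ({t} : Set G)) := by
  set C := centralizer ({t} : Set G)
  set N := normalizer (P : Set G)
  have h1 : Nat.card (N ⊓ C : Subgroup G) * N.relIndex C = Nat.card C := by
    rw [← inf_relIndex_right]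
    exact card_mul_relIndex' inf_le_right
  have h2 : Nat.card (C ⊓ N : Subgroup G) * C.relIndex N = Nat.card N := by
    rw [← inf_relIndex_right]
    exact card_mul_relIndex' inf_le_right
  rw [← h1, ← h2, inf_comm]
  ring
where
  card_mul_relIndex' {H K : Subgroup G} (h : H ≤ K) : Nat.card H * H.relIndex K = Nat.card K := by
    rw [relIndex, ← Nat.card_congr (subgroupOfEquivOfLe h).toEquiv]
    exact card_mul_index _

/-- The orbit of `t` under conjugation by a subgroup. -/
theorem card_orbit (N : Subgroup G) (t : G) :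
    Nat.card {x : G // ∃ n ∈ N, n * t * n⁻¹ = x} = (centralizer ({t} : Set G)).relIndex N := by
  rw [relIndex, index]
  symm
  refine Nat.card_congr (Equiv.ofBijective
    (Quotient.lift (fun n : N => (⟨n * t * (n : G)⁻¹, n, n.2, rfl⟩ :
      {x : G // ∃ n ∈ N, n * t * n⁻¹ = x})) ?_) ⟨?_, ?_⟩)
  · intro a b hab
    apply Subtype.ext
    have h1 : (a⁻¹ * b : N) ∈ (centralizer ({t} : Set G)).subgroupOf N :=
      QuotientGroup.leftRel_apply.1 hab
    rw [mem_subgroupOf, mem_centralizer_singleton_iff] at h1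
    push_cast at h1
    show (a : G) * t * (a : G)⁻¹ = b * t * (b : G)⁻¹
    calc (a : G) * t * (a : G)⁻¹ = a * (t * ((a : G)⁻¹ * b)) * (b : G)⁻¹ := by group
      _ = a * (((a : G)⁻¹ * b) * t) * (b : G)⁻¹ := by rw [h1]
      _ = b * t * (b : G)⁻¹ := by group
  · intro x y
    induction x using Quotient.inductionOn
    induction y using Quotient.inductionOn
    rename_i a b
    intro h
    have h1 : (a : G) * t * (a : G)⁻¹ = b * t * (b : G)⁻¹ := congrArg Subtype.val h
    apply Quotient.sound
    refine QuotientGroup.leftRel_apply.2 ?_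
    rw [mem_subgroupOf, mem_centralizer_singleton_iff]
    push_cast
    calc (a : G)⁻¹ * b * t = (a : G)⁻¹ * (b * t * (b : G)⁻¹) * b := by group
      _ = (a : G)⁻¹ * (a * t * (a : G)⁻¹) * b := by rw [h1]
      _ = t * ((a : G)⁻¹ * b) := by group
  · rintro ⟨x, n, hn, rfl⟩
    exact ⟨Quotient.mk _ ⟨n, hn⟩, rfl⟩

/-- Conjugates of `t` under the normalizer stay in the complement. -/
theorem conj_mem {P : Sylow p G} {e : ℕ} {K : Subgroup G} (hK : PrimeLocal.IsLocal p P e K)
    {t n : G} (ht : t ∈ K) (hn : n ∈ normalizer (P : Set G)) : n * t * n⁻¹ ∈ K := by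
  have h1 := hK.normalizer_le hn
  exact (mem_normalizer_iff.1 h1 t).1 ht

/-- `N_t ≤ |K| - 1`. -/
theorem relIndex_lt {P : Sylow p G} {e : ℕ} {K : Subgroup G} (hK : PrimeLocal.IsLocal p P e K)
    {t : G} (ht : t ∈ K) (ht1 : t ≠ 1) :
    (centralizer ({t} : Set G)).relIndex (normalizer (P : Set G)) < Nat.card K := by
  classical
  have := Fintype.ofFinite K
  rw [← card_orbit]
  have h1 : ∀ x : {x : G // ∃ n ∈ normalizer (P : Set G), n * t * n⁻¹ = x}, (x : G) ∈ K := by
    rintro ⟨x, n, hn, rfl⟩
    exact conj_mem hK ht hn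
  have := Fintype.ofFinite {x : G // ∃ n ∈ normalizer (P : Set G), n * t * n⁻¹ = x}
  rw [Nat.card_eq_fintype_card, Nat.card_eq_fintype_card]
  refine Fintype.card_lt_of_injective_of_notMem (fun x => (⟨x, h1 x⟩ : K)) ?_ (b := 1) ?_
  · intro x y h
    exact Subtype.ext (congrArg (fun k : K => (k : G)) h)
  · rintro ⟨⟨x, n, hn, rfl⟩, h⟩
    have h2 : n * t * n⁻¹ = 1 := congrArg Subtype.val h
    apply ht1
    calc t = n⁻¹ * (n * t * n⁻¹) * n := by group
      _ = 1 := by rw [h2]; group

theorem relIndex_ne_four {P : Sylow 5 G} {K : Subgroup G} (hK : PrimeLocal.IsLocal 5 P 4 K)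
    (h12 : Nat.card K = 12) {t : G} (ht : t ∈ K) (htt : t * t = 1) (ht1 : t ≠ 1) :
    (centralizer ({t} : Set G)).relIndex (normalizer (P : Set G)) ≠ 4 := by
  classical
  have h5p : Fact (Nat.Prime 5) := ⟨by norm_num⟩
  intro h4
  set C := centralizer ({t} : Set G) with hC
  set N := normalizer (P : Set G) with hN
  have hNc : Nat.card N = 240 := by rw [hN, hK.card_normalizer, h12]
  have hCN : Nat.card (C ⊓ N : Subgroup G) = 60 := by
    have h1 : Nat.card (C ⊓ N : Subgroup G) * C.relIndex N = Nat.card N := by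
      rw [← inf_relIndex_right]
      exact card_mul_relIndex.card_mul_relIndex' inf_le_right
    rw [h4, hNc] at h1
    omega
  have htC : t ∈ C := by rw [hC, mem_centralizer_singleton_iff]
  -- an element of order three
  have h3 : 3 ∣ Nat.card (K ⊓ C : Subgroup G) := by
    have h3p : Fact (Nat.Prime 3) := ⟨by norm_num⟩
    obtain ⟨⟨g, hg⟩, hgo⟩ := exists_prime_orderOf_dvd_card' (G := (C ⊓ N : Subgroup G)) 3
      (by rw [hCN]; norm_num)
    have hgo' : orderOf g = 3 := by rwa [← Subgroup.orderOf_coe] at hgo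
    have hg3 : g ^ 3 = 1 := by rw [← hgo', pow_orderOf_eq_one]
    have hle : centralizer (P : Set G) ≤ N := centralizer_le_normalizer _
    have hind : ((centralizer (P : Set G)).subgroupOf N).index = 4 :=
      BlockIndex.relIndex_eq hK
    have hnorm : ((centralizer (P : Set G)).subgroupOf N).Normal := by
      rw [hN]
      infer_instance
    have h5 := Subgroup.pow_index_mem ((centralizer (P : Set G)).subgroupOf N) (⟨g, hg.2⟩ : N)
    rw [hind, mem_subgroupOf] at h5
    push_cast at h5
    have h6 : g ^ 4 = g := by rw [pow_succ, hg3, one_mul]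
    rw [h6] at h5
    have h7 : g ∈ K := (hK.mem_iff g).2 ⟨h5, by
      rw [h12, show 12 = 3 * 4 by norm_num, pow_mul, hg3, one_pow]⟩
    rw [← hgo', ← Subgroup.orderOf_mk g (show g ∈ K ⊓ C from ⟨h7, hg.1⟩)]
    exact orderOf_dvd_natCard _
  have h2 : 2 ∣ Nat.card (K ⊓ C : Subgroup G) := by
    have h2p : Fact (Nat.Prime 2) := ⟨by norm_num⟩
    have ho : orderOf t = 2 := orderOf_eq_prime (by rw [pow_two]; exact htt) ht1
    rw [← ho, ← Subgroup.orderOf_mk t (show t ∈ K ⊓ C from ⟨ht, htC⟩)]
    exact orderOf_dvd_natCard _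
  have h6 : 6 ∣ Nat.card (K ⊓ C : Subgroup G) :=
    Nat.Coprime.mul_dvd_of_dvd_of_dvd (by norm_num : Nat.Coprime 2 3) h2 h3
  have h12' : Nat.card (K ⊓ C : Subgroup G) ∣ 12 := by
    rw [← h12]; exact Subgroup.card_dvd_of_le inf_le_left
  have hcase : Nat.card (K ⊓ C : Subgroup G) = 6 ∨ Nat.card (K ⊓ C : Subgroup G) = 12 := by
    obtain ⟨m, hm⟩ := h6
    have := Nat.le_of_dvd (by norm_num) h12'
    have hpos : 0 < Nat.card (K ⊓ C : Subgroup G) := Nat.card_pos
    omega
  rcases hcase with h | h
  · -- `|C_K(t)| = 6`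
    have hidx : (C.subgroupOf K).index = 2 := by
      have h1 : Nat.card (K ⊓ C : Subgroup G) * C.relIndex K = Nat.card K := by
        rw [← inf_relIndex_left]
        exact card_mul_relIndex.card_mul_relIndex' inf_le_left
      rw [h, h12] at h1
      change C.relIndex K = 2
      omega
    have hnorm : (C.subgroupOf K).Normal := Subgroup.normal_of_index_eq_two hidx
    have hex : ∃ g ∈ K, g ∉ C := by
      by_contra hcon
      push Not at hcon
      have : K ⊓ C = K := inf_eq_left.2 hcon
      rw [this, h12] at h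
      omega
    obtain ⟨g, hgK, hgC⟩ := hex
    have h7 := hnorm.conj_mem ⟨t, ht⟩ (by rw [mem_subgroupOf]; exact htC) ⟨g, hgK⟩
    rw [mem_subgroupOf] at h7
    have h8 : g * t * g⁻¹ ∈ C := h7
    have h9 : g * t * g⁻¹ ∈ K := mul_mem (mul_mem hgK ht) (inv_mem hgK)
    have h10 : t ≠ g * t * g⁻¹ := by
      intro h10
      apply hgC
      rw [hC, mem_centralizer_singleton_iff]
      calc g * t = (g * t * g⁻¹) * g := by group
        _ = t * g := by rw [← h10]
    have h11 : 4 ∣ Nat.card (K ⊓ C : Subgroup G) := by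
      refine Order5040.four_dvd_card (u := t) (h := g * t * g⁻¹) ⟨ht, htC⟩ ⟨h9, h8⟩
        (by rw [pow_two]; exact htt) ?_ ht1 ?_ h10 ?_
      · rw [conj_pow, pow_two, htt]; group
      · intro h11
        apply ht1
        calc t = g⁻¹ * (g * t * g⁻¹) * g := by group
          _ = 1 := by rw [h11]; group
      · exact (mem_centralizer_singleton_iff.1 h8).symm
    rw [h] at h11
    omega
  · -- `K ≤ C(t)`
    have hKC : K ≤ C := by
      have h1 : (K ⊓ C : Subgroup G) = K := by
        apply Subgroup.eq_of_le_of_card_ge inf_le_left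
        rw [h, h12]
      exact inf_eq_left.1 h1
    let Z : Subgroup G :=
      { carrier := {x | x ∈ K ∧ x * x = 1 ∧ ∀ y ∈ K, x * y = y * x}
        mul_mem' := by
          rintro a b ⟨ha1, ha2, ha3⟩ ⟨hb1, hb2, hb3⟩
          refine ⟨mul_mem ha1 hb1, ?_, fun y hy => ?_⟩
          · calc a * b * (a * b) = a * (b * a) * b := by group
              _ = a * (a * b) * b := by rw [hb3 a ha1]
              _ = (a * a) * (b * b) := by group
              _ = 1 := by rw [ha2, hb2, one_mul]
          · calc a * b * y = a * (b * y) := by group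
              _ = a * (y * b) := by rw [hb3 y hy]
              _ = (a * y) * b := by group
              _ = y * a * b := by rw [ha3 y hy]
              _ = y * (a * b) := by group
        one_mem' := ⟨one_mem _, one_mul _, fun y _ => by rw [one_mul, mul_one]⟩
        inv_mem' := by
          rintro a ⟨ha1, ha2, ha3⟩
          have h1 : a⁻¹ = a := inv_eq_of_mul_eq_one_left ha2
          rw [h1]
          exact ⟨ha1, ha2, ha3⟩ }
    have hZK : Z ≤ K := fun x hx => hx.1
    have hZd : Nat.card Z ∣ 12 := by rw [← h12]; exact Subgroup.card_dvd_of_le hZK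
    have h2p : Fact (Nat.Prime 2) := ⟨by norm_num⟩
    have hZ2 : IsPGroup 2 Z := by
      intro x
      refine ⟨1, ?_⟩
      apply Subtype.ext
      rw [pow_one, pow_two]
      exact x.2.2.1
    obtain ⟨k, hk⟩ := hZ2.exists_card_eq
    have hk2 : Nat.card Z ≤ 4 := by
      rw [hk] at hZd ⊢
      have hk3 : k ≤ 3 := by
        by_contra h1
        have h2 := Nat.le_of_dvd (by norm_num) hZd
        have h3 : 2 ^ 4 ≤ 2 ^ k := Nat.pow_le_pow_right (by norm_num) (by omega)
        omega
      interval_cases k <;> revert hZd <;> norm_num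
    have hO : (C.relIndex N) < Nat.card Z := by
      have := Fintype.ofFinite Z
      rw [hC, ← card_orbit]
      have h1 : ∀ x : {x : G // ∃ n ∈ N, n * t * n⁻¹ = x}, (x : G) ∈ Z := by
        rintro ⟨x, n, hn, rfl⟩
        refine ⟨conj_mem hK ht hn, ?_, fun y hy => ?_⟩
        · calc n * t * n⁻¹ * (n * t * n⁻¹) = n * (t * t) * n⁻¹ := by group
            _ = 1 := by rw [htt]; group
        · have h2 : n⁻¹ * y * n⁻¹⁻¹ ∈ K := conj_mem hK hy (inv_mem hn)
          rw [inv_inv] at h2
          have h3 := mem_centralizer_singleton_iff.1 (hKC h2)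
          calc n * t * n⁻¹ * y = n * (t * (n⁻¹ * y * n)) * n⁻¹ := by group
            _ = n * ((n⁻¹ * y * n) * t) * n⁻¹ := by rw [h3]
            _ = y * (n * t * n⁻¹) := by group
      have := Fintype.ofFinite {x : G // ∃ n ∈ N, n * t * n⁻¹ = x}
      rw [Nat.card_eq_fintype_card, Nat.card_eq_fintype_card]
      refine Fintype.card_lt_of_injective_of_notMem (fun x => (⟨x, h1 x⟩ : Z)) ?_ (b := 1) ?_
      · intro x y h
        exact Subtype.ext (congrArg (fun k : Z => (k : G)) h)
      · rintro ⟨⟨x, n, hn, rfl⟩, h⟩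
        have h2 : n * t * n⁻¹ = 1 := congrArg Subtype.val h
        apply ht1
        calc t = n⁻¹ * (n * t * n⁻¹) * n := by group
          _ = 1 := by rw [h2]; group
    rw [h4] at hO
    omega

/-- **(T1)** for the complement of order 12. -/
theorem t1_twelve {P : Sylow 5 G} {K : Subgroup G} (hK : PrimeLocal.IsLocal 5 P 4 K)
    (h12 : Nat.card K = 12) {t : G} (ht : t ∈ K) (htt : t * t = 1) (ht1 : t ≠ 1) :
    ∃ n, n % 5 = 1 ∧ Nat.card (centralizer ({t} : Set G)) *
      (centralizer ({t} : Set G)).relIndex (normalizer (P : Set G)) = 240 * n ∧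
      (centralizer ({t} : Set G)).relIndex (normalizer (P : Set G)) ∣ 240 ∧
      (centralizer ({t} : Set G)).relIndex (normalizer (P : Set G)) ≤ 11 ∧
      (centralizer ({t} : Set G)).relIndex (normalizer (P : Set G)) ≠ 4 := by
  have h5 : Fact (Nat.Prime 5) := ⟨by norm_num⟩
  have hN : Nat.card (normalizer (P : Set G)) = 240 := by rw [hK.card_normalizer, h12]
  refine ⟨(normalizer (P : Set G)).relIndex (centralizer ({t} : Set G)),
    relIndex_modEq ((hK.mem_iff t).1 ht).1, ?_, ?_, ?_, relIndex_ne_four hK h12 ht htt ht1⟩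
  · rw [card_mul_relIndex, hN]
  · rw [← hN]; exact relIndex_dvd_card _ _
  · have := relIndex_lt hK ht ht1
    rw [h12] at this
    omega

end Cfsg.Agent.SporadicA.M24.RowT1
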