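import Cfsg.Agent.SporadicA.M24.Col
import Cfsg.Agent.SporadicA.M24.RowT1

/-!
# The involution inverting a Sylow 11-subgroup: its values on the principal 5- and 7-blocks

`row_u` : if `e₇ = 3` and the complement `K` of the Sylow 5-subgroup in its centralizer has order
12, then an involution `t ∈ K` with `|C(t)| ≤ 15646` has `|C(t)| = 7680` and the values
`35, 24, -10, 11, 24, 36` on the characters of degrees `1035, 2024, 990, 1771, 5544, 5796`.
-/

set_option autoImplicit false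
set_option linter.unusedSectionVars false

open Cfsg Subgroup
open Cfsg.Agent.Characters.Core
open Cfsg.Agent.SmallSimple
open Cfsg.Agent.SmallSimple.FlatBlock
open Cfsg.Agent.SmallSimple.DegreeData
open Cfsg.Agent.M23Order.Base
open Cfsg.Agent.SporadicA.M24.Setup Cfsg.Agent.SporadicA.M24.Five Cfsg.Agent.SporadicA.M24.Seven
open Cfsg.Agent.SporadicA.M24.Col
open scoped ComplexConjugate

namespace Cfsg.Agent.SporadicA.M24.RowU

universe u

/-! ### Square roots in the kernel -/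

/-- one step of the binary square root of `n` -/
def stp (n k r : ℕ) : ℕ := if (r + 2 ^ k) * (r + 2 ^ k) ≤ n then r + 2 ^ k else r

/-- binary square root with `k` digits -/
def root (n : ℕ) : ℕ → ℕ → ℕ
  | 0, r => r
  | k + 1, r => root n k (stp n k r)

theorem root_eq (w : ℕ) : ∀ (k r : ℕ), r ≤ w → w < r + 2 ^ k → root (w * w) k r = w
  | 0, r, h1, h2 => by rw [root]; rw [pow_zero] at h2; omega
  | k + 1, r, h1, h2 => by
    rw [root]
    have h3 : (r + 2 ^ k) * (r + 2 ^ k) ≤ w * w ↔ r + 2 ^ k ≤ w := Nat.mul_self_le_mul_self_iff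
    rw [pow_succ] at h2
    unfold stp
    split_ifs with h
    · rw [h3] at h
      exact root_eq w k _ h (by omega)
    · rw [h3] at h
      exact root_eq w k _ h1 (by omega)

/-- The candidates: values on the characters of degrees 1035, 2024, 1771, 5544, square root,
norm. -/
def L13 : List ((ℤ × ℤ × ℤ × ℤ) × ℕ × ℕ) :=
  [((-5, -56, -9, -16), 200, 12595), ((15, -16, -29, 64), 640, 12995),
   ((15, -16, -9, -56), 520, 9595), ((15, -16, 11, -16), 560, 4595),
   ((15, -16, 31, 24), 600, 4395), ((15, -16, 51, 64), 640, 8995),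
   ((35, 24, -49, -96), 360, 14195), ((35, 24, -29, -56), 400, 5995),
   ((35, 24, -9, -16), 440, 2595), ((35, 24, 11, 24), 480, 3995),
   ((35, 24, 31, 64), 520, 10195), ((55, 64, -29, -16), 320, 14195),
   ((55, 64, 51, -16), 320, 10195)]

/-- the norm of the known part of the column -/
def nrm (v b x y : ℤ) : ℤ :=
  1 + v * v + b * b + 2 * ((1 - v + b) * (1 - v + b)) + x * x + y * y +
    (y + b - x - 1) * (y + b - x - 1)

/-- the square -/
def sqr (b x y : ℤ) : ℤ :=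
  2 * (127512 + 72 * (x * x) - 63 * (b * b) - 23 * (y * y) +
    22 * ((y + b - x - 1) * (y + b - x - 1)))

def V : List ℤ := [-125, -105, -85, -65, -45, -25, -5, 15, 35, 55, 75, 95, 115]
def X : List ℤ := [-109, -89, -69, -49, -29, -9, 11, 31, 51, 71, 91, 111]
def Y : List ℤ := [-116, -96, -76, -56, -36, -16, 4, 24, 44, 64, 84, 104, 124]

def test (v b x y : ℤ) : Bool :=
  let n := nrm v b x y
  let q := (sqr b x y).toNat
  let w := root q 12 0
  !(decide (n ≤ 15646)) || !(decide (0 ≤ sqr b x y)) || !(w * w == q) || L13.contains ((v, b, x, y), w, n.toNat)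

theorem arith1 : (V.all fun v => X.all fun x => Y.all fun y =>
    test v (2 * v - 46) x y && (!((90 * v + 1978) % 47 == 0) ||
      test v ((90 * v + 1978) / 47) x y)) = true := by
  decide +kernel

theorem arith2 : ∀ r ∈ L13, ∀ k < 13, ∀ N ∈ [1, 2, 3, 5, 6, 8, 10], k ≠ 0 → 48 * r.2.1 % k = 0 →
    r.2.2 ≤ 48 * r.2.1 / k → 48 * r.2.1 / k ≤ 15646 → 967680 % (48 * r.2.1 / k) = 0 →
    (48 * r.2.1 / k * N) % 1200 = 240 →
    1771 ∣ ((244823040 / (48 * r.2.1 / k) : ℕ) : ℤ) * r.1.2.2.1 →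
    1035 ∣ ((244823040 / (48 * r.2.1 / k) : ℕ) : ℤ) * r.1.1 →
    r.1 = (35, 24, 11, 24) ∧ 48 * r.2.1 / k = 7680 := by
  decide +kernel

theorem mem_V {v : ℤ} (h4 : (4 : ℤ) ∣ 1035 - v) (h5 : (5 : ℤ) ∣ v) (h : v ^ 2 ≤ 15646) :
    v ∈ V := by
  have h1 : -126 < v := by nlinarith
  have h2 : v < 126 := by nlinarith
  have h3 : v % 20 = 15 := by omega
  unfold V
  simp only [List.mem_cons, List.not_mem_nil, or_false]
  omega

theorem mem_X {x : ℤ} (h4 : (4 : ℤ) ∣ 1771 - x) (h5 : (5 : ℤ) ∣ 1771 - x) (h : x ^ 2 ≤ 15646) :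
    x ∈ X := by
  have h1 : -126 < x := by nlinarith
  have h2 : x < 126 := by nlinarith
  have h3 : x % 20 = 11 := by omega
  unfold X
  simp only [List.mem_cons, List.not_mem_nil, or_false]
  omega

theorem mem_Y {y : ℤ} (h4 : (4 : ℤ) ∣ 5544 - y) (h5 : (5 : ℤ) ∣ 5544 - y) (h : y ^ 2 ≤ 15646) :
    y ∈ Y := by
  have h1 : -126 < y := by nlinarith
  have h2 : y < 126 := by nlinarith
  have h3 : y % 20 = 4 := by omega
  unfold Y
  simp only [List.mem_cons, List.not_mem_nil, or_false]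
  omega

/-- The arithmetic of the row. -/
theorem arith_row {v b x y z : ℤ} {c k N n : ℕ} (hv4 : (4 : ℤ) ∣ 1035 - v) (hv5 : (5 : ℤ) ∣ v)
    (hx4 : (4 : ℤ) ∣ 1771 - x) (hx5 : (5 : ℤ) ∣ 1771 - x)
    (hy4 : (4 : ℤ) ∣ 5544 - y) (hy5 : (5 : ℤ) ∣ 5544 - y)
    (hline : 2 * v - b - 46 = 0 ∨ 90 * v - 47 * b + 1978 = 0)
    (hz : 1 - y - b + x + z = 0)
    (hnorm : 1 + v ^ 2 + b ^ 2 + 2 * (1 - v + b) ^ 2 + x ^ 2 + y ^ 2 + z ^ 2 ≤ (c : ℤ))
    (hc : c ≤ 15646) (hcd : c ∣ 967680) (hk : k ≤ 12)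
    (hpair : ((k * c : ℕ) : ℤ) ^ 2 = 587575296 + 331776 * x ^ 2 - 290304 * b ^ 2 - 105984 * y ^ 2 +
      101376 * z ^ 2)
    (hx : (1771 : ℤ) ∣ ((244823040 / c : ℕ) : ℤ) * x) (hv : (1035 : ℤ) ∣ ((244823040 / c : ℕ) : ℤ) * v)
    (hN : c * N = 240 * n) (hn : n % 5 = 1) (hNd : N ∣ 240) (hN11 : N ≤ 11) (hN4 : N ≠ 4) :
    c = 7680 ∧ v = 35 ∧ b = 24 ∧ x = 11 ∧ y = 24 ∧ z = 36 := by
  have hz' : z = y + b - x - 1 := by linarith
  subst hz'
  have hcz : (c : ℤ) ≤ 15646 := by exact_mod_cast hc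
  have sv := sq_nonneg v
  have sb := sq_nonneg b
  have st := sq_nonneg (1 - v + b)
  have sx := sq_nonneg x
  have sy := sq_nonneg y
  have sz := sq_nonneg (y + b - x - 1)
  have mv : v ∈ V := mem_V hv4 hv5 (by linarith)
  have mx : x ∈ X := mem_X hx4 hx5 (by linarith)
  have my : y ∈ Y := mem_Y hy4 hy5 (by linarith)
  -- the square
  have h48 : 48 ∣ k * c := by
    have h1 : (48 : ℤ) ^ 2 ∣ ((k * c : ℕ) : ℤ) ^ 2 := by
      rw [hpair]
      refine ⟨255024 + 144 * x ^ 2 - 126 * b ^ 2 - 46 * y ^ 2 + 44 * (y + b - x - 1) ^ 2, ?_⟩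
      ring
    have h2 : (48 : ℤ) ∣ ((k * c : ℕ) : ℤ) := (Int.pow_dvd_pow_iff (by norm_num)).1 h1
    exact_mod_cast h2
  obtain ⟨w, hw⟩ := h48
  have hsq : ((w * w : ℕ) : ℤ) = sqr b x y := by
    rw [hw] at hpair
    unfold sqr
    push_cast at hpair ⊢
    linarith
  have hwlt : w < 4096 := by
    have h1 : k * c ≤ 12 * 15646 := Nat.mul_le_mul hk hc
    omega
  have htest : ∀ b', b = b' → test v b' x y = true → (((v, b, x, y) : ℤ × ℤ × ℤ × ℤ), w,
      (nrm v b x y).toNat) ∈ L13 := by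
    rintro b' rfl ht
    unfold test at ht
    have h1 : (sqr b x y).toNat = w * w := by rw [← hsq]; exact Int.toNat_natCast _
    have h2 : nrm v b x y ≤ 15646 := by unfold nrm; linarith
    have h3 : 0 ≤ sqr b x y := by rw [← hsq]; positivity
    simp only [h1, root_eq w 12 0 (Nat.zero_le _) (by omega), h2, h3, decide_true, Bool.not_true,
      BEq.rfl, Bool.false_or, List.contains_iff_mem] at ht
    exact ht
  have hall := arith1
  rw [List.all_eq_true] at hall
  have hall := hall v mv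
  rw [List.all_eq_true] at hall
  have hall := hall x mx
  rw [List.all_eq_true] at hall
  have hall := hall y my
  rw [Bool.and_eq_true] at hall
  have hmem : (((v, b, x, y) : ℤ × ℤ × ℤ × ℤ), w, (nrm v b x y).toNat) ∈ L13 := by
    rcases hline with h | h
    · exact htest (2 * v - 46) (by omega) hall.1
    · have h1 : (90 * v + 1978) % 47 = 0 := by omega
      have h2 : b = (90 * v + 1978) / 47 := by omega
      refine htest _ h2 ?_
      have h3 := hall.2
      rw [h1] at h3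
      simpa using h3
  -- the index
  have hwpos : 0 < w := by
    have h1 : ∀ r ∈ L13, 0 < r.2.1 := by decide
    exact h1 _ hmem
  have hkpos : k ≠ 0 := by
    rintro rfl
    rw [zero_mul] at hw
    omega
  have hcdiv : 48 * w / k = c := by
    rw [← hw, Nat.mul_div_cancel_left _ (Nat.pos_of_ne_zero hkpos)]
  have hmod : 48 * w % k = 0 := by rw [← hw]; exact Nat.mul_mod_right _ _
  have hNmem : N ∈ [1, 2, 3, 5, 6, 8, 10] := by
    have hN0 : 0 < N := Nat.pos_of_dvd_of_pos hNd (by norm_num)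
    interval_cases N <;> first | decide | (exfalso; revert hNd; decide) | exact absurd rfl hN4
  have hmod' : (c * N) % 1200 = 240 := by
    rw [hN]; omega
  have hnn : (nrm v b x y).toNat ≤ c := by
    have h1 : nrm v b x y ≤ c := by unfold nrm; linarith
    exact Int.toNat_le.2 h1
  have hfin := arith2 _ hmem k (by omega) N hNmem hkpos (by exact hmod)
    (by show (nrm v b x y).toNat ≤ 48 * w / k; rw [hcdiv]; exact hnn)
    (by show 48 * w / k ≤ 15646; rw [hcdiv]; exact hc)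
    (by show 967680 % (48 * w / k) = 0; rw [hcdiv]; exact Nat.mod_eq_zero_of_dvd hcd)
    (by show (48 * w / k * N) % 1200 = 240; rw [hcdiv]; exact hmod')
    (by show (1771 : ℤ) ∣ ((244823040 / (48 * w / k) : ℕ) : ℤ) * x; rw [hcdiv]; exact hx)
    (by show (1035 : ℤ) ∣ ((244823040 / (48 * w / k) : ℕ) : ℤ) * v; rw [hcdiv]; exact hv)
  obtain ⟨h1, h2⟩ := hfin
  have h2' : 48 * w / k = 7680 := h2
  rw [hcdiv] at h2'
  simp only [Prod.mk.injEq] at h1
  obtain ⟨rfl, rfl, rfl, rfl⟩ := h1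
  exact ⟨h2', rfl, rfl, rfl, rfl, by norm_num⟩

variable {G : Type u} [Group G] [Finite G] [IsSimpleGroup G] (H : Hyp G)

include H

theorem five_dvd {R : Sylow 5 G} {M : Ideal AlgInt} (hM : IsPModular 5 M) {t : G}
    {v : IrrCharacter G → ℤ} (h : Column t v) (ht : t ∈ centralizer (R : Set G))
    {χ : IrrCharacter G} (hχ : 5 ∣ dg χ) : (5 : ℤ) ∣ v χ := by
  have h5p : Fact (Nat.Prime 5) := ⟨by norm_num⟩
  exact ElevenTwelve.dvd_of_dvd_degree (card_five H R) hM (by rw [H.hcard]; norm_num)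
    (by rw [H.hcard]; norm_num) ht (h.not_dvd (by norm_num) (by norm_num)) hχ (h.val χ)

theorem five_modEq {R : Sylow 5 G} {M : Ideal AlgInt} (hM : IsPModular 5 M) {t : G}
    {v : IrrCharacter G → ℤ} (h : Column t v) (ht : t ∈ centralizer (R : Set G))
    {χ : IrrCharacter G} (hχ : χ ∈ principalBlock M G) : (5 : ℤ) ∣ (dg χ : ℤ) - v χ := by
  have h5p : Fact (Nat.Prime 5) := ⟨by norm_num⟩
  exact ElevenTwelve.dvd_sub_of_mem (card_five H R) hM ht
    (h.not_dvd (by norm_num) (by norm_num)) hχ (h.val χ)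

/-- **The row of an involution of `K` with `|C(t)| ≤ 15646`.** -/
theorem row_u {R : Sylow 5 G} {K : Subgroup G} {M : Ideal AlgInt} {B : Finset (IrrCharacter G)}
    {ε : IrrCharacter G → ℤ} {a b c d : IrrCharacter G} (h5 : B5 R K M B ε a b c d)
    (hK : Nat.card K = 12) {S : Sylow 7 G} {K' : Subgroup G} {M' : Ideal AlgInt}
    {D : BlockData 7 M' S 3 2} {a' : IrrCharacter G} (h7 : B7three S K' M' D a' b)
    {t : G} {v : IrrCharacter G → ℤ} (h : Column t v) (ht : t ∈ K)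
    (hc : Nat.card (centralizer ({t} : Set G)) ≤ 15646) :
    Nat.card (centralizer ({t} : Set G)) = 7680 ∧ dg c = 1771 ∧ dg d = 5796 ∧
      v a' = 35 ∧ v b = 24 ∧ v c = 11 ∧ v a = 24 ∧ v d = 36 ∧ ∀ Θ ∈ D.X, v Θ = -10 := by
  classical
  have h7p : Fact (Nat.Prime 7) := ⟨by norm_num⟩
  have hcd : dg c = 1771 ∧ dg d = 5796 := by
    rcases h5.dg_cd with ⟨-, -, h1⟩ | ⟨h1, h2, -⟩
    · omega
    · exact ⟨h1, h2⟩
  obtain ⟨hdc, hdd⟩ := hcd
  have htC : t ∈ centralizer (R : Set G) := ((h5.loc.loc.mem_iff t).1 ht).1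
  have hne : ∀ {χ : IrrCharacter G}, dg χ ≠ 1 → χ ≠ tr G := by
    rintro χ hχ rfl
    exact hχ dg_tr
  have hmem : ∀ χ ∈ [tr G, a, b, c, d], χ ∈ principalBlock M G := fun χ hχ =>
    (h5.loc.mem_iff χ).2 ((h5.mem χ).2 hχ)
  have hv4 := h.mod4 a' (hne (by rw [h7.dg_a]; norm_num))
  have hy4 := h.mod4 a (hne (by rw [h5.dg_a]; norm_num))
  have hx4 := h.mod4 c (hne (by rw [hdc]; norm_num))
  rw [h7.dg_a] at hv4
  rw [h5.dg_a] at hy4
  rw [hdc] at hx4
  have hv5 := five_dvd H h5.loc.modular h htC (χ := a') (by rw [h7.dg_a]; norm_num)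
  have hy5 := five_modEq H h5.loc.modular h htC (hmem a (by simp))
  have hx5 := five_modEq H h5.loc.modular h htC (hmem c (by simp))
  rw [h5.dg_a] at hy5
  rw [hdc] at hx5
  have hline := seven_lines H h7 h
  have hrel := five_rel h5 h
  obtain ⟨Θ, hΘ, Θ', hΘ', hΘΘ⟩ := Finset.one_lt_card.1
    (show 1 < D.X.card by rw [D.card_X]; norm_num)
  have eΘ := seven_rel h7 h hΘ
  have eΘ' := seven_rel h7 h hΘ'
  have dΘ : dg Θ = 990 := by
    have := D.deg_X Θ hΘ
    rw [h7.f_eq] at this; exact this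
  have dΘ' : dg Θ' = 990 := by
    have := D.deg_X Θ' hΘ'
    rw [h7.f_eq] at this; exact this
  have hneq : ∀ {χ ψ : IrrCharacter G}, dg χ ≠ dg ψ → χ ≠ ψ := by
    rintro χ ψ h1 rfl
    exact h1 rfl
  have hnodup : [tr G, a', b, Θ, Θ', c, a, d].Nodup := by
    have e0 : dg (tr G) = 1 := dg_tr
    have ea' := h7.dg_a
    have eb := h5.dg_b
    have ea := h5.dg_a
    simp only [List.nodup_cons, List.mem_cons, List.not_mem_nil, or_false, not_or, not_false_eq_true,
      List.nodup_nil, and_true]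
    refine ⟨⟨?_, ?_, ?_, ?_, ?_, ?_, ?_⟩, ⟨?_, ?_, ?_, ?_, ?_, ?_⟩, ⟨?_, ?_, ?_, ?_, ?_⟩,
      ⟨hΘΘ, ?_, ?_, ?_⟩, ⟨?_, ?_, ?_⟩, ⟨?_, ?_⟩, ?_⟩ <;> apply hneq <;> omega
  have hnorm := h.norm_list hnodup
  simp only [List.map_cons, List.map_nil, List.sum_cons, List.sum_nil, add_zero, h.v_tr, eΘ,
    eΘ'] at hnorm
  obtain ⟨m, hm, hmi⟩ := exists_index H h
  have hcpos : 0 < Nat.card (centralizer ({t} : Set G)) := Nat.card_pos
  have hind : (centralizer ({t} : Set G)).index =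
      244823040 / Nat.card (centralizer ({t} : Set G)) := by
    rw [hmi]
    symm
    apply Nat.div_eq_of_eq_mul_left hcpos
    rw [show 244823040 = 253 * 967680 by norm_num, ← hm]
    ring
  obtain ⟨k, hk, hk12, -⟩ := five_pair h5
  have hpair := hk t t v v h h
  rw [H.hcard, hK, hdc, hdd, hmi] at hpair
  have hmq : (Nat.card (centralizer ({t} : Set G)) : ℚ) * m = 967680 := by exact_mod_cast hm
  set C := Nat.card (centralizer ({t} : Set G)) with hC
  have hCq : (C : ℚ) ≠ 0 := by exact_mod_cast hcpos.ne'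
  have hpq : ((k t * C : ℕ) : ℚ) ^ 2 = 587575296 + 331776 * (v c : ℚ) ^ 2 - 290304 * (v b : ℚ) ^ 2 -
      105984 * (v a : ℚ) ^ 2 + 101376 * (v d : ℚ) ^ 2 := by
    have h1 : 5 * ((k t : ℚ) * k t) * 244823040 * (C * C) = (253 * (C * m)) * (253 * (C * m)) * 12 *
        (1 - (v a * v a : ℚ) / 5544 - (v b * v b : ℚ) / 2024 + (v c * v c : ℚ) / 1771 +
          (v d * v d : ℚ) / 5796) := by
      push_cast at hpair
      linear_combination (C * C : ℚ) * hpair
    rw [hmq] at h1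
    push_cast
    linear_combination h1 / 1224115200
  have hpz : ((k t * C : ℕ) : ℤ) ^ 2 = 587575296 + 331776 * v c ^ 2 - 290304 * v b ^ 2 -
      105984 * v a ^ 2 + 101376 * v d ^ 2 := by
    exact_mod_cast hpq
  obtain ⟨n, hn1, hn2, hn3, hn4, hn5⟩ := RowT1.t1_twelve h5.loc.loc hK ht h.sq h.ne_one
  have hx := h.dvd c
  have hv := h.dvd a'
  rw [hdc, hind] at hx
  rw [h7.dg_a, hind] at hv
  obtain ⟨r1, r2, r3, r4, r5, r6⟩ := arith_row (v := v a') (b := v b) (x := v c) (y := v a)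
    (z := v d) (c := C) (k := k t) (N := (centralizer ({t} : Set G)).relIndex
      (normalizer (R : Set G))) (n := n) (by exact_mod_cast hv4) hv5 (by exact_mod_cast hx4)
    (by exact_mod_cast hx5) (by exact_mod_cast hy4) (by exact_mod_cast hy5) hline
    (by linarith) (by linarith) hc ⟨m, hm.symm⟩ (by rw [← hK]; exact hk12 t) hpz
    (by exact_mod_cast hx) (by exact_mod_cast hv) hn2 hn1 hn3 hn4 hn5
  refine ⟨r1, hdc, hdd, r2, r3, r4, r5, r6, fun Θ hΘ => ?_⟩
  rw [seven_rel h7 h hΘ, r2, r3]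
  norm_num

end Cfsg.Agent.SporadicA.M24.RowU
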