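import Cfsg.Agent.SporadicA.M24.Seven
import Cfsg.Agent.SporadicA.M24.KFiveLocal
import Cfsg.Agent.SmallSimple.PrimeFusion
import Cfsg.Agent.SmallSimple.PrimeDual
import Cfsg.Agent.S0145

/-!
# Weights of the characters on the section of a Sylow 5-subgroup `R` with `C(R) = R × A₄`

`x ∈ R` of order 5, `t` an involution of `K ≅ A₄`; `A χ = χ(x)`, `B χ = χ(x t)` are rational
integers with `A ≡ χ(1)`, `B ≡ χ(t)` modulo 5 and `4 ∣ A + 3 B`, so `c = (A - B) / 4` and
`w = (A + 3 B) / 4` are integers; `∑ c ^ 2 = 5`, `∑ w ^ 2 = 15`, and `w = ± 1` on the principal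
5-block.
-/

set_option autoImplicit false
set_option linter.unusedSectionVars false

open Cfsg Subgroup
open Cfsg.Agent.Characters.Core
open Cfsg.Agent.SmallSimple
open Cfsg.Agent.M23Order.Base (dg dg_eq)
open scoped ComplexConjugate

namespace Cfsg.Agent.SporadicA.M24.Weights

universe u

variable {G : Type u} [Group G] [Finite G]

/-- The sum of a character over `P K`, `K` centralising `P`, twisted by a linear character. -/
theorem exists_sum_prod {χ : G → ℂ} (hχ : IsCharacter G χ) (P K : Subgroup G)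
    (hPK : ∀ x ∈ P, ∀ k ∈ K, Commute x k) (l : P →* ℂˣ) [Fintype P] [Fintype K] :
    ∃ m : ℕ, ∑ x : P, (∑ k : K, χ (x * k)) * conj ((l x : ℂˣ) : ℂ) =
      m * (Nat.card P * Nat.card K) := by
  let f : P × K →* G := MonoidHom.noncommCoprod P.subtype K.subtype
    (fun x k => hPK x x.2 k k.2)
  obtain ⟨m, hm⟩ := classInner_isNat (isCharacter_comp f hχ)
    (Characters.Linear.isCharacter_hom (l.comp (MonoidHom.fst P K)))
  rw [classInner_def] at hm
  have hc : (Nat.card (P × K) : ℂ) ≠ 0 := card_ne_zero_complex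
  rw [inv_mul_eq_iff_eq_mul₀ hc, Nat.card_prod, Nat.cast_mul] at hm
  refine ⟨m, ?_⟩
  rw [mul_comm, ← hm, Fintype.sum_prod_type]
  refine Finset.sum_congr rfl fun x _ => ?_
  rw [Finset.sum_mul]
  refine Finset.sum_congr rfl fun k _ => ?_
  have h1 : f (x, k) = (x : G) * k := rfl
  simp [h1]

/-- If the sums of `χ` over the cosets `x K`, `x ∈ P`, `x ≠ 1`, are all equal to `σ`, then
`σ = |K| z`, `z` an integer congruent modulo `p` to the average of `χ` over `K`. -/
theorem exists_section {p : ℕ} (hp : p.Prime) {P K : Subgroup G} (hP : Nat.card P = p)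
    (hPK : ∀ x ∈ P, ∀ k ∈ K, Commute x k) [Fintype K] {χ : G → ℂ} (hχ : IsCharacter G χ) {σ : ℂ}
    (hσ : ∀ x ∈ P, x ≠ 1 → ∑ k : K, χ (x * k) = σ) :
    ∃ (z : ℤ) (m : ℕ), σ = Nat.card K * z ∧ ∑ k : K, χ k = Nat.card K * m ∧ z ≡ m [ZMOD p] := by
  classical
  have := Fintype.ofFinite P
  have := PrimeDual.finite_dual hp hP
  obtain ⟨m0, hm0⟩ := TheoremBCor.exists_sum_eq hχ K
  have : Nontrivial (P →* ℂˣ) := by
    rw [← Finite.one_lt_card_iff_nontrivial, PrimeDual.card_dual hp hP]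
    exact hp.one_lt
  obtain ⟨l, hl⟩ := exists_ne (1 : P →* ℂˣ)
  obtain ⟨m, hm⟩ := exists_sum_prod hχ P K hPK l
  have hs : ∑ x : P, conj ((l x : ℂˣ) : ℂ) = 0 := by
    have h1 := PrimeDual.sum_hom_eq_zero hl
    rw [← map_sum, h1, map_zero]
  have h2 : ∑ x : P, (∑ k : K, χ (x * k)) * conj ((l x : ℂˣ) : ℂ) =
      (∑ k : K, χ k) - σ := by
    rw [← Finset.add_sum_erase Finset.univ _ (Finset.mem_univ (1 : P))] at hs ⊢
    have h3 : ∑ x ∈ Finset.univ.erase (1 : P), (∑ k : K, χ (x * k)) * conj ((l x : ℂˣ) : ℂ) =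
        σ * ∑ x ∈ Finset.univ.erase (1 : P), conj ((l x : ℂˣ) : ℂ) := by
      rw [Finset.mul_sum]
      refine Finset.sum_congr rfl fun x hx => ?_
      rw [hσ x x.2 (fun h => (Finset.mem_erase.1 hx).1 (Subtype.ext h))]
    rw [h3, ← neg_eq_of_add_eq_zero_right hs]
    simp
    ring
  rw [h2, hm0, hP] at hm
  refine ⟨m0 - p * m, m0, ?_, by rw [hm0]; ring, ?_⟩
  · push_cast
    linear_combination -hm
  · rw [Int.modEq_iff_dvd]
    exact ⟨m, by ring⟩

/-- `K V` with all elements of `V \ 1` alike. -/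
theorem exists_section' {p : ℕ} (hp : p.Prime) {P V : Subgroup G} (hP : Nat.card P = p)
    (hPV : ∀ x ∈ P, ∀ k ∈ V, Commute x k) {χ : G → ℂ} (hχ : IsCharacter G χ) {n A B v : ℂ}
    (hn : χ 1 = n) (hA : ∀ x ∈ P, x ≠ 1 → χ x = A) (hv : ∀ k ∈ V, k ≠ 1 → χ k = v)
    (hB : ∀ x ∈ P, x ≠ 1 → ∀ k ∈ V, k ≠ 1 → χ (x * k) = B) :
    ∃ (z : ℤ) (m : ℕ), A + (Nat.card V - 1) * B = Nat.card V * z ∧
      n + (Nat.card V - 1) * v = Nat.card V * m ∧ z ≡ m [ZMOD p] := by
  classical
  have := Fintype.ofFinite V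
  have hcard : ((Finset.univ.erase (1 : V)).card : ℂ) = Nat.card V - 1 := by
    rw [Finset.card_erase_of_mem (Finset.mem_univ _), Finset.card_univ, ← Nat.card_eq_fintype_card,
      Nat.cast_sub Nat.card_pos]
    simp
  have h1 : ∀ F : V → ℂ, ∀ a b : ℂ, F 1 = a → (∀ k : V, k ≠ 1 → F k = b) →
      ∑ k : V, F k = a + (Nat.card V - 1) * b := by
    intro F a b h1 h2
    rw [← Finset.add_sum_erase Finset.univ _ (Finset.mem_univ (1 : V)), h1,
      Finset.sum_congr rfl (fun k hk => h2 k (Finset.mem_erase.1 hk).1), Finset.sum_const,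
      nsmul_eq_mul, hcard]
  obtain ⟨z, m, h2, h3, h4⟩ := exists_section hp hP hPV hχ (σ := A + (Nat.card V - 1) * B)
    (fun x hx hx1 => h1 _ _ _ (by rw [Subgroup.coe_one, mul_one, hA x hx hx1])
      (fun k hk => hB x hx hx1 k k.2 fun h => hk (Subtype.ext h)))
  refine ⟨z, m, h2, ?_, h4⟩
  rw [← h3]
  exact (h1 (fun k : V => χ k) _ _ (by rw [Subgroup.coe_one, hn])
    (fun k hk => hv k k.2 fun h => hk (Subtype.ext h))).symm

/-- Facts on the alternating group of degree 4. -/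
theorem alt_conj : ∀ a : alternatingGroup (Fin 4), a * a = 1 → a ≠ 1 →
    ∀ b : alternatingGroup (Fin 4), b * b = 1 → b ≠ 1 →
      ∃ g : alternatingGroup (Fin 4), g * a * g⁻¹ = b := by
  decide +kernel

theorem alt_sq : ∀ a : alternatingGroup (Fin 4), a * a = 1 → a ≠ 1 →
    ∀ b : alternatingGroup (Fin 4), b * a = a * b → b * b = 1 := by
  decide +kernel

theorem card_alt : ∀ a : alternatingGroup (Fin 4), a * a = 1 → a ≠ 1 →
    (Finset.univ.filter fun b => b * a = a * b).card = 4 := by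
  decide +kernel

section A4

variable {K : Subgroup G} (e : K ≃* alternatingGroup (Fin 4)) {t : G} (ht : t ∈ K) (ht1 : t ≠ 1)
  (htt : t * t = 1)

include e ht ht1 htt

theorem e_facts : e ⟨t, ht⟩ * e ⟨t, ht⟩ = 1 ∧ e ⟨t, ht⟩ ≠ 1 := by
  constructor
  · rw [← map_mul, show (⟨t, ht⟩ : K) * ⟨t, ht⟩ = 1 from Subtype.ext htt, map_one]
  · intro h
    rw [map_eq_one_iff e e.injective] at h
    exact ht1 (congrArg Subtype.val h)

/-- All involutions of `K` are conjugate in `K`. -/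
theorem exists_conj {b : G} (hb : b ∈ K) (hb1 : b ≠ 1) (hbb : b * b = 1) :
    ∃ g ∈ K, g * b * g⁻¹ = t := by
  obtain ⟨g, hg⟩ := alt_conj _ (e_facts e hb hb1 hbb).1 (e_facts e hb hb1 hbb).2
    _ (e_facts e ht ht1 htt).1 (e_facts e ht ht1 htt).2
  refine ⟨e.symm g, (e.symm g).2, ?_⟩
  have h1 : e.symm g * ⟨b, hb⟩ * (e.symm g)⁻¹ = ⟨t, ht⟩ := by
    apply e.injective
    rw [map_mul, map_mul, map_inv, e.apply_symm_apply, hg]
  exact congrArg Subtype.val h1

theorem sq_of_comm {b : G} (hb : b ∈ K) (hbt : b * t = t * b) : b * b = 1 := by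
  have h1 : e ⟨b, hb⟩ * e ⟨t, ht⟩ = e ⟨t, ht⟩ * e ⟨b, hb⟩ := by
    rw [← map_mul, ← map_mul]
    exact congrArg e (Subtype.ext hbt)
  have h2 := alt_sq _ (e_facts e ht ht1 htt).1 (e_facts e ht ht1 htt).2 _ h1
  rw [← map_mul, map_eq_one_iff e e.injective] at h2
  exact congrArg Subtype.val h2

theorem card_inf : Nat.card (K ⊓ centralizer ({t} : Set G) : Subgroup G) = 4 := by
  classical
  rw [← card_alt _ (e_facts e ht ht1 htt).1 (e_facts e ht ht1 htt).2,
    ← Fintype.card_coe, ← Nat.card_eq_fintype_card]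
  refine Nat.card_congr ⟨fun b => ⟨e ⟨b, b.2.1⟩, ?_⟩, fun b => ⟨e.symm b, ?_, ?_⟩, ?_, ?_⟩
  · rw [Finset.mem_filter]
    refine ⟨Finset.mem_univ _, ?_⟩
    rw [← map_mul, ← map_mul]
    exact congrArg e (Subtype.ext (mem_centralizer_singleton_iff.1 b.2.2))
  · exact (e.symm b).2
  · have h1 := (Finset.mem_filter.1 b.2).2
    change _ ∈ centralizer ({t} : Set G)
    rw [mem_centralizer_singleton_iff]
    have h2 : e.symm b * ⟨t, ht⟩ = ⟨t, ht⟩ * e.symm b := by
      apply e.injective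
      rw [map_mul, map_mul, e.apply_symm_apply, h1]
    exact congrArg Subtype.val h2
  · intro b
    simp
  · intro b
    simp

end A4

section main

variable {R : Sylow 5 G} {K : Subgroup G} (hloc : PrimeLocal.IsLocal 5 R 4 K) (hR : Nat.card R = 5)
  (e : K ≃* alternatingGroup (Fin 4)) {t : G} (ht : t ∈ K) (ht1 : t ≠ 1) (htt : t * t = 1)

include hloc

theorem commute {x : G} (hx : x ∈ R) {k : G} (hk : k ∈ K) : Commute x k :=
  mem_centralizer_iff.1 ((hloc.mem_iff k).1 hk).1 x hx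

include hR e ht ht1 htt

/-- All products of a nontrivial element of `R` and an involution of `K` are conjugate. -/
theorem exists_conj_mul {x x' k : G} (hx : x ∈ R) (hx1 : x ≠ 1) (hx' : x' ∈ R) (hx'1 : x' ≠ 1)
    (hk : k ∈ K) (hk1 : k ≠ 1) (hkk : k * k = 1) : ∃ g, g * (x' * k) * g⁻¹ = x * t := by
  have h5 : Fact (Nat.Prime 5) := ⟨by norm_num⟩
  obtain ⟨n, hn, hn'⟩ := PrimeFusion.exists_conj (P := (R : Subgroup G)) hR
    (BlockIndex.relIndex_eq hloc) hx' hx'1 hx hx1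
  have hnK : n * k * n⁻¹ ∈ K := (mem_normalizer_iff.1
    (PrimeLocal.normalizer_le_normalizer (P := (R : Subgroup G)) hloc.mem_iff hn) _).1 hk
  obtain ⟨g, hg, hg'⟩ := exists_conj e ht ht1 htt hnK
    (fun h => hk1 (by simpa using h))
    (by rw [show n * k * n⁻¹ * (n * k * n⁻¹) = n * (k * k) * n⁻¹ by group, hkk, mul_one,
      mul_inv_cancel])
  refine ⟨g * n, ?_⟩
  have h1 : g * x = x * g := (commute hloc hx hg).symm
  calc g * n * (x' * k) * (g * n)⁻¹ = g * (n * x' * n⁻¹) * (n * k * n⁻¹) * g⁻¹ := by group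
    _ = (g * x) * (n * k * n⁻¹) * g⁻¹ := by rw [hn']
    _ = x * (g * (n * k * n⁻¹) * g⁻¹) := by rw [h1]; group
    _ = x * t := by rw [hg']

theorem exists_vals (χ : IrrCharacter G) {v : ℤ} (hv : (χ : G → ℂ) t = v) :
    ∃ A B w : ℤ, (∀ x ∈ R, x ≠ 1 → (χ : G → ℂ) x = A) ∧
      (∀ x ∈ R, x ≠ 1 → (χ : G → ℂ) (x * t) = B) ∧ A ≡ dg χ [ZMOD 5] ∧ B ≡ v [ZMOD 5] ∧
      A + 3 * B = 4 * w := by
  have h5 : Fact (Nat.Prime 5) := ⟨by norm_num⟩
  have hp5 : Nat.Prime 5 := by norm_num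
  have hR' : Nat.card (R : Subgroup G) = 5 := hR
  have hcls := isIrr_isClassFunction χ.2
  obtain ⟨A, hA, hA5⟩ := PrimeFusion.exists_int (P := (R : Subgroup G)) hR
    (BlockIndex.relIndex_eq hloc) χ
  obtain ⟨x, hx, hx1⟩ := BlockIndex.exists_ne_one hR'
  -- the value at `x t`
  have hB : ∀ x' ∈ R, x' ≠ 1 → ∀ k ∈ K, k ≠ 1 → k * k = 1 →
      (χ : G → ℂ) (x' * k) = (χ : G → ℂ) (x * t) := by
    intro x' hx' hx'1 k hk hk1 hkk
    obtain ⟨g, hg⟩ := exists_conj_mul hloc hR e ht ht1 htt hx hx1 hx' hx'1 hk hk1 hkk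
    rw [← hg, hcls]
  have hvk : ∀ k ∈ K, k ≠ 1 → k * k = 1 → (χ : G → ℂ) k = v := by
    intro k hk hk1 hkk
    obtain ⟨g, hg, hg'⟩ := exists_conj e ht ht1 htt hk hk1 hkk
    rw [← hv, ← hg', hcls]
  have hdg : (χ : G → ℂ) 1 = (dg χ : ℂ) := dg_eq χ
  have hZ : ∀ k ∈ zpowers t, k ≠ 1 → k = t := by
    intro k hk hk1
    obtain ⟨i, rfl⟩ := mem_zpowers_iff.1 hk
    have htt' : t ^ (2 : ℤ) = 1 := by rw [zpow_two, htt]
    rcases Int.even_or_odd' i with ⟨j, rfl | rfl⟩
    · exact absurd (by rw [zpow_mul, htt', one_zpow]) hk1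
    · rw [zpow_add, zpow_mul, htt', one_zpow, one_mul, zpow_one]
  have hcZ : Nat.card (zpowers t) = 2 := by
    rw [Nat.card_zpowers]
    exact orderOf_eq_prime (by rw [pow_two, htt]) ht1
  have hZK : zpowers t ≤ K := by rwa [zpowers_le]
  obtain ⟨z1, m1, h1, h2, h3⟩ := exists_section' (V := zpowers t) hp5 hR'
    (fun x hx k hk => commute hloc hx (hZK hk)) (isIrr_isCharacter χ.2) hdg hA
    (v := v) (fun k hk hk1 => by rw [hZ k hk hk1, hv])
    (B := (χ : G → ℂ) (x * t)) (fun x' hx' hx'1 k hk hk1 => by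
      rw [hZ k hk hk1]
      exact hB x' hx' hx'1 t ht ht1 htt)
  rw [hcZ] at h1 h2
  push_cast at h1 h2
  have hBe : (χ : G → ℂ) (x * t) = ((2 * z1 - A : ℤ) : ℂ) := by
    push_cast
    linear_combination h1
  have h2' : (dg χ : ℤ) + v = 2 * m1 := by
    have : (dg χ : ℂ) + v = 2 * m1 := by linear_combination h2
    exact_mod_cast this
  have hinv : ∀ k ∈ K ⊓ centralizer ({t} : Set G), k * k = 1 := fun k hk =>
    sq_of_comm e ht ht1 htt hk.1 (mem_centralizer_singleton_iff.1 hk.2)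
  obtain ⟨z2, m2, h4, -, -⟩ := exists_section' (V := K ⊓ centralizer ({t} : Set G)) hp5 hR'
    (fun x hx k hk => commute hloc hx hk.1) (isIrr_isCharacter χ.2) hdg hA
    (v := v) (fun k hk hk1 => hvk k hk.1 hk1 (hinv k hk))
    (B := (χ : G → ℂ) (x * t)) (fun x' hx' hx'1 k hk hk1 => 
      hB x' hx' hx'1 k hk.1 hk1 (hinv k hk))
  rw [card_inf e ht ht1 htt, hBe] at h4
  push_cast at h4
  have h4' : A + 3 * (2 * z1 - A) = 4 * z2 := by
    have : (A : ℂ) + 3 * (2 * z1 - A) = 4 * z2 := by linear_combination h4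
    exact_mod_cast this
  refine ⟨A, 2 * z1 - A, z2, hA, fun x' hx' hx'1 => ?_, hA5, ?_, h4'⟩
  · rw [hB x' hx' hx'1 t ht ht1 htt, hBe]
  · push_cast at hA5 h3
    have h6 : 2 * z1 - A ≡ 2 * m1 - dg χ [ZMOD 5] := (h3.mul_left 2).sub hA5
    rw [← h2'] at h6
    simpa using h6

/-- `C(x t) = C(R) ∩ C(t)` has order 20. -/
theorem card_centralizer {x : G} (hx : x ∈ R) (hx1 : x ≠ 1) :
    Nat.card (centralizer ({x * t} : Set G)) = 20 := by
  have hp5 : Nat.Prime 5 := by norm_num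
  have h5 : Fact (Nat.Prime 5) := ⟨hp5⟩
  have hR' : Nat.card (R : Subgroup G) = 5 := hR
  have hx5 : x ^ 5 = 1 := by
    have h1 : (⟨x, hx⟩ : (R : Subgroup G)) ^ Nat.card (R : Subgroup G) = 1 := pow_card_eq_one'
    rw [hR'] at h1
    exact congrArg Subtype.val h1
  have hxt : Commute x t := commute hloc hx ht
  have ht2 : t ^ 2 = 1 := by rw [pow_two, htt]
  have h1 : (x * t) ^ 6 = x := by
    rw [hxt.mul_pow, show 6 = 5 + 1 by norm_num, pow_succ, hx5, one_mul,
      show 5 + 1 = 2 * 3 by norm_num, pow_mul, ht2, one_pow, mul_one]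
  have h2 : (x * t) ^ 5 = t := by
    rw [hxt.mul_pow, hx5, one_mul, show 5 = 2 * 2 + 1 by norm_num, pow_succ, pow_mul, ht2, one_pow,
      one_mul]
  have hCx : centralizer ({x} : Set G) = centralizer ((R : Subgroup G) : Set G) :=
    BlockIndex.centralizer_eq hR' hx hx1
  have hC : centralizer ({x * t} : Set G) =
      centralizer ((R : Subgroup G) : Set G) ⊓ centralizer ({t} : Set G) := by
    rw [← hCx]
    ext g
    rw [mem_inf, mem_centralizer_singleton_iff, mem_centralizer_singleton_iff,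
      mem_centralizer_singleton_iff]
    constructor
    · intro h
      have h' : Commute g (x * t) := h
      constructor
      · have := h'.pow_right 6
        rwa [h1] at this
      · have := h'.pow_right 5
        rwa [h2] at this
    · rintro ⟨h3, h4⟩
      have h3' : Commute g x := h3
      exact h3'.mul_right h4
  have hKC : K ≤ centralizer ((R : Subgroup G) : Set G) := fun x hx => ((hloc.mem_iff x).1 hx).1
  have hn2 : (K.subgroupOf (centralizer ((R : Subgroup G) : Set G))).Normal := by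
    refine ⟨fun x hx g => ?_⟩
    rw [mem_subgroupOf] at hx ⊢
    exact (mem_normalizer_iff.1
      (PrimeLocal.normalizer_le_normalizer (P := (R : Subgroup G)) hloc.mem_iff
        (SylowPrimeCount.centralizer_le_normalizer' (R : Subgroup G) g.2)) _).1 hx
  obtain ⟨s, hs1, hs2⟩ := KFiveLocal.exists_card_inf hKC hn2 (centralizer ({t} : Set G))
  have hidx2 : K.relIndex (centralizer ((R : Subgroup G) : Set G)) = 5 := by
    have h1 := relIndex_mul_relIndex (⊥ : Subgroup G) _ _ bot_le hKC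
    have hcc : Nat.card (centralizer ((R : Subgroup G) : Set G)) = 5 * Nat.card K :=
      hloc.card_centralizer
    rw [relIndex_bot_left, relIndex_bot_left, hcc] at h1
    have h4 : 0 < Nat.card K := Nat.card_pos
    apply Nat.eq_of_mul_eq_mul_left h4
    rw [h1]; ring
  rw [hidx2] at hs1
  rw [card_inf e ht ht1 htt] at hs2
  have hPle : (R : Subgroup G) ≤
      centralizer ((R : Subgroup G) : Set G) ⊓ centralizer ({t} : Set G) := by
    refine le_inf ?_ ?_
    · intro x hx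
      rw [mem_centralizer_iff]
      intro y hy
      exact PrimeLocal.comm_of_card_prime hp5 (R : Subgroup G) hR y hy x hx
    · intro x hx
      rw [mem_centralizer_singleton_iff]
      exact commute hloc hx ht
  have h3 := Subgroup.card_dvd_of_le hPle
  rw [hC]
  rw [hs2, hR'] at h3
  rw [hs2]
  rcases (Nat.dvd_prime hp5).1 hs1 with h4 | h4
  · rw [h4] at h3
    norm_num at h3
  · rw [h4]

end main

section weights

theorem card_K_eq {K : Subgroup G} (e : K ≃* alternatingGroup (Fin 4)) : Nat.card K = 12 := by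
  rw [Nat.card_congr e.toEquiv, nat_card_alternatingGroup, Nat.card_eq_fintype_card]
  rfl

/-- **The weights.** -/
theorem weights {R : Sylow 5 G} {K : Subgroup G} (hR : Nat.card R = 5) {M : Ideal AlgInt}
    {B : Finset (IrrCharacter G)} {ε : IrrCharacter G → ℤ} (h : FlatBlock.FlatLoc 5 R K M B ε)
    (e : K ≃* alternatingGroup (Fin 4)) {t : G} (ht : t ∈ K) (ht1 : t ≠ 1) (htt : t * t = 1)
    {v : IrrCharacter G → ℤ} (hv : ∀ χ : IrrCharacter G, (χ : G → ℂ) t = v χ) :
    (∀ S : Finset (IrrCharacter G), ∑ χ ∈ S, ((v χ - dg χ) ^ 2 % 5) ≤ 5) ∧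
    (∀ S : Finset (IrrCharacter G), (∀ χ ∈ S, χ ∉ B) →
      ∑ χ ∈ S, ((2 * v χ - dg χ) ^ 2 % 5) ≤ 10) := by
  classical
  have h5 : Fact (Nat.Prime 5) := ⟨by norm_num⟩
  have hR' : Nat.card (R : Subgroup G) = 5 := hR
  obtain ⟨x, hx, hx1⟩ := BlockIndex.exists_ne_one hR'
  choose A C w hA hC hA5 hC5 hw using fun χ : IrrCharacter G =>
    exists_vals h.loc hR e ht ht1 htt χ (hv χ)
  have := finite_irr (G := G)
  have := Fintype.ofFinite (IrrCharacter G)
  have := Fintype.ofFinite G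
  have hcx : Nat.card (centralizer ({x} : Set G)) = 60 := by
    have h1 : centralizer ({x} : Set G) = centralizer ((R : Subgroup G) : Set G) :=
      BlockIndex.centralizer_eq hR' hx hx1
    have h2 : Nat.card (centralizer ((R : Subgroup G) : Set G)) = 5 * Nat.card K :=
      h.loc.card_centralizer
    rw [h1, h2, card_K_eq e]
  have hcxt := card_centralizer h.loc hR e ht ht1 htt hx hx1
  have hne : ¬ IsConj x (x * t) := by
    intro h1
    obtain ⟨g, hg⟩ := isConj_iff.1 h1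
    have h2 : (x * t) ^ 5 = 1 := by
      rw [← hg, conj_pow]
      have h1 : (⟨x, hx⟩ : (R : Subgroup G)) ^ Nat.card (R : Subgroup G) = 1 := pow_card_eq_one'
      rw [hR'] at h1
      have h3 : x ^ 5 = 1 := congrArg Subtype.val h1
      rw [h3, mul_one, mul_inv_cancel]
    have hx5 : x ^ 5 = 1 := by
      have h1 : (⟨x, hx⟩ : (R : Subgroup G)) ^ Nat.card (R : Subgroup G) = 1 := pow_card_eq_one'
      rw [hR'] at h1
      exact congrArg Subtype.val h1
    rw [(commute h.loc hx ht).mul_pow, hx5, one_mul, show 5 = 2 * 2 + 1 by norm_num, pow_succ,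
      pow_mul, pow_two t, htt, one_pow, one_mul] at h2
    exact ht1 h2
  have e1 := S0145.sum_irr_mul_conj x x
  have e2 := S0145.sum_irr_mul_conj (x * t) (x * t)
  have e3 := S0145.sum_irr_mul_conj x (x * t)
  rw [if_pos (IsConj.refl x), hcx] at e1
  rw [if_pos (IsConj.refl _), hcxt] at e2
  rw [if_neg hne] at e3
  simp_rw [hA _ x hx hx1, hC _ x hx hx1, map_intCast] at e1 e2 e3
  have e1' : ∑ χ : IrrCharacter G, A χ * A χ = 60 := by exact_mod_cast e1
  have e2' : ∑ χ : IrrCharacter G, C χ * C χ = 20 := by exact_mod_cast e2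
  have e3' : ∑ χ : IrrCharacter G, A χ * C χ = 0 := by exact_mod_cast e3
  have hc : ∑ χ : IrrCharacter G, (w χ - C χ) ^ 2 = 5 := by
    have h1 : 16 * ∑ χ : IrrCharacter G, (w χ - C χ) ^ 2 =
        ∑ χ : IrrCharacter G, A χ * A χ + ∑ χ : IrrCharacter G, C χ * C χ -
          2 * ∑ χ : IrrCharacter G, A χ * C χ := by
      rw [Finset.mul_sum, Finset.mul_sum, ← Finset.sum_add_distrib, ← Finset.sum_sub_distrib]
      refine Finset.sum_congr rfl fun χ _ => ?_
      have h2 : 4 * (w χ - C χ) = A χ - C χ := by linear_combination -(hw χ)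
      linear_combination (4 * (w χ - C χ) + (A χ - C χ)) * h2
    rw [e1', e2', e3'] at h1
    omega
  have hww : ∑ χ : IrrCharacter G, (w χ) ^ 2 = 15 := by
    have h1 : 16 * ∑ χ : IrrCharacter G, (w χ) ^ 2 =
        ∑ χ : IrrCharacter G, A χ * A χ + 9 * ∑ χ : IrrCharacter G, C χ * C χ +
          6 * ∑ χ : IrrCharacter G, A χ * C χ := by
      rw [Finset.mul_sum, Finset.mul_sum, Finset.mul_sum, ← Finset.sum_add_distrib,
        ← Finset.sum_add_distrib]
      refine Finset.sum_congr rfl fun χ _ => ?_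
      have h2 := hw χ
      linear_combination -(4 * w χ + (A χ + 3 * C χ)) * h2
    rw [e1', e2', e3'] at h1
    omega
  have hmod : ∀ a b : ℤ, (5 : ℤ) ∣ a - b → b ^ 2 % 5 ≤ a ^ 2 := by
    intro a b hab
    have h1 : a ^ 2 ≡ b ^ 2 [ZMOD 5] := ((Int.modEq_iff_dvd.2 (by
      rw [← neg_sub, dvd_neg]; exact hab)) : a ≡ b [ZMOD 5]).pow 2
    have h2 : a ^ 2 % 5 = b ^ 2 % 5 := h1
    have h3 := sq_nonneg a
    omega
  refine ⟨fun S => ?_, fun S hS => ?_⟩
  · calc ∑ χ ∈ S, ((v χ - dg χ) ^ 2 % 5) ≤ ∑ χ ∈ S, (w χ - C χ) ^ 2 :=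
          Finset.sum_le_sum fun χ _ => hmod _ _ (by
            have h1 := (hA5 χ).dvd
            have h2 := (hC5 χ).dvd
            have h3 := hw χ
            omega)
      _ ≤ ∑ χ : IrrCharacter G, (w χ - C χ) ^ 2 :=
          Finset.sum_le_sum_of_subset_of_nonneg (Finset.subset_univ _) fun χ _ _ => sq_nonneg _
      _ = 5 := hc
  · have hBw : ∀ χ ∈ B, w χ ^ 2 = 1 := by
      intro χ hχ
      have h1 := h.val χ hχ x hx hx1 1 (Subgroup.one_mem _) (by rw [orderOf_one]; norm_num)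
      have h2 := h.val χ hχ x hx hx1 t ((h.loc.mem_iff t).1 ht).1 (by
        have h1 : orderOf t = 2 := orderOf_eq_prime (by rw [pow_two, htt]) ht1
        rw [h1]; norm_num)
      rw [mul_one, hA χ x hx hx1] at h1
      rw [hC χ x hx hx1] at h2
      have h1' : A χ = ε χ := by exact_mod_cast h1
      have h2' : C χ = ε χ := by exact_mod_cast h2
      have h3 := hw χ
      have h4 : w χ = ε χ := by omega
      rw [h4]
      rcases h.ε_mem χ hχ with h5 | h5 <;> rw [h5] <;> norm_num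
    have hsum : ∑ χ ∈ B, w χ ^ 2 = 5 := by
      rw [Finset.sum_congr rfl hBw, Finset.sum_const, h.card]
      norm_num
    have hdis : Disjoint S B := Finset.disjoint_left.2 hS
    have h6 : ∑ χ ∈ S, w χ ^ 2 + ∑ χ ∈ B, w χ ^ 2 ≤ 15 := by
      rw [← Finset.sum_union hdis, ← hww]
      exact Finset.sum_le_sum_of_subset_of_nonneg (Finset.subset_univ _) fun χ _ _ => sq_nonneg _
    have h7 : ∑ χ ∈ S, ((2 * v χ - dg χ) ^ 2 % 5) ≤ ∑ χ ∈ S, w χ ^ 2 :=
      Finset.sum_le_sum fun χ _ => hmod _ _ (by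
        have h1 := (hA5 χ).dvd
        have h2 := (hC5 χ).dvd
        have h3 := hw χ
        omega)
    omega

end weights

end Cfsg.Agent.SporadicA.M24.Weights
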