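import Cfsg.Agent.SporadicA.M24.Gram

/-!
# Columns of involutions and flat blocks (`|N(P) : C(P)| = p - 1`), list form

For `FlatLoc p P K M B ε`, `l` the list of the characters of `B` different from the trivial one,
and `Column t v`:

* `rel_list` : `1 + ∑_l ε χ * v χ = 0`;
* `pair_list` : `p * k t * k u * |C(t)| * |C(u)| = |G| * |K| * (1 + ∑_l ε χ * v χ * w χ / dg χ)`;
* `modEq_of_dvd` : `v χ ≡ ε χ` modulo `p` on `B` if `p ∣ |C(t)|`;
* `dvd_of_dvd` : `p ∣ v χ` if `p ∣ |C(t)|` and `p ∣ dg χ`;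
* `seven_rel_six`, `seven_pair_six`, `five_pair_list`, `five_modEq`, `five_dvd`,
  `seven_modEq_six`, `seven_dvd` : specialisations to `B5`, `B7six`.
-/

set_option autoImplicit false
set_option linter.unusedSectionVars false

open Cfsg Subgroup
open Cfsg.Agent.Characters.Core
open Cfsg.Agent.SmallSimple
open Cfsg.Agent.SmallSimple.FlatBlock
open Cfsg.Agent.M23Order.Base
open Cfsg.Agent.SporadicA.M24.Col
open Cfsg.Agent.SporadicA.M24.Seven
open scoped ComplexConjugate

namespace Cfsg.Agent.SporadicA.M24.ColSix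

universe u

variable {G : Type u} [Group G] [Finite G]

/-- The column of a conjugate. -/
theorem column_conj {t u : G} {v : IrrCharacter G → ℤ} (h : Column t v) (hc : IsConj t u) :
    Column u v := by
  obtain ⟨c, hc'⟩ := isConj_iff.1 hc
  have hcard : Nat.card (centralizer ({u} : Set G)) = Nat.card (centralizer ({t} : Set G)) := by
    have h1 : centralizer ({u} : Set G) =
        (centralizer ({t} : Set G)).map (MulAut.conj c).toMonoidHom := by
      ext x
      rw [mem_map_equiv, mem_centralizer_singleton_iff, mem_centralizer_singleton_iff, ← hc']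
      simp only [MulAut.conj_symm_apply]
      constructor
      · intro h1
        calc c⁻¹ * x * c * t = c⁻¹ * (x * (c * t * c⁻¹)) * c := by group
          _ = c⁻¹ * (c * t * c⁻¹ * x) * c := by rw [h1]
          _ = t * (c⁻¹ * x * c) := by group
      · intro h1
        calc x * (c * t * c⁻¹) = c * (c⁻¹ * x * c * t) * c⁻¹ := by group
          _ = c * (t * (c⁻¹ * x * c)) * c⁻¹ := by rw [h1]
          _ = c * t * c⁻¹ * x := by group
    rw [h1]
    exact Nat.card_congr ((centralizer ({t} : Set G)).equivMapOfInjective _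
      (MulAut.conj c).injective).symm.toEquiv
  have hidx : (centralizer ({u} : Set G)).index = (centralizer ({t} : Set G)).index := by
    have h1 := (centralizer ({u} : Set G)).card_mul_index
    rw [hcard, ← (centralizer ({t} : Set G)).card_mul_index] at h1
    exact Nat.eq_of_mul_eq_mul_left Nat.card_pos h1
  refine ⟨?_, ?_, ?_, h.lt, h.mod4, ?_, ?_⟩
  · rw [← hc']
    calc c * t * c⁻¹ * (c * t * c⁻¹) = c * (t * t) * c⁻¹ := by group
      _ = 1 := by rw [h.sq, mul_one, mul_inv_cancel]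
  · rintro rfl
    exact h.ne_one (isConj_one_left.1 hc)
  · intro χ
    rw [← h.val χ, ← hc']
    exact isIrr_isClassFunction χ.2 t c
  · intro χ; rw [hidx]; exact h.dvd χ
  · intro s; rw [hcard]; exact h.norm s

theorem cast_sum_int {α : Type*} (l : List α) (f : α → ℤ) :
    (((l.map f).sum : ℤ) : ℂ) = (l.map fun a => (f a : ℂ)).sum := by
  induction l with
  | nil => simp
  | cons a l ih => simp [ih]

section Flat

variable {p : ℕ} [hp : Fact p.Prime] {P : Sylow p G} {K : Subgroup G} {M : Ideal AlgInt}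
  {B : Finset (IrrCharacter G)} {ε : IrrCharacter G → ℤ} {l : List (IrrCharacter G)}

theorem sum_list (hnd : (tr G :: l).Nodup) (hmem : ∀ χ, χ ∈ B ↔ χ ∈ tr G :: l)
    (F : IrrCharacter G → ℂ) : ∑ χ ∈ B, F χ = F (tr G) + (l.map F).sum := by
  classical
  have h2 : B = (tr G :: l).toFinset := by
    ext χ; rw [hmem, List.mem_toFinset]
  rw [h2, List.sum_toFinset _ hnd, List.map_cons, List.sum_cons]

/-- The relation of the block. -/
theorem rel_list (h : Flat p P M B ε) (hnd : (tr G :: l).Nodup)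
    (hmem : ∀ χ, χ ∈ B ↔ χ ∈ tr G :: l) (hp2 : p ≠ 2) {t : G} {v : IrrCharacter G → ℤ}
    (hv : Column t v) : 1 + (l.map fun χ => ε χ * v χ).sum = 0 := by
  have h1 := h.rel t (hv.not_dvd hp.out hp2)
  rw [sum_list hnd hmem, h.ε_one, hv.val, hv.v_tr] at h1
  have h2 : (l.map fun χ => (ε χ : ℂ) * (χ : G → ℂ) t).sum =
      (((l.map fun χ => ε χ * v χ).sum : ℤ) : ℂ) := by
    rw [cast_sum_int]
    congr 1
    refine List.map_congr_left fun χ _ => ?_
    simp [hv.val]
  rw [h2] at h1
  have h3 : ((1 + (l.map fun χ => ε χ * v χ).sum : ℤ) : ℂ) = ((0 : ℤ) : ℂ) := by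
    push_cast at h1 ⊢
    linear_combination h1
  exact_mod_cast h3

/-- The pair formula of the block. `k t` is the number of conjugates of `t` in the coset of `K`
inverting `P`. -/
theorem pair_list (h : FlatLoc p P K M B ε) (hnd : (tr G :: l).Nodup)
    (hmem : ∀ χ, χ ∈ B ↔ χ ∈ tr G :: l) : ∃ k : G → ℕ,
    (∀ (t u : G) (v w : IrrCharacter G → ℤ), Column t v → Column u w →
      (p : ℚ) * ((k t : ℚ) * k u) * ((Nat.card (centralizer ({t} : Set G)) : ℚ) *
        Nat.card (centralizer ({u} : Set G))) = Nat.card G * Nat.card K *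
        (1 + (l.map fun χ => (ε χ * v χ * w χ : ℚ) / dg χ).sum)) ∧
      (∀ a, k a ≤ Nat.card K) ∧ (∀ a b, IsConj a b → k a = k b) ∧
      (∀ a b, ¬ IsConj a b → k a + k b ≤ Nat.card K) ∧
      (∀ a, k a ≠ 0 → ∃ u, IsConj a u ∧ ∀ x ∈ P, u * x * u⁻¹ = x⁻¹) := by
  obtain ⟨k, hk, hk2⟩ := h.pair
  refine ⟨k, fun t u v w ht hu => ?_, hk2⟩
  have h1 := hk t u ht.sq hu.sq
  rw [sum_list hnd hmem, h.ε_one, ht.val, hu.val, ht.v_tr, hu.v_tr, dg_eq, dg_tr] at h1
  have h2 : (l.map fun χ => (ε χ : ℂ) * ((χ : G → ℂ) t * (χ : G → ℂ) u / (χ : G → ℂ) 1)).sum =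
      (((l.map fun χ => (ε χ * v χ * w χ : ℚ) / dg χ).sum : ℚ) : ℂ) := by
    rw [← Rat.coe_castHom, map_list_sum, List.map_map]
    congr 1
    refine List.map_congr_left fun χ _ => ?_
    simp only [Function.comp_apply, Rat.coe_castHom, ht.val, hu.val, dg_eq]
    push_cast
    ring
  rw [h2] at h1
  have e1 := (centralizer ({t} : Set G)).card_mul_index
  have e2 := (centralizer ({u} : Set G)).card_mul_index
  set A := (l.map fun χ => (ε χ * v χ * w χ : ℚ) / dg χ).sum with hA
  have h3 : ((p : ℚ) * ((k t : ℚ) * k u)) * Nat.card G =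
      (centralizer ({t} : Set G)).index * (centralizer ({u} : Set G)).index * Nat.card K *
        (1 + A) := by
    have h4 : ((((p : ℚ) * ((k t : ℚ) * k u)) * Nat.card G : ℚ) : ℂ) =
        (((centralizer ({t} : Set G)).index * (centralizer ({u} : Set G)).index * Nat.card K *
        (1 + A) : ℚ) : ℂ) := by
      push_cast
      push_cast at h1
      linear_combination h1
    exact_mod_cast h4
  have e1' : (Nat.card (centralizer ({t} : Set G)) : ℚ) * (centralizer ({t} : Set G)).index =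
      Nat.card G := by exact_mod_cast e1
  have e2' : (Nat.card (centralizer ({u} : Set G)) : ℚ) * (centralizer ({u} : Set G)).index =
      Nat.card G := by exact_mod_cast e2
  have hG : (Nat.card G : ℚ) ≠ 0 := by exact_mod_cast Nat.card_pos.ne'
  apply mul_right_cancel₀ hG
  calc (p : ℚ) * ((k t : ℚ) * k u) * ((Nat.card (centralizer ({t} : Set G)) : ℚ) *
        Nat.card (centralizer ({u} : Set G))) * Nat.card G
      = (((p : ℚ) * ((k t : ℚ) * k u)) * Nat.card G) *
        ((Nat.card (centralizer ({t} : Set G)) : ℚ) *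
        Nat.card (centralizer ({u} : Set G))) := by ring
    _ = ((Nat.card (centralizer ({t} : Set G)) : ℚ) * (centralizer ({t} : Set G)).index) *
        ((Nat.card (centralizer ({u} : Set G)) : ℚ) * (centralizer ({u} : Set G)).index) *
        Nat.card K * (1 + A) := by rw [h3]; ring
    _ = _ := by rw [e1', e2']; ring

/-- If `p ∣ |C(t)|` then a conjugate of `t` centralises `P`. -/
theorem exists_conj_of_dvd {t : G} (hP : Nat.card P = p)
    (hdvd : p ∣ Nat.card (centralizer ({t} : Set G))) :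
    ∃ u, IsConj t u ∧ u ∈ centralizer (P : Set G) := by
  obtain ⟨⟨x, hx⟩, hox⟩ := exists_prime_orderOf_dvd_card' p hdvd
  have hox' : orderOf x = p := by rwa [← Subgroup.orderOf_coe] at hox
  obtain ⟨c, hc⟩ := InvolFour.exists_conj_mem_sylow P hox'
  have hc1 : c * x * c⁻¹ ≠ 1 := by
    intro h2
    have h3 : x = 1 := by
      have h4 : x = c⁻¹ * (c * x * c⁻¹) * c := by group
      rw [h4, h2, mul_one, inv_mul_cancel]
    rw [h3, orderOf_one] at hox'
    exact hp.out.one_lt.ne hox'
  refine ⟨c * t * c⁻¹, isConj_iff.2 ⟨c, rfl⟩, ?_⟩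
  have h2 : centralizer ({c * x * c⁻¹} : Set G) = centralizer (P : Set G) :=
    BlockIndex.centralizer_eq (P := (P : Subgroup G)) hP hc hc1
  rw [← h2, mem_centralizer_singleton_iff]
  have h4 := mem_centralizer_singleton_iff.1 hx
  calc c * t * c⁻¹ * (c * x * c⁻¹) = c * (t * x) * c⁻¹ := by group
    _ = c * (x * t) * c⁻¹ := by rw [h4]
    _ = c * x * c⁻¹ * (c * t * c⁻¹) := by group

/-- Values of the characters of the block at involutions whose centraliser has order divisible
by `p`. -/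
theorem modEq_of_dvd (h : Flat p P M B ε) (hP : Nat.card P = p) (hp2 : p ≠ 2) {t : G}
    {v : IrrCharacter G → ℤ} (hv : Column t v)
    (hdvd : p ∣ Nat.card (centralizer ({t} : Set G))) {χ : IrrCharacter G} (hχ : χ ∈ B) :
    v χ ≡ ε χ [ZMOD p] := by
  obtain ⟨u, hu, huP⟩ := exists_conj_of_dvd hP hdvd
  have hvu := column_conj hv hu
  exact h.val_modEq hP hχ huP (hvu.not_dvd hp.out hp2) (hvu.val χ)

/-- Values of the characters of degree divisible by `p` at involutions whose centraliser has order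
divisible by `p`. -/
theorem dvd_of_dvd {M : Ideal AlgInt} (hM : IsPModular p M) (hG : p ∣ Nat.card G)
    (hG2 : ¬ p ^ 2 ∣ Nat.card G) (hP : Nat.card P = p) (hp2 : p ≠ 2) {t : G}
    {v : IrrCharacter G → ℤ} (hv : Column t v)
    (hdvd : p ∣ Nat.card (centralizer ({t} : Set G))) {χ : IrrCharacter G} (hχ : p ∣ dg χ) :
    (p : ℤ) ∣ v χ := by
  obtain ⟨u, hu, huP⟩ := exists_conj_of_dvd hP hdvd
  have hvu := column_conj hv hu
  exact ElevenTwelve.dvd_of_dvd_degree hP hM hG hG2 huP (hvu.not_dvd hp.out hp2) hχ (hvu.val χ)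

end Flat

/-! ### Specialisations -/

section Special

variable [IsSimpleGroup G] (H : Setup.Hyp G)

/-- The principal 5-block as a list. -/
theorem five_mem {R : Sylow 5 G} {K : Subgroup G} {M : Ideal AlgInt}
    {B : Finset (IrrCharacter G)} {ε : IrrCharacter G → ℤ} {a b c d : IrrCharacter G}
    (h5 : B5 R K M B ε a b c d) : (tr G :: [a, b, c, d]).Nodup ∧
      ∀ χ, χ ∈ B ↔ χ ∈ tr G :: [a, b, c, d] := ⟨h5.nodup, h5.mem⟩

/-- The relation of the principal 7-block, `e = 6`. -/
theorem seven_rel_six {S : Sylow 7 G} {K' : Subgroup G} {M' : Ideal AlgInt}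
    {B' : Finset (IrrCharacter G)} {ε' : IrrCharacter G → ℤ} {l : List (IrrCharacter G)}
    {b : IrrCharacter G} (h7 : B7six S K' M' B' ε' l b) {t : G} {v : IrrCharacter G → ℤ}
    (hv : Column t v) : 1 + (l.map fun χ => ε' χ * v χ).sum = 0 := by
  have : Fact (Nat.Prime 7) := ⟨by norm_num⟩
  exact rel_list h7.loc.toFlat h7.nodup h7.mem (by norm_num) hv

/-- The pair formula of the principal 7-block, `e = 6`. -/
theorem seven_pair_six {S : Sylow 7 G} {K' : Subgroup G} {M' : Ideal AlgInt}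
    {B' : Finset (IrrCharacter G)} {ε' : IrrCharacter G → ℤ} {l : List (IrrCharacter G)}
    {b : IrrCharacter G} (h7 : B7six S K' M' B' ε' l b) : ∃ k : G → ℕ,
    (∀ (t u : G) (v w : IrrCharacter G → ℤ), Column t v → Column u w →
      ((7 : ℕ) : ℚ) * ((k t : ℚ) * k u) * ((Nat.card (centralizer ({t} : Set G)) : ℚ) *
        Nat.card (centralizer ({u} : Set G))) = Nat.card G * Nat.card K' *
        (1 + (l.map fun χ => (ε' χ * v χ * w χ : ℚ) / dg χ).sum)) ∧
      (∀ a, k a ≤ Nat.card K') ∧ (∀ a b, IsConj a b → k a = k b) ∧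
      (∀ a b, ¬ IsConj a b → k a + k b ≤ Nat.card K') ∧
      (∀ a, k a ≠ 0 → ∃ u, IsConj a u ∧ ∀ x ∈ S, u * x * u⁻¹ = x⁻¹) := by
  have : Fact (Nat.Prime 7) := ⟨by norm_num⟩
  exact pair_list h7.loc h7.nodup h7.mem

/-- The pair formula of the principal 5-block. -/
theorem five_pair_list {R : Sylow 5 G} {K : Subgroup G} {M : Ideal AlgInt}
    {B : Finset (IrrCharacter G)} {ε : IrrCharacter G → ℤ} {a b c d : IrrCharacter G}
    (h5 : B5 R K M B ε a b c d) : ∃ k : G → ℕ,
    (∀ (t u : G) (v w : IrrCharacter G → ℤ), Column t v → Column u w →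
      (5 : ℚ) * ((k t : ℚ) * k u) * ((Nat.card (centralizer ({t} : Set G)) : ℚ) *
        Nat.card (centralizer ({u} : Set G))) = Nat.card G * Nat.card K *
        (1 - (v a * w a : ℚ) / 5544 - (v b * w b : ℚ) / 2024 + (v c * w c : ℚ) / dg c +
          (v d * w d : ℚ) / dg d)) ∧
      (∀ a, k a ≤ Nat.card K) ∧ (∀ a b, IsConj a b → k a = k b) ∧
      (∀ a b, ¬ IsConj a b → k a + k b ≤ Nat.card K) ∧
      (∀ a, k a ≠ 0 → ∃ u, IsConj a u ∧ ∀ x ∈ R, u * x * u⁻¹ = x⁻¹) := by
  have : Fact (Nat.Prime 5) := ⟨by norm_num⟩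
  obtain ⟨k, hk, hk2⟩ := pair_list h5.loc h5.nodup h5.mem
  refine ⟨k, fun t u v w ht hu => ?_, hk2⟩
  have h1 := hk t u v w ht hu
  simp only [List.map_cons, List.map_nil, List.sum_cons, List.sum_nil, add_zero, h5.ε_a, h5.ε_b,
    h5.ε_c, h5.ε_d, h5.dg_a, h5.dg_b] at h1
  push_cast at h1
  rw [h1]
  ring

include H

/-- Characters of the principal 5-block at involutions `t` with `5 ∣ |C(t)|`. -/
theorem five_modEq {R : Sylow 5 G} {K : Subgroup G} {M : Ideal AlgInt}
    {B : Finset (IrrCharacter G)} {ε : IrrCharacter G → ℤ} {a b c d : IrrCharacter G}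
    (h5 : B5 R K M B ε a b c d) {t : G} {v : IrrCharacter G → ℤ} (hv : Column t v)
    (hdvd : 5 ∣ Nat.card (centralizer ({t} : Set G))) {χ : IrrCharacter G} (hχ : χ ∈ B) :
    v χ ≡ ε χ [ZMOD 5] := by
  have : Fact (Nat.Prime 5) := ⟨by norm_num⟩
  exact modEq_of_dvd h5.loc.toFlat (card_five H R) (by norm_num) hv hdvd hχ

/-- Characters of degree divisible by 5 at involutions `t` with `5 ∣ |C(t)|`. -/
theorem five_dvd {t : G} {v : IrrCharacter G → ℤ} (hv : Column t v)
    (hdvd : 5 ∣ Nat.card (centralizer ({t} : Set G))) {χ : IrrCharacter G} (hχ : 5 ∣ dg χ) :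
    (5 : ℤ) ∣ v χ := by
  have : Fact (Nat.Prime 5) := ⟨by norm_num⟩
  obtain ⟨M, hM⟩ := Blocks.ExistsModular.exists_isPModular (p := 5) (by norm_num)
  obtain ⟨R⟩ : Nonempty (Sylow 5 G) := inferInstance
  exact dvd_of_dvd hM (by rw [H.hcard]; norm_num) (by rw [H.hcard]; norm_num) (card_five H R)
    (by norm_num) hv hdvd hχ

/-- Characters of the principal 7-block at involutions `t` with `7 ∣ |C(t)|`, `e = 6`. -/
theorem seven_modEq_six {S : Sylow 7 G} {K' : Subgroup G} {M' : Ideal AlgInt}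
    {B' : Finset (IrrCharacter G)} {ε' : IrrCharacter G → ℤ} {l : List (IrrCharacter G)}
    {b : IrrCharacter G} (h7 : B7six S K' M' B' ε' l b) {t : G} {v : IrrCharacter G → ℤ}
    (hv : Column t v) (hdvd : 7 ∣ Nat.card (centralizer ({t} : Set G))) {χ : IrrCharacter G}
    (hχ : χ ∈ B') : v χ ≡ ε' χ [ZMOD 7] := by
  have : Fact (Nat.Prime 7) := ⟨by norm_num⟩
  exact modEq_of_dvd h7.loc.toFlat (card_seven H S) (by norm_num) hv hdvd hχ

/-- Characters of degree divisible by 7 at involutions `t` with `7 ∣ |C(t)|`. -/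
theorem seven_dvd {t : G} {v : IrrCharacter G → ℤ} (hv : Column t v)
    (hdvd : 7 ∣ Nat.card (centralizer ({t} : Set G))) {χ : IrrCharacter G} (hχ : 7 ∣ dg χ) :
    (7 : ℤ) ∣ v χ := by
  have : Fact (Nat.Prime 7) := ⟨by norm_num⟩
  obtain ⟨M, hM⟩ := Blocks.ExistsModular.exists_isPModular (p := 7) (by norm_num)
  obtain ⟨S⟩ : Nonempty (Sylow 7 G) := inferInstance
  exact dvd_of_dvd hM (by rw [H.hcard]; norm_num) (by rw [H.hcard]; norm_num) (card_seven H S)
    (by norm_num) hv hdvd hχ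

end Special

end Cfsg.Agent.SporadicA.M24.ColSix
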