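import Cfsg.Agent.SporadicA.M24.KFiveLocal
import Cfsg.Agent.SporadicA.M24.RowT1
import Cfsg.Agent.Lib.Cores
import Cfsg.Agent.Lib.NormalAbelian

/-!
# (L7): `|N(P)| = 42 * 24`: an involution of the complement `K` with few conjugates under `N(P)`
-/

set_option autoImplicit false

namespace Cfsg.Agent.SporadicA.M24.LSeven

open Cfsg Subgroup
open Cfsg.Agent Cfsg.Agent.Lib
open Cfsg.Agent.SmallSimple

universe u

/-- A group of order 24 has a non-trivial normal 2-subgroup. -/
theorem pCore_ne_bot {K : Type u} [Group K] [Finite K] (hK : Nat.card K = 24) :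
    pCore 2 K ≠ ⊥ := by
  classical
  have h2 : Fact (Nat.Prime 2) := ⟨Nat.prime_two⟩
  obtain ⟨T⟩ : Nonempty (Sylow 2 K) := inferInstance
  have hT : Nat.card T = 8 := by
    rw [T.card_eq_multiplicity, hK]
    have : Nat.factorization 24 2 = 3 := by
      rw [show (24 : ℕ) = 2 ^ 3 * 3 from rfl, Nat.factorization_mul (by norm_num) (by norm_num),
        Nat.factorization_pow]
      simp [Nat.Prime.factorization Nat.prime_two, Nat.Prime.factorization Nat.prime_three]
    rw [this]
    rfl
  have hidx : (T : Subgroup K).index = 3 := by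
    have := (T : Subgroup K).card_mul_index
    rw [hK] at this
    have h8 : Nat.card (T : Subgroup K) = 8 := hT
    rw [h8] at this
    omega
  have h3 : (T : Subgroup K).normalCore.index ∣ 6 := by
    rw [Subgroup.normalCore_eq_ker, Subgroup.index_ker]
    have h4 := Subgroup.card_subgroup_dvd_card (MulAction.toPermHom K (K ⧸ (T : Subgroup K))).range
    rw [Nat.card_perm] at h4
    have h5 : Nat.card (K ⧸ (T : Subgroup K)) = 3 := hidx
    rw [h5] at h4
    exact h4
  intro hbot
  have h4 : (T : Subgroup K).normalCore ≤ pCore 2 K :=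
    Cores.le_pCore inferInstance (T.isPGroup'.to_le (Subgroup.normalCore_le _))
  rw [hbot, le_bot_iff] at h4
  rw [h4, Subgroup.index_bot, hK] at h3
  omega

/-- A non-trivial normal 2-subgroup contains an involution centralised by a Sylow 2-subgroup. -/
theorem exists_invol {N : Type u} [Group N] [Finite N] {V : Subgroup N} (hV : V.Normal)
    (h2 : IsPGroup 2 V) (hne : V ≠ ⊥) : ∃ t ∈ V, t * t = 1 ∧ t ≠ 1 ∧
      ∃ U : Sylow 2 N, (U : Subgroup N) ≤ centralizer ({t} : Set N) := by
  classical
  have hp : Fact (Nat.Prime 2) := ⟨Nat.prime_two⟩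
  obtain ⟨U⟩ : Nonempty (Sylow 2 N) := inferInstance
  have hVU : V ≤ U := (Cores.le_pCore hV h2).trans (Cores.pCore_le_sylow U)
  have hnil : Group.IsNilpotent U := U.isPGroup'.isNilpotent
  have hn : (V.subgroupOf (U : Subgroup N)).Normal := by infer_instance
  have hne' : V.subgroupOf (U : Subgroup N) ≠ ⊥ := by
    intro h
    apply hne
    rw [subgroupOf_eq_bot, disjoint_iff] at h
    rwa [inf_eq_left.2 hVU] at h
  have h3 := NormalAbelian.normal_inf_center_ne_bot _ hne'
  obtain ⟨⟨z, hz⟩, hz'⟩ := Subgroup.ne_bot_iff_exists_ne_one.1 h3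
  have hz1 : z ≠ 1 := fun h => hz' (Subtype.ext h)
  have hz2 : (z : N) ∈ V := hz.1
  obtain ⟨k, hk⟩ := (IsPGroup.iff_orderOf.1 U.isPGroup') z
  have hk0 : k ≠ 0 := by
    rintro rfl
    rw [pow_zero, orderOf_eq_one_iff] at hk
    exact hz1 hk
  obtain ⟨m, rfl⟩ := Nat.exists_eq_succ_of_ne_zero hk0
  refine ⟨(z : N) ^ 2 ^ m, V.pow_mem hz2 _, ?_, ?_, U, ?_⟩
  · rw [← pow_add, ← two_mul, ← pow_succ']
    have h4 : z ^ (2 ^ (m + 1)) = 1 := by rw [← hk]; exact pow_orderOf_eq_one z
    exact congrArg Subtype.val h4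
  · intro h
    have h4 : z ^ (2 ^ m) = 1 := Subtype.ext h
    have h5 := orderOf_dvd_of_pow_eq_one h4
    rw [hk] at h5
    have h6 := Nat.le_of_dvd (by positivity) h5
    have h7 : 2 ^ m < 2 ^ m.succ := Nat.pow_lt_pow_right (by norm_num) (Nat.lt_succ_self m)
    omega
  · intro x hx
    rw [mem_centralizer_singleton_iff]
    have h4 := (Subgroup.mem_center_iff.1 hz.2) ⟨x, hx⟩
    have h5 : Commute (⟨x, hx⟩ : U) z := h4
    have h6 := (h5.pow_right (2 ^ m)).eq
    exact congrArg Subtype.val h6

variable {G : Type u} [Group G] [Finite G]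

/-- **(L7)** -/
theorem exists_row {S : Sylow 7 G} {K : Subgroup G} (h : PrimeLocal.IsLocal 7 S 6 K)
    (hK : Nat.card K = 24) : ∃ t ∈ K, t * t = 1 ∧ t ≠ 1 ∧ ∃ m n : ℕ,
      Nat.card (centralizer ({t} : Set G)) = m * n ∧ n % 7 = 1 ∧ (m = 336 ∨ m = 1008) := by
  classical
  have h7 : Fact (Nat.Prime 7) := ⟨by norm_num⟩
  have h2 : Fact (Nat.Prime 2) := ⟨Nat.prime_two⟩
  set N : Subgroup G := normalizer (S : Set G) with hN
  have hNc : Nat.card N = 1008 := by rw [hN, h.card_normalizer, hK]
  have hKC : K ≤ centralizer (S : Set G) := h.le_centralizer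
  have hKN : K ≤ N := hKC.trans (SylowPrimeCount.centralizer_le_normalizer' (S : Subgroup G))
  have hKn : (K.subgroupOf N).Normal := by
    refine ⟨fun x hx g => ?_⟩
    rw [mem_subgroupOf] at hx ⊢
    exact (mem_normalizer_iff.1 (h.normalizer_le g.2) _).1 hx
  have hKc : Nat.card (K.subgroupOf N) = 24 := by
    rw [Nat.card_congr (subgroupOfEquivOfLe hKN).toEquiv, hK]
  set V : Subgroup N := K.subgroupOf N ⊓ pCore 2 N with hV
  have hVm : (pCore 2 (K.subgroupOf N)).map (K.subgroupOf N).subtype = V :=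
    Cores.map_subtype_pCore 2 hKn
  have hVne : V ≠ ⊥ := by
    rw [← hVm]
    intro h1
    rw [Subgroup.map_eq_bot_iff_of_injective _ (Subgroup.subtype_injective _)] at h1
    exact pCore_ne_bot hKc h1
  have hVn : V.Normal := by
    have := Cores.pCore_normal (G := N) 2
    rw [hV]
    infer_instance
  have hVp : IsPGroup 2 V := (Cores.pCore_isPGroup (G := N) 2).to_le inf_le_right
  have hVc : Nat.card V ≤ 8 := by
    obtain ⟨k, hk⟩ := hVp.exists_card_eq
    have h3 : Nat.card V ∣ 24 := by
      rw [← hKc]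
      exact Subgroup.card_dvd_of_le inf_le_left
    rw [hk] at h3 ⊢
    by_contra h4
    have h5 : 3 < k := by
      by_contra h6
      exact h4 (Nat.pow_le_pow_right (by norm_num) (by omega : k ≤ 3))
    have h7 : (16 : ℕ) ∣ 24 := (pow_dvd_pow 2 h5).trans h3
    omega
  obtain ⟨t, ht, htt, ht1, U, hU⟩ := exists_invol hVn hVp hVne
  refine ⟨t, ht.1, by exact_mod_cast congrArg Subtype.val htt,
    fun h3 => ht1 (Subtype.ext h3), ?_⟩
  have htK : (t : G) ∈ K := ht.1
  obtain ⟨n, hn1, hn2⟩ := KFiveLocal.card_centralizer_eq S (hKC htK)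
  refine ⟨_, n, hn2, hn1, ?_⟩
  -- order of the centraliser in `N`
  set C : Subgroup N := centralizer ({t} : Set N) with hC
  have hCC : Nat.card ((N ⊓ centralizer ({(t : G)} : Set G) : Subgroup G)) = Nat.card C := by
    have h3 : C = (N ⊓ centralizer ({(t : G)} : Set G)).subgroupOf N := by
      ext x
      rw [hC, mem_centralizer_singleton_iff, mem_subgroupOf, mem_inf,
        mem_centralizer_singleton_iff]
      constructor
      · intro h4
        exact ⟨x.2, congrArg Subtype.val h4⟩
      · intro h4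
        exact Subtype.ext h4.2
    rw [h3]
    exact (Nat.card_congr (subgroupOfEquivOfLe inf_le_left).toEquiv).symm
  rw [hCC]
  have h16 : 16 ∣ Nat.card C := by
    have h3 : Nat.card U = 16 := by
      rw [U.card_eq_multiplicity, hNc]
      have : Nat.factorization 1008 2 = 4 := by
        rw [show (1008 : ℕ) = 2 ^ 4 * 63 from rfl,
          Nat.factorization_mul (by norm_num) (by norm_num), Nat.factorization_pow]
        simp [Nat.Prime.factorization Nat.prime_two,
          Nat.factorization_eq_zero_of_not_dvd (by norm_num : ¬ 2 ∣ 63)]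
      rw [this]
      rfl
    rw [← h3]
    exact Subgroup.card_dvd_of_le hU
  have h7' : 7 ∣ Nat.card C := by
    have h3 : ((S : Subgroup G).subgroupOf N) ≤ C := by
      intro x hx
      rw [hC, mem_centralizer_singleton_iff]
      apply Subtype.ext
      have h4 := mem_centralizer_iff.1 (hKC htK) (x : G) hx
      exact h4
    have h4 := Subgroup.card_dvd_of_le h3
    have h5 : Nat.card ((S : Subgroup G).subgroupOf N) = Nat.card S :=
      Nat.card_congr (subgroupOfEquivOfLe le_normalizer).toEquiv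
    rw [h5] at h4
    refine dvd_trans ?_ h4
    have h9 : 7 ∣ Nat.card G := by
      have h10 : (1008 : ℕ) ∣ Nat.card G := by
        rw [← hNc]; exact Subgroup.card_subgroup_dvd_card N
      exact dvd_trans (by norm_num) h10
    exact S.dvd_card_of_dvd_card h9
  have h1008 : Nat.card C ∣ 1008 := by
    rw [← hNc]; exact Subgroup.card_subgroup_dvd_card C
  have hidx : C.index < 8 := by
    have h3 : C.index < Nat.card V := by
      have := Fintype.ofFinite V
      have h4 := RowT1.card_orbit (⊤ : Subgroup N) t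
      rw [Subgroup.relIndex_top_right] at h4
      rw [← h4]
      have h5 : ∀ x : {x : N // ∃ n ∈ (⊤ : Subgroup N), n * t * n⁻¹ = x}, (x : N) ∈ V := by
        rintro ⟨x, n, hn, rfl⟩
        exact hVn.conj_mem t ht n
      have := Fintype.ofFinite {x : N // ∃ n ∈ (⊤ : Subgroup N), n * t * n⁻¹ = x}
      rw [Nat.card_eq_fintype_card, Nat.card_eq_fintype_card]
      refine Fintype.card_lt_of_injective_of_notMem (fun x => (⟨x, h5 x⟩ : V)) ?_ (b := 1) ?_
      · intro x y h
        exact Subtype.ext (congrArg (fun k : V => (k : N)) h)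
      · rintro ⟨⟨x, n, hn, rfl⟩, h⟩
        have h2 : n * t * n⁻¹ = 1 := congrArg Subtype.val h
        apply ht1
        calc t = n⁻¹ * (n * t * n⁻¹) * n := by group
          _ = 1 := by rw [h2]; group
    omega
  have h3 := C.card_mul_index
  rw [hNc] at h3
  obtain ⟨c, hc⟩ := Nat.Coprime.mul_dvd_of_dvd_of_dvd (by norm_num : Nat.Coprime 16 7) h16 h7'
  rw [hc] at h3 ⊢
  have h4 : c * C.index = 9 := by nlinarith
  have h5 : c ∣ 9 := ⟨_, h4.symm⟩
  have h6 : c ≤ 9 := Nat.le_of_dvd (by norm_num) h5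
  interval_cases c <;> omega

end Cfsg.Agent.SporadicA.M24.LSeven
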