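import Cfsg.Agent.SporadicA.M24.ColSix
import Cfsg.Agent.SmallSimple.PrimeFusion
import Cfsg.Agent.M24Order.LastCol

/-!
# Gram inequalities for several columns

* `conv` : `SporadicA.M24.Setup.Hyp` to `M24Order.Setup.Hyp`;
* `le_u` : `11 * |v χ| ≤ dg χ + 10 * uu χ` if `u` is conjugate to an element inverting `H.Q`;
* `psd_gen` : the general inequality for orthogonal columns;
* `psd` : `∑_S (a dg + b uu + c vv + d y + e v + f w)² ≤ a² |G| + 11 b² + 5566 c² + d² |C(S₇)| +
  e² |C(t)| + f² |C(u)|`; `uu` the value at elements of order 11, `vv` the sum over the nontrivial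
  elements of the Sylow 23-subgroup (`22, -22, -11, 11, 0`), `y` the value at elements of order 7.
-/

set_option autoImplicit false
set_option linter.unusedSectionVars false

open Cfsg Subgroup
open Cfsg.Agent.Characters.Core
open Cfsg.Agent.SmallSimple
open Cfsg.Agent.SmallSimple.FlatBlock
open Cfsg.Agent.M23Order.Base
open Cfsg.Agent.M24Order.Setup (uu vv)
open Cfsg.Agent.SporadicA.M24.Col
open Cfsg.Agent.SporadicA.M24.Seven
open scoped ComplexConjugate

namespace Cfsg.Agent.SporadicA.M24.Psd

universe u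

variable {G : Type u} [Group G] [Finite G]

/-- The two structures of hypotheses have the same fields. -/
@[reducible] def conv (H : Setup.Hyp G) : M24Order.Setup.Hyp G :=
  { hcard := H.hcard, hcomm := H.hcomm, P := H.P, hP := H.hP, hCP := H.hCP, heP := H.heP,
    Q := H.Q, hQ := H.hQ, hCQ := H.hCQ, heQ := H.heQ, D := H.D, E := H.E }

/-- The bound for involutions conjugate to an element inverting `H.Q`. -/
theorem le_u [IsSimpleGroup G] (H : Setup.Hyp G) {t : G} {v : IrrCharacter G → ℤ}
    (hv : Column t v) (h : ∃ w, IsConj w t ∧ ∀ x ∈ (H.Q : Subgroup G), w * x * w⁻¹ = x⁻¹)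
    (χ : IrrCharacter G) : 11 * |v χ| ≤ dg χ + 10 * uu χ := by
  obtain ⟨w, hw, hinv⟩ := h
  have hvw := ColSix.column_conj hv hw.symm
  have := Fintype.ofFinite (H.Q : Subgroup G)
  have hQ : Nat.card (H.Q : Subgroup G) = 11 := H.hQ
  have h := M24Order.Last.abs_le_of_inverts (Q := (H.Q : Subgroup G)) (by rw [hQ]; decide)
    hvw.ne_one hvw.sq hinv (isIrr_isCharacter χ.2) (hvw.val χ)
    (M24Order.Last.Last.sum_Q (conv H) χ)
  rw [hQ] at h
  exact_mod_cast h

/-! ### Orthogonality -/

/-- `f χ = ∑_{g ∈ T} χ(g)`. -/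
def IsSum (f : IrrCharacter G → ℤ) (T : Finset G) : Prop :=
  ∀ χ : IrrCharacter G, (f χ : ℂ) = ∑ g ∈ T, (χ : G → ℂ) g

theorem isSum_column {t : G} {v : IrrCharacter G → ℤ} (hv : Column t v) : IsSum v {t} := by
  intro χ
  rw [Finset.sum_singleton, hv.val]

theorem isSum_dg : IsSum (G := G) (fun χ => (dg χ : ℤ)) {1} := by
  intro χ
  rw [Finset.sum_singleton, dg_eq]
  push_cast
  rfl

theorem sum_mul_zero [Fintype (IrrCharacter G)] {f f' : IrrCharacter G → ℤ} {T T' : Finset G}
    (hf : IsSum f T) (hf' : IsSum f' T') (h : ∀ g ∈ T, ∀ g' ∈ T', ¬ IsConj g g') :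
    ∑ χ : IrrCharacter G, f χ * f' χ = 0 := by
  have := Fintype.ofFinite G
  have h' : ((∑ χ : IrrCharacter G, f χ * f' χ : ℤ) : ℂ) = ((0 : ℤ) : ℂ) := by
    rw [Int.cast_sum, Int.cast_zero]
    calc ∑ χ : IrrCharacter G, ((f χ * f' χ : ℤ) : ℂ)
        = ∑ χ : IrrCharacter G, ∑ g ∈ T, ∑ g' ∈ T', (χ : G → ℂ) g * conj ((χ : G → ℂ) g') := by
          refine Finset.sum_congr rfl fun χ _ => ?_
          have e1 : ((f' χ : ℤ) : ℂ) = conj ((f' χ : ℤ) : ℂ) := by rw [map_intCast]
          rw [Int.cast_mul, e1, hf χ, hf' χ, map_sum, Finset.sum_mul_sum]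
      _ = ∑ g ∈ T, ∑ g' ∈ T', ∑ χ : IrrCharacter G, (χ : G → ℂ) g * conj ((χ : G → ℂ) g') := by
          rw [Finset.sum_comm]
          exact Finset.sum_congr rfl fun g _ => Finset.sum_comm
      _ = 0 := by
          refine Finset.sum_eq_zero fun g hg => Finset.sum_eq_zero fun g' hg' => ?_
          have h1 := (Cfsg.Agent.S0145.result g g').2 (h g hg g' hg')
          rw [finsum_eq_sum_of_fintype] at h1
          exact h1
  exact_mod_cast h'

/-- The general Gram inequality. -/
theorem psd_gen {ι : Type*} [Fintype ι] [DecidableEq ι] {f : ι → IrrCharacter G → ℤ} {N : ι → ℤ}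
    (h1 : ∀ [Fintype (IrrCharacter G)] (i : ι), ∑ χ : IrrCharacter G, f i χ ^ 2 = N i)
    (h2 : ∀ [Fintype (IrrCharacter G)] (i j : ι), i ≠ j →
      ∑ χ : IrrCharacter G, f i χ * f j χ = 0)
    (S : Finset (IrrCharacter G)) (c : ι → ℤ) :
    ∑ χ ∈ S, (∑ i, c i * f i χ) ^ 2 ≤ ∑ i, c i ^ 2 * N i := by
  classical
  have := finite_irr (G := G)
  have := Fintype.ofFinite (IrrCharacter G)
  calc ∑ χ ∈ S, (∑ i, c i * f i χ) ^ 2 ≤ ∑ χ : IrrCharacter G, (∑ i, c i * f i χ) ^ 2 :=
        Finset.sum_le_sum_of_subset_of_nonneg (Finset.subset_univ _) fun χ _ _ => sq_nonneg _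
    _ = ∑ χ : IrrCharacter G, ∑ i, ∑ j, c i * c j * (f i χ * f j χ) := by
        refine Finset.sum_congr rfl fun χ _ => ?_
        rw [pow_two, Finset.sum_mul_sum]
        exact Finset.sum_congr rfl fun i _ => Finset.sum_congr rfl fun j _ => by ring
    _ = ∑ i, ∑ j, c i * c j * ∑ χ : IrrCharacter G, f i χ * f j χ := by
        rw [Finset.sum_comm]
        refine Finset.sum_congr rfl fun i _ => ?_
        rw [Finset.sum_comm]
        exact Finset.sum_congr rfl fun j _ => by rw [Finset.mul_sum]
    _ = ∑ i, c i ^ 2 * N i := by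
        refine Finset.sum_congr rfl fun i _ => ?_
        rw [Finset.sum_eq_single i]
        · have h3 : ∑ χ : IrrCharacter G, f i χ * f i χ = N i := by
            rw [← h1 i]
            exact Finset.sum_congr rfl fun χ _ => by ring
          rw [h3]; ring
        · intro j _ hj
          rw [h2 i j (Ne.symm hj), mul_zero]
        · intro h; exact absurd (Finset.mem_univ i) h

/-! ### The columns of elements of order 7, 11 and 23 -/

/-- The sum of squares of an integral column. -/
theorem sum_sq_single [Fintype (IrrCharacter G)] {f : IrrCharacter G → ℤ} {g : G}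
    (hf : IsSum f {g}) : ∑ χ : IrrCharacter G, f χ ^ 2 = Nat.card (centralizer ({g} : Set G)) := by
  have := Fintype.ofFinite G
  have h1 := (Cfsg.Agent.S0145.result g g).1 (IsConj.refl g)
  rw [finsum_eq_sum_of_fintype] at h1
  have h' : ((∑ χ : IrrCharacter G, f χ ^ 2 : ℤ) : ℂ) =
      ((Nat.card (centralizer ({g} : Set G)) : ℤ) : ℂ) := by
    rw [Int.cast_sum]
    push_cast at h1 ⊢
    rw [← h1]
    refine Finset.sum_congr rfl fun χ _ => ?_
    have h2 := hf χ
    rw [Finset.sum_singleton] at h2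
    rw [← h2, map_intCast, pow_two]
  exact_mod_cast h'

theorem not_isConj_of_orderOf {g g' : G} (h : orderOf g ≠ orderOf g') : ¬ IsConj g g' := by
  intro hc
  obtain ⟨c, rfl⟩ := isConj_iff.1 hc
  exact h ((MulAut.conj c).orderOf_eq g).symm

theorem orderOf_of_mem_prime {p : ℕ} (hp : p.Prime) {Q : Subgroup G} (hQ : Nat.card Q = p)
    {x : G} (hx : x ∈ Q) (hx1 : x ≠ 1) : orderOf x = p := by
  have h1 : orderOf x ∣ p := by
    have := Subgroup.orderOf_dvd_natCard Q hx
    rwa [hQ] at this
  rcases (Nat.dvd_prime hp).1 h1 with h | h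
  · exact absurd (orderOf_eq_one_iff.1 h) hx1
  · exact h

section Main

variable [IsSimpleGroup G] (H : Setup.Hyp G)

include H

/-- The nontrivial elements of the Sylow 23-subgroup. -/
noncomputable def T23 : Finset G :=
  open Classical in
  have : Fintype G := Fintype.ofFinite G
  Finset.univ.filter fun x => x ∈ (H.P : Subgroup G) ∧ x ≠ 1

theorem mem_T23 {x : G} : x ∈ T23 H ↔ x ∈ (H.P : Subgroup G) ∧ x ≠ 1 := by
  classical
  unfold T23
  simp

theorem isSum_vv : IsSum vv (T23 H) := by
  classical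
  intro χ
  have := Fintype.ofFinite (H.P : Subgroup G)
  have h1 := M24Order.Setup.sum_vv (conv H) χ
  have h2 : ∑ x : (H.P : Subgroup G), (χ : G → ℂ) x = (χ : G → ℂ) 1 +
      ∑ x ∈ T23 H, (χ : G → ℂ) x := by
    rw [← Finset.add_sum_erase _ _ (Finset.mem_univ (1 : (H.P : Subgroup G))),
      OneMemClass.coe_one]
    congr 1
    refine Finset.sum_bij (fun x _ => (x : G)) ?_ ?_ ?_ ?_
    · intro x hx
      exact (mem_T23 H).2 ⟨x.2, fun h => Finset.ne_of_mem_erase hx (Subtype.ext h)⟩
    · intro x _ y _ h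
      exact Subtype.ext h
    · intro y hy
      obtain ⟨h3, h4⟩ := (mem_T23 H).1 hy
      exact ⟨⟨y, h3⟩, Finset.mem_erase.2 ⟨fun h => h4 (congrArg Subtype.val h),
        Finset.mem_univ _⟩, rfl⟩
    · intro x _; rfl
  have h3 : ∑ x : (H.P : Subgroup G), (χ : G → ℂ) x = dg χ + vv χ := h1
  rw [h2, dg_eq] at h3
  exact (add_left_cancel h3).symm

theorem sum_vv_sq [Fintype (IrrCharacter G)] : ∑ χ : IrrCharacter G, vv χ ^ 2 = 5566 := by
  classical
  have h1 : ∀ χ : IrrCharacter G, vv χ ^ 2 =
      (if χ ∈ H.D.NE then 484 else 0) + (if χ ∈ H.D.X then 121 else 0) := by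
    intro χ
    by_cases h1 : χ ∈ H.D.NE
    · have h2 : χ ∉ H.D.X := fun h => Finset.disjoint_left.1 H.D.disj h1 h
      rw [if_pos h1, if_neg h2]
      rcases Setup.mod23_NE H h1 with h | h
      · have : vv χ = 22 := by unfold vv; rw [if_pos h.2]
        rw [this]; norm_num
      · have : vv χ = -22 := by unfold vv; rw [if_neg (by omega), if_pos h.2]
        rw [this]; norm_num
    · by_cases h2 : χ ∈ H.D.X
      · rw [if_neg h1, if_pos h2]
        rcases Setup.mod23_X H h2 with h | h
        · have : vv χ = -11 := by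
            unfold vv; rw [if_neg (by omega), if_neg (by omega), if_pos h.2]
          rw [this]; norm_num
        · have : vv χ = 11 := by
            unfold vv; rw [if_neg (by omega), if_neg (by omega), if_neg (by omega), if_pos h.2]
          rw [this]; norm_num
      · rw [if_neg h1, if_neg h2]
        have h := Setup.mod23_out H h1 h2
        have : vv χ = 0 := by
          unfold vv; rw [if_neg (by omega), if_neg (by omega), if_neg (by omega), if_neg (by omega)]
        rw [this]; norm_num
  rw [Finset.sum_congr rfl fun χ _ => h1 χ, Finset.sum_add_distrib, ← Finset.sum_filter,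
    ← Finset.sum_filter, Finset.sum_const, Finset.sum_const]
  have h2 : Finset.univ.filter (fun χ => χ ∈ H.D.NE) = H.D.NE := by ext; simp
  have h3 : Finset.univ.filter (fun χ => χ ∈ H.D.X) = H.D.X := by ext; simp
  rw [h2, h3, H.D.card_NE, H.D.card_X]
  norm_num

theorem isSum_uu {y : G} (hy : y ∈ H.Q) (hy1 : y ≠ 1) : IsSum uu {y} := by
  intro χ
  rw [Finset.sum_singleton, M24Order.Setup.val_u (conv H) χ hy hy1]

/-- The Gram inequality for the columns of `1`, elements of order 11, 23, 7 and two non-conjugate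
involutions. -/
theorem psd {S : Sylow 7 G} {y : IrrCharacter G → ℤ}
    (hy : ∀ χ : IrrCharacter G, ∀ x ∈ S, x ≠ 1 → (χ : G → ℂ) x = y χ)
    {t u : G} {v w : IrrCharacter G → ℤ} (hv : Column t v) (hw : Column u w)
    (hc : ¬ IsConj t u) (s : Finset (IrrCharacter G)) (a b c d e f : ℤ) :
    ∑ χ ∈ s, (a * dg χ + b * uu χ + c * vv χ + d * y χ + e * v χ + f * w χ) ^ 2 ≤
      a ^ 2 * 244823040 + b ^ 2 * 11 + c ^ 2 * 5566 +
      d ^ 2 * Nat.card (centralizer (S : Set G)) +
      e ^ 2 * Nat.card (centralizer ({t} : Set G)) +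
      f ^ 2 * Nat.card (centralizer ({u} : Set G)) := by
  classical
  have h7p : Fact (Nat.Prime 7) := ⟨by norm_num⟩
  have hS : Nat.card S = 7 := card_seven H S
  obtain ⟨x7, hx7, hx71⟩ := BlockIndex.exists_ne_one (P := (S : Subgroup G)) hS
  have h11p : Fact (Nat.Prime 11) := ⟨by norm_num⟩
  obtain ⟨x11, hx11, hx111⟩ := BlockIndex.exists_ne_one (P := (H.Q : Subgroup G)) H.hQ
  have o7 : orderOf x7 = 7 := orderOf_of_mem_prime (by norm_num) hS hx7 hx71
  have o11 : orderOf x11 = 11 := orderOf_of_mem_prime (by norm_num) H.hQ hx11 hx111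
  have o23 : ∀ x ∈ T23 H, orderOf x = 23 := fun x hx =>
    orderOf_of_mem_prime (by norm_num) H.hP ((mem_T23 H).1 hx).1 ((mem_T23 H).1 hx).2
  have i7 : IsSum y {x7} := fun χ => by rw [Finset.sum_singleton, hy χ x7 hx7 hx71]
  have c7 : centralizer ({x7} : Set G) = centralizer (S : Set G) :=
    BlockIndex.centralizer_eq (P := (S : Subgroup G)) hS hx7 hx71
  have c11 : centralizer ({x11} : Set G) = (H.Q : Subgroup G) :=
    (BlockIndex.centralizer_eq (P := (H.Q : Subgroup G)) H.hQ hx11 hx111).trans H.hCQ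
  have key := psd_gen (f := ![fun χ => (dg χ : ℤ), uu, vv, y, v, w])
    (N := ![244823040, 11, 5566, (Nat.card (centralizer (S : Set G)) : ℤ),
      (Nat.card (centralizer ({t} : Set G)) : ℤ), (Nat.card (centralizer ({u} : Set G)) : ℤ)])
    (fun {_} i => by
      fin_cases i
      · have h1 := sum_dg_sq (G := G)
        rw [H.hcard] at h1
        change ∑ χ : IrrCharacter G, (dg χ : ℤ) ^ 2 = 244823040
        exact_mod_cast h1
      · have h1 := sum_sq_single (isSum_uu H hx11 hx111)
        rw [c11, show Nat.card (H.Q : Subgroup G) = 11 from H.hQ] at h1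
        exact_mod_cast h1
      · exact sum_vv_sq H
      · have h1 := sum_sq_single i7
        rw [c7] at h1
        exact h1
      · exact Gram.sum_sq hv
      · exact Gram.sum_sq hw)
    (fun {_} i j hij => by
      let T : Fin 6 → Finset G := ![{1}, {x11}, T23 H, {x7}, {t}, {u}]
      have hT : ∀ i : Fin 6, IsSum ((![fun χ => (dg χ : ℤ), uu, vv, y, v, w] :
          Fin 6 → IrrCharacter G → ℤ) i) (T i) := by
        intro i
        fin_cases i
        · exact isSum_dg
        · exact isSum_uu H hx11 hx111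
        · exact isSum_vv H
        · exact i7
        · exact isSum_column hv
        · exact isSum_column hw
      have ho : ∀ i : Fin 6, ∀ g ∈ T i, orderOf g = (![1, 11, 23, 7, 2, 2] : Fin 6 → ℕ) i := by
        intro i
        fin_cases i
        · intro g hg
          rw [Finset.mem_singleton.1 hg, orderOf_one]; rfl
        · intro g hg
          rw [Finset.mem_singleton.1 hg, o11]; rfl
        · intro g hg
          rw [o23 g hg]; rfl
        · intro g hg
          rw [Finset.mem_singleton.1 hg, o7]; rfl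
        · intro g hg
          rw [Finset.mem_singleton.1 hg, hv.orderOf_eq]; rfl
        · intro g hg
          rw [Finset.mem_singleton.1 hg, hw.orderOf_eq]; rfl
      refine sum_mul_zero (hT i) (hT j) fun g hg g' hg' => ?_
      by_cases hne : (![1, 11, 23, 7, 2, 2] : Fin 6 → ℕ) i = (![1, 11, 23, 7, 2, 2] : Fin 6 → ℕ) j
      · have hall : ∀ i j : Fin 6, i ≠ j →
            (![1, 11, 23, 7, 2, 2] : Fin 6 → ℕ) i = (![1, 11, 23, 7, 2, 2] : Fin 6 → ℕ) j →
            (i = 4 ∧ j = 5) ∨ (i = 5 ∧ j = 4) := by decide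
        rcases hall i j hij hne with ⟨rfl, rfl⟩ | ⟨rfl, rfl⟩
        · rw [Finset.mem_singleton.1 hg, Finset.mem_singleton.1 hg']
          exact hc
        · rw [Finset.mem_singleton.1 hg, Finset.mem_singleton.1 hg']
          exact fun h => hc h.symm
      · exact not_isConj_of_orderOf (by rw [ho i g hg, ho j g' hg']; exact hne))
    s ![a, b, c, d, e, f]
  simp only [Fin.sum_univ_six, Matrix.cons_val_zero, Matrix.cons_val_one, Matrix.cons_val] at key
  refine le_trans (le_of_eq ?_) (le_trans key (le_of_eq ?_))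
  · rfl
  · ring

/-- The Gram inequality for the columns of `1`, elements of order 11, 23, 7 and one
involution. -/
theorem psd_one {S : Sylow 7 G} {y : IrrCharacter G → ℤ}
    (hy : ∀ χ : IrrCharacter G, ∀ x ∈ S, x ≠ 1 → (χ : G → ℂ) x = y χ)
    {t : G} {v : IrrCharacter G → ℤ} (hv : Column t v)
    (s : Finset (IrrCharacter G)) (a b c d e : ℤ) :
    ∑ χ ∈ s, (a * dg χ + b * uu χ + c * vv χ + d * y χ + e * v χ) ^ 2 ≤
      a ^ 2 * 244823040 + b ^ 2 * 11 + c ^ 2 * 5566 +
      d ^ 2 * Nat.card (centralizer (S : Set G)) +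
      e ^ 2 * Nat.card (centralizer ({t} : Set G)) := by
  classical
  have h7p : Fact (Nat.Prime 7) := ⟨by norm_num⟩
  have hS : Nat.card S = 7 := card_seven H S
  obtain ⟨x7, hx7, hx71⟩ := BlockIndex.exists_ne_one (P := (S : Subgroup G)) hS
  have h11p : Fact (Nat.Prime 11) := ⟨by norm_num⟩
  obtain ⟨x11, hx11, hx111⟩ := BlockIndex.exists_ne_one (P := (H.Q : Subgroup G)) H.hQ
  have o7 : orderOf x7 = 7 := orderOf_of_mem_prime (by norm_num) hS hx7 hx71
  have o11 : orderOf x11 = 11 := orderOf_of_mem_prime (by norm_num) H.hQ hx11 hx111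
  have o23 : ∀ x ∈ T23 H, orderOf x = 23 := fun x hx =>
    orderOf_of_mem_prime (by norm_num) H.hP ((mem_T23 H).1 hx).1 ((mem_T23 H).1 hx).2
  have i7 : IsSum y {x7} := fun χ => by rw [Finset.sum_singleton, hy χ x7 hx7 hx71]
  have c7 : centralizer ({x7} : Set G) = centralizer (S : Set G) :=
    BlockIndex.centralizer_eq (P := (S : Subgroup G)) hS hx7 hx71
  have c11 : centralizer ({x11} : Set G) = (H.Q : Subgroup G) :=
    (BlockIndex.centralizer_eq (P := (H.Q : Subgroup G)) H.hQ hx11 hx111).trans H.hCQ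
  have key := psd_gen (f := ![fun χ => (dg χ : ℤ), uu, vv, y, v])
    (N := ![244823040, 11, 5566, (Nat.card (centralizer (S : Set G)) : ℤ),
      (Nat.card (centralizer ({t} : Set G)) : ℤ)])
    (fun {_} i => by
      fin_cases i
      · have h1 := sum_dg_sq (G := G)
        rw [H.hcard] at h1
        change ∑ χ : IrrCharacter G, (dg χ : ℤ) ^ 2 = 244823040
        exact_mod_cast h1
      · have h1 := sum_sq_single (isSum_uu H hx11 hx111)
        rw [c11, show Nat.card (H.Q : Subgroup G) = 11 from H.hQ] at h1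
        exact_mod_cast h1
      · exact sum_vv_sq H
      · have h1 := sum_sq_single i7
        rw [c7] at h1
        exact h1
      · exact Gram.sum_sq hv)
    (fun {_} i j hij => by
      let T : Fin 5 → Finset G := ![{1}, {x11}, T23 H, {x7}, {t}]
      have hT : ∀ i : Fin 5, IsSum ((![fun χ => (dg χ : ℤ), uu, vv, y, v] :
          Fin 5 → IrrCharacter G → ℤ) i) (T i) := by
        intro i
        fin_cases i
        · exact isSum_dg
        · exact isSum_uu H hx11 hx111
        · exact isSum_vv H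
        · exact i7
        · exact isSum_column hv
      have ho : ∀ i : Fin 5, ∀ g ∈ T i, orderOf g = (![1, 11, 23, 7, 2] : Fin 5 → ℕ) i := by
        intro i
        fin_cases i
        · intro g hg
          rw [Finset.mem_singleton.1 hg, orderOf_one]; rfl
        · intro g hg
          rw [Finset.mem_singleton.1 hg, o11]; rfl
        · intro g hg
          rw [o23 g hg]; rfl
        · intro g hg
          rw [Finset.mem_singleton.1 hg, o7]; rfl
        · intro g hg
          rw [Finset.mem_singleton.1 hg, hv.orderOf_eq]; rfl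
      refine sum_mul_zero (hT i) (hT j) fun g hg g' hg' => ?_
      have hall : ∀ i j : Fin 5, i ≠ j →
          (![1, 11, 23, 7, 2] : Fin 5 → ℕ) i ≠ (![1, 11, 23, 7, 2] : Fin 5 → ℕ) j := by decide
      exact not_isConj_of_orderOf (by rw [ho i g hg, ho j g' hg']; exact hall i j hij))
    s ![a, b, c, d, e]
  simp only [Fin.sum_univ_five, Matrix.cons_val_zero, Matrix.cons_val_one, Matrix.cons_val] at key
  refine le_trans (le_of_eq ?_) (le_trans key (le_of_eq ?_))
  · rfl
  · ring

end Main

end Cfsg.Agent.SporadicA.M24.Psd
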