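import Cfsg.Agent.SporadicA.M24.SixD0
import Cfsg.Agent.SporadicA.M11CharBasic
import Cfsg.Agent.CharactersDeep.ColumnBessel
import Cfsg.Agent.MTwelve.FiveLocal
import Cfsg.Agent.S0876

/-!
# The principal 7-block with `e = 6`: the complement does not have order 3

* `exists_val` : the elements `x` of order 7 are rational, and `χ(x) ≡ χ(1)` modulo 7.
* `abs_le` : if `|K| = 3` then `|χ(x)| ≤ 2`; if `χ` is outside the principal 7-block and `χ(x)` is
  odd then `χ(x) = ±1` and the Galois conjugate `χ'` of `χ` with `χ'(x s) = χ(x s⁻¹)`,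
  `⟨s⟩ = K`, is different from `χ`.
* So no degree is `≡ ± 3` modulo 7. The principal 23-block then has exceptional characters of degree
  540; the Galois conjugate of one of them is the other one, and has the same values at elements of
  order 23, a contradiction.
-/

set_option autoImplicit false
set_option linter.unusedSectionVars false

open Cfsg Subgroup
open Cfsg.Agent.Characters.Core
open Cfsg.Agent.SmallSimple
open Cfsg.Agent.SmallSimple.FlatBlock
open Cfsg.Agent.M23Order.Base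
open Cfsg.Agent.SporadicA.M24.Setup Cfsg.Agent.SporadicA.M24.Five Cfsg.Agent.SporadicA.M24.Seven
open Cfsg.Agent.M23.BlockInt (powIrr powIrr_apply powIrr_mem)
open Cfsg.Agent.SporadicA.M24.SixD0 (dg_powIrr)
open scoped ComplexConjugate

namespace Cfsg.Agent.SporadicA.M24.SixD1

universe u

variable {G : Type u} [Group G] [Finite G]

/-- Elements of a Sylow subgroup of order `p` with `|N : C| = p - 1` are rational. -/
theorem exists_val {p : ℕ} [hp : Fact p.Prime] {P : Sylow p G} (hP : Nat.card P = p)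
    {K : Subgroup G} (h : PrimeLocal.IsLocal p P (p - 1) K) {x : G} (hx : x ∈ P) (hx1 : x ≠ 1)
    (χ : IrrCharacter G) : ∃ z : ℤ, (χ : G → ℂ) x = z ∧ (p : ℤ) ∣ dg χ - z := by
  have hxp : x ^ p = 1 := by
    have h1 : (⟨x, hx⟩ : (P : Subgroup G)) ^ Nat.card (P : Subgroup G) = 1 := pow_card_eq_one'
    have hP' : Nat.card (P : Subgroup G) = p := hP
    rw [hP'] at h1
    exact congrArg Subtype.val h1
  have ho : orderOf x = p := orderOf_eq_prime hxp hx1
  obtain ⟨n, v, h1, h2, h3⟩ := M11CharBasic.rational_values (isIrr_isCharacter χ.2) hp.out hxp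
    fun k hk0 hkp => by
      have h4 : x ^ k ≠ 1 := by
        intro h5
        have := orderOf_dvd_of_pow_eq_one h5
        rw [ho] at this
        exact absurd (Nat.le_of_dvd hk0 this) (by omega)
      obtain ⟨n, -, hn⟩ := MTwelve.FiveLocal.exists_conj_of_relIndex hp.out (P : Subgroup G) hP
        (BlockIndex.relIndex_eq h) hx hx1 ((P : Subgroup G).pow_mem hx k) h4
      exact isConj_iff.2 ⟨n, hn⟩
  refine ⟨v, h2, ?_⟩
  rw [dg_of_eq h1]
  exact h3

/-- a power which is trivial on elements of order `2, 5, 7, 11, 23` and inverts the elements of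
order 3 -/
theorem coprime_m (H : Hyp G) : (17711 : ℕ).Coprime (Nat.card G) := by
  rw [H.hcard]; norm_num

/-- the Galois conjugate -/
noncomputable def tau (H : Hyp G) (χ : IrrCharacter G) : IrrCharacter G := powIrr (coprime_m H) χ

theorem tau_apply (H : Hyp G) (χ : IrrCharacter G) (g : G) :
    (tau H χ : G → ℂ) g = (χ : G → ℂ) (g ^ 17711) := rfl

theorem dg_tau (H : Hyp G) (χ : IrrCharacter G) : dg (tau H χ) = dg χ := dg_powIrr _ _

theorem pow_fix {g : G} {n : ℕ} (hg : g ^ n = 1) (h : 17711 % n = 1) : g ^ 17711 = g := by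
  rw [← Nat.div_add_mod 17711 n, pow_add, pow_mul, hg, one_pow, one_mul, h, pow_one]

theorem pow_inv {g : G} (hg : g ^ 3 = 1) : g ^ 17711 = g⁻¹ := by
  have h1 : g ^ 17711 = g ^ 2 := by
    rw [show 17711 = 3 * 5903 + 2 by norm_num, pow_add, pow_mul, hg, one_pow, one_mul]
  rw [h1, eq_inv_iff_mul_eq_one, ← pow_succ, hg]

/-- Sum over a group of order 3. -/
theorem sum_three {K : Type*} [Group K] [Fintype K] (hK : Nat.card K = 3) {s : K} (hs : s ≠ 1)
    (f : K → ℂ) : ∑ k : K, f k = f 1 + f s + f s⁻¹ := by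
  classical
  have h3 : s ^ 3 = 1 := by rw [← hK]; exact pow_card_eq_one'
  have h1 : s⁻¹ ≠ 1 := by rwa [Ne, inv_eq_one]
  have h2 : s ≠ s⁻¹ := by
    intro h
    apply hs
    have h4 : s ^ 2 = 1 := by rw [pow_two]; nth_rewrite 2 [h]; exact mul_inv_cancel s
    calc s = s ^ 3 * (s ^ 2)⁻¹ := by group
      _ = 1 := by rw [h3, h4]; simp
  have hu : (Finset.univ : Finset K) = {1, s, s⁻¹} := by
    symm
    apply Finset.eq_univ_of_card
    rw [Finset.card_insert_of_notMem, Finset.card_insert_of_notMem, Finset.card_singleton,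
      ← Nat.card_eq_fintype_card, hK]
    · simpa using h2
    · simp only [Finset.mem_insert, Finset.mem_singleton, not_or]
      exact ⟨hs.symm, h1.symm⟩
  rw [hu, Finset.sum_insert, Finset.sum_insert, Finset.sum_singleton, add_assoc]
  · simpa using h2
  · simp only [Finset.mem_insert, Finset.mem_singleton, not_or]
    exact ⟨hs.symm, h1.symm⟩

/-- the signed nontrivial degrees of the principal 23-block -/
def N23 : List ℤ := [-22, 231, -252, -1540, 3520, 5544, -10395, -12672]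

/-- the signed degrees of the exceptional characters -/
def E23 : List ℤ := [-12, 264, -495, 540, 770, -1024, -2772, 3024, 6336, -9856, -11880]

theorem arith_N23 : ∀ d ∈ A, d ≠ 1 → d % 7 ≠ 3 → d % 7 ≠ 4 →
    (d % 23 = 1 → (d : ℤ) ∈ N23) ∧ (d % 23 = 22 → -(d : ℤ) ∈ N23) ∧
    (d % 23 = 11 → (d : ℤ) ∈ E23) ∧ (d % 23 = 12 → -(d : ℤ) ∈ E23) := by
  decide

theorem arith_mod : (∀ s ∈ N23, s = -252 ∨ s % 11 = 0) ∧
    (∀ s ∈ E23, s = 540 ∨ s % 11 = 0 ∨ s % 11 = 10) ∧ (-2519 : ℤ) ∉ E23 ∧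
    ∀ s ∈ N23, s - 2267 ∉ E23 := by
  decide

/-- A sum over ten elements. -/
theorem sum_eq {ι : Type*} (T : Finset ι) (hT : T.card = 10) (f : ι → ℤ)
    (hf : ∀ i ∈ T, f i ∈ N23) (hE : 1 + ∑ i ∈ T, f i ∈ E23) : 1 + ∑ i ∈ T, f i = 540 := by
  classical
  obtain ⟨h1, h2, h3, h4⟩ := arith_mod
  rcases h2 _ hE with h | h
  · exact h
  exfalso
  have h5 := Finset.sum_filter_add_sum_filter_not T (fun i => f i = -252) f
  have h6 := Finset.card_filter_add_card_filter_not (s := T) (fun i => f i = -252)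
  rw [hT] at h6
  have h7 : ∑ i ∈ T.filter (fun i => f i = -252), f i =
      (T.filter (fun i => f i = -252)).card * (-252) := by
    rw [Finset.sum_congr rfl (g := fun _ => (-252 : ℤ)) fun i hi => (Finset.mem_filter.1 hi).2,
      Finset.sum_const, nsmul_eq_mul]
  have h8 : (11 : ℤ) ∣ ∑ i ∈ T.filter (fun i => ¬ f i = -252), f i := by
    refine Finset.dvd_sum fun i hi => ?_
    obtain ⟨hi1, hi2⟩ := Finset.mem_filter.1 hi
    rcases h1 _ (hf i hi1) with h9 | h9
    · exact absurd h9 hi2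
    · exact Int.dvd_of_emod_eq_zero h9
  rcases Nat.lt_or_ge 1 (T.filter (fun i => ¬ f i = -252)).card with h9 | h9
  · rw [h7] at h5
    omega
  · rcases Nat.lt_or_ge 0 (T.filter (fun i => ¬ f i = -252)).card with h10 | h10
    · obtain ⟨i, hi⟩ := Finset.card_eq_one.1 (show (T.filter (fun i => ¬ f i = -252)).card = 1
        by omega)
      have hi1 : i ∈ T.filter (fun i => ¬ f i = -252) := by rw [hi]; simp
      refine h4 (f i) (hf i (Finset.mem_filter.1 hi1).1) ?_
      rw [hi, Finset.sum_singleton, h7] at h5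
      rw [hi, Finset.card_singleton] at h6
      have h11 : f i - 2267 = 1 + ∑ i ∈ T, f i := by
        rw [← h5]
        have : (T.filter (fun i => f i = -252)).card = 9 := by omega
        rw [this]; ring
      rw [h11]; exact hE
    · have h11 : T.filter (fun i => ¬ f i = -252) = ∅ := Finset.card_eq_zero.1 (by omega)
      rw [h11, Finset.card_empty] at h6
      rw [h11, Finset.sum_empty, h7] at h5
      have h12 : (T.filter (fun i => f i = -252)).card = 10 := by omega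
      rw [h12] at h5
      apply h3
      have h13 : (-2519 : ℤ) = 1 + ∑ i ∈ T, f i := by rw [← h5]; norm_num
      rw [h13]; exact hE

variable [IsSimpleGroup G] (H : Hyp G)

include H

variable {S : Sylow 7 G} {K : Subgroup G} {M : Ideal AlgInt} {B : Finset (IrrCharacter G)}
  {ε : IrrCharacter G → ℤ} {l : List (IrrCharacter G)} {b : IrrCharacter G}

/-- The norm of the column. -/
theorem norm_le (h7 : B7six S K M B ε l b) (hK : Nat.card K = 3) {x : G} (hx : x ∈ S)
    (hx1 : x ≠ 1) (T : Finset (IrrCharacter G)) (hT : Disjoint B T) {z : IrrCharacter G → ℤ}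
    (hz : ∀ χ ∈ T, (χ : G → ℂ) x = z χ) : ∑ χ ∈ T, z χ ^ 2 ≤ 14 := by
  classical
  have h7' : Fact (Nat.Prime 7) := ⟨by norm_num⟩
  have hS := card_seven H S
  have h1 := CharactersDeep.ColumnBessel.sum_norm_sq_le (B ∪ T) x
  have hc : centralizer ({x} : Set G) = centralizer (S : Set G) :=
    BlockIndex.centralizer_eq (P := (S : Subgroup G)) hS hx hx1
  rw [hc, h7.loc.loc.card_centralizer, hK, Finset.sum_union hT] at h1
  have h2 : ∑ χ ∈ B, ‖(χ : G → ℂ) x‖ ^ 2 = 7 := by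
    rw [Finset.sum_congr rfl (g := fun _ => (1 : ℝ)), Finset.sum_const, h7.loc.card]
    · norm_num
    · intro χ hχ
      rw [h7.loc.toFlat.val' hχ hx hx1]
      rcases h7.loc.ε_mem χ hχ with h | h <;> rw [h] <;> simp
  have h3 : ∑ χ ∈ T, ‖(χ : G → ℂ) x‖ ^ 2 = ((∑ χ ∈ T, z χ ^ 2 : ℤ) : ℝ) := by
    push_cast
    refine Finset.sum_congr rfl fun χ hχ => ?_
    rw [hz χ hχ, Complex.norm_intCast, sq_abs]
  rw [h2, h3] at h1
  have h4 : ((∑ χ ∈ T, z χ ^ 2 : ℤ) : ℝ) ≤ ((14 : ℤ) : ℝ) := by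
    push_cast at h1 ⊢
    linarith
  exact_mod_cast h4

theorem tau_mem_iff (h7 : B7six S K M B ε l b) (χ : IrrCharacter G) :
    χ ∈ B → tau H χ ∈ B := fun h =>
  (h7.loc.mem_iff _).1 (powIrr_mem _ ((h7.loc.mem_iff χ).2 h))

/-- Outside the principal block a character with an odd value at `x` is moved by `tau`. -/
theorem tau_ne (h7 : B7six S K M B ε l b) (hK : Nat.card K = 3) {x : G} (hx : x ∈ S)
    (hx1 : x ≠ 1) {χ : IrrCharacter G} (hχ : χ ∉ B) {z : ℤ} (hz : (χ : G → ℂ) x = z)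
    (hodd : z % 2 = 1) : tau H χ ≠ χ := by
  classical
  have h7' : Fact (Nat.Prime 7) := ⟨by norm_num⟩
  have := Fintype.ofFinite K
  intro ht
  have hS := card_seven H S
  have h3 : Fact (Nat.Prime 3) := ⟨by norm_num⟩
  obtain ⟨s, hs, hs1⟩ := BlockIndex.exists_ne_one (P := K) hK
  have hsum := BlockAvg.sum_eq_zero S hS h7.loc.modular hx hx1
    (BlockAvg.isReg_of_isLocal h7.loc.loc) (ψ := χ) (fun h => hχ ((h7.loc.mem_iff χ).1 h))
  rw [sum_three hK (s := ⟨s, hs⟩) (fun h => hs1 (congrArg Subtype.val h))] at hsum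
  simp only [OneMemClass.coe_one, mul_one, InvMemClass.coe_inv] at hsum
  have hs3 : s ^ 3 = 1 := by
    have h1 : (⟨s, hs⟩ : K) ^ Nat.card K = 1 := pow_card_eq_one'
    rw [hK] at h1
    exact congrArg Subtype.val h1
  have hx7 : x ^ 7 = 1 := by
    have h1 : (⟨x, hx⟩ : (S : Subgroup G)) ^ Nat.card (S : Subgroup G) = 1 := pow_card_eq_one'
    have hP' : Nat.card (S : Subgroup G) = 7 := hS
    rw [hP'] at h1
    exact congrArg Subtype.val h1
  have hcomm : Commute x s := (h7.loc.loc.comm s hs x hx).symm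
  have h4 : (x * s) ^ 17711 = x * s⁻¹ := by
    rw [hcomm.mul_pow, pow_fix hx7 (by norm_num), pow_inv hs3]
  have h5 : (χ : G → ℂ) (x * s⁻¹) = (χ : G → ℂ) (x * s) := by
    rw [← h4, ← tau_apply H χ (x * s), ht]
  rw [h5, hz] at hsum
  have h6 : (χ : G → ℂ) (x * s) = ((-(z : ℚ) / 2 : ℚ) : ℂ) := by
    push_cast
    linear_combination hsum / 2
  obtain ⟨w, hw⟩ := InvolColumn.exists_int_of_isIntegral
    (h6 ▸ Characters.GaloisBasic.isIntegral_apply (isIrr_isCharacter χ.2) (x * s))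
  have h7'' : (2 : ℚ) * w = -z := by rw [hw]; ring
  have h8 : (2 : ℤ) * w = -z := by exact_mod_cast h7''
  omega

theorem pow_seven {x : G} (hx : x ∈ S) : x ^ 7 = 1 := by
  have h1 : (⟨x, hx⟩ : (S : Subgroup G)) ^ Nat.card (S : Subgroup G) = 1 := pow_card_eq_one'
  have hP' : Nat.card (S : Subgroup G) = 7 := card_seven H S
  rw [hP'] at h1
  exact congrArg Subtype.val h1

/-- The possible values at elements of order 7. -/
theorem val_cases (h7 : B7six S K M B ε l b) (hK : Nat.card K = 3) {x : G} (hx : x ∈ S)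
    (hx1 : x ≠ 1) {χ : IrrCharacter G} (hχ : χ ∉ B) {z : ℤ} (hz : (χ : G → ℂ) x = z) :
    z = 0 ∨ z = 2 ∨ z = -2 ∨ ((z = 1 ∨ z = -1) ∧ tau H χ ≠ χ) := by
  classical
  have h7' : Fact (Nat.Prime 7) := ⟨by norm_num⟩
  have h1 := norm_le H h7 hK hx hx1 {χ} (Finset.disjoint_singleton_right.2 hχ) (z := fun _ => z)
    (fun ψ hψ => by rw [Finset.mem_singleton.1 hψ]; exact hz)
  rw [Finset.sum_singleton] at h1
  have h2 : z ≤ 3 := by nlinarith
  have h3 : -3 ≤ z := by nlinarith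
  rcases Int.emod_two_eq_zero_or_one z with h4 | h4
  · omega
  · have h5 := tau_ne H h7 hK hx hx1 hχ hz h4
    have h8 : (tau H χ : G → ℂ) x = z := by
      rw [tau_apply, pow_fix (n := 7) (pow_seven H hx) (by norm_num), hz]
    refine Or.inr (Or.inr (Or.inr ⟨?_, h5⟩))
    by_cases h6 : tau H χ ∈ B
    · rw [h7.loc.toFlat.val' h6 hx hx1] at h8
      have h9 : ε (tau H χ) = z := by exact_mod_cast h8
      rw [← h9]
      exact h7.loc.ε_mem _ h6
    · have h9 := norm_le H h7 hK hx hx1 {χ, tau H χ} (by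
        rw [Finset.disjoint_insert_right, Finset.disjoint_singleton_right]
        exact ⟨hχ, h6⟩) (z := fun _ => z) (by
        intro ψ hψ
        rcases Finset.mem_insert.1 hψ with rfl | hψ
        · exact hz
        · rw [Finset.mem_singleton.1 hψ]; exact h8)
      rw [Finset.sum_pair h5.symm] at h9
      have h10 : z ≤ 2 := by nlinarith
      have h11 : -2 ≤ z := by nlinarith
      omega

/-- No degree is `≡ ± 3` modulo 7. -/
theorem dg_mod (h7 : B7six S K M B ε l b) (hK : Nat.card K = 3) (χ : IrrCharacter G) :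
    dg χ % 7 ≠ 3 ∧ dg χ % 7 ≠ 4 := by
  have h7' : Fact (Nat.Prime 7) := ⟨by norm_num⟩
  have hS := card_seven H S
  obtain ⟨x, hx, hx1⟩ := BlockIndex.exists_ne_one (P := (S : Subgroup G)) hS
  obtain ⟨z, hz, hd⟩ := exists_val hS h7.loc.loc hx hx1 χ
  have h1 : z = 0 ∨ z = 2 ∨ z = -2 ∨ z = 1 ∨ z = -1 := by
    by_cases hχ : χ ∈ B
    · rw [h7.loc.toFlat.val' hχ hx hx1] at hz
      have h2 : ε χ = z := by exact_mod_cast hz
      rw [← h2]
      rcases h7.loc.ε_mem χ hχ with h | h <;> rw [h] <;> simp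
    · rcases val_cases H h7 hK hx hx1 hχ hz with h | h | h | ⟨h | h, -⟩ <;> simp [h]
  constructor <;> · intro h; omega

/-- The exceptional characters of the principal 23-block have degree 540. -/
theorem f_eq (h7 : B7six S K M B ε l b) (hK : Nat.card K = 3) : H.D.d = 1 ∧ H.D.f = 540 := by
  classical
  obtain ⟨Θ, hΘ⟩ : H.D.X.Nonempty := by rw [← Finset.card_ne_zero, H.D.card_X]; norm_num
  have hrel := H.D.rel_deg (by norm_num) hΘ
  have hf1 : ∀ χ : IrrCharacter G, χ ≠ H.D.one → dg χ ≠ 1 := fun χ h h' => h (eq_one_of_dg H h')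
  have hE : H.D.d * (H.D.f : ℤ) ∈ E23 := by
    have hΘ1 : Θ ≠ H.D.one := by
      rintro rfl
      exact Finset.disjoint_left.1 H.D.disj H.D.one_mem hΘ
    have h1 := arith_N23 _ (dg_mem_A H Θ) (hf1 Θ hΘ1) (dg_mod H h7 hK Θ).1 (dg_mod H h7 hK Θ).2
    rw [← H.D.deg_X Θ hΘ]
    rcases mod23_X H hΘ with ⟨h2, h3⟩ | ⟨h2, h3⟩
    · rw [h2, one_mul]; exact h1.2.2.1 h3
    · rw [h2, neg_one_mul]; exact h1.2.2.2 h3
  have hN : ∀ χ ∈ H.D.NE.erase H.D.one, H.D.ε χ * (dg χ : ℤ) ∈ N23 := by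
    intro χ hχ
    obtain ⟨hχ1, hχ2⟩ := Finset.mem_erase.1 hχ
    have h1 := arith_N23 _ (dg_mem_A H χ) (hf1 χ hχ1) (dg_mod H h7 hK χ).1 (dg_mod H h7 hK χ).2
    rcases mod23_NE H hχ2 with ⟨h2, h3⟩ | ⟨h2, h3⟩
    · rw [h2, one_mul]; exact h1.1 h3
    · rw [h2, neg_one_mul]; exact h1.2.1 h3
  rw [← Finset.add_sum_erase _ _ H.D.one_mem, H.D.ε_one, dg_one H] at hrel
  have hcard : (H.D.NE.erase H.D.one).card = 10 := by
    rw [Finset.card_erase_of_mem H.D.one_mem, H.D.card_NE]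
  have h1 := sum_eq _ hcard (fun χ => H.D.ε χ * (dg χ : ℤ)) hN (by
    have : (1 : ℤ) + ∑ χ ∈ H.D.NE.erase H.D.one, H.D.ε χ * (dg χ : ℤ) = H.D.d * H.D.f := by
      rw [← hrel]; norm_num
    rw [this]; exact hE)
  have h2 : H.D.d * (H.D.f : ℤ) = 540 := by
    rw [← h1, ← hrel]; norm_num
  rcases H.D.d_mem with h | h
  · rw [h] at h2 ⊢
    exact ⟨rfl, by omega⟩
  · rw [h] at h2
    omega

omit H [IsSimpleGroup G] in
/-- The two exceptional characters do not agree on the elements of order 23. -/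
theorem exc_ne (H : Hyp G) {Θ Θ' : IrrCharacter G} (hX' : ∀ χ, χ ∈ H.D.X ↔ χ = Θ ∨ χ = Θ')
    (hne : Θ ≠ Θ') {y : G} (hy : y ∈ H.P) (hy1 : y ≠ 1) :
    (Θ : G → ℂ) y ≠ (Θ' : G → ℂ) y := by
  classical
  have hX : H.D.X = {Θ, Θ'} := by ext χ; simp [hX']
  have := Fintype.ofFinite G
  have := finite_irr (G := G)
  have := Fintype.ofFinite (IrrCharacter G)
  intro h
  have hΘ : Θ ∈ H.D.X := by rw [hX]; simp
  have hΘ' : Θ' ∈ H.D.X := by rw [hX]; simp
  have h1 := Cfsg.Agent.S0876.sum_irr_mul_conj y (1 : G)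
  have h2 : Nat.card {x : G // x * y * x⁻¹ = 1} = 0 := by
    rw [Nat.card_eq_zero]
    left
    refine ⟨fun x => hy1 ?_⟩
    have h3 := x.2
    rw [mul_inv_eq_one] at h3
    exact mul_eq_left.1 h3
  rw [h2, Nat.cast_zero] at h1
  have h3 : ∑ χ : IrrCharacter G, (χ : G → ℂ) y * conj ((χ : G → ℂ) 1) =
      ∑ χ ∈ H.D.NE ∪ H.D.X, (χ : G → ℂ) y * conj ((χ : G → ℂ) 1) := by
    symm
    apply Finset.sum_subset (Finset.subset_univ _)
    intro χ _ hχ
    rw [Finset.mem_union, not_or] at hχ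
    rw [H.D.out χ hχ.1 hχ.2 y hy hy1, zero_mul]
  have h3' : ∀ F : IrrCharacter G → ℂ, ∑ χ ∈ H.D.X, F χ = F Θ + F Θ' := by
    intro F
    rw [hX]
    convert Finset.sum_pair hne
  rw [h3, Finset.sum_union H.D.disj, h3', ← h] at h1
  have h4 : ∑ χ ∈ H.D.NE, (χ : G → ℂ) y * conj ((χ : G → ℂ) 1) = ((H.D.d * H.D.f : ℤ) : ℂ) := by
    rw [← H.D.rel_deg (by norm_num) hΘ]
    push_cast
    refine Finset.sum_congr rfl fun χ hχ => ?_
    rw [H.D.val χ hχ y hy hy1, dg_eq, Complex.conj_natCast]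
  rw [h4, dg_eq, dg_eq, H.D.deg_X Θ hΘ, H.D.deg_X Θ' hΘ', Complex.conj_natCast] at h1
  have hf : (H.D.f : ℂ) ≠ 0 := by
    rw [← H.D.deg_X Θ hΘ]
    exact_mod_cast dg_ne_zero Θ
  have h5 : (Θ : G → ℂ) y = ((-(H.D.d : ℚ) / 2 : ℚ) : ℂ) := by
    push_cast at h1 ⊢
    have h6 : (H.D.f : ℂ) * ((H.D.d : ℂ) + 2 * (Θ : G → ℂ) y) = 0 := by linear_combination h1
    rcases mul_eq_zero.1 h6 with h7 | h7
    · exact absurd h7 hf
    · linear_combination h7 / 2
  obtain ⟨w, hw⟩ := InvolColumn.exists_int_of_isIntegral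
    (h5 ▸ Characters.GaloisBasic.isIntegral_apply (isIrr_isCharacter Θ.2) y)
  have h7 : (2 : ℚ) * w = -H.D.d := by rw [hw]; ring
  have h8 : (2 : ℤ) * w = -H.D.d := by exact_mod_cast h7
  rcases H.D.d_mem with h9 | h9 <;> omega

theorem arith540 : ∀ x ∈ pairs6, (540 : ℤ) ∉ x.1 ∧ (-540 : ℤ) ∉ x.1 := by
  decide +kernel

/-- **D1**: the complement does not have order 3. -/
theorem card_ne_three (h7 : B7six S K M B ε l b) : Nat.card K ≠ 3 := by
  classical
  intro hK
  have h7' : Fact (Nat.Prime 7) := ⟨by norm_num⟩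
  have h23 : Fact (Nat.Prime 23) := ⟨by norm_num⟩
  have hS := card_seven H S
  obtain ⟨-, hf⟩ := f_eq H h7 hK
  obtain ⟨Θ, hΘ⟩ : H.D.X.Nonempty := by rw [← Finset.card_ne_zero, H.D.card_X]; norm_num
  have hd : dg Θ = 540 := by rw [H.D.deg_X Θ hΘ, hf]
  have hB : Θ ∉ B := by
    intro h
    obtain ⟨h1, h2⟩ := arith540 H _ h7.mem_pairs
    rcases List.mem_cons.1 ((h7.mem Θ).1 h) with h3 | h3
    · rw [h3, dg_tr] at hd
      omega
    · have h4 := List.mem_map_of_mem (f := fun χ => ε χ * (dg χ : ℤ)) h3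
      rcases h7.loc.ε_mem Θ h with h5 | h5
      · apply h1
        rw [h5, hd] at h4
        simpa using h4
      · apply h2
        rw [h5, hd] at h4
        simpa using h4
  obtain ⟨x, hx, hx1⟩ := BlockIndex.exists_ne_one (P := (S : Subgroup G)) hS
  obtain ⟨z, hz, hdz⟩ := exists_val hS h7.loc.loc hx hx1 Θ
  rw [hd] at hdz
  have hne : tau H Θ ≠ Θ := by
    rcases val_cases H h7 hK hx hx1 hB hz with h | h | h | h
    · omega
    · omega
    · omega
    · exact h.2
  have hτ : tau H Θ ∈ H.D.X := mem_X23 H (by rw [dg_tau, hd]; norm_num)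
  have hX : H.D.X = {Θ, tau H Θ} := by
    symm
    apply Finset.eq_of_subset_of_card_le
    · intro χ hχ
      rcases Finset.mem_insert.1 hχ with rfl | hχ
      · exact hΘ
      · rw [Finset.mem_singleton.1 hχ]; exact hτ
    · rw [Finset.card_pair hne.symm, H.D.card_X]
  obtain ⟨y, hy, hy1⟩ := BlockIndex.exists_ne_one (P := (H.P : Subgroup G)) H.hP
  refine exc_ne H (fun χ => by rw [hX]; simp) hne.symm hy hy1 ?_
  have hy23 : y ^ 23 = 1 := by
    have h1 : (⟨y, hy⟩ : (H.P : Subgroup G)) ^ Nat.card (H.P : Subgroup G) = 1 := pow_card_eq_one'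
    have hP' : Nat.card (H.P : Subgroup G) = 23 := H.hP
    rw [hP'] at h1
    exact congrArg Subtype.val h1
  rw [tau_apply, pow_fix hy23 (by norm_num)]

/-- **D0, D1**: the complement has order 24. -/
theorem card_K (h7 : B7six S K M B ε l b) : Nat.card K = 24 :=
  (SixD0.card_K H h7).resolve_left (card_ne_three H h7)

end Cfsg.Agent.SporadicA.M24.SixD1
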