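import Cfsg.Agent.SporadicA.M24.Integral
import Cfsg.Agent.SporadicA.M24.SixD1

/-!
# The principal 7-block with `e = 6`, `|K₇| = 24`, if `|K₅| = 192`

* `exists_column` : the column of an element `y` of order 5: integers `z χ = χ(y)`, and
  `80 N = 510048 (1 + ∑ z χ ^ 2 / (ε χ χ(1)))` over the principal 7-block, where `N` is a class
  multiplication constant.
* `mem_left` : the list of signed degrees is one of fourteen lists.
* `ne_first` : the list with degrees `12144, 6336, 6336` is impossible (sum of squares of degrees).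
-/

set_option autoImplicit false
set_option linter.unusedSectionVars false

open Cfsg Subgroup
open Cfsg.Agent.Characters.Core
open Cfsg.Agent.SmallSimple
open Cfsg.Agent.SmallSimple.FlatBlock
open Cfsg.Agent.M23Order.Base
open Cfsg.Agent.SporadicA.M24.Setup Cfsg.Agent.SporadicA.M24.Five Cfsg.Agent.SporadicA.M24.Seven
open scoped ComplexConjugate

namespace Cfsg.Agent.SporadicA.M24.SixFilter

universe u

/-- the remaining lists if `|K₅| = 192` -/
def left : List (List ℤ) := [[-12144, -1035, 22, 2024, 2024, 9108],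
  [-12144, 22, 253, 736, 2024, 9108], [-5060, -3520, 736, 2024, 2024, 3795],
  [-5060, -1518, 22, 736, 2024, 3795], [-5060, -1035, 22, 736, 2024, 3312],
  [-5060, 22, 253, 736, 2024, 2024], [-3520, -1518, -1518, 736, 2024, 3795],
  [-3520, -1518, -1035, 736, 2024, 3312], [-3520, -1518, 253, 736, 2024, 2024],
  [-3520, -1035, -230, 736, 2024, 2024], [-3520, -230, 253, 736, 736, 2024],
  [-3520, 253, 253, 253, 736, 2024], [-1518, -1518, 22, 253, 736, 2024],
  [-1518, -1035, -230, 22, 736, 2024]]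

/-- the list which is excluded by the degrees -/
def first : List ℤ := [-12144, -1518, -1035, 2024, 6336, 6336]

/-- the test modulo 16 -/
def bad : List ℤ → ℤ → Bool → Bool
  | [], acc, seen => seen && (acc % 16 == 0)
  | s :: L, acc, seen => if s % 5 == 0 then bad L acc seen else
      [0, 1, 4, 9].any fun q => bad L (acc + (510048 / s) * q) (seen || (s == 2024 && q == 1))

theorem bad_spec {α : Type*} (s z : α → ℤ) : ∀ (l : List α) (acc acc' : ℤ) (seen : Bool),
    (∀ x ∈ l, s x % 5 = 0 → z x = 0) → (16 : ℤ) ∣ acc - acc' →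
    (16 : ℤ) ∣ acc' + (l.map fun x => (510048 / s x) * z x ^ 2).sum →
    (seen = true ∨ ∃ x ∈ l, s x = 2024 ∧ z x = -1) → bad (l.map s) acc seen = true
  | [], acc, acc', seen, _, h1, h2, h3 => by
    have h4 : seen = true := by simpa using h3
    simp only [List.map_nil, List.sum_nil, add_zero] at h2
    rw [List.map_nil, bad, h4, Bool.true_and, beq_iff_eq]
    omega
  | x :: l, acc, acc', seen, h0, h1, h2, h3 => by
    rw [List.map_cons, bad]
    rw [List.map_cons, List.sum_cons] at h2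
    by_cases h5 : s x % 5 = 0
    · have hz : z x = 0 := h0 x List.mem_cons_self h5
      rw [if_pos (by simpa using h5)]
      refine bad_spec s z l acc acc' seen (fun y hy => h0 y (List.mem_cons_of_mem _ hy)) h1 ?_ ?_
      · rw [hz] at h2
        simpa using h2
      · rcases h3 with h3 | ⟨y, hy, h6, h7⟩
        · exact Or.inl h3
        · rcases List.mem_cons.1 hy with rfl | hy
          · rw [hz] at h7; omega
          · exact Or.inr ⟨y, hy, h6, h7⟩
    · rw [if_neg (by simpa using h5)]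
      obtain ⟨q, hq, hq'⟩ : ∃ q ∈ [(0 : ℤ), 1, 4, 9], (16 : ℤ) ∣ z x ^ 2 - q ∧
          (z x = -1 → q = 1) := by
        have key : ∀ r : ℤ, 0 ≤ r → r < 16 → ∃ q ∈ [(0 : ℤ), 1, 4, 9], (16 : ℤ) ∣ r ^ 2 - q ∧
            (r = 15 → q = 1) := by
          intro r h1 h2
          interval_cases r <;> decide
        obtain ⟨q, hq, h6, h7⟩ := key (z x % 16) (by omega) (by omega)
        refine ⟨q, hq, ?_, fun h => h7 (by omega)⟩
        have h8 : (16 : ℤ) ∣ z x - z x % 16 := by omega
        have h9 : z x ^ 2 - q = (z x - z x % 16) * (z x + z x % 16) + ((z x % 16) ^ 2 - q) := by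
          ring
        rw [h9]
        exact dvd_add (Dvd.dvd.mul_right h8 _) h6
      rw [List.any_eq_true]
      refine ⟨q, hq, ?_⟩
      refine bad_spec s z l _ (acc' + (510048 / s x) * z x ^ 2) _
        (fun y hy => h0 y (List.mem_cons_of_mem _ hy)) ?_ (by rwa [add_assoc]) ?_
      · have h10 : acc + (510048 / s x) * q - (acc' + (510048 / s x) * z x ^ 2) =
            (acc - acc') - (510048 / s x) * (z x ^ 2 - q) := by ring
        rw [h10]
        exact dvd_sub h1 (Dvd.dvd.mul_left hq'.1 _)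
      · rcases h3 with h3 | ⟨y, hy, h6, h7⟩
        · left; rw [h3]; rfl
        · rcases List.mem_cons.1 hy with rfl | hy
          · left
            rw [h6, hq'.2 h7]
            simp
          · exact Or.inr ⟨y, hy, h6, h7⟩

theorem arith_left : ∀ x ∈ pairs6, x.2 = 24 → x.1 ∈ left ∨ x.1 = first ∨
    (bad x.1 0 false = false ∧ ∀ s ∈ x.1, s % 5 = 0 ∨ s ∣ 510048) := by
  decide +kernel

variable {G : Type u} [Group G] [Finite G] [IsSimpleGroup G] (H : Hyp G)

include H

/-- **The column of an element of order 5** if `|K₅| = 192` and `|K₇| = 24`. -/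
theorem exists_column {R : Sylow 5 G} {K : Subgroup G} {M : Ideal AlgInt}
    {B : Finset (IrrCharacter G)} {ε : IrrCharacter G → ℤ} {a b c d : IrrCharacter G}
    (h5 : B5 R K M B ε a b c d) (hK : Nat.card K = 192) {S : Sylow 7 G} {K' : Subgroup G}
    {M' : Ideal AlgInt} {B' : Finset (IrrCharacter G)} {ε' : IrrCharacter G → ℤ}
    {l : List (IrrCharacter G)} (h7 : B7six S K' M' B' ε' l b) (hK' : Nat.card K' = 24) {y : G}
    (hy : y ∈ R) (hy1 : y ≠ 1) : ∃ (z : IrrCharacter G → ℤ) (N : ℕ),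
      (∀ χ : IrrCharacter G, (χ : G → ℂ) y = z χ) ∧
      (∀ χ, (5 : ℤ) ∣ dg χ - z χ) ∧ (∀ χ, dg χ % 5 = 0 → z χ = 0) ∧ z b = -1 ∧
      (80 * N : ℂ) = 510048 * (1 + (l.map fun χ => (z χ : ℂ) ^ 2 / ((ε' χ * (dg χ : ℤ) : ℤ) : ℂ)).sum)
      ∧ 1 + (l.map fun χ => ε' χ * z χ).sum = 0 := by
  classical
  have f5 : Fact (Nat.Prime 5) := ⟨by norm_num⟩
  have f7 : Fact (Nat.Prime 7) := ⟨by norm_num⟩
  have hR := card_five H R
  have hS := card_seven H S
  have hoy : orderOf y = 5 := Integral.orderOf_of_mem hR hy hy1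
  have hval := fun χ => SixD1.exists_val (p := 5) hR h5.loc.loc hy hy1 χ
  choose z hz hz5 using hval
  have hz0 : ∀ χ, dg χ % 5 = 0 → z χ = 0 := by
    intro χ hχ
    have h1 := Integral.five_zero H χ (Nat.dvd_of_mod_eq_zero hχ) (w := y) (by rw [hoy])
    rw [hz] at h1
    exact_mod_cast h1
  have hzb : z b = -1 := by
    have h1 := h5.loc.toFlat.val' ((h5.mem b).2 (by simp)) hy hy1
    rw [h5.ε_b, hz] at h1
    exact_mod_cast h1
  obtain ⟨N, hN⟩ := Integral.flat_int h7.loc.toFlat h7.loc.loc hS y y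
  have h1 := Integral.index_mul h5.loc.loc hR hy hy1
  rw [hK, H.hcard] at h1
  have hidx : (centralizer ({y} : Set G)).index = 255024 := by omega
  have hB : B' = (tr G :: l).toFinset := by
    ext χ; rw [List.mem_toFinset]; exact h7.mem χ
  have hrel : (1 : ℤ) + (l.map fun χ => ε' χ * z χ).sum = 0 := by
    have h2 := h7.loc.toFlat.rel y (by rw [hoy]; norm_num)
    rw [hB, List.sum_toFinset _ h7.nodup, List.map_cons, List.sum_cons, h7.loc.toFlat.ε_one,
      coe_tr, Pi.one_apply] at h2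
    have h3 : (l.map fun χ => (ε' χ : ℂ) * (χ : G → ℂ) y) =
        (l.map fun χ => ε' χ * z χ).map (Int.cast : ℤ → ℂ) := by
      rw [List.map_map]
      refine List.map_congr_left fun χ _ => ?_
      simp [hz]
    rw [h3] at h2
    have h4 : ((l.map fun χ => ε' χ * z χ).map (Int.cast : ℤ → ℂ)).sum =
        (((l.map fun χ => ε' χ * z χ).sum : ℤ) : ℂ) := by
      exact (map_list_sum (Int.castRingHom ℂ) (l.map fun χ => ε' χ * z χ)).symm
    rw [h4] at h2
    exact_mod_cast h2
  refine ⟨z, N, hz, hz5, hz0, hzb, ?_, hrel⟩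
  rw [hidx, hK', H.hcard, hB, List.sum_toFinset _ h7.nodup, List.map_cons, List.sum_cons,
    h7.loc.toFlat.ε_one, coe_tr, Pi.one_apply, Pi.one_apply] at hN
  have h3 : (l.map fun χ => (ε' χ : ℂ) * ((χ : G → ℂ) y * (χ : G → ℂ) y / (χ : G → ℂ) 1)) =
      l.map fun χ => (z χ : ℂ) ^ 2 / ((ε' χ * (dg χ : ℤ) : ℤ) : ℂ) := by
    refine List.map_congr_left fun χ hχ => ?_
    rw [hz, dg_eq]
    push_cast
    rcases h7.loc.ε_mem χ ((h7.mem χ).2 (List.mem_cons_of_mem _ hχ)) with h | h <;> rw [h]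
    · push_cast; ring
    · push_cast; ring
  rw [h3] at hN
  linear_combination hN / 3060288

/-- **The (5,5;7) integrality filter**: if `|K₅| = 192` then fifteen lists are left. -/
theorem mem_left' {R : Sylow 5 G} {K : Subgroup G} {M : Ideal AlgInt}
    {B : Finset (IrrCharacter G)} {ε : IrrCharacter G → ℤ} {a b c d : IrrCharacter G}
    (h5 : B5 R K M B ε a b c d) (hK : Nat.card K = 192) {S : Sylow 7 G} {K' : Subgroup G}
    {M' : Ideal AlgInt} {B' : Finset (IrrCharacter G)} {ε' : IrrCharacter G → ℤ}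
    {l : List (IrrCharacter G)} (h7 : B7six S K' M' B' ε' l b) (hK' : Nat.card K' = 24) :
    (l.map fun χ => ε' χ * (dg χ : ℤ)) ∈ left ∨ (l.map fun χ => ε' χ * (dg χ : ℤ)) = first := by
  have f5 : Fact (Nat.Prime 5) := ⟨by norm_num⟩
  obtain ⟨y, hy, hy1⟩ := BlockIndex.exists_ne_one (P := (R : Subgroup G)) (card_five H R)
  obtain ⟨z, N, hz, hz5, hz0, hzb, hN, -⟩ := exists_column H h5 hK h7 hK' hy hy1
  rcases arith_left _ h7.mem_pairs hK' with h | h | ⟨h, h'⟩
  · exact Or.inl h
  · exact Or.inr h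
  exfalso
  dsimp only at h h'
  have hz0' : ∀ χ ∈ l, (ε' χ * (dg χ : ℤ)) % 5 = 0 → z χ = 0 := by
    intro χ hχ h1
    apply hz0
    rcases h7.loc.ε_mem χ ((h7.mem χ).2 (List.mem_cons_of_mem _ hχ)) with h2 | h2 <;>
      rw [h2] at h1 <;> omega
  have h1 : (l.map fun χ => 510048 * ((z χ : ℂ) ^ 2 / ((ε' χ * (dg χ : ℤ) : ℤ) : ℂ))) =
      (l.map fun χ => (510048 / (ε' χ * (dg χ : ℤ))) * z χ ^ 2).map (Int.cast : ℤ → ℂ) := by
    rw [List.map_map]
    refine List.map_congr_left fun χ hχ => ?_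
    rcases h' _ (List.mem_map_of_mem hχ) with h2 | ⟨q, hq⟩
    · rw [Function.comp_apply, hz0' χ hχ h2]
      simp
    · have h3 : ε' χ * (dg χ : ℤ) ≠ 0 := by
        intro h4; rw [h4] at hq; omega
      have h4 : 510048 / (ε' χ * (dg χ : ℤ)) = q := by
        rw [hq]; exact Int.mul_ediv_cancel_left _ h3
      rw [Function.comp_apply, h4]
      have h5' : ((ε' χ * (dg χ : ℤ) : ℤ) : ℂ) ≠ 0 := by exact_mod_cast h3
      have h6 : (510048 : ℂ) = ((ε' χ * (dg χ : ℤ) : ℤ) : ℂ) * (q : ℂ) := by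
        exact_mod_cast hq
      rw [h6, mul_div_assoc']
      rw [mul_assoc, mul_div_cancel_left₀ _ h5']
      push_cast
      ring
  have h2 : ((80 * (N : ℤ) : ℤ) : ℂ) =
      ((510048 + (l.map fun χ => (510048 / (ε' χ * (dg χ : ℤ))) * z χ ^ 2).sum : ℤ) : ℂ) := by
    have h3 : ((l.map fun χ => (510048 / (ε' χ * (dg χ : ℤ))) * z χ ^ 2).map
        (Int.cast : ℤ → ℂ)).sum =
        (((l.map fun χ => (510048 / (ε' χ * (dg χ : ℤ))) * z χ ^ 2).sum : ℤ) : ℂ) := by
      exact (map_list_sum (Int.castRingHom ℂ)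
        (l.map fun χ => (510048 / (ε' χ * (dg χ : ℤ))) * z χ ^ 2)).symm
    rw [← h1, List.sum_map_mul_left] at h3
    rw [Int.cast_add, ← h3]
    push_cast
    push_cast at hN
    rw [hN]
    ring
  have h3 : 80 * (N : ℤ) =
      510048 + (l.map fun χ => (510048 / (ε' χ * (dg χ : ℤ))) * z χ ^ 2).sum := by
    exact_mod_cast h2
  have h4 := bad_spec (fun χ => ε' χ * (dg χ : ℤ)) z l 0 0 false hz0' (by norm_num) ?_ ?_
  · rw [h] at h4
    exact Bool.false_ne_true h4
  · rw [zero_add]; omega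
  · exact Or.inr ⟨b, h7.b_mem, by rw [h7.ε_b, h5.dg_b]; norm_num, hzb⟩

/-- The list with the degrees `12144, 6336, 6336` is impossible. -/
theorem ne_first {R : Sylow 5 G} {K : Subgroup G} {M : Ideal AlgInt}
    {B : Finset (IrrCharacter G)} {ε : IrrCharacter G → ℤ} {a b c d : IrrCharacter G}
    (h5 : B5 R K M B ε a b c d) {S : Sylow 7 G} {K' : Subgroup G}
    {M' : Ideal AlgInt} {B' : Finset (IrrCharacter G)} {ε' : IrrCharacter G → ℤ}
    {l : List (IrrCharacter G)} (h7 : B7six S K' M' B' ε' l b) :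
    (l.map fun χ => ε' χ * (dg χ : ℤ)) ≠ first := by
  classical
  intro h
  have hB : B' = (tr G :: l).toFinset := by
    ext χ; rw [List.mem_toFinset]; exact h7.mem χ
  have h1 : l.map dg = [12144, 1518, 1035, 2024, 6336, 6336] := by
    have h2 := congrArg (List.map Int.natAbs) h
    rw [List.map_map] at h2
    rw [show l.map dg = l.map (Int.natAbs ∘ fun χ => ε' χ * (dg χ : ℤ)) from ?_, h2]
    · rfl
    · refine List.map_congr_left fun χ hχ => ?_
      rcases h7.loc.ε_mem χ ((h7.mem χ).2 (List.mem_cons_of_mem _ hχ)) with h3 | h3 <;>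
        rw [Function.comp_apply, h3] <;> simp
  have ha : a ∉ l := by
    intro ha
    have := List.mem_map_of_mem (f := dg) ha
    rw [h1, h5.dg_a] at this
    simp at this
  have h2 := sum_dg_sq_le ((a :: l).toFinset)
  rw [List.sum_toFinset _ (List.nodup_cons.2 ⟨ha, (List.nodup_cons.1 h7.nodup).2⟩), List.map_cons,
    List.sum_cons, show (l.map fun χ => dg χ ^ 2) = (l.map dg).map (· ^ 2) by rw [List.map_map]; rfl,
    h1, h5.dg_a, H.hcard] at h2
  norm_num at h2

/-- **The (5,5;7) integrality filter**: if `|K₅| = 192` then fourteen lists are left. -/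
theorem mem_left {R : Sylow 5 G} {K : Subgroup G} {M : Ideal AlgInt}
    {B : Finset (IrrCharacter G)} {ε : IrrCharacter G → ℤ} {a b c d : IrrCharacter G}
    (h5 : B5 R K M B ε a b c d) (hK : Nat.card K = 192) {S : Sylow 7 G} {K' : Subgroup G}
    {M' : Ideal AlgInt} {B' : Finset (IrrCharacter G)} {ε' : IrrCharacter G → ℤ}
    {l : List (IrrCharacter G)} (h7 : B7six S K' M' B' ε' l b) (hK' : Nat.card K' = 24) :
    (l.map fun χ => ε' χ * (dg χ : ℤ)) ∈ left := by
  rcases mem_left' H h5 hK h7 hK' with h | h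
  · exact h
  · exact absurd h (ne_first H h5 h7)

end Cfsg.Agent.SporadicA.M24.SixFilter
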