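import Cfsg.Agent.SporadicA.M24.SixArith
import Cfsg.Agent.SporadicA.M24.ColSix
import Cfsg.Agent.SporadicA.M24.SixFilter
import Cfsg.Agent.SporadicA.M24.LSeven
import Cfsg.Agent.SporadicA.M24.Psd
import Cfsg.Agent.SporadicA.M24.KillThree

/-!
# `e₇ = 6`, `|K₇| = 24`: there is no character of degree 22 in the principal 7-block

`not_22`.
-/

set_option autoImplicit false
set_option linter.unusedSectionVars false

open Cfsg Subgroup
open Cfsg.Agent.Characters.Core
open Cfsg.Agent.SmallSimple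
open Cfsg.Agent.SmallSimple.FlatBlock
open Cfsg.Agent.M23Order.Base
open Cfsg.Agent.M24Order.Setup (uu vv)
open Cfsg.Agent.SporadicA.M24.Col
open Cfsg.Agent.SporadicA.M24.Seven
open Cfsg.Agent.SporadicA.M24.Setup
open Cfsg.Agent.SporadicA.M24.SixRows

namespace Cfsg.Agent.SporadicA.M24.SixKill

universe u

/-! ### Lists -/

theorem exists_of_map_perm {α β : Type*} {f : α → β} {A B : List β} (h : A.Perm B) :
    ∀ m : List α, m.map f = A → ∃ l, m.Perm l ∧ l.map f = B := by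
  induction h with
  | nil => exact fun m hm => ⟨m, List.Perm.refl _, hm⟩
  | cons x _ ih =>
    intro m hm
    obtain ⟨a, m', rfl, hx, hm'⟩ := List.map_eq_cons_iff.1 hm
    obtain ⟨l, h1, h2⟩ := ih m' hm'
    exact ⟨a :: l, h1.cons a, by rw [List.map_cons, hx, h2]⟩
  | swap x y l =>
    intro m hm
    obtain ⟨a, m', rfl, hx, hm'⟩ := List.map_eq_cons_iff.1 hm
    obtain ⟨b, m'', rfl, hy, hm''⟩ := List.map_eq_cons_iff.1 hm'
    exact ⟨b :: a :: m'', List.Perm.swap _ _ _, by rw [List.map_cons, List.map_cons, hx, hy, hm'']⟩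
  | trans _ _ ih1 ih2 =>
    intro m hm
    obtain ⟨l, h1, h2⟩ := ih1 m hm
    obtain ⟨l', h3, h4⟩ := ih2 l h2
    exact ⟨l', h1.trans h3, h4⟩

theorem exists_order {α : Type*} {f : α → ℤ} {l : List α} {b : α} (hb : b ∈ l)
    {s0 s1 s2 s3 s4 : ℤ} (h : (l.map f).Perm (f b :: [s0, s1, s2, s3, s4])) :
    ∃ x0 x1 x2 x3 x4 : α, l.Perm (b :: [x0, x1, x2, x3, x4]) ∧ f x0 = s0 ∧ f x1 = s1 ∧
      f x2 = s2 ∧ f x3 = s3 ∧ f x4 = s4 := by
  classical
  have h1 : l.Perm (b :: l.erase b) := List.perm_cons_erase hb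
  have h2 : ((l.erase b).map f).Perm [s0, s1, s2, s3, s4] := by
    have h3 := (h1.map f).symm.trans h
    rw [List.map_cons] at h3
    exact h3.cons_inv
  obtain ⟨l', h3, h4⟩ := exists_of_map_perm h2 _ rfl
  obtain ⟨x0, l0, rfl, e0, h4⟩ := List.map_eq_cons_iff.1 h4
  obtain ⟨x1, l1, rfl, e1, h4⟩ := List.map_eq_cons_iff.1 h4
  obtain ⟨x2, l2, rfl, e2, h4⟩ := List.map_eq_cons_iff.1 h4
  obtain ⟨x3, l3, rfl, e3, h4⟩ := List.map_eq_cons_iff.1 h4
  obtain ⟨x4, l4, rfl, e4, h4⟩ := List.map_eq_cons_iff.1 h4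
  rw [List.map_eq_nil_iff] at h4
  subst h4
  exact ⟨x0, x1, x2, x3, x4, h1.trans (h3.cons b), e0, e1, e2, e3, e4⟩

/-! ### Arithmetic of one value -/

theorem dv_dvd {i d : ℕ} {v : ℤ} (hd : 0 < d) (h : (d : ℤ) ∣ (i : ℤ) * v) :
    ((d / Nat.gcd i d : ℕ) : ℤ) ∣ v := by
  rw [Int.natCast_dvd] at h ⊢
  rw [Int.natAbs_mul, Int.natAbs_natCast] at h
  have hg : 0 < Nat.gcd i d := Nat.gcd_pos_of_pos_right _ hd
  have h1 : Nat.Coprime (i / Nat.gcd i d) (d / Nat.gcd i d) := Nat.coprime_div_gcd_div_gcd hg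
  refine h1.symm.dvd_of_dvd_mul_left (m := i / Nat.gcd i d) ?_
  refine Nat.dvd_of_mul_dvd_mul_left hg ?_
  rw [Nat.mul_div_cancel' (Nat.gcd_dvd_right i d), ← mul_assoc,
    Nat.mul_div_cancel' (Nat.gcd_dvd_left i d)]
  exact h

theorem term_eq {e d s v w : ℤ} (hs : e * d = s) (hd : d ≠ 0) (he : e ≠ 0)
    (hdvd : s ∣ 244823040) : (244823040 : ℚ) * ((e * v * w : ℚ) / d) =
      ((244823040 / s : ℤ) : ℚ) * ((e * v) * (e * w)) := by
  obtain ⟨q, hq⟩ := hdvd
  have hs0 : s ≠ 0 := by rw [← hs]; exact mul_ne_zero he hd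
  have h1 : (244823040 : ℤ) / s = q := by rw [hq]; exact Int.mul_ediv_cancel_left _ hs0
  have h2 : (244823040 : ℚ) = e * d * q := by
    have h3 : (244823040 : ℤ) = e * d * q := by rw [hs]; exact hq
    exact_mod_cast h3
  have hd' : (d : ℚ) ≠ 0 := by exact_mod_cast hd
  rw [h1, h2]
  field_simp

theorem r28a {x : ℤ} (h : (4 : ℤ) ∣ ((5544 : ℕ) : ℤ) - x) (h' : (7 : ℤ) ∣ x) : x % 28 = 0 := by
  omega

theorem r28b {x : ℤ} (h : (4 : ℤ) ∣ ((2024 : ℕ) : ℤ) - x) (h' : ((7 : ℕ) : ℤ) ∣ 1 - x) :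
    x % 28 = 8 := by omega

theorem r28c {x : ℤ} (h : (4 : ℤ) ∣ ((1771 : ℕ) : ℤ) - x) (h' : (7 : ℤ) ∣ x) : x % 28 = 7 := by
  omega

theorem r5m {x : ℤ} (h : ((5 : ℕ) : ℤ) ∣ -1 - x) : x % 5 = 4 := by omega

theorem r5p {x : ℤ} (h : ((5 : ℕ) : ℤ) ∣ 1 - x) : x % 5 = 1 := by omega

theorem r20a {x : ℤ} (h : (4 : ℤ) ∣ ((5544 : ℕ) : ℤ) - x) (h' : x % 5 = 4) : x % 20 = 4 := by
  omega

theorem r20b {x : ℤ} (h : (4 : ℤ) ∣ ((2024 : ℕ) : ℤ) - x) (h' : x % 5 = 4) : x % 20 = 4 := by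
  omega

theorem r20c {x : ℤ} (h : (4 : ℤ) ∣ ((1771 : ℕ) : ℤ) - x) (h' : x % 5 = 1) : x % 20 = 11 := by
  omega

variable {G : Type u} [Group G] [Finite G]

section Values

variable {t : G} {v : IrrCharacter G → ℤ} {χ : IrrCharacter G} {e s : ℤ}

theorem z_mod4 (hv : Column t v) (hχ : χ ≠ tr G) (hs : e * (dg χ : ℤ) = s) :
    (e * v χ) % 4 = s % 4 := by
  obtain ⟨k, hk⟩ := hv.mod4 χ hχ
  have h1 : s - e * v χ = 4 * (e * k) := by rw [← hs]; linear_combination e * hk
  omega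

theorem z_abs (he : e = 1 ∨ e = -1) (w : ℤ) : |e * w| = |w| := by
  rcases he with rfl | rfl
  · rw [one_mul]
  · rw [neg_one_mul, abs_neg]

theorem s_natAbs (he : e = 1 ∨ e = -1) (hs : e * (dg χ : ℤ) = s) : s.natAbs = dg χ := by
  rcases he with rfl | rfl <;> omega

theorem z_dvd (hv : Column t v) (he : e = 1 ∨ e = -1) (hs : e * (dg χ : ℤ) = s)
    (hG : Nat.card G = 244823040) :
    ((dv (Nat.card (centralizer ({t} : Set G))) s : ℕ) : ℤ) ∣ e * v χ := by
  have h1 : 244823040 / Nat.card (centralizer ({t} : Set G)) =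
      (centralizer ({t} : Set G)).index := by
    rw [← hG, ← (centralizer ({t} : Set G)).card_mul_index]
    exact Nat.mul_div_cancel_left _ Nat.card_pos
  unfold dv
  rw [h1, s_natAbs he hs]
  exact Dvd.dvd.mul_left (dv_dvd (Nat.pos_of_ne_zero (dg_ne_zero χ)) (hv.dvd χ)) _

theorem z_sq (hv : Column t v) (he : e = 1 ∨ e = -1) :
    (e * v χ) * (e * v χ) ≤ (Nat.card (centralizer ({t} : Set G)) : ℤ) := by
  have h1 := hv.norm {χ}
  rw [Finset.sum_singleton] at h1
  rcases he with rfl | rfl <;> nlinarith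

/-- the value at `t` is admissible -/
theorem adm_t (hv : Column t v) (hχ : χ ≠ tr G) (he : e = 1 ∨ e = -1)
    (hs : e * (dg χ : ℤ) = s) (hG : Nat.card G = 244823040) (h7 : v χ ≡ e [ZMOD 7]) :
    Adm 28 rT bT (Nat.card (centralizer ({t} : Set G))) s (e * v χ) := by
  have h4 := z_mod4 hv hχ hs
  have h7' : (e * v χ) % 7 = 1 := by
    have h1 : (e * v χ) % 7 = (e * e) % 7 := h7.mul_left e
    rw [h1]
    rcases he with rfl | rfl <;> norm_num
  refine ⟨?_, z_dvd hv he hs hG, ?_, z_sq hv he⟩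
  · unfold rT
    rw [Int.toNat_of_nonneg (by omega)]
    push_cast
    omega
  · rw [z_abs he, bT, s_natAbs he hs]
    have := hv.lt χ hχ
    have := dg_ne_zero χ
    omega

/-- the value at `w` is admissible -/
theorem adm_w (hv : Column t v) (hχ : χ ≠ tr G) (he : e = 1 ∨ e = -1)
    (hs : e * (dg χ : ℤ) = s) (hG : Nat.card G = 244823040)
    (hu : 11 * |v χ| ≤ dg χ + 10 * uu χ) :
    Adm 4 rW bW (Nat.card (centralizer ({t} : Set G))) s (e * v χ) := by
  have h4 := z_mod4 hv hχ hs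
  refine ⟨?_, z_dvd hv he hs hG, ?_, z_sq hv he⟩
  · unfold rW
    rw [Int.toNat_of_nonneg (by omega)]
    exact h4
  · rw [z_abs he, bW, s_natAbs he hs]
    unfold uu at hu
    split_ifs at hu ⊢ <;> omega

end Values

section Blocks

variable [IsSimpleGroup G] (H : Hyp G)
  {R : Sylow 5 G} {K : Subgroup G} {M : Ideal AlgInt}
  {B : Finset (IrrCharacter G)} {ε : IrrCharacter G → ℤ} {a b c d : IrrCharacter G}
  {S : Sylow 7 G} {K' : Subgroup G} {M' : Ideal AlgInt} {B' : Finset (IrrCharacter G)}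
  {ε' : IrrCharacter G → ℤ} {l : List (IrrCharacter G)} {x0 x1 x2 x3 x4 : IrrCharacter G}
  {s0 s1 s2 s3 s4 : ℤ}

theorem rel_five (h5 : B5 R K M B ε a b c d) {t : G} {v : IrrCharacter G → ℤ}
    (hv : Column t v) : 1 - v a - v b + v c + v d = 0 := by
  have : Fact (Nat.Prime 5) := ⟨by norm_num⟩
  have h1 := ColSix.rel_list h5.loc.toFlat h5.nodup h5.mem (by norm_num) hv
  simp only [List.map_cons, List.map_nil, List.sum_cons, List.sum_nil, add_zero, h5.ε_a, h5.ε_b,
    h5.ε_c, h5.ε_d] at h1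
  linarith

theorem exists_k5 (h5 : B5 R K M B ε a b c d) (hc : dg c = 1771) (hd : dg d = 5796)
    (hG : Nat.card G = 244823040) : ∃ k : G → ℕ, ∀ (t : G) (v : IrrCharacter G → ℤ),
      Column t v → ((k t : ℤ) * (Nat.card (centralizer ({t} : Set G)) : ℤ)) *
        (k t * (Nat.card (centralizer ({t} : Set G)) : ℤ)) =
          384 * (Nat.card K : ℤ) * F5 (v a) (v b) (v c) (v d) ∧
        ((k t : ℕ) : ℤ) ≤ (Nat.card K : ℤ) := by
  obtain ⟨k, hk, hk2, -⟩ := ColSix.five_pair_list h5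
  refine ⟨k, fun t v hv => ⟨?_, by exact_mod_cast hk2 t⟩⟩
  have h1 := hk t t v v hv hv
  rw [hc, hd, hG] at h1
  have h2 : (((k t : ℤ) * (Nat.card (centralizer ({t} : Set G)) : ℤ) *
      (k t * (Nat.card (centralizer ({t} : Set G)) : ℤ)) : ℤ) : ℚ) =
      ((384 * (Nat.card K : ℤ) * F5 (v a) (v b) (v c) (v d) : ℤ) : ℚ) := by
    unfold F5
    push_cast at h1 ⊢
    linear_combination (1 / 5 : ℚ) * h1
  exact_mod_cast h2

theorem rel_seven (h7 : B7six S K' M' B' ε' l b)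
    (hperm : l.Perm (b :: [x0, x1, x2, x3, x4])) {t : G} {v : IrrCharacter G → ℤ}
    (hv : Column t v) : 1 + v b + (ε' x0 * v x0 + ε' x1 * v x1 + ε' x2 * v x2 + ε' x3 * v x3 +
      ε' x4 * v x4) = 0 := by
  have h1 := ColSix.seven_rel_six h7 hv
  rw [(hperm.map _).sum_eq] at h1
  simp only [List.map_cons, List.map_nil, List.sum_cons, List.sum_nil, add_zero, h7.ε_b] at h1
  linarith

theorem exists_k7 (h7 : B7six S K' M' B' ε' l b)
    (hperm : l.Perm (b :: [x0, x1, x2, x3, x4])) (hG : Nat.card G = 244823040)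
    (hK : Nat.card K' = 24) (hb : dg b = 2024)
    (e0 : ε' x0 * (dg x0 : ℤ) = s0) (e1 : ε' x1 * (dg x1 : ℤ) = s1)
    (e2 : ε' x2 * (dg x2 : ℤ) = s2) (e3 : ε' x3 * (dg x3 : ℤ) = s3)
    (e4 : ε' x4 * (dg x4 : ℤ) = s4)
    (d0 : s0 ∣ 244823040) (d1 : s1 ∣ 244823040) (d2 : s2 ∣ 244823040) (d3 : s3 ∣ 244823040)
    (d4 : s4 ∣ 244823040) : ∃ k : G → ℕ, (∀ (t u : G) (v w : IrrCharacter G → ℤ),
      Column t v → Column u w → 7 * (((k t : ℤ) * (Nat.card (centralizer ({t} : Set G)) : ℤ)) *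
        (k u * (Nat.card (centralizer ({u} : Set G)) : ℤ))) =
          24 * (244823040 + 120960 * (v b * w b) +
      (244823040 / s0 * ((ε' x0 * v x0) * (ε' x0 * w x0)) +
       244823040 / s1 * ((ε' x1 * v x1) * (ε' x1 * w x1)) +
       244823040 / s2 * ((ε' x2 * v x2) * (ε' x2 * w x2)) +
       244823040 / s3 * ((ε' x3 * v x3) * (ε' x3 * w x3)) +
       244823040 / s4 * ((ε' x4 * v x4) * (ε' x4 * w x4))))) ∧ ∀ t, k t < 25 := by
  obtain ⟨k, hk, hk2, -⟩ := ColSix.seven_pair_six h7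
  refine ⟨k, fun t u v w hv hw => ?_, fun t => by have := hk2 t; omega⟩
  have h1 := hk t u v w hv hw
  rw [(hperm.map _).sum_eq, hG, hK] at h1
  simp only [List.map_cons, List.map_nil, List.sum_cons, List.sum_nil, add_zero, h7.ε_b,
    hb] at h1
  have hmem : ∀ χ ∈ b :: [x0, x1, x2, x3, x4], χ ∈ B' := fun χ hχ =>
    (h7.mem χ).2 (List.mem_cons_of_mem _ (hperm.mem_iff.2 hχ))
  have hε : ∀ χ ∈ b :: [x0, x1, x2, x3, x4], ε' χ ≠ 0 := fun χ hχ => by
    rcases h7.loc.toFlat.ε_mem χ (hmem χ hχ) with h | h <;> rw [h] <;> norm_num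
  have hdg : ∀ χ : IrrCharacter G, (dg χ : ℤ) ≠ 0 := fun χ => by
    exact_mod_cast dg_ne_zero χ
  have t0 := term_eq e0 (hdg x0) (hε x0 (by simp)) d0 (v := v x0) (w := w x0)
  have t1 := term_eq e1 (hdg x1) (hε x1 (by simp)) d1 (v := v x1) (w := w x1)
  have t2 := term_eq e2 (hdg x2) (hε x2 (by simp)) d2 (v := v x2) (w := w x2)
  have t3 := term_eq e3 (hdg x3) (hε x3 (by simp)) d3 (v := v x3) (w := w x3)
  have t4 := term_eq e4 (hdg x4) (hε x4 (by simp)) d4 (v := v x4) (w := w x4)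
  rw [← Int.cast_inj (α := ℚ)]
  simp only [Int.cast_mul, Int.cast_add, Int.cast_natCast, Int.cast_ofNat] at t0 t1 t2 t3 t4 ⊢
  push_cast at h1
  linear_combination h1 + 24 * t0 + 24 * t1 + 24 * t2 + 24 * t3 + 24 * t4

include H in
theorem nodup_ten (h5 : B5 R K M B ε a b c d) (hc : dg c = 1771) (hd : dg d = 5796)
    (h7 : B7six S K' M' B' ε' l b) (hperm : l.Perm (b :: [x0, x1, x2, x3, x4])) :
    [tr G, a, b, c, d, x0, x1, x2, x3, x4].Nodup := by
  have f7 : Fact (Nat.Prime 7) := ⟨by norm_num⟩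
  have hS := card_seven H S
  have h1 : (tr G :: b :: [x0, x1, x2, x3, x4]).Nodup := (hperm.cons (tr G)).nodup_iff.1 h7.nodup
  have hmem : ∀ χ ∈ [x0, x1, x2, x3, x4], χ ∈ B' := fun χ hχ =>
    (h7.mem χ).2 (List.mem_cons_of_mem _ (hperm.mem_iff.2 (List.mem_cons_of_mem _ hχ)))
  have hmod : ∀ χ ∈ [x0, x1, x2, x3, x4], dg χ % 7 ≠ 0 := fun χ hχ h => by
    have h2 := h7.loc.toFlat.modEq hS (hmem χ hχ)
    rw [Int.modEq_iff_dvd] at h2
    have h3 : (7 : ℤ) ∣ (dg χ : ℤ) := by exact_mod_cast Nat.dvd_of_mod_eq_zero h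
    have h4 : (7 : ℤ) ∣ 1 := by
      have h5 := dvd_add h2 (h3.mul_left (ε' χ))
      rw [sub_add_cancel] at h5
      exact_mod_cast h5
    norm_num at h4
  have h2 : ([tr G, a, b, c, d] ++ [x0, x1, x2, x3, x4]).Nodup := by
    rw [List.nodup_append]
    refine ⟨h5.nodup, (h1.of_cons).of_cons, ?_⟩
    intro χ hχ ψ hψ h
    subst h
    simp only [List.mem_cons, List.not_mem_nil, or_false] at hχ
    have hm := hmod χ hψ
    rcases hχ with rfl | rfl | rfl | rfl | rfl
    · exact (List.nodup_cons.1 h1).1 (List.mem_cons_of_mem _ hψ)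
    · rw [h5.dg_a] at hm; exact hm rfl
    · exact (List.nodup_cons.1 h1.of_cons).1 hψ
    · rw [hc] at hm; exact hm rfl
    · rw [hd] at hm; exact hm rfl
  exact h2

theorem col_data (hG : Nat.card G = 244823040) (h5 : B5 R K M B ε a b c d)
    (hc : dg c = 1771) (hd : dg d = 5796)
    (h7 : B7six S K' M' B' ε' l b) (hperm : l.Perm (b :: [x0, x1, x2, x3, x4]))
    (hnd : [tr G, a, b, c, d, x0, x1, x2, x3, x4].Nodup)
    {q : ℕ} {res Bb : ℤ → ℕ} {t : G} {v : IrrCharacter G → ℤ} (hv : Column t v) {k5 k7 : ℕ}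
    (p5 : ((k5 : ℤ) * (Nat.card (centralizer ({t} : Set G)) : ℤ)) *
        (k5 * (Nat.card (centralizer ({t} : Set G)) : ℤ)) =
          384 * (Nat.card K : ℤ) * F5 (v a) (v b) (v c) (v d))
    (hk5 : (k5 : ℤ) ≤ (Nat.card K : ℤ))
    (p7 : 7 * (((k7 : ℤ) * (Nat.card (centralizer ({t} : Set G)) : ℤ)) *
        (k7 * (Nat.card (centralizer ({t} : Set G)) : ℤ))) =
          24 * (244823040 + 120960 * (v b * v b) +
      (244823040 / s0 * ((ε' x0 * v x0) * (ε' x0 * v x0)) +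
       244823040 / s1 * ((ε' x1 * v x1) * (ε' x1 * v x1)) +
       244823040 / s2 * ((ε' x2 * v x2) * (ε' x2 * v x2)) +
       244823040 / s3 * ((ε' x3 * v x3) * (ε' x3 * v x3)) +
       244823040 / s4 * ((ε' x4 * v x4) * (ε' x4 * v x4)))))
    (hk7 : k7 < 25)
    (a0 : Adm q res Bb (Nat.card (centralizer ({t} : Set G))) s0 (ε' x0 * v x0))
    (a1 : Adm q res Bb (Nat.card (centralizer ({t} : Set G))) s1 (ε' x1 * v x1))
    (a2 : Adm q res Bb (Nat.card (centralizer ({t} : Set G))) s2 (ε' x2 * v x2))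
    (a3 : Adm q res Bb (Nat.card (centralizer ({t} : Set G))) s3 (ε' x3 * v x3))
    (a4 : Adm q res Bb (Nat.card (centralizer ({t} : Set G))) s4 (ε' x4 * v x4)) :
    ColData (Nat.card K : ℤ) q res Bb s0 s1 s2 s3 s4 (Nat.card (centralizer ({t} : Set G)))
      k5 k7 (v a) (v b) (v c) (v d) (ε' x0 * v x0) (ε' x1 * v x1) (ε' x2 * v x2)
      (ε' x3 * v x3) (ε' x4 * v x4) := by
  have hidx : 244823040 / Nat.card (centralizer ({t} : Set G)) =
      (centralizer ({t} : Set G)).index := by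
    rw [← hG, ← (centralizer ({t} : Set G)).card_mul_index]
    exact Nat.mul_div_cancel_left _ Nat.card_pos
  have hmem : ∀ χ ∈ [x0, x1, x2, x3, x4], χ ∈ B' := fun χ hχ =>
    (h7.mem χ).2 (List.mem_cons_of_mem _ (hperm.mem_iff.2 (List.mem_cons_of_mem _ hχ)))
  have hsq : ∀ χ ∈ [x0, x1, x2, x3, x4], (ε' χ * v χ) * (ε' χ * v χ) = v χ ^ 2 := fun χ hχ => by
    have h1 := h7.loc.toFlat.ε_mul_self (hmem χ hχ)
    linear_combination (v χ ^ 2) * h1
  have hn := hv.norm_list hnd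
  simp only [List.map_cons, List.map_nil, List.sum_cons, List.sum_nil, add_zero, hv.v_tr] at hn
  refine ⟨Nat.card_pos, rel_five h5 hv, rel_seven h7 hperm hv, ?_, ?_, ?_, ?_, ?_, p5, hk5, ?_,
    hk7, a0, a1, a2, a3, a4⟩
  · rw [hsq x0 (by simp), hsq x1 (by simp), hsq x2 (by simp), hsq x3 (by simp),
      hsq x4 (by simp), N5]
    linarith
  · have h1 := hv.dvd a
    rw [h5.dg_a] at h1
    rw [hidx]; exact_mod_cast h1
  · have h1 := hv.dvd b
    rw [h5.dg_b] at h1
    rw [hidx]; exact_mod_cast h1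
  · have h1 := hv.dvd c
    rw [hc] at h1
    rw [hidx]; exact_mod_cast h1
  · have h1 := hv.dvd d
    rw [hd] at h1
    rw [hidx]; exact_mod_cast h1
  · rw [← p7]

theorem mem_CT {c m n : ℕ} (h : c ∣ 967680) (h1 : c = m * n) (h2 : n % 7 = 1)
    (h3 : m = 336 ∨ m = 1008) : c ∈ CT := by
  have e1 : ∀ n ∈ Nat.divisors 2880, n % 7 = 1 → 336 * n ∈ CT := by decide +kernel
  have e2 : ∀ n ∈ Nat.divisors 960, n % 7 = 1 → 1008 * n ∈ CT := by decide +kernel
  rcases h3 with rfl | rfl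
  · rw [h1]
    refine e1 n (Nat.mem_divisors.2 ⟨?_, by norm_num⟩) h2
    rw [h1, show 967680 = 336 * 2880 by norm_num] at h
    exact Nat.dvd_of_mul_dvd_mul_left (by norm_num) h
  · rw [h1]
    refine e2 n (Nat.mem_divisors.2 ⟨?_, by norm_num⟩) h2
    rw [h1, show 967680 = 1008 * 960 by norm_num] at h
    exact Nat.dvd_of_mul_dvd_mul_left (by norm_num) h

include H in
/-- **One set of degrees.** -/
theorem kill (h5 : B5 R K M B ε a b c d) (h7 : B7six S K' M' B' ε' l b)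
    (hK' : Nat.card K' = 24) {k : ℤ} (hK : (Nat.card K : ℤ) = k) (hk0 : 0 < k) (hk1 : k < 256)
    (hl : (l.map fun χ => ε' χ * (dg χ : ℤ)).Perm (2024 :: [s0, s1, s2, s3, s4]))
    (hB : Bd s0 s1 s2 s3 s4)
    (d0 : s0 ∣ 244823040) (d1 : s1 ∣ 244823040) (d2 : s2 ∣ 244823040) (d3 : s3 ∣ 244823040)
    (d4 : s4 ∣ 244823040) {T W : List R5} {TR : List C7}
    (hT5 : (CT.all fun c => (rowsT k c).all fun r => T.contains r) = true)
    (hT : tS T TR s0 s1 s2 s3 s4 = true)
    (hW5 : (CW'.all fun c => (rowsW k c).all fun r => W.contains r) = true)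
    (hW : TR = [] ∨ wS W TR s0 s1 s2 s3 s4 = true) : False := by
  have f7 : Fact (Nat.Prime 7) := ⟨by norm_num⟩
  have f5 : Fact (Nat.Prime 5) := ⟨by norm_num⟩
  have hG := H.hcard
  have hS := card_seven H S
  obtain ⟨hc, hd, -⟩ := KillThree.card_K H h5
  have hsb : (fun χ => ε' χ * (dg χ : ℤ)) b = 2024 := by
    change ε' b * (dg b : ℤ) = 2024
    rw [h7.ε_b, h5.dg_b]; norm_num
  rw [← hsb] at hl
  obtain ⟨x0, x1, x2, x3, x4, hperm, e0, e1, e2, e3, e4⟩ := exists_order h7.b_mem hl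
  have hnd := nodup_ten H h5 hc hd h7 hperm
  have hmem : ∀ χ ∈ [x0, x1, x2, x3, x4], χ ∈ B' := fun χ hχ =>
    (h7.mem χ).2 (List.mem_cons_of_mem _ (hperm.mem_iff.2 (List.mem_cons_of_mem _ hχ)))
  have hbB : b ∈ B' := (h7.mem b).2 (List.mem_cons_of_mem _ h7.b_mem)
  have hε : ∀ χ ∈ [x0, x1, x2, x3, x4], ε' χ = 1 ∨ ε' χ = -1 := fun χ hχ =>
    h7.loc.toFlat.ε_mem χ (hmem χ hχ)
  have hne : ∀ χ ∈ [a, b, c, d, x0, x1, x2, x3, x4], χ ≠ tr G := fun χ hχ h =>
    (List.nodup_cons.1 hnd).1 (h ▸ hχ)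
  -- the column of `t`
  obtain ⟨t, htK, ht2, ht1, m, n, hmn, hn7, hm⟩ := LSeven.exists_row h7.loc.loc hK'
  obtain ⟨v, hv⟩ := exists_col H.hcomm ht2 ht1
  have htC : t ∈ centralizer (S : Set G) := ((h7.loc.loc.mem_iff t).1 htK).1
  have h7t : 7 ∣ Nat.card (centralizer ({t} : Set G)) := by
    rcases hm with rfl | rfl
    · exact ⟨48 * n, by rw [hmn]; ring⟩
    · exact ⟨144 * n, by rw [hmn]; ring⟩
  have hct := mem_CT (Col.card_dvd H hv) hmn hn7 hm
  -- the column of `w`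
  obtain ⟨u, hu2, hu1, huR, h10, hle, hinv⟩ := InvolEleven.exists_invol H R
  obtain ⟨w, hw⟩ := exists_col H.hcomm (by rw [← pow_two]; exact hu2) hu1
  have hwle := Psd.le_u H hw hinv
  obtain ⟨k5, hk5⟩ := exists_k5 h5 hc hd hG
  obtain ⟨k7, hk7, hk7'⟩ := exists_k7 h7 hperm hG hK' h5.dg_b e0 e1 e2 e3 e4 d0 d1 d2 d3 d4
  have D := col_data hG h5 hc hd h7 hperm hnd hv (hk5 t v hv).1 (hk5 t v hv).2
    (hk7 t t v v hv hv) (hk7' t)
    (adm_t hv (hne x0 (by simp)) (hε x0 (by simp)) e0 hG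
      (ColSix.seven_modEq_six H h7 hv h7t (hmem x0 (by simp))))
    (adm_t hv (hne x1 (by simp)) (hε x1 (by simp)) e1 hG
      (ColSix.seven_modEq_six H h7 hv h7t (hmem x1 (by simp))))
    (adm_t hv (hne x2 (by simp)) (hε x2 (by simp)) e2 hG
      (ColSix.seven_modEq_six H h7 hv h7t (hmem x2 (by simp))))
    (adm_t hv (hne x3 (by simp)) (hε x3 (by simp)) e3 hG
      (ColSix.seven_modEq_six H h7 hv h7t (hmem x3 (by simp))))
    (adm_t hv (hne x4 (by simp)) (hε x4 (by simp)) e4 hG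
      (ColSix.seven_modEq_six H h7 hv h7t (hmem x4 (by simp))))
  have D' := col_data hG h5 hc hd h7 hperm hnd hw (hk5 u w hw).1 (hk5 u w hw).2
    (hk7 u u w w hw hw) (hk7' u)
    (adm_w hw (hne x0 (by simp)) (hε x0 (by simp)) e0 hG (hwle x0))
    (adm_w hw (hne x1 (by simp)) (hε x1 (by simp)) e1 hG (hwle x1))
    (adm_w hw (hne x2 (by simp)) (hε x2 (by simp)) e2 hG (hwle x2))
    (adm_w hw (hne x3 (by simp)) (hε x3 (by simp)) e3 hG (hwle x3))
    (adm_w hw (hne x4 (by simp)) (hε x4 (by simp)) e4 hG (hwle x4))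
  rw [hK] at D D'
  have haB : a ∈ B := (h5.mem a).2 (by simp)
  have hbB5 : b ∈ B := (h5.mem b).2 (by simp)
  have hcB : c ∈ B := (h5.mem c).2 (by simp)
  -- residues of `t`
  have ma := hv.mod4 a (hne a (by simp))
  have mb := hv.mod4 b (hne b (by simp))
  have mc := hv.mod4 c (hne c (by simp))
  rw [h5.dg_a] at ma
  rw [h5.dg_b] at mb
  rw [hc] at mc
  have qa := ColSix.seven_dvd H hv h7t (χ := a) (by rw [h5.dg_a]; norm_num)
  have qc := ColSix.seven_dvd H hv h7t (χ := c) (by rw [hc]; norm_num)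
  have qb := ColSix.seven_modEq_six H h7 hv h7t hbB
  rw [h7.ε_b, Int.modEq_iff_dvd] at qb
  have r5 : Nat.card (centralizer ({t} : Set G)) % 5 = 0 → v a % 5 = 4 ∧ v b % 5 = 4 ∧
      v c % 5 = 1 := by
    intro h
    have h0 := Nat.dvd_of_mod_eq_zero h
    have h1 := ColSix.five_modEq H h5 hv h0 haB
    have h2 := ColSix.five_modEq H h5 hv h0 hbB5
    have h3 := ColSix.five_modEq H h5 hv h0 hcB
    rw [h5.ε_a, Int.modEq_iff_dvd] at h1
    rw [h5.ε_b, Int.modEq_iff_dvd] at h2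
    rw [h5.ε_c, Int.modEq_iff_dvd] at h3
    exact ⟨r5m h1, r5m h2, r5p h3⟩
  -- residues of `w`
  have na := hw.mod4 a (hne a (by simp))
  have nb := hw.mod4 b (hne b (by simp))
  have nc := hw.mod4 c (hne c (by simp))
  rw [h5.dg_a] at na
  rw [h5.dg_b] at nb
  rw [hc] at nc
  have h5w : 5 ∣ Nat.card (centralizer ({u} : Set G)) := dvd_trans (by norm_num) h10
  have pa := ColSix.five_modEq H h5 hw h5w haB
  have pb := ColSix.five_modEq H h5 hw h5w hbB5
  have pc := ColSix.five_modEq H h5 hw h5w hcB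
  rw [h5.ε_a, Int.modEq_iff_dvd] at pa
  rw [h5.ε_b, Int.modEq_iff_dvd] at pb
  rw [h5.ε_c, Int.modEq_iff_dvd] at pc
  exact no_cols hk0 hk1 hB hT5 hT hW5 hW D hct (r28a ma qa) (r28b mb qb) (r28c mc qc) r5 D'
    (Col.card_dvd H hw) h10 hle (r20a na (r5m pa)) (r20b nb (r5m pb)) (r20c nc (r5p pc))
    (hk7 t u v w hv hw)

end Blocks

/-! ### The sets -/

/-- the sets with 22, sorted -/
def sets12 : List (List ℤ) := [[2024, 9108, -1035, -12144, 22], [253, 9108, -12144, 736, 22],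
  [9108, -5060, -5060, -1035, 22], [-1518, 3795, -5060, 736, 22], [253, 3795, -5060, -1035, 22],
  [-5060, -1035, 3312, 736, 22], [2024, 2024, -5060, -1035, 22], [2024, 253, -5060, 736, 22],
  [-1518, -1518, 2024, -1035, 22], [-1518, -1518, 253, 736, 22], [-1518, -1035, 736, -230, 22],
  [-1518, 253, 253, -1035, 22], [253, -1035, -1035, -230, 22]]

/-- the sets with 22 after the filter -/
def sets192 : List (List ℤ) := [[2024, 9108, -1035, -12144, 22], [253, 9108, -12144, 736, 22],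
  [-1518, 3795, -5060, 736, 22], [-5060, -1035, 3312, 736, 22], [2024, 253, -5060, 736, 22],
  [-1518, -1518, 253, 736, 22], [-1518, -1035, 736, -230, 22]]

theorem arith12 : ∀ x ∈ pairs6, x.2 = 24 → (22 : ℤ) ∈ x.1 →
    ∃ y ∈ sets12, x.1.Perm (2024 :: y) := by
  decide +kernel

theorem arith192 : ∀ x ∈ SixFilter.left, (22 : ℤ) ∈ x → ∃ y ∈ sets192, x.Perm (2024 :: y) := by
  decide +kernel

/-- **There is no character of degree 22 in the principal 7-block.** -/
theorem not_22 [IsSimpleGroup G] (H : Hyp G) {R : Sylow 5 G} {K : Subgroup G} {M : Ideal AlgInt}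
    {B : Finset (IrrCharacter G)} {ε : IrrCharacter G → ℤ} {a b c d : IrrCharacter G}
    (h5 : B5 R K M B ε a b c d) {S : Sylow 7 G}
    {K' : Subgroup G} {M' : Ideal AlgInt} {B' : Finset (IrrCharacter G)}
    {ε' : IrrCharacter G → ℤ} {l : List (IrrCharacter G)} (h7 : B7six S K' M' B' ε' l b)
    (hK' : Nat.card K' = 24) : (22 : ℤ) ∉ l.map fun χ => ε' χ * (dg χ : ℤ) := by
  intro h22
  obtain ⟨-, -, hK | hK⟩ := KillThree.card_K H h5
  · have hK12 : (Nat.card K : ℤ) = 12 := by exact_mod_cast hK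
    obtain ⟨y, hy, hp⟩ := arith12 _ h7.mem_pairs hK' h22
    simp only [sets12, List.mem_cons, List.not_mem_nil, or_false] at hy
    rcases hy with rfl | rfl | rfl | rfl | rfl | rfl | rfl | rfl | rfl | rfl | rfl | rfl | rfl
    · exact kill H h5 h7 hK' hK12 (by norm_num) (by norm_num) hp (by unfold Bd; norm_num)
        (by norm_num) (by norm_num) (by norm_num) (by norm_num) (by norm_num) t12 t12_0 w12
        (Or.inl rfl)
    · exact kill H h5 h7 hK' hK12 (by norm_num) (by norm_num) hp (by unfold Bd; norm_num)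
        (by norm_num) (by norm_num) (by norm_num) (by norm_num) (by norm_num) t12 t12_1 w12
        (Or.inl rfl)
    · exact kill H h5 h7 hK' hK12 (by norm_num) (by norm_num) hp (by unfold Bd; norm_num)
        (by norm_num) (by norm_num) (by norm_num) (by norm_num) (by norm_num) t12 t12_2 w12
        (Or.inl rfl)
    · exact kill H h5 h7 hK' hK12 (by norm_num) (by norm_num) hp (by unfold Bd; norm_num)
        (by norm_num) (by norm_num) (by norm_num) (by norm_num) (by norm_num) t12 t12_3 w12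
        (Or.inr w12_3)
    · exact kill H h5 h7 hK' hK12 (by norm_num) (by norm_num) hp (by unfold Bd; norm_num)
        (by norm_num) (by norm_num) (by norm_num) (by norm_num) (by norm_num) t12 t12_4 w12
        (Or.inl rfl)
    · exact kill H h5 h7 hK' hK12 (by norm_num) (by norm_num) hp (by unfold Bd; norm_num)
        (by norm_num) (by norm_num) (by norm_num) (by norm_num) (by norm_num) t12 t12_5 w12
        (Or.inr w12_5)
    · exact kill H h5 h7 hK' hK12 (by norm_num) (by norm_num) hp (by unfold Bd; norm_num)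
        (by norm_num) (by norm_num) (by norm_num) (by norm_num) (by norm_num) t12 t12_6 w12
        (Or.inr w12_6)
    · exact kill H h5 h7 hK' hK12 (by norm_num) (by norm_num) hp (by unfold Bd; norm_num)
        (by norm_num) (by norm_num) (by norm_num) (by norm_num) (by norm_num) t12 t12_7 w12
        (Or.inr w12_7)
    · exact kill H h5 h7 hK' hK12 (by norm_num) (by norm_num) hp (by unfold Bd; norm_num)
        (by norm_num) (by norm_num) (by norm_num) (by norm_num) (by norm_num) t12 t12_8 w12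
        (Or.inl rfl)
    · exact kill H h5 h7 hK' hK12 (by norm_num) (by norm_num) hp (by unfold Bd; norm_num)
        (by norm_num) (by norm_num) (by norm_num) (by norm_num) (by norm_num) t12 t12_9 w12
        (Or.inr w12_9)
    · exact kill H h5 h7 hK' hK12 (by norm_num) (by norm_num) hp (by unfold Bd; norm_num)
        (by norm_num) (by norm_num) (by norm_num) (by norm_num) (by norm_num) t12 t12_10 w12
        (Or.inl rfl)
    · exact kill H h5 h7 hK' hK12 (by norm_num) (by norm_num) hp (by unfold Bd; norm_num)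
        (by norm_num) (by norm_num) (by norm_num) (by norm_num) (by norm_num) t12 t12_11 w12
        (Or.inl rfl)
    · exact kill H h5 h7 hK' hK12 (by norm_num) (by norm_num) hp (by unfold Bd; norm_num)
        (by norm_num) (by norm_num) (by norm_num) (by norm_num) (by norm_num) t12 t12_12 w12
        (Or.inr w12_12)
  · have hK192 : (Nat.card K : ℤ) = 192 := by exact_mod_cast hK
    obtain ⟨y, hy, hp⟩ := arith192 _ (SixFilter.mem_left H h5 hK h7 hK') h22
    simp only [sets192, List.mem_cons, List.not_mem_nil, or_false] at hy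
    rcases hy with rfl | rfl | rfl | rfl | rfl | rfl | rfl
    · exact kill H h5 h7 hK' hK192 (by norm_num) (by norm_num) hp (by unfold Bd; norm_num)
        (by norm_num) (by norm_num) (by norm_num) (by norm_num) (by norm_num) t192 t192_0 w192
        (Or.inl rfl)
    · exact kill H h5 h7 hK' hK192 (by norm_num) (by norm_num) hp (by unfold Bd; norm_num)
        (by norm_num) (by norm_num) (by norm_num) (by norm_num) (by norm_num) t192 t192_1 w192
        (Or.inr w192_1)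
    · exact kill H h5 h7 hK' hK192 (by norm_num) (by norm_num) hp (by unfold Bd; norm_num)
        (by norm_num) (by norm_num) (by norm_num) (by norm_num) (by norm_num) t192 t192_2 w192
        (Or.inr w192_2)
    · exact kill H h5 h7 hK' hK192 (by norm_num) (by norm_num) hp (by unfold Bd; norm_num)
        (by norm_num) (by norm_num) (by norm_num) (by norm_num) (by norm_num) t192 t192_3 w192
        (Or.inr w192_3)
    · exact kill H h5 h7 hK' hK192 (by norm_num) (by norm_num) hp (by unfold Bd; norm_num)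
        (by norm_num) (by norm_num) (by norm_num) (by norm_num) (by norm_num) t192 t192_4 w192
        (Or.inr w192_4)
    · exact kill H h5 h7 hK' hK192 (by norm_num) (by norm_num) hp (by unfold Bd; norm_num)
        (by norm_num) (by norm_num) (by norm_num) (by norm_num) (by norm_num) t192 t192_5 w192
        (Or.inr w192_5)
    · exact kill H h5 h7 hK' hK192 (by norm_num) (by norm_num) hp (by unfold Bd; norm_num)
        (by norm_num) (by norm_num) (by norm_num) (by norm_num) (by norm_num) t192 t192_6 w192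
        (Or.inr w192_6)

end Cfsg.Agent.SporadicA.M24.SixKill
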