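import Mathlib

/-!
# Arithmetic for `YStar`: an involution `u` commuting with a Sylow 5-subgroup, `|K| = 12`, and the
principal 23-block of degrees `1, 5544, 3520, 3520, 10395, 1540, 1540, 528, 252, 45, 45; 1760`.
-/

set_option autoImplicit false
set_option Elab.async false

namespace Cfsg.Agent.SporadicA.M24.YStarArith

/-- the orders of the centraliser -/
def cs : List ℕ := [10, 20, 30, 40, 60, 70, 80, 120, 140, 160, 210, 240, 280, 320, 420, 480, 560,
  640, 840, 960, 1120, 1280, 1680, 1920, 2240, 2560, 3360, 3840, 4480, 5120, 6720, 7680, 8960,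
  13440, 15360]

/-- the index -/
def ix (n : ℕ) : ℤ := ((244823040 / n : ℕ) : ℤ)

theorem cs_aux : ∀ k < 1565, 96768 % k = 0 → (ix (10 * k) * 5) % 45 = 0 → 10 * k ∈ cs := by
  have h : ((List.range 1565).all fun k => !(96768 % k == 0) || !((ix (10 * k) * 5) % 45 == 0) ||
      cs.contains (10 * k)) = true := by decide +kernel
  intro k hk h1 h2
  have h3 := List.all_eq_true.1 h k (List.mem_range.2 hk)
  simp only [h1, h2, BEq.rfl, Bool.not_true, Bool.false_or, List.contains_iff_mem] at h3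
  exact h3

theorem mem_cs {n : ℕ} (hn : n ∣ 967680) (h10 : 10 ∣ n) (hle : n ≤ 15646)
    (h45 : (45 : ℤ) ∣ ix n * 5) : n ∈ cs := by
  obtain ⟨k, rfl⟩ := h10
  have h1 : k ∣ 96768 := Nat.dvd_of_mul_dvd_mul_left (k := 10) (by norm_num) (by norm_num; exact hn)
  exact cs_aux k (by omega) (Nat.mod_eq_zero_of_dvd h1) (Int.emod_eq_zero_of_dvd h45)

/-- the values congruent to `r` modulo 20 -/
def rg (r : ℤ) : List ℤ := (List.range 16).map fun i : ℕ => 20 * ((i : ℤ) - 8) + r

theorem mem_rg {x r : ℤ} (hr : 0 ≤ r) (hr' : r < 20) (hx : x % 20 = r)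
    (h : x ^ 2 ≤ 15646) : x ∈ rg r := by
  have h1 : x < 126 := by nlinarith
  have h2 : -126 < x := by nlinarith
  rw [rg, List.mem_map]
  exact ⟨(x / 20 + 8).toNat, by rw [List.mem_range]; omega, by omega⟩

/-- the norm of the part in the principal 5-block -/
def nm (y b x z : ℤ) : ℤ := 1 + y * y + b * b + x * x + z * z

/-- the quadratic form of the pair formula -/
def F (y b x z : ℤ) : ℤ := 127512 - 23 * (y * y) - 63 * (b * b) + 72 * (x * x) + 22 * (z * z)

/-- the rows: order of the centraliser, value at the character of degree 5544, remaining norm -/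
def rows : List (ℕ × ℤ × ℤ) :=
  [(1920, -16, 700), (2560, -36, 540), (3840, -36, 1820), (3840, -16, 1220), (3840, 4, 620),
   (3840, 24, 1220), (3840, 44, 220), (3840, 44, 620), (7680, -36, 5660), (7680, -16, 660),
   (7680, 4, 1260), (7680, 24, 5060), (7680, 44, 4060), (7680, 64, 660), (13440, -56, 620),
   (15360, -16, 4340), (15360, -16, 8340), (15360, 64, 4340), (15360, 64, 8340)]

/-- the test for the search -/
def tst (n : ℕ) (y b x z : ℤ) : Bool :=
  decide ((n : ℤ) < nm y b x z) || (ix n * x) % 1771 != 0 || (ix n * z) % 5796 != 0 ||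
    ((List.range 13).all fun k => ((k : ℤ) * n) * (k * n) != 4608 * F y b x z) ||
    rows.contains (n, y, n - nm y b x z - 50)

theorem stage1 : (cs.all fun n => (rg 4).all fun y => (ix n * y) % 5544 != 0 ||
    (rg 4).all fun b => (ix n * b) % 2024 != 0 ||
    (rg 11).all fun x => tst n y b x (y + b - x - 1)) = true := by
  decide +kernel

theorem mem_rows {n k : ℕ} {y b x z : ℤ} (hn : n ∈ cs) (hy : y % 20 = 4) (hb : b % 20 = 4)
    (hx : x % 20 = 11) (hz : z = y + b - x - 1) (dy : 5544 ∣ ix n * y) (db : 2024 ∣ ix n * b)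
    (dx : 1771 ∣ ix n * x) (dz : 5796 ∣ ix n * z) (hk : k ≤ 12)
    (hpair : ((k : ℤ) * n) ^ 2 = 4608 * F y b x z) (hnorm : nm y b x z ≤ n) (hle : n ≤ 15646) :
    (n, y, n - nm y b x z - 50) ∈ rows := by
  have hle' : (n : ℤ) ≤ 15646 := by exact_mod_cast hle
  have hnorm' := hnorm
  unfold nm at hnorm'
  have s1 := mul_self_nonneg y
  have s2 := mul_self_nonneg b
  have s3 := mul_self_nonneg x
  have s4 := mul_self_nonneg z
  have my : y ∈ rg 4 := mem_rg (by norm_num) (by norm_num) hy (by nlinarith)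
  have mb : b ∈ rg 4 := mem_rg (by norm_num) (by norm_num) hb (by nlinarith)
  have mx : x ∈ rg 11 := mem_rg (by norm_num) (by norm_num) hx (by nlinarith)
  have h := List.all_eq_true.1 (List.all_eq_true.1 stage1 n hn) y my
  simp only [Int.emod_eq_zero_of_dvd dy, bne_self_eq_false, Bool.false_or] at h
  have h := List.all_eq_true.1 h b mb
  simp only [Int.emod_eq_zero_of_dvd db, bne_self_eq_false, Bool.false_or] at h
  have h := List.all_eq_true.1 h x mx
  rw [← hz] at h
  unfold tst at h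
  simp only [Int.emod_eq_zero_of_dvd dx, Int.emod_eq_zero_of_dvd dz, bne_self_eq_false,
    Bool.or_false, Bool.or_eq_true, decide_eq_true_eq, List.contains_iff_mem] at h
  rcases h with (h | h) | h
  · omega
  · have h4 := List.all_eq_true.1 h k (List.mem_range.2 (by omega))
    rw [bne_iff_ne, ← pow_two] at h4
    exact absurd hpair h4
  · exact h

theorem stage2s : (rows.all fun e => (rg 0).all fun s => decide (e.2.2 < s * s) ||
    (ix e.1 * s) % 3520 != 0 || s == 0) = true := by decide +kernel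

theorem stage2t : (rows.all fun e => (rg 0).all fun s => decide (e.2.2 < 2 * (s * s)) ||
    (ix e.1 * s) % 1760 != 0 || s == 0) = true := by decide +kernel

def P : List ℤ := [-12, -8, -4, 0, 4, 8, 12]
def Q : List ℤ := [-16, -12, -8, -4, 0, 4, 8, 12, 16]
def Rr : List ℤ := [-20, 0, 20]

def tst3 (e : ℕ × ℤ × ℤ) (p q r r' w : ℤ) : Bool :=
  decide (e.2.2 < p * p + q * q + r * r + r' * r' + w * w) ||
    30 * (e.2.1 * e.2.1) != 18480 + 660 * (p * p) + 315 * (q * q) + 108 * (r * r + r' * r') +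
      16 * (w * w)

theorem stage3 : (rows.all fun e => P.all fun p => Q.all fun q => Rr.all fun r => Rr.all fun r' =>
    tst3 e p q r r' (e.2.1 - 9 - p - q - r - r')) = true := by decide +kernel

theorem rows_y : ∀ e ∈ rows, e.2.1 * e.2.1 ≤ 4096 ∧ e.2.2 ≤ 8340 := by decide +kernel

theorem bd {x B : ℤ} (hB : 0 ≤ B) (h : x ^ 2 < B ^ 2) : -B < x ∧ x < B :=
  abs_lt.1 (abs_lt_of_sq_lt_sq h hB)

/-- The arithmetic of the column. -/
theorem arith {n k : ℕ} {y b x z s s' t p q r r' w : ℤ} (hn : n ∈ cs)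
    (hy : y % 20 = 4) (hb : b % 20 = 4)
    (hx : x % 20 = 11) (hz : z = y + b - x - 1) (dy : 5544 ∣ ix n * y) (db : 2024 ∣ ix n * b)
    (dx : 1771 ∣ ix n * x) (dz : 5796 ∣ ix n * z) (hk : k ≤ 12)
    (hpair : ((k : ℤ) * n) ^ 2 = 4608 * F y b x z) (hle : n ≤ 15646)
    (hs : s % 20 = 0) (hs' : s' % 20 = 0) (ht : t % 20 = 0)
    (hr : r % 20 = 0) (hr' : r' % 20 = 0) (hp : p % 4 = 0) (hq : q % 4 = 0)
    (ds : 3520 ∣ ix n * s) (ds' : 3520 ∣ ix n * s') (dt : 1760 ∣ ix n * t)
    (hnorm : nm y b x z + 50 + s ^ 2 + s' ^ 2 + 2 * t ^ 2 + p ^ 2 + q ^ 2 + r ^ 2 + r' ^ 2 + w ^ 2 ≤ n)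
    (hrel : 1 + y + s + s' + t - 10 - p - q - r - r' - w = 0)
    (hR2 : 166320 * 4 + 120 * y ^ 2 + 189 * (s ^ 2 + s' ^ 2) + 378 * t ^ 2 - 184800 * 4
      - 2640 * p ^ 2 - 1260 * q ^ 2 - 432 * (r ^ 2 + r' ^ 2) - 64 * w ^ 2 = 0) : False := by
  have s1 := sq_nonneg s
  have s2 := sq_nonneg s'
  have s3 := sq_nonneg t
  have s4 := sq_nonneg p
  have s5 := sq_nonneg q
  have s6 := sq_nonneg r
  have s7 := sq_nonneg r'
  have s8 := sq_nonneg w
  have hrow := mem_rows hn hy hb hx hz dy db dx dz hk hpair (by linarith) hle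
  have hy0 := rows_y _ hrow
  obtain ⟨hy1, hy2⟩ := hy0
  dsimp only at hy1 hy2
  have ms : s ∈ rg 0 := mem_rg (by norm_num) (by norm_num) hs (by linarith)
  have ms' : s' ∈ rg 0 := mem_rg (by norm_num) (by norm_num) hs' (by linarith)
  have mt : t ∈ rg 0 := mem_rg (by norm_num) (by norm_num) ht (by linarith)
  have key : ∀ s, s ∈ rg 0 → s ^ 2 ≤ n - nm y b x z - 50 → 3520 ∣ ix n * s → s = 0 := by
    intro s hs1 hs2 hs3
    have h := List.all_eq_true.1 (List.all_eq_true.1 stage2s _ hrow) s hs1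
    simp only [Int.emod_eq_zero_of_dvd hs3, bne_self_eq_false, Bool.or_false, Bool.or_eq_true,
      decide_eq_true_eq, beq_iff_eq] at h
    rcases h with h | h
    · rw [pow_two] at hs2; omega
    · exact h
  have e1 := key s ms (by linarith) ds
  have e2 := key s' ms' (by linarith) ds'
  have e3 : t = 0 := by
    have h := List.all_eq_true.1 (List.all_eq_true.1 stage2t _ hrow) t mt
    simp only [Int.emod_eq_zero_of_dvd dt, bne_self_eq_false, Bool.or_false, Bool.or_eq_true,
      decide_eq_true_eq, beq_iff_eq] at h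
    rcases h with h | h
    · rw [← pow_two] at h; linarith
    · exact h
  subst e1 e2 e3
  rw [← pow_two] at hy1
  have mp : p ∈ P := by
    obtain ⟨h1, h2⟩ := bd (x := p) (B := 13) (by norm_num) (by linarith)
    simp only [P, List.mem_cons, List.not_mem_nil, or_false]; omega
  have mq : q ∈ Q := by
    obtain ⟨h1, h2⟩ := bd (x := q) (B := 20) (by norm_num) (by linarith)
    simp only [Q, List.mem_cons, List.not_mem_nil, or_false]; omega
  have mr : r ∈ Rr := by
    obtain ⟨h1, h2⟩ := bd (x := r) (B := 40) (by norm_num) (by linarith)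
    simp only [Rr, List.mem_cons, List.not_mem_nil, or_false]; omega
  have mr' : r' ∈ Rr := by
    obtain ⟨h1, h2⟩ := bd (x := r') (B := 40) (by norm_num) (by linarith)
    simp only [Rr, List.mem_cons, List.not_mem_nil, or_false]; omega
  have h := List.all_eq_true.1 (List.all_eq_true.1 stage3 _ hrow) p mp
  have h := List.all_eq_true.1 h q mq
  have h := List.all_eq_true.1 h r mr
  have h := List.all_eq_true.1 h r' mr'
  dsimp only at h
  have hw : w = y - 9 - p - q - r - r' := by linarith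
  rw [← hw] at h
  simp only [tst3, Bool.or_eq_true, decide_eq_true_eq, bne_iff_ne, ne_eq] at h
  rcases h with h | h
  · simp only [← pow_two] at h
    linarith
  · apply h
    simp only [← pow_two]
    linarith

end Cfsg.Agent.SporadicA.M24.YStarArith
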