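import Cfsg.Agent.SporadicA.M24.Psd
import Cfsg.Agent.SporadicA.M24.InvolEleven
import Cfsg.Agent.SporadicA.M24.RowU
import Cfsg.Agent.SporadicA.M24.YStarArith

/-!
# The principal 23-block of degrees `1, 5544, 3520, 3520, 10395, 1540, 1540, 528, 252, 45, 45; 1760`

`rel23`, `rel23'` : the two relations of the column of an involution in the principal 23-block;
`false_of_degrees` : the degrees above are impossible if `|K| = 12`, `K` the complement of a Sylow
5-subgroup in its centralizer.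
-/

set_option autoImplicit false
set_option linter.unusedSectionVars false

open Cfsg Subgroup
open Cfsg.Agent.Characters.Core
open Cfsg.Agent.SmallSimple
open Cfsg.Agent.SmallSimple.FlatBlock
open Cfsg.Agent.M23Order.Base
open Cfsg.Agent.M24Order.Setup (uu uu_of_one rel_of)
open Cfsg.Agent.SporadicA.M24.Setup Cfsg.Agent.SporadicA.M24.Five Cfsg.Agent.SporadicA.M24.Seven
open Cfsg.Agent.SporadicA.M24.Col
open Cfsg.Agent.SporadicA.M24.YStarArith (ix)

namespace Cfsg.Agent.SporadicA.M24.YStar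

universe u

variable {G : Type u} [Group G] [Finite G] [IsSimpleGroup G] (H : Hyp G)

include H

/-- (R1) for 23. -/
theorem rel23 {t : G} {v : IrrCharacter G → ℤ} (h : Column t v) {Θ : IrrCharacter G}
    (hΘ : Θ ∈ H.D.X) : ∑ χ ∈ H.D.NE, H.D.ε χ * v χ = H.D.d * v Θ := by
  have h1 := H.D.rel Θ hΘ t (h.not_dvd (by norm_num) (by norm_num))
  rw [h.val Θ, Finset.sum_congr rfl fun χ _ => by rw [h.val χ]] at h1
  exact_mod_cast h1

/-- The exceptional characters have the same value. -/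
theorem v_X {t : G} {v : IrrCharacter G → ℤ} (h : Column t v) {Θ Θ' : IrrCharacter G}
    (hΘ : Θ ∈ H.D.X) (hΘ' : Θ' ∈ H.D.X) : v Θ = v Θ' := by
  have h1 := rel23 H h hΘ
  rw [rel23 H h hΘ'] at h1
  have hd : H.D.d ≠ 0 := by rcases H.D.d_mem with h' | h' <;> rw [h'] <;> norm_num
  exact (mul_left_cancel₀ hd h1).symm

/-- (R2) for 23. -/
theorem rel23' {t : G} {v : IrrCharacter G → ℤ} (h : Column t v) {Θ : IrrCharacter G}
    (hΘ : Θ ∈ H.D.X) : ∑ χ ∈ H.D.NE, H.D.ε χ * (v χ ^ 2 * (244823040 / (dg χ : ℤ))) =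
      H.D.d * (v Θ ^ 2 * (244823040 / (dg Θ : ℤ))) := by
  obtain ⟨x, hx, hx1⟩ : ∃ x ∈ (H.P : Subgroup G), x ≠ 1 := by
    by_contra h
    push Not at h
    have h1 : (H.P : Subgroup G) = ⊥ := (Subgroup.eq_bot_iff_forall _).2 h
    have h2 : Nat.card (H.P : Subgroup G) = 23 := H.hP
    rw [h1] at h2
    simp at h2
  have hR := rel_of (Psd.conv H) (by norm_num) H.D hx hx1
  have ht := h.not_dvd (p := 23) (by norm_num) (by norm_num)
  have htt : t ^ 2 = 1 := by rw [pow_two]; exact h.sq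
  have hPodd : Odd (Nat.card (H.P : Subgroup G)) := by
    have : Nat.card (H.P : Subgroup G) = 23 := H.hP
    rw [this]
    decide
  have h1 := hR.relTwo hΘ ht ht (fun u w hu hw => by
    refine InvolColumn.ne_mul_of_odd (P := (H.P : Subgroup G)) H.heP (by decide)
      (InvolColumn.zpowers_eq_of_card_prime (by norm_num) H.hP) hPodd hx hx1 ?_ ?_
    · obtain ⟨g, rfl⟩ := isConj_iff.1 hu
      rw [conj_pow, htt]; group
    · obtain ⟨g, rfl⟩ := isConj_iff.1 hw
      rw [conj_pow, htt]; group)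
  have h2 : ((∑ χ ∈ H.D.NE, H.D.ε χ * (v χ ^ 2 * (244823040 / (dg χ : ℤ))) : ℤ) : ℂ) =
      ((H.D.d * (v Θ ^ 2 * (244823040 / (dg Θ : ℤ))) : ℤ) : ℂ) := by
    rw [Int.cast_sum, Int.cast_mul, Int.cast_mul, M24Order.Last.Last.cast_div Θ H.hcard]
    have h3 : ∀ χ ∈ H.D.NE, ((H.D.ε χ * (v χ ^ 2 * (244823040 / (dg χ : ℤ))) : ℤ) : ℂ) =
        244823040 * (H.D.ε χ * ((χ : G → ℂ) t * (χ : G → ℂ) t / (χ : G → ℂ) 1)) := by
      intro χ _
      rw [Int.cast_mul, Int.cast_mul, M24Order.Last.Last.cast_div χ H.hcard, h.val, dg_eq]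
      push_cast
      ring
    rw [Finset.sum_congr rfl h3, ← Finset.mul_sum, h1, h.val, dg_eq]
    push_cast
    ring
  exact_mod_cast h2

omit H in
theorem ne_tr {χ : IrrCharacter G} (h : dg χ ≠ 1) : χ ≠ tr G := by
  rintro rfl
  exact h dg_tr

omit H [Finite G] [IsSimpleGroup G] in
theorem m20 {x : ℤ} {D : ℕ} (h4 : (4 : ℤ) ∣ D - x) (h5 : (5 : ℤ) ∣ x) (hD : D % 4 = 0) :
    x % 20 = 0 := by omega

omit H [Finite G] [IsSimpleGroup G] in
theorem m20' {x r : ℤ} {D : ℕ} (h4 : (4 : ℤ) ∣ D - x) (h5 : (5 : ℤ) ∣ D - x)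
    (hD : (D : ℤ) % 20 = r) : x % 20 = r := by omega

omit H [Finite G] [IsSimpleGroup G] in
theorem m4' {x : ℤ} {D : ℕ} (h4 : (4 : ℤ) ∣ D - x) (hD : D % 4 = 0) : x % 4 = 0 := by omega

omit H [Finite G] [IsSimpleGroup G] in
theorem five_of {x : ℤ} (h4 : (4 : ℤ) ∣ (45 : ℕ) - x) (h5 : (5 : ℤ) ∣ x)
    (h : 11 * |x| ≤ (45 : ℕ) + 10 * 1) : x = 5 := by
  have h1 := abs_le.1 (show |x| ≤ 5 by push_cast at h; omega)
  omega

set_option maxHeartbeats 1000000 in
/-- The degrees `1, 5544, 3520, 3520, 10395, 1540, 1540, 528, 252, 45, 45; 1760` are impossible. -/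
theorem false_of_degrees {R : Sylow 5 G} {K : Subgroup G} {M : Ideal AlgInt}
    {B : Finset (IrrCharacter G)} {ε : IrrCharacter G → ℤ} {a b c d : IrrCharacter G}
    (h5 : B5 R K M B ε a b c d) (hK : Nat.card K = 12) {l : List (IrrCharacter G)}
    (hnd : (tr G :: a :: l).Nodup) (hmem : ∀ χ, χ ∈ H.D.NE ↔ χ ∈ tr G :: a :: l)
    (hl : l.map dg = [3520, 10395, 1540, 1540, 528, 252, 45, 45, 3520])
    (hf : H.D.f = 1760) : False := by
  classical
  -- the characters
  simp only [List.map_eq_cons_iff, List.map_eq_nil_iff] at hl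
  obtain ⟨s, l1, rfl, hs, w, l2, rfl, hw, r, l3, rfl, hr, r', l4, rfl, hr', q, l5, rfl, hq,
    p, l6, rfl, hp, m, l7, rfl, hm, m', l8, rfl, hm', s', l9, rfl, hs', rfl⟩ := hl
  obtain ⟨Θ, Θ', hΘΘ, hX⟩ := Finset.card_eq_two.1 H.D.card_X
  have hΘ : Θ ∈ H.D.X := by rw [hX]; simp
  have hΘ' : Θ' ∈ H.D.X := by rw [hX]; simp
  have dΘ : dg Θ = 1760 := by rw [H.D.deg_X Θ hΘ, hf]
  have dΘ' : dg Θ' = 1760 := by rw [H.D.deg_X Θ' hΘ', hf]
  have hd : H.D.d = -1 := by
    rcases mod23_X H hΘ with h | h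
    · omega
    · exact h.1
  have hcd : dg c = 1771 ∧ dg d = 5796 := by
    rcases h5.dg_cd with ⟨-, -, h1⟩ | ⟨h1, h2, -⟩
    · omega
    · exact ⟨h1, h2⟩
  obtain ⟨hdc, hdd⟩ := hcd
  have hda := h5.dg_a
  have hdb := h5.dg_b
  -- the involution
  obtain ⟨u, hu2, hu1, huC, h10, hle, hconj⟩ := InvolEleven.exists_invol H R
  obtain ⟨v, hv⟩ := exists_col H.hcomm (t := u) (by rw [← pow_two]; exact hu2) hu1
  set n := Nat.card (centralizer ({u} : Set G)) with hn
  have hn967 : n ∣ 967680 := card_dvd H hv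
  have hidx : ((centralizer ({u} : Set G)).index : ℤ) = ix n := by
    have h1 := (centralizer ({u} : Set G)).card_mul_index
    rw [← hn, H.hcard] at h1
    unfold ix
    rw [← h1, Nat.mul_div_cancel_left _ Nat.card_pos]
  -- signs
  have hin : ∀ χ ∈ tr G :: a :: [s, w, r, r', q, p, m, m', s'], χ ∈ H.D.NE :=
    fun χ hχ => (hmem χ).2 hχ
  have sg1 : ∀ χ ∈ tr G :: a :: [s, w, r, r', q, p, m, m', s'], dg χ % 23 = 1 → H.D.ε χ = 1 := by
    intro χ hχ h
    rcases mod23_NE H (hin χ hχ) with h' | h'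
    · exact h'.1
    · omega
  have sg2 : ∀ χ ∈ tr G :: a :: [s, w, r, r', q, p, m, m', s'], dg χ % 23 = 22 →
      H.D.ε χ = -1 := by
    intro χ hχ h
    rcases mod23_NE H (hin χ hχ) with h' | h'
    · omega
    · exact h'.1
  have e0 : dg (tr G) = 1 := dg_tr
  have ε0 := sg1 (tr G) (by simp) (by rw [e0])
  have εa := sg1 a (by simp) (by rw [hda])
  have εs := sg1 s (by simp) (by rw [hs])
  have εs' := sg1 s' (by simp) (by rw [hs'])
  have εw := sg2 w (by simp) (by rw [hw])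
  have εr := sg2 r (by simp) (by rw [hr])
  have εr' := sg2 r' (by simp) (by rw [hr'])
  have εq := sg2 q (by simp) (by rw [hq])
  have εp := sg2 p (by simp) (by rw [hp])
  have εm := sg2 m (by simp) (by rw [hm])
  have εm' := sg2 m' (by simp) (by rw [hm'])
  have hNE : H.D.NE = (tr G :: a :: [s, w, r, r', q, p, m, m', s']).toFinset := by
    ext χ; rw [hmem, List.mem_toFinset]
  -- the relations
  have hR1 := rel23 H hv hΘ
  rw [hNE, List.sum_toFinset _ hnd, hd] at hR1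
  simp only [List.map_cons, List.map_nil, List.sum_cons, List.sum_nil, add_zero, ε0, εa, εs, εs',
    εw, εr, εr', εq, εp, εm, εm', hv.v_tr] at hR1
  have hR2 := rel23' H hv hΘ
  rw [hNE, List.sum_toFinset _ hnd, hd] at hR2
  simp only [List.map_cons, List.map_nil, List.sum_cons, List.sum_nil, add_zero, ε0, εa, εs, εs',
    εw, εr, εr', εq, εp, εm, εm', hv.v_tr, e0, hda, hs, hs', hw, hr, hr', hq, hp, hm, hm', dΘ]
    at hR2
  norm_num at hR2
  -- congruences modulo 5
  have f5 : ∀ χ : IrrCharacter G, 5 ∣ dg χ → (5 : ℤ) ∣ v χ := fun χ hχ =>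
    RowU.five_dvd H h5.loc.modular hv huC hχ
  have b5 : ∀ χ ∈ [tr G, a, b, c, d], (5 : ℤ) ∣ (dg χ : ℤ) - v χ := fun χ hχ =>
    RowU.five_modEq H h5.loc.modular hv huC ((h5.loc.mem_iff χ).2 ((h5.mem χ).2 hχ))
  have a5 := b5 a (by simp)
  have b5' := b5 b (by simp)
  have c5 := b5 c (by simp)
  rw [hda] at a5
  rw [hdb] at b5'
  rw [hdc] at c5
  have s5 := f5 s (by rw [hs]; norm_num)
  have s5' := f5 s' (by rw [hs']; norm_num)
  have r5 := f5 r (by rw [hr]; norm_num)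
  have r5' := f5 r' (by rw [hr']; norm_num)
  have m5 := f5 m (by rw [hm]; norm_num)
  have m5' := f5 m' (by rw [hm']; norm_num)
  have t5 := f5 Θ (by rw [dΘ]; norm_num)
  -- congruences modulo 4
  have m4 := fun (χ : IrrCharacter G) (h : dg χ ≠ 1) => hv.mod4 χ (ne_tr h)
  have a4 := m4 a (by rw [hda]; norm_num)
  have b4 := m4 b (by rw [hdb]; norm_num)
  have c4 := m4 c (by rw [hdc]; norm_num)
  have s4 := m4 s (by rw [hs]; norm_num)
  have s4' := m4 s' (by rw [hs']; norm_num)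
  have r4 := m4 r (by rw [hr]; norm_num)
  have r4' := m4 r' (by rw [hr']; norm_num)
  have q4 := m4 q (by rw [hq]; norm_num)
  have p4 := m4 p (by rw [hp]; norm_num)
  have mm4 := m4 m (by rw [hm]; norm_num)
  have mm4' := m4 m' (by rw [hm']; norm_num)
  have t4 := m4 Θ (by rw [dΘ]; norm_num)
  rw [hda] at a4
  rw [hdb] at b4
  rw [hdc] at c4
  rw [hs] at s4
  rw [hs'] at s4'
  rw [hr] at r4
  rw [hr'] at r4'
  rw [hq] at q4
  rw [hp] at p4
  rw [hm] at mm4
  rw [hm'] at mm4'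
  rw [dΘ] at t4
  -- the characters of degree 45
  have um := Psd.le_u H hv hconj m
  have um' := Psd.le_u H hv hconj m'
  rw [uu_of_one (by rw [hm]), hm] at um
  rw [uu_of_one (by rw [hm']), hm'] at um'
  have vm : v m = 5 := five_of mm4 m5 um
  have vm' : v m' = 5 := five_of mm4' m5' um'
  -- integrality
  have dv : ∀ χ : IrrCharacter G, (dg χ : ℤ) ∣ ix n * v χ := fun χ => by
    rw [← hidx]; exact hv.dvd χ
  have ds := dv s
  have ds' := dv s'
  have dt := dv Θ
  have dy := dv a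
  have db := dv b
  have dx := dv c
  have dz := dv d
  have dm := dv m
  rw [hs] at ds
  rw [hs'] at ds'
  rw [dΘ] at dt
  rw [hda] at dy
  rw [hdb] at db
  rw [hdc] at dx
  rw [hdd] at dz
  rw [hm, vm] at dm
  simp only [Nat.cast_ofNat] at ds ds' dt dy db dx dz dm
  have hcs : n ∈ YStarArith.cs := YStarArith.mem_cs hn967 h10 hle dm
  -- the relation and the pair formula of the principal 5-block
  have hrel5 := five_rel h5 hv
  obtain ⟨k, hk, hk12, -⟩ := five_pair h5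
  have hpair := hk u u v v hv hv
  obtain ⟨mm, hmm, hmi⟩ := exists_index H hv
  rw [H.hcard, hK, hdc, hdd, hmi] at hpair
  have hcpos : 0 < n := Nat.card_pos
  have hmq : (n : ℚ) * mm = 967680 := by exact_mod_cast hmm
  have hCq : (n : ℚ) ≠ 0 := by exact_mod_cast hcpos.ne'
  have hpq : ((k u : ℚ) * n) ^ 2 = 587575296 + 331776 * (v c : ℚ) ^ 2 - 290304 * (v b : ℚ) ^ 2 -
      105984 * (v a : ℚ) ^ 2 + 101376 * (v d : ℚ) ^ 2 := by
    have h1 : 5 * ((k u : ℚ) * k u) * 244823040 * (n * n) = (253 * (n * mm)) * (253 * (n * mm)) *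
        12 * (1 - (v a * v a : ℚ) / 5544 - (v b * v b : ℚ) / 2024 + (v c * v c : ℚ) / 1771 +
          (v d * v d : ℚ) / 5796) := by
      push_cast at hpair
      linear_combination (n * n : ℚ) * hpair
    rw [hmq] at h1
    linear_combination h1 / 1224115200
  have hpz : ((k u : ℤ) * n) ^ 2 = 587575296 + 331776 * v c ^ 2 - 290304 * v b ^ 2 -
      105984 * v a ^ 2 + 101376 * v d ^ 2 := by
    exact_mod_cast hpq
  -- the norm
  have hdis : ∀ χ ∈ tr G :: a :: [s, w, r, r', q, p, m, m', s'], ∀ ψ ∈ [b, c, d, Θ, Θ'],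
      χ ≠ ψ := by
    intro χ hχ ψ hψ h
    subst h
    have h1 := hin χ hχ
    simp only [List.mem_cons, List.not_mem_nil, or_false] at hψ
    rcases hψ with rfl | rfl | rfl | rfl | rfl
    · rcases mod23_NE H h1 with h | h <;> omega
    · rcases mod23_NE H h1 with h | h <;> omega
    · rcases mod23_NE H h1 with h | h <;> omega
    · exact Finset.disjoint_left.1 H.D.disj h1 hΘ
    · exact Finset.disjoint_left.1 H.D.disj h1 hΘ'
  have hneq : ∀ {χ ψ : IrrCharacter G}, dg χ ≠ dg ψ → χ ≠ ψ := by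
    rintro χ ψ h1 rfl
    exact h1 rfl
  have hnd2 : [b, c, d, Θ, Θ'].Nodup := by
    simp only [List.nodup_cons, List.mem_cons, List.not_mem_nil, or_false, not_or,
      not_false_eq_true, List.nodup_nil, and_true]
    refine ⟨⟨?_, ?_, ?_, ?_⟩, ⟨?_, ?_, ?_⟩, ⟨?_, ?_⟩, hΘΘ⟩ <;> apply hneq <;>
      simp only [hdb, hdc, hdd, dΘ, dΘ', ne_eq] <;> decide
  have hnorm := hv.norm_list (List.nodup_append.2 ⟨hnd, hnd2, hdis⟩)
  simp only [List.cons_append, List.nil_append, List.map_cons, List.map_nil, List.sum_cons,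
    List.sum_nil, add_zero, hv.v_tr, vm, vm', ← v_X H hv hΘ hΘ'] at hnorm
  rw [vm, vm'] at hR1 hR2
  refine YStarArith.arith (n := n) (k := k u) (y := v a) (b := v b) (x := v c) (z := v d)
    (s := v s) (s' := v s') (t := v Θ) (p := v p) (q := v q) (r := v r) (r' := v r') (w := v w)
    hcs (m20' a4 a5 (by norm_num)) (m20' b4 b5' (by norm_num)) (m20' c4 c5 (by norm_num))
    (by linarith only [hrel5]) dy db dx dz (hK ▸ hk12 u)
    (by rw [hpz]; unfold YStarArith.F; ring) hle (m20 s4 s5 (by norm_num))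
    (m20 s4' s5' (by norm_num)) (m20 t4 t5 (by norm_num)) (m20 r4 r5 (by norm_num))
    (m20 r4' r5' (by norm_num)) (m4' p4 (by norm_num)) (m4' q4 (by norm_num)) ds ds' dt ?_ ?_ ?_
  · unfold YStarArith.nm; linarith only [hnorm]
  · linarith only [hR1]
  · linarith only [hR2]

end Cfsg.Agent.SporadicA.M24.YStar
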