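import Cfsg.Agent.SporadicA.M24.YStage
import Cfsg.Agent.SporadicA.M24.YStar
import Cfsg.Agent.SporadicA.M24.KillThree
import Cfsg.Agent.SporadicA.M24.SixFilter

/-!
# No character of degree 3520 in the principal 7-block

* `not_3520` : if `|N(P₇) : C(P₇)| = 6` and the complement has order 24 then the principal 7-block
  has no character of degree 3520;
* `mem_22` : hence it has a character of degree 22.
-/

set_option autoImplicit false
set_option linter.unusedSectionVars false

open Cfsg Subgroup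
open Cfsg.Agent.Characters.Core
open Cfsg.Agent.SmallSimple
open Cfsg.Agent.SmallSimple.FlatBlock Cfsg.Agent.SmallSimple.PrimeValues
open Cfsg.Agent.SmallSimple.DegreeData
open Cfsg.Agent.M23Order.Base
open Cfsg.Agent.SporadicA.M24.Setup Cfsg.Agent.SporadicA.M24.Five Cfsg.Agent.SporadicA.M24.Seven
open Cfsg.Agent.SporadicA.M24.YSearch Cfsg.Agent.SporadicA.M24.YBase
open Cfsg.Agent.SporadicA.M24.YStage
open scoped ComplexConjugate

namespace Cfsg.Agent.SporadicA.M24.Y

universe u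

variable {G : Type u} [Group G] [Finite G] [IsSimpleGroup G] (H : Hyp G)

include H

/-- The values at the elements of order 5. -/
theorem five_facts {R : Sylow 5 G} {K : Subgroup G} {M : Ideal AlgInt}
    {B : Finset (IrrCharacter G)} {ε : IrrCharacter G → ℤ} {a b c d : IrrCharacter G}
    (h5 : B5 R K M B ε a b c d) {i : ℤ}
    (hi : ∀ x ∈ R, x ≠ 1 → ((centralizer ({x} : Set G)).index : ℤ) = i)
    {w : IrrCharacter G → ℤ} (hw : Values 5 R K M w) (χ : IrrCharacter G) :
    (w χ - dg χ) % 5 = 0 ∧ (dg χ % 5 = 0 → w χ = 0) ∧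
      (i * w χ) % dg χ = 0 ∧ 0 ≤ (dg χ : ℤ) + 4 * w χ := by
  have h5p : Fact (Nat.Prime 5) := ⟨by norm_num⟩
  have hR := card_five H R
  obtain ⟨y, hy, hy1⟩ := BlockIndex.exists_ne_one (P := (R : Subgroup G)) hR
  refine ⟨?_, fun h => ?_, ?_, ?_⟩
  · have h1 := hw.modEq χ
    have h2 := h1.symm.dvd
    omega
  · have h1 := Integral.five_zero H χ (Nat.dvd_of_mod_eq_zero h) (w := y)
      (by rw [Integral.orderOf_of_mem hR hy hy1])
    rw [hw.val χ y hy hy1] at h1
    exact_mod_cast h1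
  · have h1 := hw.dvd χ y hy hy1
    rw [hi y hy hy1] at h1
    exact Int.emod_eq_zero_of_dvd h1
  · have h1 := hw.nonneg χ
    norm_num at h1
    exact h1

/-- the values are in the list -/
theorem five_small {R : Sylow 5 G} {K : Subgroup G} {M : Ideal AlgInt}
    {B : Finset (IrrCharacter G)} {ε : IrrCharacter G → ℤ} {a b c d : IrrCharacter G}
    (h5 : B5 R K M B ε a b c d) {w : IrrCharacter G → ℤ} (hw : Values 5 R K M w)
    (χ : IrrCharacter G) : (Nat.card K = 12 → w χ ∈ V12) ∧ (Nat.card K = 192 → w χ ∈ V192) := by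
  have h5p : Fact (Nat.Prime 5) := ⟨by norm_num⟩
  have hR := card_five H R
  obtain ⟨y, hy, hy1⟩ := BlockIndex.exists_ne_one (P := (R : Subgroup G)) hR
  by_cases hχ : χ ∈ B
  · have h1 := h5.loc.toFlat.val' hχ hy hy1
    rw [hw.val χ y hy hy1] at h1
    have h2 : w χ = ε χ := by exact_mod_cast h1
    rw [h2]
    rcases h5.loc.ε_mem χ hχ with h | h <;> rw [h] <;>
      exact ⟨fun _ => by decide, fun _ => by decide⟩
  · have h1 := hw.mem χ (fun h => hχ ((h5.loc.mem_iff χ).1 h))
    constructor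
    · intro h
      rw [h] at h1
      exact mem_V12 h1
    · intro h
      rw [h] at h1
      exact mem_V192 h1

/-- The index of the centralizer of an element of order 5. -/
theorem index_five {R : Sylow 5 G} {K : Subgroup G} {M : Ideal AlgInt}
    {B : Finset (IrrCharacter G)} {ε : IrrCharacter G → ℤ} {a b c d : IrrCharacter G}
    (h5 : B5 R K M B ε a b c d) {i : ℕ} (hi : 5 * Nat.card K * i = 244823040) :
    ∀ x ∈ R, x ≠ 1 → ((centralizer ({x} : Set G)).index : ℤ) = i := by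
  have h5p : Fact (Nat.Prime 5) := ⟨by norm_num⟩
  intro x hx hx1
  have h1 := Integral.index_mul h5.loc.loc (card_five H R) hx hx1
  rw [H.hcard, ← hi] at h1
  have h2 : 0 < 5 * Nat.card K := by
    have : 0 < Nat.card K := Nat.card_pos
    omega
  exact_mod_cast Nat.eq_of_mul_eq_mul_left h2 h1

/-- **The kill.** -/
theorem false_of_3520 {R : Sylow 5 G} {K : Subgroup G} {M : Ideal AlgInt}
    {B : Finset (IrrCharacter G)} {ε : IrrCharacter G → ℤ} {a b c d : IrrCharacter G}
    (h5 : B5 R K M B ε a b c d) {S : Sylow 7 G}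
    {K' : Subgroup G} {M' : Ideal AlgInt} {B' : Finset (IrrCharacter G)}
    {ε' : IrrCharacter G → ℤ} {l' : List (IrrCharacter G)} (h7 : B7six S K' M' B' ε' l' b)
    (hK' : Nat.card K' = 24) {s : IrrCharacter G} (hs : s ∈ B') (hs1 : dg s = 3520) : False := by
  classical
  have h5p : Fact (Nat.Prime 5) := ⟨by norm_num⟩
  have h7p : Fact (Nat.Prime 7) := ⟨by norm_num⟩
  obtain ⟨hc, hd, hK⟩ := KillThree.card_K H h5
  have hS := card_seven H S
  have hR := card_five H R
  obtain ⟨v, hv⟩ := exists_values (by norm_num) hS h7.loc.loc h7.loc.modular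
  obtain ⟨w, hw⟩ := exists_values (by norm_num) hR h5.loc.loc h5.loc.modular
  have hf := fun χ => seven_facts H h7 hK' hv χ
  obtain ⟨Θ, hΘ⟩ : H.D.X.Nonempty := by
    rw [← Finset.card_pos, H.D.card_X]; norm_num
  obtain ⟨l, hl1, hl2, hl3⟩ := exists_code H h5 hc hd h7 hv hf hK' hs hs1 hΘ
  obtain ⟨y, hy, hy1⟩ := BlockIndex.exists_ne_one (P := (S : Subgroup G)) hS
  obtain ⟨x, hx, hx1⟩ := BlockIndex.exists_ne_one (P := (R : Subgroup G)) hR
  have hy23 : ¬ 23 ∣ orderOf y := not_23 H hS hy hy1 (by norm_num)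
  have hx23 : ¬ 23 ∣ orderOf x := not_23 H hR hx hx1 (by norm_num)
  have hyv : ∀ χ : IrrCharacter G, (χ : G → ℂ) y = v χ := fun χ => hv.val χ y hy hy1
  have hxw : ∀ χ : IrrCharacter G, (χ : G → ℂ) x = w χ := fun χ => hw.val χ x hx hx1
  have hi := Integral.index_mul h7.loc.loc hS hy hy1
  rw [hK', H.hcard] at hi
  have hi' : (centralizer ({y} : Set G)).index = 1457280 := by omega
  obtain ⟨ht1, ht2⟩ := tr_NE H
  obtain ⟨ha1, ha2⟩ := pos_NE H (χ := a) (by rw [h5.dg_a])
  obtain ⟨hs2, hs3⟩ := pos_NE H (χ := s) (by rw [hs1])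
  have hdt : dg (tr G) = 1 := dg_tr
  -- values
  have hvt : v (tr G) = 1 := by
    have h1 := hyv (tr G)
    rw [coe_tr] at h1
    simp only [Pi.one_apply] at h1
    exact_mod_cast h1.symm
  have hva : v a = 0 := (hf a).2.2.1 (by rw [h5.dg_a])
  have hwt : w (tr G) = 1 := by
    have h1 := hxw (tr G)
    rw [coe_tr] at h1
    simp only [Pi.one_apply] at h1
    exact_mod_cast h1.symm
  have hwa : w a = -1 := by
    have h1 := h5.loc.toFlat.val' ((h5.mem a).2 (by simp)) hx hx1
    rw [hxw, h5.ε_a] at h1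
    exact_mod_cast h1
  have hws : w s = 0 := by
    have h1 := Integral.five_zero H s (by rw [hs1]; norm_num) (w := x)
      (by rw [Integral.orderOf_of_mem hR hx hx1])
    rw [hxw] at h1
    exact_mod_cast h1
  have hiva : iv (Z H v a) = 480 := by rw [iv_Z H (hf a).1, h5.dg_a]; norm_num
  have hivs : iv (Z H v s) = 756 := by rw [iv_Z H (hf s).1, hs1]; norm_num
  have hivt : iv (Z H v (tr G)) = 2661120 := by rw [iv_Z H (hf _).1, dg_tr]; norm_num
  have hlNE : ∀ χ ∈ l, χ ∈ H.D.NE := fun χ hχ => (hl2 χ).2 (by simp [hχ])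
  have hsg : ∀ χ ∈ l, sg (Z H v χ) = H.D.ε χ := by
    intro χ hχ
    rw [(decode_Z H (hf χ).1).2.2, sn_NE H (hlNE χ hχ)]
  have hsgΘ : sg (Z H v Θ) = -H.D.d := by rw [(decode_Z H (hf Θ).1).2.2, sn_X H hΘ]
  have hvl : ∀ χ : IrrCharacter G, vl (Z H v χ) = v χ := fun χ => (decode_Z H (hf χ).1).2.1
  -- the sums
  have r2 := rel_sum H hΘ hx23 hxw
  rw [sum_NE H hl1 hl2] at r2
  simp only [List.map_cons, List.sum_cons, ht2, ha2, hs3, hwt, hwa, hws] at r2
  have q0 : (0 : ℤ) + ((Θ :: l).map fun χ => sg (Z H v χ) * w χ).sum = 0 := by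
    rw [List.map_cons, List.sum_cons, hsgΘ,
      List.map_congr_left (g := fun χ => H.D.ε χ * w χ) fun χ hχ => by rw [hsg χ hχ]]
    linarith
  have q1 : ((Θ :: l).map fun χ => sg (Z H v χ) * (w χ * w χ) * iv (Z H v χ)).sum =
      (l.map fun χ => H.D.ε χ * (w χ * w χ) * iv (Z H v χ)).sum -
        H.D.d * (w Θ * w Θ) * iv (Z H v Θ) := by
    rw [List.map_cons, List.sum_cons, hsgΘ,
      List.map_congr_left (g := fun χ => H.D.ε χ * (w χ * w χ) * iv (Z H v χ))
        fun χ hχ => by rw [hsg χ hχ]]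
    ring
  have q2 : ((Θ :: l).map fun χ => sg (Z H v χ) * (w χ * vl (Z H v χ)) * iv (Z H v χ)).sum =
      (l.map fun χ => H.D.ε χ * (w χ * v χ) * iv (Z H v χ)).sum -
        H.D.d * (w Θ * v Θ) * iv (Z H v Θ) := by
    rw [List.map_cons, List.sum_cons, hsgΘ, hvl,
      List.map_congr_left (g := fun χ => H.D.ε χ * (w χ * v χ) * iv (Z H v χ))
        fun χ hχ => by rw [hsg χ hχ, hvl]]
    ring
  have hmap : (Θ :: l).map (Z H v) = (Z H v Θ, l.map (Z H v)).1 :: (Z H v Θ, l.map (Z H v)).2 :=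
    rfl
  have hdeg : ∀ χ ∈ Θ :: l, (sd (Z H v χ)).natAbs = dg χ ∧ dg χ ∈ DS := by
    intro χ hχ
    have h1 := natAbs_sd H (hf χ).1
    refine ⟨h1, ?_⟩
    rw [← h1]
    exact deg_mem _ hl3 _ (by rw [← hmap]; exact List.mem_map_of_mem hχ)
  rcases hK with hK | hK
  · -- `|K| = 12`
    have hidx := index_five H h5 (i := 4080384) (by rw [hK])
    have hg := fun χ => five_facts H h5 (i := 4080384) (by exact_mod_cast hidx) hw χ
    have hix : (centralizer ({x} : Set G)).index = 4080384 := by exact_mod_cast hidx x hx hx1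
    obtain ⟨N, r3⟩ := int_sum H hΘ hx23 hx23 hxw hxw (q := fun χ => iv (Z H v χ))
      (iv_mul_dg H hf)
    obtain ⟨N', r4⟩ := int_sum H hΘ hx23 hy23 hxw hyv (q := fun χ => iv (Z H v χ))
      (iv_mul_dg H hf)
    rw [sum_NE H hl1 hl2, hix, H.hcard] at r3
    rw [sum_NE H hl1 hl2, hix, hi', H.hcard] at r4
    simp only [List.map_cons, List.sum_cons, ht2, ha2, hs3, hvt, hva, hwt, hwa, hws, hiva, hivs,
      hivt] at r3 r4
    by_cases hstar : (Z H v Θ, l.map (Z H v)) = ((176003 : ℤ), ([-1039500, -154000, -154000,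
        -52804, -25200, -4497, -4497, 351999] : List ℤ))
    · rw [Prod.mk.injEq] at hstar
      obtain ⟨e1, e2⟩ := hstar
      refine YStar.false_of_degrees H h5 hK (l := s :: l) hl1 hl2 ?_ ?_
      · rw [List.map_cons, hs1]
        congr 1
        have h1 : l.map dg = (l.map (Z H v)).map fun z => (sd z).natAbs := by
          rw [List.map_map]
          exact List.map_congr_left fun χ _ => (natAbs_sd H (hf χ).1).symm
        rw [h1, e2]
        decide
      · have h1 := natAbs_sd H (hf Θ).1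
        rw [e1, H.D.deg_X Θ hΘ] at h1
        rw [← h1]
        decide
    · have h1 := five12 _ hl3 hstar
      rw [← hmap] at h1
      refine five_spec (v := w) h1 ?_ q0 ?_ ?_
      · intro χ hχ
        obtain ⟨g1, g2, g3, g4⟩ := hg χ
        obtain ⟨g5, g6⟩ := hdeg χ hχ
        rw [g5]
        exact arith12 _ g6 _ ((five_small H h5 hw χ).1 hK) g1 g2 g3 g4
      · rw [q1]
        omega
      · rw [q2]
        omega
  · -- `|K| = 192`
    have hidx := index_five H h5 (i := 255024) (by rw [hK])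
    have hg := fun χ => five_facts H h5 (i := 255024) (by exact_mod_cast hidx) hw χ
    have hix : (centralizer ({x} : Set G)).index = 255024 := by exact_mod_cast hidx x hx hx1
    obtain ⟨N, r3⟩ := int_sum H hΘ hx23 hx23 hxw hxw (q := fun χ => iv (Z H v χ))
      (iv_mul_dg H hf)
    rw [sum_NE H hl1 hl2, hix, H.hcard] at r3
    simp only [List.map_cons, List.sum_cons, ht2, ha2, hs3, hwt, hwa, hws, hiva, hivs,
      hivt] at r3
    have h1 := five192 _ hl3
    rw [← hmap] at h1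
    refine five_spec (v := w) h1 ?_ q0 ?_ (one_dvd _)
    · intro χ hχ
      obtain ⟨g1, g2, g3, g4⟩ := hg χ
      obtain ⟨g5, g6⟩ := hdeg χ hχ
      rw [g5]
      exact arith192 _ g6 _ ((five_small H h5 hw χ).2 hK) g1 g2 g3 g4
    · rw [q1]
      omega

/-- **No character of degree 3520 in the principal 7-block.** -/
theorem not_3520 {R : Sylow 5 G} {K : Subgroup G} {M : Ideal AlgInt}
    {B : Finset (IrrCharacter G)} {ε : IrrCharacter G → ℤ} {a b c d : IrrCharacter G}
    (h5 : B5 R K M B ε a b c d) {S : Sylow 7 G}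
    {K' : Subgroup G} {M' : Ideal AlgInt} {B' : Finset (IrrCharacter G)}
    {ε' : IrrCharacter G → ℤ} {l' : List (IrrCharacter G)} (h7 : B7six S K' M' B' ε' l' b)
    (hK' : Nat.card K' = 24) : (-3520 : ℤ) ∉ l'.map fun χ => ε' χ * (dg χ : ℤ) := by
  intro h
  obtain ⟨s, hs, hs1⟩ := List.mem_map.1 h
  have hs2 : s ∈ B' := (h7.mem s).2 (List.mem_cons_of_mem _ hs)
  refine false_of_3520 H h5 h7 hK' hs2 ?_
  rcases h7.loc.ε_mem s hs2 with h1 | h1 <;> rw [h1] at hs1 <;> omega

omit H in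
theorem arith22 : ∀ p ∈ pairs6, p.2 = 24 → (-3520 : ℤ) ∈ p.1 ∨ (22 : ℤ) ∈ p.1 ∨
    p.1 = [-12144, -1518, -1035, 2024, 6336, 6336] := by
  decide +kernel

/-- **A character of degree 22.** -/
theorem mem_22 {R : Sylow 5 G} {K : Subgroup G} {M : Ideal AlgInt}
    {B : Finset (IrrCharacter G)} {ε : IrrCharacter G → ℤ} {a b c d : IrrCharacter G}
    (h5 : B5 R K M B ε a b c d) {S : Sylow 7 G}
    {K' : Subgroup G} {M' : Ideal AlgInt} {B' : Finset (IrrCharacter G)}
    {ε' : IrrCharacter G → ℤ} {l' : List (IrrCharacter G)} (h7 : B7six S K' M' B' ε' l' b)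
    (hK' : Nat.card K' = 24) : (22 : ℤ) ∈ l'.map fun χ => ε' χ * (dg χ : ℤ) := by
  rcases arith22 _ h7.mem_pairs hK' with h | h | h
  · exact absurd h (not_3520 H h5 h7 hK')
  · exact h
  · exact absurd h (SixFilter.ne_first H h5 h7)

end Cfsg.Agent.SporadicA.M24.Y
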