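import Cfsg.Agent.M23.Block
import Cfsg.Agent.M23.Adm
import Cfsg.Agent.M23.SylowTools

/-!
# The principal block if `C(P) = P × ⟨t⟩`

* `Blk.dvd_sub`: `χ(s) ≡ χ(1)` modulo `p` for `χ` in the principal block, `s ∈ C(P)` a `p'`-element;
* `add_eq_zero`: if `|C(P)| = 2p` then `χ(x) + χ(x t) = 0` for `χ` outside of the principal block;
* `dvd_add`: then `χ(t) ≡ -χ(1)` modulo `p`.
-/

set_option autoImplicit false
set_option linter.unusedSectionVars false

open scoped ComplexConjugate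

namespace Cfsg.Agent.SporadicA.M24.BlockTwo

open Cfsg Subgroup Cfsg.Agent.Characters.Core
open Cfsg.Agent.Blocks.Basic (irr_one_eq_charDegree)
open Cfsg.Agent.SmallSimple
open Cfsg.Agent.M23.Block

universe u

variable {G : Type u} [Group G] [Finite G] {p : ℕ} [hp : Fact p.Prime] {P : Sylow p G} {e t' : ℕ}
  {M : Ideal AlgInt} {NE X : Finset (IrrCharacter G)} {ε : IrrCharacter G → ℤ} {d : ℤ}
  {S : IrrCharacter G → Finset (P →* ℂˣ)}

theorem not_dvd_one : ¬ p ∣ orderOf (1 : G) := by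
  rw [orderOf_one]
  exact fun h => hp.out.one_lt.ne' (Nat.dvd_one.1 h)

/-- Members of the principal block are constant on `x y`. -/
theorem mul_eq (B : Blk p P e t' M NE X ε d S) {χ : IrrCharacter G} (hχ : χ ∈ NE ∨ χ ∈ X)
    {s : G} (hs : s ∈ centralizer (P : Set G)) (hsp : ¬ p ∣ orderOf s) {x : G} (hx : x ∈ P)
    (hx1 : x ≠ 1) : (χ : G → ℂ) (x * s) = (χ : G → ℂ) x := by
  rcases hχ with hχ | hχ
  · have h11 := B.val_NE χ hχ x hx hx1 1 (one_mem _) not_dvd_one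
    rw [mul_one] at h11
    rw [h11, B.val_NE χ hχ x hx hx1 s hs hsp]
  · have h11 := (B.val_X χ hχ).2.2 ⟨x, hx⟩ (fun h => hx1 (congrArg Subtype.val h)) 1
      (one_mem _) not_dvd_one
    rw [mul_one] at h11
    rw [(B.val_X χ hχ).2.2 ⟨x, hx⟩ (fun h => hx1 (congrArg Subtype.val h)) s hs hsp]
    exact h11.symm

/-- `χ(s) ≡ χ(1)` modulo `p` for `χ` in the principal block. -/
theorem dvd_sub (B : Blk p P e t' M NE X ε d S) (hP : Nat.card P = p) {χ : IrrCharacter G}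
    (hχ : χ ∈ NE ∨ χ ∈ X) {s : G} (hs : s ∈ centralizer (P : Set G)) (hsp : ¬ p ∣ orderOf s) {z : ℤ}
    (hz : (χ : G → ℂ) s = z) : (p : ℤ) ∣ (charDegree (χ : G → ℂ) : ℤ) - z :=
  M23.SylowTools.dvd_sub_of_mul_eq B.modular (P := (P : Subgroup G)) hP χ.2 hs hsp
    (fun _ hx hx1 => mul_eq B hχ hs hsp hx hx1) (n := (charDegree (χ : G → ℂ) : ℤ)) (z := z)
    (by rw [irr_one_eq_charDegree χ.2]; push_cast; rfl) hz

/-- The degree of a nonexceptional character modulo `p`. -/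
theorem dvd_NE (B : Blk p P e t' M NE X ε d S) (hP : Nat.card P = p) {χ : IrrCharacter G}
    (hχ : χ ∈ NE) : (p : ℤ) ∣ (charDegree (χ : G → ℂ) : ℤ) - ε χ := by
  have hv : ∀ x ∈ (P : Subgroup G), x ≠ 1 → (χ : G → ℂ) x = ε χ := by
    intro x hx hx1
    have := B.val_NE χ hχ x hx hx1 1 (one_mem _) not_dvd_one
    rwa [mul_one] at this
  obtain ⟨m, hm⟩ := TheoremBCor.degree_nonexc (p := p) (P := (P : Subgroup G)) hP
    (isIrr_isCharacter χ.2) hv
  rw [irr_one_eq_charDegree χ.2] at hm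
  refine ⟨(m : ℤ) - ε χ, ?_⟩
  have : ((charDegree (χ : G → ℂ) : ℤ) : ℂ) = ((ε χ + p * ((m : ℤ) - ε χ) : ℤ) : ℂ) := by
    push_cast; exact hm
  have := Int.cast_injective this
  rw [this]; ring

/-- The degree of an exceptional character modulo `p`. -/
theorem dvd_X (B : Blk p P e t' M NE X ε d S) (hP : Nat.card P = p) {χ : IrrCharacter G}
    (hχ : χ ∈ X) : (p : ℤ) ∣ (charDegree (χ : G → ℂ) : ℤ) - d * e := by
  obtain ⟨hc, h1S, hv⟩ := B.val_X χ hχ
  have hv' : ∀ x : P, x ≠ 1 → (χ : G → ℂ) x = d * ∑ l ∈ S χ, ((l x : ℂˣ) : ℂ) := by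
    intro x hx1
    have := hv x hx1 1 (one_mem _) not_dvd_one
    rwa [mul_one] at this
  obtain ⟨m, hm⟩ := TheoremBCor.degree_exc (p := p) (P := (P : Subgroup G)) hP
    (isIrr_isCharacter χ.2) h1S hv'
  rw [irr_one_eq_charDegree χ.2, hc] at hm
  refine ⟨m, ?_⟩
  have : ((charDegree (χ : G → ℂ) : ℤ) : ℂ) = ((d * e + p * m : ℤ) : ℂ) := by
    push_cast; exact hm
  have := Int.cast_injective this
  rw [this]; ring

section two

variable {t : G}

theorem mul_ne (hP : Nat.card P = p) (hp2 : p ≠ 2) (ht : t ∈ centralizer (P : Set G))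
    (hto : orderOf t = 2) {x : G} (hx : x ∈ P) (hx1 : x ≠ 1) : orderOf (x * t) = 2 * p := by
  have hox := Cfsg.Agent.Blocks.CyclicOrtho.orderOf_eq P hP hx hx1
  have hc : Commute x t := mem_centralizer_iff.1 ht x hx
  rw [hc.orderOf_mul_eq_mul_orderOf_of_coprime, hox, hto, mul_comm]
  rw [hox, hto]
  exact (Nat.coprime_primes hp.out Nat.prime_two).2 hp2

theorem not_isConj (hP : Nat.card P = p) (hp2 : p ≠ 2) (ht : t ∈ centralizer (P : Set G))
    (hto : orderOf t = 2) {x : G} (hx : x ∈ P) (hx1 : x ≠ 1) : ¬ IsConj x (x * t) := by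
  intro h
  obtain ⟨c, hc⟩ := isConj_iff.1 h
  have h1 := mul_ne hP hp2 ht hto hx hx1
  rw [← hc] at h1
  have h2 := orderOf_injective (MulAut.conj c).toMonoidHom (MulAut.conj c).injective x
  have h3 : (MulAut.conj c).toMonoidHom x = c * x * c⁻¹ := rfl
  rw [h3, h1, Cfsg.Agent.Blocks.CyclicOrtho.orderOf_eq P hP hx hx1] at h2
  have := hp.out.pos
  omega

theorem card_centralizer_mul_le (hP : Nat.card P = p) (hp2 : p ≠ 2)
    (ht : t ∈ centralizer (P : Set G)) (hto : orderOf t = 2) {x : G} (hx : x ∈ P) (hx1 : x ≠ 1) :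
    Nat.card (centralizer ({x * t} : Set G)) ≤ Nat.card (centralizer ({x} : Set G)) := by
  apply Nat.card_mono (Set.toFinite _)
  intro c hc
  rw [SetLike.mem_coe, mem_centralizer_singleton_iff] at hc ⊢
  have hox := Cfsg.Agent.Blocks.CyclicOrtho.orderOf_eq P hP hx hx1
  have hct : Commute x t := mem_centralizer_iff.1 ht x hx
  have h1 : (x * t) ^ (p + 1) = x := by
    rw [hct.mul_pow, pow_succ x, ← hox, pow_orderOf_eq_one, one_mul, hox]
    have heven : 2 ∣ p + 1 := by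
      rcases hp.out.eq_two_or_odd with h | h
      · exact absurd h hp2
      · omega
    obtain ⟨k, hk⟩ := heven
    rw [hk, pow_mul, ← hto, pow_orderOf_eq_one, one_pow, mul_one]
  have h2 : Commute c (x * t) := hc
  have h3 := h2.pow_right (p + 1)
  rw [h1] at h3
  exact h3

/-- **Rule (Z)** if `|C(P)| = 2 p`. -/
theorem add_eq_zero (B : Blk p P e t' M NE X ε d S) (hP : Nat.card P = p) (hp2 : p ≠ 2)
    (hC : Nat.card (centralizer (P : Set G)) = 2 * p) (ht : t ∈ centralizer (P : Set G))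
    (hto : orderOf t = 2) {χ : IrrCharacter G} (h1 : χ ∉ NE) (h2 : χ ∉ X) {x : G} (hx : x ∈ P)
    (hx1 : x ≠ 1) : (χ : G → ℂ) x + (χ : G → ℂ) (x * t) = 0 := by
  classical
  have := finite_irr (G := G)
  have := Fintype.ofFinite (IrrCharacter G)
  have htp : ¬ p ∣ orderOf t := by
    rw [hto]
    intro h
    exact hp2 ((Nat.prime_dvd_prime_iff_eq hp.out Nat.prime_two).1 h)
  have hCx : Nat.card (centralizer ({x} : Set G)) = 2 * p := by
    rw [Cfsg.Agent.Blocks.CyclicOrtho.centralizer_eq P hP hx hx1]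
    exact hC
  have hCxt : Nat.card (centralizer ({x * t} : Set G)) ≤ 2 * p := by
    rw [← hCx]
    exact card_centralizer_mul_le hP hp2 ht hto hx hx1
  have hnc := not_isConj hP hp2 ht hto hx hx1
  have e1 := (Cfsg.Agent.S0145.result x x).1 (IsConj.refl x)
  have e2 := (Cfsg.Agent.S0145.result (x * t) (x * t)).1 (IsConj.refl _)
  have e3 := (Cfsg.Agent.S0145.result x (x * t)).2 hnc
  have e4 := (Cfsg.Agent.S0145.result (x * t) x).2 (fun h => hnc h.symm)
  rw [finsum_eq_sum_of_fintype] at e1 e2 e3 e4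
  -- the total sum of squares
  have hsum : ∑ ψ : IrrCharacter G, ‖(ψ : G → ℂ) x + (ψ : G → ℂ) (x * t)‖ ^ 2 =
      (Nat.card (centralizer ({x} : Set G)) : ℝ) +
        (Nat.card (centralizer ({x * t} : Set G)) : ℝ) := by
    have h3 : ((∑ ψ : IrrCharacter G, ‖(ψ : G → ℂ) x + (ψ : G → ℂ) (x * t)‖ ^ 2 : ℝ) : ℂ) =
        (((Nat.card (centralizer ({x} : Set G)) : ℝ) +
        (Nat.card (centralizer ({x * t} : Set G)) : ℝ) : ℝ) : ℂ) := by
      push_cast
      rw [← e1, ← e2, ← Finset.sum_add_distrib]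
      have h4 : ∑ ψ : IrrCharacter G, ((ψ : G → ℂ) x * conj ((ψ : G → ℂ) (x * t)) +
          (ψ : G → ℂ) (x * t) * conj ((ψ : G → ℂ) x)) = 0 := by
        rw [Finset.sum_add_distrib, e3, e4, add_zero]
      rw [← add_zero (∑ ψ : IrrCharacter G, ((ψ : G → ℂ) x * conj ((ψ : G → ℂ) x) +
        (ψ : G → ℂ) (x * t) * conj ((ψ : G → ℂ) (x * t)))), ← h4, ← Finset.sum_add_distrib]
      refine Finset.sum_congr rfl fun ψ _ => ?_
      have h5 : ((‖(ψ : G → ℂ) x + (ψ : G → ℂ) (x * t)‖ : ℂ)) ^ 2 =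
          ((ψ : G → ℂ) x + (ψ : G → ℂ) (x * t)) *
            conj ((ψ : G → ℂ) x + (ψ : G → ℂ) (x * t)) := by
        rw [Complex.mul_conj, Complex.normSq_eq_norm_sq]
        push_cast
        rfl
      rw [h5, map_add]
      ring
    exact_mod_cast h3
  -- the principal block
  have hgram := Cfsg.Agent.Blocks.CyclicOrtho.gram P hP B.modular hx hx1 hx hx1
  rw [if_pos (IsConj.refl x), Cfsg.Agent.Blocks.Orthogonality.finsum_mem_eq_sum_filter] at hgram
  have hset : (Finset.univ.filter fun ψ : IrrCharacter G => ψ ∈ principalBlock M G) = NE ∪ X := by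
    ext ψ
    rw [Finset.mem_filter, Finset.mem_union, B.mem_iff]
    simp
  have hblock : ∑ ψ ∈ NE ∪ X, ‖(ψ : G → ℂ) x + (ψ : G → ℂ) (x * t)‖ ^ 2 = (4 * p : ℝ) := by
    have h3 : ((∑ ψ ∈ NE ∪ X, ‖(ψ : G → ℂ) x + (ψ : G → ℂ) (x * t)‖ ^ 2 : ℝ) : ℂ) =
        ((4 * p : ℝ) : ℂ) := by
      push_cast
      rw [← hgram, hset, Finset.mul_sum]
      refine Finset.sum_congr rfl fun ψ hψ => ?_
      have h6 := mul_eq B (Finset.mem_union.1 hψ) ht htp hx hx1
      rw [h6, ← two_mul, norm_mul]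
      push_cast
      have h5 : ((‖(ψ : G → ℂ) x‖ : ℂ)) ^ 2 = (ψ : G → ℂ) x * conj ((ψ : G → ℂ) x) := by
        rw [Complex.mul_conj, Complex.normSq_eq_norm_sq]
        push_cast
        rfl
      rw [mul_pow, h5]
      norm_num
    exact_mod_cast h3
  have hχ : χ ∉ NE ∪ X := by
    rw [Finset.mem_union, not_or]
    exact ⟨h1, h2⟩
  have hle : ∑ ψ ∈ insert χ (NE ∪ X), ‖(ψ : G → ℂ) x + (ψ : G → ℂ) (x * t)‖ ^ 2 ≤
      ∑ ψ : IrrCharacter G, ‖(ψ : G → ℂ) x + (ψ : G → ℂ) (x * t)‖ ^ 2 :=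
    Finset.sum_le_sum_of_subset_of_nonneg (Finset.subset_univ _) fun _ _ _ => by positivity
  rw [Finset.sum_insert hχ, hblock, hsum, hCx] at hle
  have h7 : (Nat.card (centralizer ({x * t} : Set G)) : ℝ) ≤ 2 * p := by exact_mod_cast hCxt
  push_cast at hle
  have h8 : ‖(χ : G → ℂ) x + (χ : G → ℂ) (x * t)‖ ^ 2 ≤ 0 := by linarith
  have h9 : ‖(χ : G → ℂ) x + (χ : G → ℂ) (x * t)‖ = 0 := by
    have := le_antisymm h8 (by positivity)
    exact pow_eq_zero_iff (two_ne_zero) |>.1 this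
  exact norm_eq_zero.1 h9

/-- `χ(t) ≡ -χ(1)` modulo `p` outside of the principal block. -/
theorem dvd_add (B : Blk p P e t' M NE X ε d S) (hP : Nat.card P = p) (hp2 : p ≠ 2)
    (hC : Nat.card (centralizer (P : Set G)) = 2 * p) (ht : t ∈ centralizer (P : Set G))
    (hto : orderOf t = 2) {χ : IrrCharacter G} (h1 : χ ∉ NE) (h2 : χ ∉ X) {z : ℤ}
    (hz : (χ : G → ℂ) t = z) : (p : ℤ) ∣ (charDegree (χ : G → ℂ) : ℤ) + z := by
  have hM := B.modular
  have htp : ¬ p ∣ orderOf t := by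
    rw [hto]
    intro h
    exact hp2 ((Nat.prime_dvd_prime_iff_eq hp.out Nat.prime_two).1 h)
  have hnt : Nontrivial (P : Subgroup G) := by
    rw [← Finite.one_lt_card_iff_nontrivial]
    exact hp.out.one_lt.trans_eq hP.symm
  obtain ⟨⟨x, hx⟩, hx1⟩ := exists_ne (1 : (P : Subgroup G))
  have hx1' : x ≠ 1 := fun h => hx1 (Subtype.ext h)
  have hox := Cfsg.Agent.Blocks.CyclicOrtho.orderOf_eq P hP hx hx1'
  have hcomm : Commute x t := mem_centralizer_iff.1 ht x hx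
  have h3 := Cfsg.Agent.CharactersDeep.ModCongr.memLocalIdeal_character_sub hM χ.2 (x * t) x
    ⟨t, rfl, hcomm, ⟨1, by rw [hox, pow_one]⟩, htp⟩
  have h4 := Cfsg.Agent.CharactersDeep.ModCongr.memLocalIdeal_character_sub hM χ.2 x x
    ⟨1, mul_one x, Commute.one_right x, ⟨1, by rw [hox, pow_one]⟩, not_dvd_one⟩
  rw [inv_mul_cancel_left, hz] at h3
  rw [inv_mul_cancel, irr_one_eq_charDegree χ.2] at h4
  have hprime : M.IsPrime := hM.2.1.isPrime
  have h5 := Cfsg.Agent.Blocks.Local.memLocalIdeal_add h3 h4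
  have h0 := add_eq_zero B hP hp2 hC ht hto h1 h2 hx hx1'
  have h6 : (χ : G → ℂ) (x * t) - (z : ℂ) +
      ((χ : G → ℂ) x - (charDegree (χ : G → ℂ) : ℂ)) =
      ((-((charDegree (χ : G → ℂ) : ℤ) + z) : ℤ) : ℂ) := by
    push_cast
    linear_combination h0
  rw [h6] at h5
  have h7 := (Cfsg.Agent.Blocks.Local.memLocalIdeal_intCast_iff hM _).1 h5
  exact (Int.dvd_neg).1 h7

end two

end Cfsg.Agent.SporadicA.M24.BlockTwo
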