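import Cfsg.Agent.SporadicA.M24.Seven
import Cfsg.Agent.SmallSimple.InvolPairsBlock
import Cfsg.Agent.SmallSimple.InvolPairsData
import Cfsg.Agent.SporadicA.M24.ElevenTwelve

/-!
# Columns of involutions in a simple group of order 244823040

* `Column t v` : the values `v χ = χ(t)` with their elementary properties;
* `exists_col`
* `seven_rel`, `seven_lines` : the principal 7-block, `e = 3`;
* `five_rel`, `five_pair` : the principal 5-block.
-/

set_option autoImplicit false
set_option linter.unusedSectionVars false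

open Cfsg Subgroup
open Cfsg.Agent.Characters.Core
open Cfsg.Agent.SmallSimple
open Cfsg.Agent.SmallSimple.FlatBlock
open Cfsg.Agent.SmallSimple.DegreeData
open Cfsg.Agent.M23Order.Base
open Cfsg.Agent.SporadicA.M24.Setup Cfsg.Agent.SporadicA.M24.Five Cfsg.Agent.SporadicA.M24.Seven
open scoped ComplexConjugate

namespace Cfsg.Agent.SporadicA.M24.Col

universe u

variable {G : Type u} [Group G] [Finite G]

/-- The column of an involution `t`. -/
structure Column (t : G) (v : IrrCharacter G → ℤ) : Prop where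
  sq : t * t = 1
  ne_one : t ≠ 1
  val : ∀ χ : IrrCharacter G, (χ : G → ℂ) t = v χ
  lt : ∀ χ : IrrCharacter G, χ ≠ tr G → |v χ| < dg χ
  mod4 : ∀ χ : IrrCharacter G, χ ≠ tr G → (4 : ℤ) ∣ dg χ - v χ
  dvd : ∀ χ : IrrCharacter G, (dg χ : ℤ) ∣ ((centralizer ({t} : Set G)).index : ℤ) * v χ
  norm : ∀ s : Finset (IrrCharacter G), ∑ χ ∈ s, v χ ^ 2 ≤
    (Nat.card (centralizer ({t} : Set G)) : ℤ)

theorem exists_col [IsSimpleGroup G] (hG : commutator G = ⊤) {t : G} (ht : t * t = 1)
    (ht1 : t ≠ 1) : ∃ v : IrrCharacter G → ℤ, Column t v := by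
  have h1 : ∀ χ : IrrCharacter G, ∃ z : ℤ, (χ : G → ℂ) t = z ∧ (χ ≠ tr G → |z| < dg χ) ∧
      (χ ≠ tr G → (4 : ℤ) ∣ dg χ - z) := by
    intro χ
    by_cases hχ : χ = tr G
    · subst hχ
      exact ⟨1, by rw [coe_tr]; simp, fun h => absurd rfl h, fun h => absurd rfl h⟩
    · have hχ' : (χ : G → ℂ) ≠ 1 := fun h => hχ (Subtype.ext (by rw [h, coe_tr]))
      obtain ⟨z, h1, h2, h3⟩ := InvolColumn.exists_int hG χ.2 hχ' (t := t)
        (by rw [pow_two]; exact ht) ht1
      exact ⟨z, h1, fun _ => h2, fun _ => h3⟩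
  choose v hv1 hv2 hv3 using h1
  exact ⟨v, ht, ht1, hv1, hv2, hv3, fun χ => InvolColumn.dvd_index_mul χ.2 (hv1 χ),
    fun s => InvolColumn.sum_sq_le s t v fun χ _ => hv1 χ⟩

namespace Column

variable {t : G} {v : IrrCharacter G → ℤ}

theorem v_tr (h : Column t v) : v (tr G) = 1 := by
  have h1 := h.val (tr G)
  rw [coe_tr] at h1
  simp only [Pi.one_apply] at h1
  exact_mod_cast h1.symm

theorem orderOf_eq (h : Column t v) : orderOf t = 2 := by
  have h2 : Fact (Nat.Prime 2) := ⟨Nat.prime_two⟩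
  exact orderOf_eq_prime (by rw [pow_two]; exact h.sq) h.ne_one

theorem not_dvd {p : ℕ} (h : Column t v) (hp : p.Prime) (hp2 : p ≠ 2) : ¬ p ∣ orderOf t := by
  rw [h.orderOf_eq]
  exact fun h => hp2 ((Nat.prime_dvd_prime_iff_eq hp Nat.prime_two).1 h)

/-- The norm for a list of different characters. -/
theorem norm_list (h : Column t v) {l : List (IrrCharacter G)} (hl : l.Nodup) :
    (l.map fun χ => v χ ^ 2).sum ≤ (Nat.card (centralizer ({t} : Set G)) : ℤ) := by
  classical
  have h1 := h.norm l.toFinset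
  rwa [List.sum_toFinset _ hl] at h1

theorem card_mul_index (_h : Column t v) : (Nat.card (centralizer ({t} : Set G)) : ℤ) *
    ((centralizer ({t} : Set G)).index : ℤ) = Nat.card G := by
  exact_mod_cast (centralizer ({t} : Set G)).card_mul_index

end Column

/-! ### Prime divisors of the centraliser -/

/-- A self-centralizing Sylow subgroup: centralisers of elements of other order. -/
theorem not_dvd_of_self {p : ℕ} [hp : Fact p.Prime] (P : Sylow p G) (hP : Nat.card P = p)
    (hC : centralizer (P : Set G) = (P : Subgroup G)) {g : G} (hg : g ≠ 1)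
    (hgp : ¬ p ∣ orderOf g) : ¬ p ∣ Nat.card (centralizer ({g} : Set G)) := by
  intro hdvd
  obtain ⟨⟨x, hx⟩, hox⟩ := exists_prime_orderOf_dvd_card' p hdvd
  have hox' : orderOf x = p := by rwa [← Subgroup.orderOf_coe] at hox
  obtain ⟨c, hc⟩ := InvolFour.exists_conj_mem_sylow P hox'
  have hc1 : c * x * c⁻¹ ≠ 1 := by
    intro h2
    have h3 : x = 1 := by
      have h4 : x = c⁻¹ * (c * x * c⁻¹) * c := by group
      rw [h4, h2, mul_one, inv_mul_cancel]
    rw [h3, orderOf_one] at hox'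
    exact hp.out.one_lt.ne hox'
  have h2 : centralizer ({c * x * c⁻¹} : Set G) = (P : Subgroup G) :=
    (BlockIndex.centralizer_eq (P := (P : Subgroup G)) hP hc hc1).trans hC
  have h3 : c * g * c⁻¹ ∈ centralizer ({c * x * c⁻¹} : Set G) := by
    rw [mem_centralizer_singleton_iff]
    have h4 := mem_centralizer_singleton_iff.1 hx
    calc c * g * c⁻¹ * (c * x * c⁻¹) = c * (g * x) * c⁻¹ := by group
      _ = c * (x * g) * c⁻¹ := by rw [h4]
      _ = c * x * c⁻¹ * (c * g * c⁻¹) := by group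
  rw [h2] at h3
  have h5 : orderOf (c * g * c⁻¹) ∣ p := by
    have := Subgroup.orderOf_dvd_natCard (P : Subgroup G) h3
    have hP' : Nat.card (P : Subgroup G) = p := hP
    rwa [hP'] at this
  have h6 : orderOf (c * g * c⁻¹) = orderOf g := (MulAut.conj c).orderOf_eq g
  rw [h6] at h5
  rcases (Nat.dvd_prime hp.out).1 h5 with h | h
  · exact hg (orderOf_eq_one_iff.1 h)
  · exact hgp h.symm.dvd

variable [IsSimpleGroup G] (H : Hyp G) {t : G} {v : IrrCharacter G → ℤ}

include H

/-- The order of the centraliser of an involution. -/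
theorem card_dvd (h : Column t v) : Nat.card (centralizer ({t} : Set G)) ∣ 967680 := by
  have h23 : Fact (Nat.Prime 23) := ⟨by norm_num⟩
  have h11 : Fact (Nat.Prime 11) := ⟨by norm_num⟩
  have e1 := not_dvd_of_self H.P H.hP H.hCP h.ne_one (h.not_dvd (by norm_num) (by norm_num))
  have e2 := not_dvd_of_self H.Q H.hQ H.hCQ h.ne_one (h.not_dvd (by norm_num) (by norm_num))
  have h1 : Nat.card (centralizer ({t} : Set G)) ∣ 244823040 := by
    rw [← H.hcard]; exact Subgroup.card_subgroup_dvd_card _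
  have h2 : Nat.Coprime (Nat.card (centralizer ({t} : Set G))) 23 :=
    ((Nat.Prime.coprime_iff_not_dvd (by norm_num)).2 e1).symm
  have h3 : Nat.Coprime (Nat.card (centralizer ({t} : Set G))) 11 :=
    ((Nat.Prime.coprime_iff_not_dvd (by norm_num)).2 e2).symm
  have h4 : Nat.card (centralizer ({t} : Set G)) ∣ 10644480 := by
    refine Nat.Coprime.dvd_of_dvd_mul_right h2 (m := 10644480) ?_
    norm_num at h1 ⊢
    exact h1
  refine Nat.Coprime.dvd_of_dvd_mul_right h3 (m := 967680) ?_
  norm_num at h4 ⊢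
  exact h4

/-- The index of the centraliser of an involution. -/
theorem exists_index (h : Column t v) : ∃ m : ℕ, Nat.card (centralizer ({t} : Set G)) * m = 967680 ∧
    (centralizer ({t} : Set G)).index = 253 * m := by
  obtain ⟨m, hm⟩ := card_dvd H h
  refine ⟨m, hm.symm, ?_⟩
  have h1 := (centralizer ({t} : Set G)).card_mul_index
  rw [H.hcard, show 244823040 = 967680 * 253 by norm_num, hm, mul_assoc] at h1
  have h2 := Nat.eq_of_mul_eq_mul_left Nat.card_pos h1
  rw [h2, mul_comm]

omit H in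
theorem seven_rel {S : Sylow 7 G} {K' : Subgroup G} {M' : Ideal AlgInt}
    {D : BlockData 7 M' S 3 2} {a b : IrrCharacter G} (h7 : B7three S K' M' D a b)
    (h : Column t v) {Θ : IrrCharacter G} (hΘ : Θ ∈ D.X) : v Θ = 1 - v a + v b := by
  have h7p : Fact (Nat.Prime 7) := ⟨by norm_num⟩
  have h1 := D.rel Θ hΘ t (h.not_dvd (by norm_num) (by norm_num))
  rw [h7.l_eq, h7.d_eq] at h1
  simp only [List.map_cons, List.map_nil, List.sum_cons, List.sum_nil, add_zero, h7.ε_a, h7.ε_b,
    h.val] at h1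
  have h2 : ((1 - v a + v b : ℤ) : ℂ) = ((v Θ : ℤ) : ℂ) := by
    push_cast
    push_cast at h1
    linear_combination h1
  exact_mod_cast h2.symm

theorem seven_quad {S : Sylow 7 G} {K' : Subgroup G} {M' : Ideal AlgInt}
    {D : BlockData 7 M' S 3 2} {a b : IrrCharacter G} (h7 : B7three S K' M' D a b)
    (h : Column t v) {Θ : IrrCharacter G} (hΘ : Θ ∈ D.X) :
    91080 - 88 * v a ^ 2 + 45 * v b ^ 2 = 92 * v Θ ^ 2 := by
  have h7p : Fact (Nat.Prime 7) := ⟨by norm_num⟩
  have hS := card_seven H S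
  obtain ⟨x, hx, hx1⟩ := BlockIndex.exists_ne_one (P := (S : Subgroup G)) hS
  obtain ⟨K0, hK0, -, -⟩ := InvolPairsData.exists_centData (p := 7) (by norm_num) S hS
  have hno : ∀ c, IsConj t c → c * x * c⁻¹ ≠ x⁻¹ := by
    intro c _
    exact InvolColumn.conj_ne_inv_of_odd (P := (S : Subgroup G)) (BlockIndex.relIndex_eq h7.loc)
      (by decide) (InvolColumn.zpowers_eq_of_card_prime (by norm_num) hS)
      (by rw [show Nat.card (S : Subgroup G) = 7 from hS]; decide) hx hx1 c
  have h1 := InvolPairsBlock.pair_sum_zero D h7.modular hS hx hx1 (hK0 x hx hx1) hΘ h.sq h.sq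
    (h.not_dvd (by norm_num) (by norm_num)) (h.not_dvd (by norm_num) (by norm_num)) hno
  have e1 : dg Θ = 990 := by
    have := D.deg_X Θ hΘ
    rw [h7.f_eq] at this; exact this
  have e2 : v D.one = 1 := by rw [BlockShared.one_eq D]; exact h.v_tr
  have e3 : dg D.one = 1 := by rw [BlockShared.one_eq D]; exact dg_tr
  rw [h7.l_eq, h7.d_eq] at h1
  simp only [List.map_cons, List.map_nil, List.sum_cons, List.sum_nil, add_zero, h7.ε_a, h7.ε_b,
    D.ε_one, dg_eq, h7.dg_a, h7.dg_b, e1, e2, e3, h.val] at h1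
  have h2 : ((91080 - 88 * v a ^ 2 + 45 * v b ^ 2 : ℤ) : ℂ) = ((92 * v Θ ^ 2 : ℤ) : ℂ) := by
    push_cast
    push_cast at h1
    linear_combination 91080 * h1
  exact_mod_cast h2

theorem seven_lines {S : Sylow 7 G} {K' : Subgroup G} {M' : Ideal AlgInt}
    {D : BlockData 7 M' S 3 2} {a b : IrrCharacter G} (h7 : B7three S K' M' D a b)
    (h : Column t v) : 2 * v a - v b - 46 = 0 ∨ 90 * v a - 47 * v b + 1978 = 0 := by
  have h7p : Fact (Nat.Prime 7) := ⟨by norm_num⟩
  obtain ⟨Θ, hΘ⟩ := D.exists_X (by norm_num)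
  have h1 := seven_rel h7 h hΘ
  have h2 := seven_quad H h7 h hΘ
  rw [h1] at h2
  rw [← mul_eq_zero]
  nlinarith [h2]

omit H in
/-- The relation of the principal 5-block. -/
theorem five_rel {R : Sylow 5 G} {K : Subgroup G} {M : Ideal AlgInt}
    {B : Finset (IrrCharacter G)} {ε : IrrCharacter G → ℤ} {a b c d : IrrCharacter G}
    (h5 : B5 R K M B ε a b c d) (h : Column t v) : 1 - v a - v b + v c + v d = 0 := by
  classical
  have h5p : Fact (Nat.Prime 5) := ⟨by norm_num⟩
  have h1 := h5.loc.rel t (h.not_dvd (by norm_num) (by norm_num))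
  have h2 : B = [tr G, a, b, c, d].toFinset := by
    ext χ; rw [h5.mem, List.mem_toFinset]
  rw [h2, List.sum_toFinset _ h5.nodup] at h1
  simp only [List.map_cons, List.map_nil, List.sum_cons, List.sum_nil, add_zero, h5.ε_a, h5.ε_b,
    h5.ε_c, h5.ε_d, h5.loc.ε_one, h.val, h.v_tr] at h1
  have h3 : ((1 - v a - v b + v c + v d : ℤ) : ℂ) = ((0 : ℤ) : ℂ) := by
    push_cast
    push_cast at h1
    linear_combination h1
  exact_mod_cast h3

omit H in
/-- The pair formula of the principal 5-block; `k t` is the number of conjugates of `t` in the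
coset of `K` inverting `R`. -/
theorem five_pair {R : Sylow 5 G} {K : Subgroup G} {M : Ideal AlgInt}
    {B : Finset (IrrCharacter G)} {ε : IrrCharacter G → ℤ} {a b c d : IrrCharacter G}
    (h5 : B5 R K M B ε a b c d) : ∃ k : G → ℕ,
    (∀ (t u : G) (v w : IrrCharacter G → ℤ), Column t v → Column u w →
      5 * ((k t : ℚ) * k u) * Nat.card G = (centralizer ({t} : Set G)).index *
        (centralizer ({u} : Set G)).index * Nat.card K *
        (1 - (v a * w a : ℚ) / 5544 - (v b * w b : ℚ) / 2024 + (v c * w c : ℚ) / dg c +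
          (v d * w d : ℚ) / dg d)) ∧
      (∀ a, k a ≤ Nat.card K) ∧ (∀ a b, IsConj a b → k a = k b) ∧
      (∀ a b, ¬ IsConj a b → k a + k b ≤ Nat.card K) ∧
      (∀ a, k a ≠ 0 → ∃ u, IsConj a u ∧ ∀ x ∈ R, u * x * u⁻¹ = x⁻¹) := by
  classical
  have h5p : Fact (Nat.Prime 5) := ⟨by norm_num⟩
  obtain ⟨k, hk, hk2⟩ := h5.loc.pair
  refine ⟨k, fun t u v w ht hu => ?_, hk2⟩
  have h1 := hk t u ht.sq hu.sq
  have h2 : B = [tr G, a, b, c, d].toFinset := by
    ext χ; rw [h5.mem, List.mem_toFinset]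
  rw [h2, List.sum_toFinset _ h5.nodup] at h1
  simp only [List.map_cons, List.map_nil, List.sum_cons, List.sum_nil, add_zero, h5.ε_a, h5.ε_b,
    h5.ε_c, h5.ε_d, h5.loc.ε_one, ht.val, hu.val, ht.v_tr, hu.v_tr, dg_eq, dg_tr, h5.dg_a,
    h5.dg_b] at h1
  have h3 : ((5 * ((k t : ℚ) * k u) * Nat.card G : ℚ) : ℂ) =
      (((centralizer ({t} : Set G)).index *
        (centralizer ({u} : Set G)).index * Nat.card K *
        (1 - (v a * w a : ℚ) / 5544 - (v b * w b : ℚ) / 2024 + (v c * w c : ℚ) / dg c +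
          (v d * w d : ℚ) / dg d) : ℚ) : ℂ) := by
    push_cast
    push_cast at h1
    linear_combination h1
  exact_mod_cast h3

/-- Characters of degree divisible by `7` at elements commuting with a Sylow 7-subgroup. -/
theorem seven_dvd {S : Sylow 7 G} {M' : Ideal AlgInt} (hM' : IsPModular 7 M')
    (h : Column t v) (ht : t ∈ centralizer (S : Set G)) {χ : IrrCharacter G} (hχ : 7 ∣ dg χ) :
    (7 : ℤ) ∣ v χ := by
  have h7p : Fact (Nat.Prime 7) := ⟨by norm_num⟩
  exact ElevenTwelve.dvd_of_dvd_degree (card_seven H S) hM' (by rw [H.hcard]; norm_num)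
    (by rw [H.hcard]; norm_num) ht (h.not_dvd (by norm_num) (by norm_num)) hχ (h.val χ)

/-- Characters of the principal 7-block at elements commuting with a Sylow 7-subgroup. -/
theorem seven_modEq {S : Sylow 7 G} {M' : Ideal AlgInt} (hM' : IsPModular 7 M')
    (h : Column t v) (ht : t ∈ centralizer (S : Set G)) {χ : IrrCharacter G}
    (hχ : χ ∈ principalBlock M' G) : (7 : ℤ) ∣ (dg χ : ℤ) - v χ := by
  have h7p : Fact (Nat.Prime 7) := ⟨by norm_num⟩
  exact ElevenTwelve.dvd_sub_of_mem (card_seven H S) hM' ht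
    (h.not_dvd (by norm_num) (by norm_num)) hχ (h.val χ)

/-- An involution commuting with a Sylow 7-subgroup, if `e = 3`. -/
theorem exists_seven {S : Sylow 7 G} {K' : Subgroup G} {M' : Ideal AlgInt}
    {D : BlockData 7 M' S 3 2} {a b : IrrCharacter G} (h7 : B7three S K' M' D a b) :
    ∃ (t : G) (v : IrrCharacter G → ℤ), t ∈ K' ∧ t ∈ centralizer (S : Set G) ∧ Column t v ∧
      7 ∣ Nat.card (centralizer ({t} : Set G)) := by
  have h2 : Fact (Nat.Prime 2) := ⟨by norm_num⟩
  obtain ⟨⟨t, ht⟩, hto⟩ := exists_prime_orderOf_dvd_card' (G := K') 2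
    (by rcases h7.card_K with h | h | h <;> rw [h] <;> norm_num)
  have hto' : orderOf t = 2 := by rwa [← Subgroup.orderOf_coe] at hto
  have ht1 : t ≠ 1 := by rintro rfl; rw [orderOf_one] at hto'; omega
  have htt : t * t = 1 := by rw [← pow_two, ← hto', pow_orderOf_eq_one]
  obtain ⟨v, hv⟩ := exists_col H.hcomm htt ht1
  have htC : t ∈ centralizer (S : Set G) := ((h7.loc.mem_iff t).1 ht).1
  refine ⟨t, v, ht, htC, hv, ?_⟩
  have h3 : (S : Subgroup G) ≤ centralizer ({t} : Set G) := by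
    intro x hx
    rw [mem_centralizer_singleton_iff]
    exact mem_centralizer_iff.1 htC x hx
  have h4 := Subgroup.card_dvd_of_le h3
  rwa [show Nat.card (S : Subgroup G) = 7 from card_seven H S] at h4

end Cfsg.Agent.SporadicA.M24.Col
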