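import Cfsg.Agent.SporadicA.M24.ElevenTwo

/-!
# Sylow 11-subgroups in a simple group of order `244823040`: the local candidates

`IsLocal 11 P e K`: `|C(P)| = 11 |K|`, `|N(P)| = 11 e |K|`. The number of Sylow subgroups is
`23 n'` with `n' ≡ 1 mod 11` and `e |K| n' = 967680`.
-/

set_option autoImplicit false
set_option linter.unusedSectionVars false

namespace Cfsg.Agent.SporadicA.M24.ElevenCases

open Cfsg Subgroup
open Cfsg.Agent.SmallSimple Cfsg.Agent.SmallSimple.PrimeLocal
open Cfsg.Agent.SporadicA.M24.Sylow23 Cfsg.Agent.SporadicA.M24.ElevenTwo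

universe u

/-- The list of the possible `|K|` for `e`. -/
def kList (e : ℕ) : List ℕ :=
  if e = 2 then [5, 16, 27, 60, 126, 192, 280, 720, 896, 1512, 2304, 3360, 8640, 10752, 40320,
    483840]
  else if e = 5 then [2, 24, 112, 189, 288, 1344, 3456, 16128, 193536]
  else if e = 10 then [1, 12, 56, 144, 672, 1728, 8064, 96768]
  else []

/-- The test. -/
def chk (e k : ℕ) : Bool :=
  !(967680 % (e * k) == 0) || (!((e * k) % 11 == 10) || (kList e).elem k)

theorem arith' : ∀ e ∈ [2, 5, 10], ∀ a < 11, ∀ b < 4, ∀ c < 2, ∀ d < 2,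
    chk e (2 ^ a * 3 ^ b * 5 ^ c * 7 ^ d) = true := by
  decide +kernel

theorem arith {e k n : ℕ} (he : e = 2 ∨ e = 5 ∨ e = 10) (h : e * k * n = 967680)
    (hn : n % 11 = 1) : k ∈ kList e := by
  obtain ⟨a, ha, b, hb, c, hc, d, hd, rfl⟩ := smooth (k := k) ⟨e * n, by rw [← h]; ring⟩
  have key := arith' e (by simpa using he) a ha b hb c hc d hd
  have h1 : (e * (2 ^ a * 3 ^ b * 5 ^ c * 7 ^ d) * n) % 11 = 10 := by rw [h]
  rw [Nat.mul_mod, hn, mul_one, Nat.mod_mod] at h1
  have h2 := Nat.mod_eq_zero_of_dvd ⟨n, h.symm⟩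
  unfold chk at key
  rw [h1, h2] at key
  simpa using key

variable {G : Type u} [Group G] [Finite G] [IsSimpleGroup G]

/-- The centraliser of a nontrivial `23'`-element is a `23'`-group. -/
theorem not_dvd_centralizer (hcard : Nat.card G = 244823040) {g : G} (hg : g ≠ 1)
    (h23 : ¬ 23 ∣ orderOf g) : ¬ 23 ∣ Nat.card (centralizer ({g} : Set G)) := by
  intro hdvd
  have hp : Fact (Nat.Prime 23) := ⟨by norm_num⟩
  obtain ⟨⟨x, hx⟩, hox⟩ := exists_prime_orderOf_dvd_card' 23 hdvd
  have hox' : orderOf x = 23 := by rwa [← Subgroup.orderOf_coe] at hox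
  obtain ⟨P, hP⟩ := IsPGroup.exists_le_sylow (IsPGroup.of_card (n := 1)
    (by rw [Nat.card_zpowers, hox', pow_one]) : IsPGroup 23 (zpowers x))
  have hPx : (P : Subgroup G) = zpowers x := by
    refine (Subgroup.eq_of_le_of_card_ge hP ?_).symm
    rw [Nat.card_zpowers, hox']
    exact (card_P hcard P).le
  have hgP : g ∈ (P : Subgroup G) := by
    rw [← Sylow23.centralizer_eq hcard P, mem_centralizer_iff]
    intro y hy
    have hy' : y ∈ zpowers x := by rw [← hPx]; exact hy
    obtain ⟨i, rfl⟩ := mem_zpowers_iff.1 hy'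
    exact (Commute.zpow_left (mem_centralizer_singleton_iff.1 hx : Commute x g) i)
  have h1 : orderOf g ∣ 23 := by
    have := orderOf_dvd_natCard (⟨g, hgP⟩ : (P : Subgroup G))
    rw [Subgroup.orderOf_mk] at this
    have h2 : Nat.card (P : Subgroup G) = 23 := card_P hcard P
    rwa [h2] at this
  rcases (Nat.dvd_prime (by norm_num)).1 h1 with h | h
  · exact hg (orderOf_eq_one_iff.1 h)
  · exact h23 h.symm.dvd

/-- `23` does not divide the order of the complement of `P` in its centraliser (`p ≠ 23`). -/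
theorem not_dvd_card_K (hcard : Nat.card G = 244823040) {p : ℕ} [hp : Fact p.Prime]
    (hp23 : p ≠ 23) {e : ℕ} {P : Sylow p G} (hP : Nat.card P = p) {K : Subgroup G}
    (h : IsLocal p P e K) : ¬ 23 ∣ Nat.card K := by
  intro hdvd
  have hP' : Nat.card (P : Subgroup G) = p := hP
  obtain ⟨⟨y, hy⟩, hoy⟩ := exists_prime_orderOf_dvd_card' p (dvd_of_eq hP'.symm)
  have hoy' : orderOf y = p := by rwa [← Subgroup.orderOf_coe] at hoy
  have hy1 : y ≠ 1 := by
    rintro rfl
    rw [orderOf_one] at hoy'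
    exact hp.out.one_lt.ne hoy'
  refine not_dvd_centralizer hcard hy1 (fun h23 => ?_) ?_
  · rw [hoy'] at h23
    exact hp23 ((Nat.prime_dvd_prime_iff_eq (by norm_num) hp.out).1 h23).symm
  · refine hdvd.trans (Subgroup.card_dvd_of_le fun k hk => ?_)
    rw [mem_centralizer_singleton_iff]
    exact h.comm k hk y hy

/-- The number of Sylow 11-subgroups is `23 n`. -/
theorem card_sylow (hcard : Nat.card G = 244823040) {e : ℕ} {P : Sylow 11 G} {K : Subgroup G}
    (h : IsLocal 11 P e K) : ∃ n : ℕ, Nat.card (Sylow 11 G) = 23 * n ∧ n % 11 = 1 ∧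
      e * Nat.card K * n = 967680 := by
  have hp : Fact (Nat.Prime 11) := ⟨by norm_num⟩
  have h23 := not_dvd_card_K hcard (by norm_num) (card_eleven hcard P) h
  have h1 : Nat.card (Sylow 11 G) % 11 = 1 := card_sylow_modEq_one 11 G
  have h2 := h.card_eq
  rw [hcard] at h2
  have h3 : e ≤ 10 := Nat.le_of_dvd (by norm_num) h.dvd_pred
  have h4 : ¬ 23 ∣ 11 * e * Nat.card K := by
    intro h5
    rcases (Nat.Prime.dvd_mul (by norm_num)).1 h5 with h5 | h5
    · rcases (Nat.Prime.dvd_mul (by norm_num)).1 h5 with h5 | h5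
      · norm_num at h5
      · have := Nat.le_of_dvd (by have := h.one_lt; omega) h5
        omega
    · exact h23 h5
  have h5 : 23 ∣ Nat.card (Sylow 11 G) := by
    have h6 : 23 ∣ Nat.card (Sylow 11 G) * (11 * e * Nat.card K) := by rw [← h2]; norm_num
    exact ((Nat.Prime.dvd_mul (by norm_num)).1 h6).resolve_right h4
  obtain ⟨n, hn⟩ := h5
  refine ⟨n, hn, by omega, ?_⟩
  rw [hn] at h2
  have h7 : 253 * (e * Nat.card K * n) = 253 * 967680 := by
    rw [show 253 * 967680 = 244823040 by norm_num, h2]; ring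
  exact Nat.eq_of_mul_eq_mul_left (by norm_num) h7

/-- The candidates for `e`, `|K|`. -/
theorem mem_kList (hcard : Nat.card G = 244823040) {e : ℕ} {P : Sylow 11 G} {K : Subgroup G}
    (h : IsLocal 11 P e K) : (e = 2 ∨ e = 5 ∨ e = 10) ∧ Nat.card K ∈ kList e := by
  obtain ⟨n, -, hn, hn'⟩ := card_sylow hcard h
  have he : e = 2 ∨ e = 5 ∨ e = 10 := by
    have h1 := h.one_lt
    have h2 := h.dvd_pred
    have h3 : e ≤ 10 := Nat.le_of_dvd (by norm_num) h2
    interval_cases e <;> simp_all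
  exact ⟨he, arith he hn' hn⟩

/-- The candidates with `7 ∤ |K|`. -/
theorem cases (hcard : Nat.card G = 244823040) {e : ℕ} {P : Sylow 11 G} {K : Subgroup G}
    (h : IsLocal 11 P e K) (h7 : ¬ 7 ∣ Nat.card K) :
    (e = 5 ∧ (Nat.card K = 2 ∨ Nat.card K = 24 ∨ Nat.card K = 288 ∨ Nat.card K = 3456)) ∨
    (e = 10 ∧ (Nat.card K = 1 ∨ Nat.card K = 12 ∨ Nat.card K = 144 ∨ Nat.card K = 1728)) := by
  obtain ⟨he, hk⟩ := mem_kList hcard h
  rcases he with rfl | rfl | rfl
  · exfalso
    refine two_false hcard h (fun h1 => ?_) h7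
    rw [h1] at hk
    simp [kList] at hk
  · left
    refine ⟨rfl, ?_⟩
    generalize Nat.card K = k at hk h7
    simp [kList] at hk
    omega
  · right
    refine ⟨rfl, ?_⟩
    generalize Nat.card K = k at hk h7
    simp [kList] at hk
    omega

end Cfsg.Agent.SporadicA.M24.ElevenCases
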