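import Cfsg.Agent.SporadicA.M24.ElevenV
import Cfsg.Agent.SmallSimple.SymBlock

/-!
# Sylow 11-subgroups in a simple group of order `244823040`: `7 ∤ |C(P₁₁)|`

Otherwise `11 ∣ |C(P₇)|`. The principal 7-block is then impossible for each
`e₇ = |N(P₇) : C(P₇)| = 2, 3, 6`.
-/

set_option autoImplicit false
set_option linter.unusedSectionVars false

namespace Cfsg.Agent.SporadicA.M24.ElevenSeven

open Cfsg Subgroup Cfsg.Agent.Characters.Core
open Cfsg.Agent.Blocks.Basic (irr_one_eq_charDegree)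
open Cfsg.Agent.SmallSimple Cfsg.Agent.SmallSimple.PrimeLocal
open Cfsg.Agent.M22.NonSelfCent (NEData XData InvVal)
open Cfsg.Agent.M23.Block Cfsg.Agent.SporadicA.M24.Sylow23
open Cfsg.Agent.M23.Adm (V AdmAt V_const sum_V)
open Cfsg.Agent.SporadicA.M24.Adm Cfsg.Agent.SporadicA.M24.ElevenV

universe u

/-! ### Arithmetic -/

/-- The degree divides `|G| / 77` and is admissible mod 23. -/
def tst (n : ℕ) : Bool :=
  3179520 % n == 0 && (n % 23 == 0 || (n % 23 == 1 || (n % 23 == 22 || (n % 23 == 11 ||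
    n % 23 == 12))))

theorem tst_of {n : ℕ} {s : ℤ} (hd : n ∣ 3179520) (hs : AdmAt n s) : tst n = true := by
  unfold tst
  rw [Nat.mod_eq_zero_of_dvd hd]
  unfold AdmAt at hs
  simp
  omega

theorem arith2 : ∀ a < 2236, 2 ≤ a → (!(tst (7 * a + 1) && tst (7 * a + 2)) &&
    !(tst (7 * a + 6) && tst (7 * a + 5))) = true := by
  decide +kernel

/-- The signed degrees of nonexceptional characters. -/
def L3 : List ℤ :=
  [-69, 92, -160, -230, 288, 414, 540, -552, 736, -1035, 1380, -1840, -2484, 3312, -4416, 5888,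
    6210, -8280, 11040, -13824, -14720]

theorem arith3a : ∀ a < 2236, 2 ≤ a → ((!(tst (7 * a + 1)) || L3.contains (7 * a + 1 : ℕ)) &&
    (!(tst (7 * a + 6)) || L3.contains (-(7 * a + 6 : ℕ)))) = true := by
  decide +kernel

theorem arith3b : ∀ x ∈ L3, ∀ y ∈ L3, (!(tst (1 + x + y).natAbs) ||
    ((x == -69 && y == 92) || (x == 92 && y == -69))) = true := by
  decide +kernel

/-- The test for the columns. -/
def chk3 (a b : ℤ) : Bool :=
  !(552 - 8 * a * a + 6 * b * b == 23 * (1 - a + b) * (1 - a + b)) ||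
    Nat.ble 24 (1 - a + b).natAbs

theorem arith3c : ∀ i < 35, ∀ j < 47, chk3 (4 * (i : ℕ) - 67) (4 * (j : ℕ) - 92) = true := by
  decide +kernel

theorem no_column {a b : ℤ} (ha : |a| < 69) (hb : |b| < 92) (ha4 : (4 : ℤ) ∣ 69 - a)
    (hb4 : (4 : ℤ) ∣ 92 - b)
    (h : 552 - 8 * a * a + 6 * b * b = 23 * (1 - a + b) * (1 - a + b))
    (hc : |1 - a + b| < 24) : False := by
  rw [abs_lt] at ha hb hc
  obtain ⟨i, hi⟩ : ∃ i : ℕ, a = 4 * (i : ℕ) - 67 := ⟨((a + 67) / 4).toNat, by omega⟩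
  obtain ⟨j, hj⟩ : ∃ j : ℕ, b = 4 * (j : ℕ) - 92 := ⟨((b + 92) / 4).toNat, by omega⟩
  have h1 := arith3c i (by omega) j (by omega)
  rw [← hi, ← hj] at h1
  unfold chk3 at h1
  rw [h] at h1
  simp at h1
  omega

theorem arith6 : ∀ a < 2236, 2 ≤ a →
    ((!(3179520 % (7 * a + 1) == 0 && ((7 * a + 1) % 23 == 22 || (7 * a + 1) % 23 == 11)) ||
      7 * a + 1 == 540) &&
    (!(3179520 % (7 * a + 6) == 0 && ((7 * a + 6) % 23 == 1 || (7 * a + 6) % 23 == 12)) ||
      7 * a + 6 == 13824)) = true := by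
  decide +kernel

theorem mem_L3 {a n : ℕ} {ε : ℤ} (hn : n < 15647) (ha : 2 ≤ a)
    (h : (ε = 1 ∧ n = 7 * a + 1) ∨ (ε = -1 ∧ n + 1 = 7 * (a + 1))) (ht : tst n = true) :
    ε * (n : ℤ) ∈ L3 := by
  have h1 := arith3a a (by omega) ha
  rw [Bool.and_eq_true] at h1
  obtain ⟨h2, h3⟩ := h1
  rcases h with ⟨rfl, rfl⟩ | ⟨rfl, h⟩
  · rw [ht] at h2
    simpa using h2
  · have h4 : n = 7 * a + 6 := by omega
    subst h4
    rw [ht] at h3
    simpa using h3

variable {G : Type u} [Group G] [Finite G] [IsSimpleGroup G]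

theorem card_seven (hcard : Nat.card G = 244823040) (R : Sylow 7 G) : Nat.card R = 7 := by
  have hp : Fact (Nat.Prime 7) := ⟨by norm_num⟩
  exact card_of_not_sq_dvd (by rw [hcard]; norm_num) (by rw [hcard]; norm_num) R

/-- `e₇ = 2`. -/
theorem two_false (hcard : Nat.card G = 244823040) {R : Sylow 7 G} {K : Subgroup G}
    (h : IsLocal 7 R 2 K) (h11 : 11 ∣ Nat.card K) : False := by
  classical
  have hp : Fact (Nat.Prime 7) := ⟨by norm_num⟩
  have hR := card_seven hcard R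
  obtain ⟨M, NE, X, ε, d, S, B⟩ := exists_blk (not_prime hcard) 7 (by norm_num) R hR 2 3
    (BlockIndex.relIndex_eq h) (by norm_num)
  let P23 : Sylow 23 G := default
  obtain ⟨χ, hχ⟩ : ∃ χ, NE.erase ⟨1, isIrr_one⟩ = {χ} := by
    apply Finset.card_eq_one.1
    rw [Finset.card_erase_of_mem B.kb.one_mem, B.kb.card_NE]
  have hχm : χ ∈ NE.erase ⟨1, isIrr_one⟩ := by rw [hχ]; exact Finset.mem_singleton_self _
  have hχN := Finset.mem_of_mem_erase hχm
  have hχ1 := Finset.ne_of_mem_erase hχm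
  have hcop : Nat.Coprime 7 (Nat.card K) :=
    (Nat.Prime.coprime_iff_not_dvd (by norm_num)).2 h.not_dvd
  have hKb : K ≠ ⊥ := by rintro rfl; simp at h11
  obtain ⟨a, ha, hdeg, -⟩ := B.kb.ne_data K h.le_centralizer hcop hKb χ hχN hχ1
  obtain ⟨Θ, hΘ⟩ : ∃ Θ, Θ ∈ X := by
    apply Finset.card_pos.1
    rw [B.kb.card_X]; norm_num
  obtain ⟨a', ha', hdeg', -⟩ := B.kb.x_data K h.le_centralizer hcop hKb Θ hΘ
  have hdvd : ∀ ψ : IrrCharacter G, ψ ∈ NE ∨ ψ ∈ X → charDegree (ψ : G → ℂ) ∣ 3179520 := by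
    intro ψ hψ
    have h1 := BlockIndex.mul_dvd_card B hR h.card_centralizer hψ
    rw [hcard] at h1
    obtain ⟨c, hc⟩ := h11
    have h2 : charDegree (ψ : G → ℂ) * 77 ∣ 3179520 * 77 :=
      Dvd.dvd.trans ⟨c, by rw [hc]; ring⟩ (h1.trans (by norm_num))
    exact Nat.dvd_of_mul_dvd_mul_right (by norm_num) h2
  have htst : ∀ ψ : IrrCharacter G, ψ ∈ NE ∨ ψ ∈ X → tst (charDegree (ψ : G → ℂ)) = true := by
    intro ψ hψ
    obtain ⟨s, -, hs⟩ := adm hcard P23 ψ
    exact tst_of (hdvd ψ hψ) hs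
  have hdeg1 : charDegree ((⟨1, isIrr_one⟩ : IrrCharacter G) : G → ℂ) = 1 := charDegree_one'
  have hrel := B.kb.rel_one Θ hΘ
  rw [← Finset.add_sum_erase _ _ B.kb.one_mem, hχ, Finset.sum_singleton, B.kb.eps_one, hdeg1]
    at hrel
  have h1 := htst χ (Or.inl hχN)
  have h2 := htst Θ (Or.inr hΘ)
  have hlt := charDegree_lt hcard χ
  generalize charDegree (χ : G → ℂ) = n at *
  generalize charDegree (Θ : G → ℂ) = f at *
  have key := arith2 a (by omega) ha
  rw [Bool.and_eq_true, Bool.not_eq_true', Bool.not_eq_true'] at key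
  obtain ⟨k1, k2⟩ := key
  rcases hdeg with ⟨hε, hn⟩ | ⟨hε, hn⟩
  · rw [hε] at hrel
    have hf : f = 7 * a + 2 := by
      rcases B.kb.hd with hd | hd <;> rw [hd] at hrel <;> push_cast at hrel <;> omega
    rw [hn] at h1
    rw [hf] at h2
    rw [h1, h2] at k1
    exact absurd k1 (by simp)
  · rw [hε] at hrel
    have hf : f = 7 * a + 5 := by
      rcases B.kb.hd with hd | hd <;> rw [hd] at hrel <;> push_cast at hrel <;> omega
    have hn' : n = 7 * a + 6 := by omega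
    rw [hn'] at h1
    rw [hf] at h2
    rw [h1, h2] at k2
    exact absurd k2 (by simp)

/-- `e₇ = 3`. -/
theorem three_false (hcard : Nat.card G = 244823040) {R : Sylow 7 G} {K : Subgroup G}
    (h : IsLocal 7 R 3 K) (h11 : 11 ∣ Nat.card K) : False := by
  classical
  have hp : Fact (Nat.Prime 7) := ⟨by norm_num⟩
  have hR := card_seven hcard R
  obtain ⟨M, NE, X, ε, d, S, B⟩ := exists_blk (not_prime hcard) 7 (by norm_num) R hR 3 2
    (BlockIndex.relIndex_eq h) (by norm_num)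
  let P23 : Sylow 23 G := default
  obtain ⟨χ, ψ, hne, hχ⟩ : ∃ χ ψ, χ ≠ ψ ∧ NE.erase ⟨1, isIrr_one⟩ = {χ, ψ} := by
    apply Finset.card_eq_two.1
    rw [Finset.card_erase_of_mem B.kb.one_mem, B.kb.card_NE]
  have hχm : χ ∈ NE.erase ⟨1, isIrr_one⟩ := by rw [hχ]; simp
  have hψm : ψ ∈ NE.erase ⟨1, isIrr_one⟩ := by rw [hχ]; simp
  have hχN := Finset.mem_of_mem_erase hχm
  have hχ1 := Finset.ne_of_mem_erase hχm
  have hψN := Finset.mem_of_mem_erase hψm
  have hψ1 := Finset.ne_of_mem_erase hψm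
  have hsum : ∀ f : IrrCharacter G → ℂ, ∑ φ ∈ NE, f φ = f ⟨1, isIrr_one⟩ + (f χ + f ψ) := by
    intro f
    rw [← Finset.add_sum_erase _ _ B.kb.one_mem, hχ, Finset.sum_pair hne]
  have hcop : Nat.Coprime 7 (Nat.card K) :=
    (Nat.Prime.coprime_iff_not_dvd (by norm_num)).2 h.not_dvd
  have hKb : K ≠ ⊥ := by rintro rfl; simp at h11
  obtain ⟨Θ, hΘ⟩ : ∃ Θ, Θ ∈ X := by
    apply Finset.card_pos.1
    rw [B.kb.card_X]; norm_num
  have hdvd : ∀ ψ : IrrCharacter G, ψ ∈ NE ∨ ψ ∈ X → charDegree (ψ : G → ℂ) ∣ 3179520 := by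
    intro ψ hψ
    have h1 := BlockIndex.mul_dvd_card B hR h.card_centralizer hψ
    rw [hcard] at h1
    obtain ⟨c, hc⟩ := h11
    have h2 : charDegree (ψ : G → ℂ) * 77 ∣ 3179520 * 77 :=
      Dvd.dvd.trans ⟨c, by rw [hc]; ring⟩ (h1.trans (by norm_num))
    exact Nat.dvd_of_mul_dvd_mul_right (by norm_num) h2
  have htst : ∀ ψ : IrrCharacter G, ψ ∈ NE ∨ ψ ∈ X → tst (charDegree (ψ : G → ℂ)) = true := by
    intro ψ hψ
    obtain ⟨s, -, hs⟩ := adm hcard P23 ψ
    exact tst_of (hdvd ψ hψ) hs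
  have hmem : ∀ φ ∈ NE, φ ≠ ⟨1, isIrr_one⟩ → ε φ * (charDegree (φ : G → ℂ) : ℤ) ∈ L3 := by
    intro φ hφ hφ1
    obtain ⟨a, ha, hdeg, -⟩ := B.kb.ne_data K h.le_centralizer hcop hKb φ hφ hφ1
    exact mem_L3 (charDegree_lt hcard φ) ha hdeg (htst φ (Or.inl hφ))
  have hdeg1 : charDegree ((⟨1, isIrr_one⟩ : IrrCharacter G) : G → ℂ) = 1 := charDegree_one'
  have hrel : 1 + ε χ * (charDegree (χ : G → ℂ) : ℤ) + ε ψ * (charDegree (ψ : G → ℂ) : ℤ) =
      d * (charDegree (Θ : G → ℂ) : ℤ) := by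
    have h1 := B.kb.rel_one Θ hΘ
    rw [← Finset.add_sum_erase _ _ B.kb.one_mem, hχ, Finset.sum_pair hne, B.kb.eps_one,
      hdeg1] at h1
    push_cast at h1
    linarith
  have hf : (1 + ε χ * (charDegree (χ : G → ℂ) : ℤ) +
      ε ψ * (charDegree (ψ : G → ℂ) : ℤ)).natAbs = charDegree (Θ : G → ℂ) := by
    rw [hrel]
    rcases B.kb.hd with hd | hd <;> rw [hd] <;> simp
  have key := arith3b _ (hmem χ hχN hχ1) _ (hmem ψ hψN hψ1)
  rw [hf, htst Θ (Or.inr hΘ)] at key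
  have hdegs : ∀ {σ : ℤ} {n m : ℕ}, (σ = 1 ∨ σ = -1) → σ * (n : ℤ) = m → 0 < m →
      σ = 1 ∧ n = m := by
    intro σ n m hσ h1 hm
    rcases hσ with rfl | rfl <;> omega
  have hdegs' : ∀ {σ : ℤ} {n m : ℕ}, (σ = 1 ∨ σ = -1) → σ * (n : ℤ) = -m → 0 < m →
      σ = -1 ∧ n = m := by
    intro σ n m hσ h1 hm
    rcases hσ with rfl | rfl <;> omega
  -- an involution
  have h2 : Fact (Nat.Prime 2) := ⟨Nat.prime_two⟩
  obtain ⟨s, hs⟩ := exists_prime_orderOf_dvd_card' (G := G) 2 (by rw [hcard]; norm_num)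
  have hs2 : s ^ 2 = 1 := by rw [← hs]; exact pow_orderOf_eq_one s
  have hs2' : s * s = 1 := by rw [← pow_two]; exact hs2
  have hs1 : s ≠ 1 := by rintro rfl; rw [orderOf_one] at hs; omega
  have hs7 : ¬ 7 ∣ orderOf s := by rw [hs]; norm_num
  have hint : ∀ φ : IrrCharacter G, φ ≠ ⟨1, isIrr_one⟩ → ∃ z : ℤ, (φ : G → ℂ) s = z ∧
      |z| < charDegree (φ : G → ℂ) ∧ (4 : ℤ) ∣ charDegree (φ : G → ℂ) - z := fun φ hφ =>
    InvolColumn.exists_int (LargePrime.commutator_eq_top (not_comm hcard)) φ.2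
      (fun h' => hφ (Subtype.ext h')) hs2 hs1
  -- the general computation
  have main : ∀ χ ψ : IrrCharacter G, χ ≠ ⟨1, isIrr_one⟩ → ψ ≠ ⟨1, isIrr_one⟩ →
      (∀ f : IrrCharacter G → ℂ, ∑ φ ∈ NE, f φ = f ⟨1, isIrr_one⟩ + (f χ + f ψ)) →
      ε χ = -1 → charDegree (χ : G → ℂ) = 69 → ε ψ = 1 → charDegree (ψ : G → ℂ) = 92 →
      d = 1 → charDegree (Θ : G → ℂ) = 24 → False := by
    intro χ ψ hχ1 hψ1 hsum hεχ hdχ hεψ hdψ hd hdΘ
    obtain ⟨a, ha, ha1, ha2⟩ := hint χ hχ1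
    obtain ⟨b, hb, hb1, hb2⟩ := hint ψ hψ1
    have hc : (Θ : G → ℂ) s = 1 - a + b := by
      have h1 := B.kb.rel Θ hΘ s hs7
      rw [hsum, B.kb.eps_one, hεχ, hεψ, hd, ha, hb] at h1
      simp only [Pi.one_apply] at h1
      push_cast at h1
      linear_combination -h1
    have h1 := BlockIndex.sum_eq_of_odd B hR (by norm_num) h (by decide) hΘ hs2' hs2'
    rw [hsum, B.kb.eps_one, hεχ, hεψ, hd, ha, hb, hc, irr_one_eq_charDegree χ.2,
      irr_one_eq_charDegree ψ.2, irr_one_eq_charDegree Θ.2, hdχ, hdψ, hdΘ] at h1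
    simp only [Pi.one_apply] at h1
    rw [hdχ] at ha1 ha2
    rw [hdψ] at hb1 hb2
    refine no_column ha1 hb1 ha2 hb2 ?_ ?_
    swap
    · obtain ⟨c, hc', hc1, -⟩ := hint Θ (by
        rintro rfl
        exact Finset.disjoint_left.1 B.kb.disj B.kb.one_mem hΘ)
      rw [hc, hdΘ] at *
      have h4 : c = 1 - a + b := by
        have : ((1 - a + b : ℤ) : ℂ) = c := by push_cast; exact hc'
        exact_mod_cast this.symm
      rw [← h4]
      exact hc1
    have h3 : (552 - 8 * a * a + 6 * b * b : ℂ) = 23 * (1 - a + b) * (1 - a + b) := by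
      push_cast at h1
      linear_combination 552 * h1
    exact_mod_cast h3
  have hd24 : ∀ w : ℤ, w = 24 → d * (charDegree (Θ : G → ℂ) : ℤ) = w →
      d = 1 ∧ charDegree (Θ : G → ℂ) = 24 := by
    rintro w rfl hw
    exact hdegs B.kb.hd hw (by norm_num)
  simp at key
  rcases key with ⟨k1, k2⟩ | ⟨k1, k2⟩
  · obtain ⟨e1, e2⟩ := hdegs' (m := 69) (B.kb.eps χ hχN) (by rw [k1]; norm_num) (by norm_num)
    obtain ⟨e3, e4⟩ := hdegs (m := 92) (B.kb.eps ψ hψN) (by rw [k2]; norm_num) (by norm_num)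
    obtain ⟨e5, e6⟩ := hd24 24 rfl (by rw [← hrel, k1, k2]; norm_num)
    exact main χ ψ hχ1 hψ1 hsum e1 e2 e3 e4 e5 e6
  · obtain ⟨e1, e2⟩ := hdegs' (m := 69) (B.kb.eps ψ hψN) (by rw [k2]; norm_num) (by norm_num)
    obtain ⟨e3, e4⟩ := hdegs (m := 92) (B.kb.eps χ hχN) (by rw [k1]; norm_num) (by norm_num)
    obtain ⟨e5, e6⟩ := hd24 24 rfl (by rw [← hrel, k1, k2]; norm_num)
    exact main ψ χ hψ1 hχ1 (fun f => by rw [hsum]; ring) e1 e2 e3 e4 e5 e6

theorem arith6' {a n : ℕ} {σ v : ℤ} (hn : n < 15647) (ha : 2 ≤ a) (hd : n ∣ 3179520)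
    (h : (σ = 1 ∧ n = 7 * a + 1) ∨ (σ = -1 ∧ n + 1 = 7 * (a + 1))) (hv : AdmAt n v)
    (hneg : σ * v < 0) : n = 540 ∨ n = 13824 := by
  have h1 := arith6 a (by omega) ha
  rw [Bool.and_eq_true] at h1
  obtain ⟨h2, h3⟩ := h1
  have h4 := Nat.mod_eq_zero_of_dvd hd
  rcases h with ⟨rfl, rfl⟩ | ⟨rfl, h⟩
  · left
    rw [h4] at h2
    simp at h2
    unfold AdmAt at hv
    omega
  · right
    have h5 : n = 7 * a + 6 := by omega
    subst h5
    rw [h4] at h3
    simp at h3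
    unfold AdmAt at hv
    omega

theorem arith6k : ∀ i < 12, (529920 / 2 ^ i) % 7 ≠ 1 := by decide

theorem false_of_540 {k n : ℕ} (h11 : 11 ∣ k) (hn : n * (42 * k) = 244823040) (hn7 : n % 7 = 1)
    (hd : 540 * (7 * k) ∣ 244823040) : False := by
  obtain ⟨c, rfl⟩ := h11
  have h1 : c * n = 529920 := by
    have : 462 * (c * n) = 462 * 529920 := by
      rw [show 462 * 529920 = 244823040 by norm_num, ← hn]; ring
    exact Nat.eq_of_mul_eq_mul_left (by norm_num) this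
  have h2 : 41580 * c ∣ 41580 * 5888 := by
    have : 540 * (7 * (11 * c)) = 41580 * c := by ring
    rw [← this]
    norm_num at hd ⊢
    exact hd
  have h3 := Nat.dvd_of_mul_dvd_mul_left (by norm_num) h2
  have h4 : c ∣ 2 ^ 8 * 23 := by norm_num; exact h3
  obtain ⟨x, y, hx, hy, hxy⟩ := (Nat.dvd_mul).1 h4
  obtain ⟨i, hi, rfl⟩ := (Nat.dvd_prime_pow Nat.prime_two).1 hx
  rcases (Nat.dvd_prime (by norm_num)).1 hy with rfl | rfl
  · rw [mul_one] at hxy
    subst hxy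
    have h5 : n = 529920 / 2 ^ i := by
      rw [← h1, Nat.mul_div_cancel_left _ (by positivity)]
    exact arith6k i (by omega) (by rw [← h5]; exact hn7)
  · subst hxy
    have h5 : 2 ^ i * n = 23040 := by
      have : 23 * (2 ^ i * n) = 23 * 23040 := by
        rw [show 23 * 23040 = 529920 by norm_num, ← h1]; ring
      exact Nat.eq_of_mul_eq_mul_left (by norm_num) this
    have hi9 : i < 9 := by omega
    interval_cases i <;> omega

theorem false_of_13824 {k n : ℕ} (h11 : 11 ∣ k) (hn : n * (42 * k) = 244823040)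
    (hn7 : n % 7 = 1) (hd : 13824 * (7 * k) ∣ 244823040) (h23 : ¬ 23 ∣ k) : False := by
  obtain ⟨c, rfl⟩ := h11
  have h1 : c * n = 529920 := by
    have : 462 * (c * n) = 462 * 529920 := by
      rw [show 462 * 529920 = 244823040 by norm_num, ← hn]; ring
    exact Nat.eq_of_mul_eq_mul_left (by norm_num) this
  have h2 : 1064448 * c ∣ 1064448 * 230 := by
    have : 13824 * (7 * (11 * c)) = 1064448 * c := by ring
    rw [← this]
    norm_num at hd ⊢
    exact hd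
  have h3 := Nat.dvd_of_mul_dvd_mul_left (by norm_num) h2
  have h4 : c ∣ 10 := by
    have h5 : Nat.Coprime c 23 := ((Nat.Prime.coprime_iff_not_dvd (by norm_num)).2
      (fun h => h23 (h.mul_left 11))).symm
    exact h5.dvd_of_dvd_mul_left (by norm_num; exact h3)
  have h5 : c ≤ 10 := Nat.le_of_dvd (by norm_num) h4
  interval_cases c <;> omega

/-- `e₇ = 6`. -/
theorem six_false (hcard : Nat.card G = 244823040) {R : Sylow 7 G} {K : Subgroup G}
    (h : IsLocal 7 R 6 K) (h11 : 11 ∣ Nat.card K) : False := by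
  classical
  have hp : Fact (Nat.Prime 7) := ⟨by norm_num⟩
  have hR := card_seven hcard R
  obtain ⟨M, NE, X, ε, d, S, B⟩ := exists_blk (not_prime hcard) 7 (by norm_num) R hR 6 1
    (BlockIndex.relIndex_eq h) (by norm_num)
  have B' := SymBlock.sym_of_blk (by norm_num) hR B
  let P23 : Sylow 23 G := default
  choose v hv1 hv2 using fun χ : IrrCharacter G => adm hcard P23 χ
  have hcop : Nat.Coprime 7 (Nat.card K) :=
    (Nat.Prime.coprime_iff_not_dvd (by norm_num)).2 h.not_dvd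
  have hKb : K ≠ ⊥ := by rintro rfl; simp at h11
  obtain ⟨Θ, hΘ⟩ : ∃ Θ, Θ ∈ X := by
    apply Finset.card_pos.1
    rw [B.kb.card_X]; norm_num
  have hrel := sum_V_eq hcard P23 (by norm_num) B hΘ (v := v) hv1
  have hX : X = {Θ} := by
    obtain ⟨Θ', hX⟩ := Finset.card_eq_one.1 B.kb.card_X
    rw [hX] at hΘ ⊢
    rw [Finset.mem_singleton.1 hΘ]
  have hsum : ∑ χ ∈ NE ∪ X, SymBlock.sg NE ε d χ * v χ = 0 := by
    rw [Finset.sum_union B.kb.disj, hX, Finset.sum_singleton]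
    have h1 : ∑ χ ∈ NE, SymBlock.sg NE ε d χ * v χ = ∑ χ ∈ NE, ε χ * v χ :=
      Finset.sum_congr rfl fun χ hχ => by rw [SymBlock.sg, if_pos hχ]
    rw [h1, hrel, SymBlock.sg, if_neg (Finset.disjoint_right.1 B.kb.disj hΘ)]
    ring
  have hv22 : v ⟨1, isIrr_one⟩ = 22 := by
    have := (hv1 ⟨1, isIrr_one⟩).symm.trans (v_one hcard P23)
    exact_mod_cast this
  rw [← Finset.add_sum_erase _ _ B'.one_mem, B'.s_one, hv22] at hsum
  obtain ⟨χ, hχ, hneg⟩ : ∃ χ ∈ (NE ∪ X).erase ⟨1, isIrr_one⟩, SymBlock.sg NE ε d χ * v χ < 0 := by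
    by_contra hcon
    push Not at hcon
    have h5 := Finset.sum_nonneg hcon
    have h6 : (22 : ℤ) + ∑ χ ∈ (NE ∪ X).erase ⟨1, isIrr_one⟩, SymBlock.sg NE ε d χ * v χ = 0 := by
      rw [one_mul] at hsum
      exact hsum
    linarith
  have hχm := Finset.mem_of_mem_erase hχ
  obtain ⟨a, ha, hdeg, -⟩ := B'.data K h.le_centralizer hcop hKb χ hχm (Finset.ne_of_mem_erase hχ)
  have hCI := B'.dvd χ hχm _ h.card_centralizer
  rw [hcard] at hCI
  have hdvd : charDegree (χ : G → ℂ) ∣ 3179520 := by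
    obtain ⟨c, hc⟩ := h11
    have h2 : charDegree (χ : G → ℂ) * 77 ∣ 3179520 * 77 :=
      Dvd.dvd.trans ⟨c, by rw [hc]; ring⟩ (hCI.trans (by norm_num))
    exact Nat.dvd_of_mul_dvd_mul_right (by norm_num) h2
  have hG := h.card_eq
  rw [hcard] at hG
  have hn : Nat.card (Sylow 7 G) * (42 * Nat.card K) = 244823040 := by rw [hG]
  have hn7 : Nat.card (Sylow 7 G) % 7 = 1 := card_sylow_modEq_one 7 G
  rcases arith6' (charDegree_lt hcard χ) ha hdvd hdeg (hv2 χ) hneg with h1 | h1 <;> rw [h1] at hCI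
  · exact false_of_540 h11 hn hn7 hCI
  · exact false_of_13824 h11 hn hn7 hCI (ElevenCases.not_dvd_card_K hcard (by norm_num) hR h)

/-- **T1.** -/
theorem not_seven_dvd (hcard : Nat.card G = 244823040) {P : Sylow 11 G} {e : ℕ} {K : Subgroup G}
    (h : IsLocal 11 P e K) : ¬ 7 ∣ Nat.card K := by
  intro h7
  have hp11 : Fact (Nat.Prime 11) := ⟨by norm_num⟩
  have hp7 : Fact (Nat.Prime 7) := ⟨by norm_num⟩
  have hP : Nat.card P = 11 := ElevenTwo.card_eleven hcard P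
  obtain ⟨⟨x, hx⟩, hox⟩ := exists_prime_orderOf_dvd_card' 7 h7
  have hox' : orderOf x = 7 := by rwa [← Subgroup.orderOf_coe] at hox
  have hxC := h.le_centralizer hx
  -- the Sylow 7-subgroup
  obtain ⟨R, hR⟩ := IsPGroup.exists_le_sylow (IsPGroup.of_card (n := 1)
    (by rw [Nat.card_zpowers, hox', pow_one]) : IsPGroup 7 (zpowers x))
  have hRx : (R : Subgroup G) = zpowers x := by
    refine (Subgroup.eq_of_le_of_card_ge hR ?_).symm
    rw [Nat.card_zpowers, hox']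
    exact (card_seven hcard R).le
  obtain ⟨e7, K7, hl⟩ := exists_local (not_comm hcard) (p := 7)
    (by rw [hcard]; norm_num) (by rw [hcard]; norm_num) R
  have hPx : (P : Subgroup G) ≤ centralizer (R : Set G) := by
    intro u hu
    change u ∈ centralizer ((R : Subgroup G) : Set G)
    rw [hRx, mem_centralizer_iff]
    intro y hy
    obtain ⟨i, rfl⟩ := mem_zpowers_iff.1 hy
    exact ((show Commute x u from (mem_centralizer_iff.1 hxC u hu).symm).zpow_left i).eq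
  have h11 : 11 ∣ Nat.card K7 := by
    have h6 : 11 ∣ Nat.card (centralizer (R : Set G)) := by
      have h7 := Subgroup.card_dvd_of_le hPx
      have h8 : Nat.card (P : Subgroup G) = 11 := hP
      rwa [h8] at h7
    rw [hl.card_centralizer] at h6
    exact (Nat.Prime.dvd_mul (by norm_num)).1 h6 |>.resolve_left (by norm_num)
  have he : e7 = 2 ∨ e7 = 3 ∨ e7 = 6 := by
    have h1 := hl.one_lt
    have h2 := hl.dvd_pred
    have h3 : e7 ≤ 6 := Nat.le_of_dvd (by norm_num) h2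
    interval_cases e7 <;> simp_all
  rcases he with rfl | rfl | rfl
  · exact two_false hcard hl h11
  · exact three_false hcard hl h11
  · exact six_false hcard hl h11

end Cfsg.Agent.SporadicA.M24.ElevenSeven
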