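import Mathlib

/-!
# Arithmetic for the case `|N(P₁₁) : C(P₁₁)| = 10`, `|C(P₁₁)| = 132` in a simple group of order
`244823040`

Degrees and values at an involution of the characters of the principal `5`-block.
-/

set_option autoImplicit false

namespace Cfsg.Agent.SporadicA.M24.ElevenTwelveArith

/-- The signed degrees of the principal `5`-block with the signed sums over `P₂₃ - 1`
(`24` is excluded). -/
def cand : List (ℤ × ℤ) :=
  [(11, -11), (46, 0), (-69, 0), (126, -11), (161, 0), (-184, 0), (231, 22), (-264, 11), (276, 0),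
   (-414, 0), (506, 0), (576, 22), (-644, 0), (736, 0), (-759, 0), (896, -22), (966, 0),
   (-1104, 0), (-1449, 0), (1656, 0), (1771, 0), (-2024, 0), (2576, 0), (-2944, 0), (3036, 0),
   (-3864, 0), (4416, 0), (-4554, 0), (-5544, -22), (5796, 0), (6336, -11), (-6624, 0),
   (-7084, 0), (8096, 0), (9856, 11), (-10304, 0), (10626, 0), (-12144, 0), (15456, 0)]

/-- The sum over the nontrivial elements of `P₂₃` in terms of the degree. -/
def AdmAt (n : ℕ) (s : ℤ) : Prop :=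
  (n % 23 = 0 ∧ s = 0) ∨ (n % 23 = 1 ∧ s = 22) ∨ (n % 23 = 22 ∧ s = -22) ∨
    (n % 23 = 11 ∧ s = -11) ∨ (n % 23 = 12 ∧ s = 11)

instance (n : ℕ) (s : ℤ) : Decidable (AdmAt n s) := by unfold AdmAt; infer_instance

def sOf (n : ℕ) : ℤ :=
  if n % 23 = 0 then 0 else if n % 23 = 1 then 22 else if n % 23 = 22 then -22 else
    if n % 23 = 11 then -11 else 11

theorem AdmAt.eq {n : ℕ} {s : ℤ} (h : AdmAt n s) : s = sOf n ∧
    (n % 23 = 0 ∨ n % 23 = 1 ∨ n % 23 = 22 ∨ n % 23 = 11 ∨ n % 23 = 12) := by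
  unfold AdmAt at h
  unfold sOf
  rcases h with ⟨h1, h2⟩ | ⟨h1, h2⟩ | ⟨h1, h2⟩ | ⟨h1, h2⟩ | ⟨h1, h2⟩ <;> simp [h1, h2]

def adm (n : ℕ) : Bool :=
  n % 23 == 0 || n % 23 == 1 || n % 23 == 22 || n % 23 == 11 || n % 23 == 12

theorem AdmAt.adm_eq {n : ℕ} {s : ℤ} (h : AdmAt n s) : adm n = true := by
  have := h.eq.2
  simp only [adm, Bool.or_eq_true, beq_iff_eq]
  tauto

/-- The test for the list `cand`. -/
def chk5 (n : ℕ) : Bool :=
  !(adm n && n * n ≤ 244823040) || n == 1 || n == 24 ||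
    ((!(n % 5 == 1) || cand.contains ((n : ℤ), sOf n)) &&
      (!(n % 5 == 4) || cand.contains (-(n : ℤ), -sOf n)))

theorem search5 : ∀ a < 9, ∀ b < 3, ∀ c < 2, ∀ d < 2, ∀ e < 2,
    chk5 (2 ^ a * 3 ^ b * 7 ^ c * 11 ^ d * 23 ^ e) = true := by
  decide +kernel

theorem smooth5 {n : ℕ} (h : n ∣ 4080384) :
    ∃ a < 9, ∃ b < 3, ∃ c < 2, ∃ d < 2, ∃ e < 2, n = 2 ^ a * 3 ^ b * 7 ^ c * 11 ^ d * 23 ^ e := by
  have h1 : n ∣ 2 ^ 8 * (3 ^ 2 * (7 ^ 1 * (11 ^ 1 * 23 ^ 1))) := by norm_num; exact h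
  obtain ⟨x, y, hx, hy, hxy⟩ := (Nat.dvd_mul).1 h1
  obtain ⟨z, w, hz, hw, hzw⟩ := (Nat.dvd_mul).1 hy
  obtain ⟨s, t, hs, ht, hst⟩ := (Nat.dvd_mul).1 hw
  obtain ⟨u, v, hu, hv, huv⟩ := (Nat.dvd_mul).1 ht
  obtain ⟨a, ha, rfl⟩ := (Nat.dvd_prime_pow Nat.prime_two).1 hx
  obtain ⟨b, hb, rfl⟩ := (Nat.dvd_prime_pow Nat.prime_three).1 hz
  obtain ⟨c, hc, rfl⟩ := (Nat.dvd_prime_pow (by norm_num : Nat.Prime 7)).1 hs
  obtain ⟨d, hd, rfl⟩ := (Nat.dvd_prime_pow (by norm_num : Nat.Prime 11)).1 hu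
  obtain ⟨e, he, rfl⟩ := (Nat.dvd_prime_pow (by norm_num : Nat.Prime 23)).1 hv
  exact ⟨a, by omega, b, by omega, c, by omega, d, by omega, e, by omega, by
    rw [← hxy, ← hzw, ← hst, ← huv]; ring⟩

/-- Every signed degree of the principal `5`-block is in the list. -/
theorem mem_cand {n : ℕ} {σ s : ℤ} (hn : n ∣ 4080384) (hs : AdmAt n s) (hsq : n * n ≤ 244823040)
    (h1 : n ≠ 1) (h24 : n ≠ 24) (hσ : σ = 1 ∨ σ = -1) (h5 : (5 : ℤ) ∣ n - σ) :
    (σ * n, σ * s) ∈ cand := by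
  obtain ⟨a, ha, b, hb, c, hc, d, hd, e, he, h⟩ := smooth5 hn
  have h2 := search5 a ha b hb c hc d hd e he
  rw [← h] at h2
  have h3 := hs.adm_eq
  have h4 := hs.eq.1
  simp only [chk5, Bool.or_eq_true, Bool.not_eq_true', Bool.and_eq_false_iff, h3, beq_iff_eq, h1,
    h24, decide_eq_false_iff_not, not_le, Bool.and_eq_true, beq_eq_false_iff_ne, false_or,
    or_false, Bool.true_eq_false, ne_eq, List.contains_eq_mem, decide_eq_true_eq] at h2
  have h5' : ¬ 244823040 < n * n := by omega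
  simp only [h5', false_or] at h2
  obtain ⟨h6, h7⟩ := h2
  subst h4
  rcases hσ with rfl | rfl
  · rcases h6 with h6 | h6
    · omega
    · rw [one_mul, one_mul]; exact h6
  · rcases h7 with h7 | h7
    · omega
    · rw [neg_one_mul, neg_one_mul]; exact h7

/-- The test for the members of `B₀(5) ∩ B₀(11)`. -/
def chk55 (n : ℕ) : Bool :=
  !(adm n && n * n ≤ 244823040 && n ≠ 1) ||
    (!(n % 55 == 21 || n % 55 == 34) || (n == 736 || n == 5796))

theorem search55 : ∀ a < 9, ∀ b < 3, ∀ c < 2, ∀ d < 2, ∀ e < 2,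
    chk55 (2 ^ a * 3 ^ b * 7 ^ c * 11 ^ d * 23 ^ e) = true := by
  decide +kernel

/-- The members of `B₀(5) ∩ B₀(11)` of opposite signs. -/
theorem special {n : ℕ} {σ a s : ℤ} (hn : n ∣ 4080384) (hs : AdmAt n s)
    (hsq : n * n ≤ 244823040) (h1 : n ≠ 1) (hσ : σ = 1 ∨ σ = -1) (h5 : (5 : ℤ) ∣ n - σ)
    (ha : σ * a = -1) (h11 : (11 : ℤ) ∣ n - a) : σ = 1 ∧ (n = 736 ∨ n = 5796) := by
  obtain ⟨i, hi, j, hj, c, hc, d, hd, e, he, h⟩ := smooth5 hn
  have h2 := search55 i hi j hj c hc d hd e he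
  rw [← h] at h2
  have h3 := hs.adm_eq
  have h4 : n % 55 = 21 ∨ n % 55 = 34 := by
    rcases hσ with rfl | rfl
    · have : a = -1 := by omega
      subst this; omega
    · have : a = 1 := by omega
      subst this; omega
  have h5' : ¬ 244823040 < n * n := by omega
  simp only [chk55, Bool.or_eq_true, Bool.not_eq_true', Bool.and_eq_false_iff, h3, beq_iff_eq, h1,
    decide_eq_false_iff_not, not_le, Bool.true_eq_false, ne_eq, not_false_eq_true, decide_true,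
    false_or, or_false, h5', Bool.or_eq_false_iff, beq_eq_false_iff_ne] at h2
  have h6 : n = 736 ∨ n = 5796 := by
    rcases h2 with h2 | h2
    · exfalso; omega
    · exact h2
  refine ⟨?_, h6⟩
  rcases hσ with rfl | rfl
  · rfl
  · rcases h6 with rfl | rfl <;> omega

/-- The surviving signed degrees: the first one is the special one. -/
def sets : List (ℤ × ℤ × ℤ × ℤ) :=
  [(736, -184, 896, -1449), (736, 11, 11, -759), (736, 11, 6336, -7084),
   (736, 1771, 3036, -5544), (5796, -69, -184, -5544), (5796, -69, 896, -6624),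
   (5796, 11, -264, -5544), (5796, 11, 6336, -12144), (5796, 161, -414, -5544),
   (5796, 506, -759, -5544), (5796, 1771, -2024, -5544)]

def chkSets : Bool :=
  [(736 : ℤ), 5796].all fun r1 => cand.all fun p2 => cand.all fun p3 =>
    if p2.1.natAbs ≤ p3.1.natAbs then
      !(cand.contains (-(1 + r1 + p2.1 + p3.1), -(22 + p2.2 + p3.2))) ||
        (!(decide (p3.1.natAbs ≤ (1 + r1 + p2.1 + p3.1).natAbs)) ||
          sets.contains (r1, p2.1, p3.1, -(1 + r1 + p2.1 + p3.1)))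
    else true

set_option maxRecDepth 4000 in
theorem chkSets_true : chkSets = true := by decide +kernel

theorem mem_sets {r1 : ℤ} {p2 p3 p4 : ℤ × ℤ} (h1 : r1 = 736 ∨ r1 = 5796) (h2 : p2 ∈ cand)
    (h3 : p3 ∈ cand) (h4 : p4 ∈ cand) (h23 : p2.1.natAbs ≤ p3.1.natAbs)
    (h34 : p3.1.natAbs ≤ p4.1.natAbs) (hr : 1 + r1 + p2.1 + p3.1 + p4.1 = 0)
    (hv : 22 + p2.2 + p3.2 + p4.2 = 0) : (r1, p2.1, p3.1, p4.1) ∈ sets := by
  have h := chkSets_true
  simp only [chkSets, List.all_eq_true] at h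
  have h5 := h r1 (by rcases h1 with rfl | rfl <;> simp) p2 h2 p3 h3
  rw [if_pos h23] at h5
  have e1 : -(1 + r1 + p2.1 + p3.1) = p4.1 := by linarith
  have e2 : -(22 + p2.2 + p3.2) = p4.2 := by linarith
  have e3 : (1 + r1 + p2.1 + p3.1).natAbs = p4.1.natAbs := by rw [← Int.natAbs_neg, e1]
  rw [e1, e2, e3] at h5
  simp only [List.contains_eq_mem, h4, h34, Prod.mk.eta, decide_true, Bool.not_true,
    Bool.false_or, decide_eq_true_eq] at h5
  exact h5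

/-! ### The columns -/

/-- The possible values at the involution. -/
def zc (h D m : ℕ) : List ℤ :=
  ((List.range (2 * D / m)).map fun k => (D : ℤ) - m * (k + 1 : ℕ)).filter fun z =>
    (h * z.natAbs) % D == 0 && decide ((1 + z.natAbs * z.natAbs) * h ≤ 244823040)

theorem mem_zc {h D m : ℕ} {z : ℤ} (hm : 0 < m) (h1 : (m : ℤ) ∣ D - z)
    (h2 : |z| < D) (h3 : (D : ℤ) ∣ h * z) (h4 : (1 + z ^ 2) * h ≤ 244823040) : z ∈ zc h D m := by
  obtain ⟨k, hk⟩ := h1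
  rw [abs_lt] at h2
  have hm' : (0 : ℤ) < m := by exact_mod_cast hm
  have hk0 : 0 < k := by
    by_contra hcon
    have : (m : ℤ) * k ≤ 0 := mul_nonpos_of_nonneg_of_nonpos hm'.le (by omega)
    omega
  obtain ⟨n, rfl⟩ := Int.eq_ofNat_of_zero_le hk0.le
  have hn : n ≤ 2 * D / m := by
    rw [Nat.le_div_iff_mul_le hm]
    have : (m : ℤ) * n < 2 * D := by rw [← hk]; omega
    have h5 : m * n < 2 * D := by exact_mod_cast this
    rw [mul_comm]; omega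
  have hn0 : 0 < n := by exact_mod_cast hk0
  unfold zc
  rw [List.mem_filter, List.mem_map]
  refine ⟨⟨n - 1, List.mem_range.2 (by omega), ?_⟩, ?_⟩
  · rw [Nat.sub_add_cancel hn0]
    have : (D : ℤ) - z = m * n := hk
    linarith
  · rw [Bool.and_eq_true, beq_iff_eq, decide_eq_true_eq]
    constructor
    · apply Nat.mod_eq_zero_of_dvd
      have h5 := Int.natAbs_dvd_natAbs.2 h3
      rwa [Int.natAbs_mul, Int.natAbs_natCast, Int.natAbs_natCast] at h5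
    · have h5 : ((1 + z.natAbs * z.natAbs : ℕ) : ℤ) = 1 + z ^ 2 := by
        push_cast
        rw [← sq, sq_abs]
      have h6 : ((1 + z.natAbs * z.natAbs : ℕ) : ℤ) * h ≤ 244823040 := by rw [h5]; exact h4
      exact_mod_cast h6

/-- The congruence for the values. -/
def md (D : ℕ) : ℕ := if D % 11 = 0 then 220 else 20

/-- Bound for the order of the complement of `P₅` in its centraliser. -/
def kk (D1 D2 D3 D4 : ℕ) : ℕ :=
  let g := Nat.gcd (Nat.gcd (48964608 / D1) (48964608 / D2))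
    (Nat.gcd (48964608 / D3) (48964608 / D4))
  if 11 ∣ g then g / 11 else g

/-- The condition for the values `z₁, z₂, z₃` of the characters of signed degrees `r₁, r₂, r₃`. -/
def okCol (h : ℕ) (r1 r2 r3 r4 z1 z2 z3 : ℤ) : Bool :=
  let w := -(1 + r1.sign * z1 + r2.sign * z2 + r3.sign * z3)
  let z4 := r4.sign * w
  let D4 := r4.natAbs
  (decide (z4.natAbs < D4) && (h * z4.natAbs) % D4 == 0 &&
    decide ((1 + z1 ^ 2 + z2 ^ 2 + z3 ^ 2 + z4 ^ 2) * h ≤ 244823040)) &&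
  (let T := r1 * r2 * r3 * r4 + z1 ^ 2 * r2 * r3 * r4 + z2 ^ 2 * r1 * r3 * r4 +
      z3 ^ 2 * r1 * r2 * r4 + z4 ^ 2 * r1 * r2 * r3
   let L := r1 * r2 * r3 * r4
   decide (0 ≤ T * L.sign) &&
    (h * h * kk r1.natAbs r2.natAbs r3.natAbs r4.natAbs * T.natAbs) % (244823040 * L.natAbs) == 0)

def chkCol (h : ℕ) (r1 r2 r3 r4 : ℤ) : Bool :=
  (zc h r2.natAbs (md r2.natAbs)).all fun z2 => (zc h r3.natAbs (md r3.natAbs)).all fun z3 =>
    (zc h r1.natAbs 220).all fun z1 => !(okCol h r1 r2 r3 r4 z1 z2 z3)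

/-- The condition given by the character of degree `3840`. -/
def okH (h : ℕ) : Bool := !(zc h 3840 220).isEmpty

def chkAll (a b c : ℕ) : Bool :=
  let h := 23 * (2 ^ a * 3 ^ b * 7 ^ c)
  !(okH h) || sets.all fun s => chkCol h s.1 s.2.1 s.2.2.1 s.2.2.2

set_option maxRecDepth 10000 in
theorem chkAll_true : ∀ a < 11, ∀ b < 4, ∀ c < 2, chkAll a b c = true := by
  decide +kernel

/-- The data of a nontrivial character of the principal `5`-block: degree `D`, sign `σ`, sum `s`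
over `P₂₃ - 1`, average `a` over `x₁₁ K`, value `z` at the involution. -/
structure Dat (h k D : ℕ) (σ s a z : ℤ) : Prop where
  pos : 0 < D
  dvd : D * (5 * k) ∣ 244823040
  sq : D * D ≤ 244823040
  sign : σ = 1 ∨ σ = -1
  five : (5 : ℤ) ∣ D - σ
  adm : AdmAt D s
  avg : a = 0 ∨ ((a = 1 ∨ a = -1) ∧ (11 : ℤ) ∣ D - a ∧ (11 : ℤ) ∣ D - z)
  twenty : (20 : ℤ) ∣ D - z
  eleven : 11 ∣ D → (11 : ℤ) ∣ z
  lt : |z| < D
  omg : (D : ℤ) ∣ h * z
  ne24 : D ≠ 24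

namespace Dat

variable {h k D : ℕ} {σ s a z : ℤ}

theorem ne_one (d : Dat h k D σ s a z) : D ≠ 1 := by
  rintro rfl
  have h1 := d.lt
  have h2 := d.twenty
  rw [abs_lt] at h1
  omega

theorem dvd' (d : Dat h k D σ s a z) (hk : 12 ∣ k) : D ∣ 4080384 := by
  obtain ⟨m, rfl⟩ := hk
  have h1 := d.dvd
  have h2 : D * 60 ∣ 4080384 * 60 := by
    refine dvd_trans ⟨m, by ring⟩ (h1.trans (by norm_num))
  exact Nat.dvd_of_mul_dvd_mul_right (by norm_num) h2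

theorem dvd_kk (d : Dat h k D σ s a z) : k ∣ 48964608 / D := by
  obtain ⟨m, hm⟩ := d.dvd
  have h1 : 48964608 = D * (k * m) := by
    have : 5 * 48964608 = 5 * (D * (k * m)) := by rw [← show 244823040 = 5 * 48964608 by norm_num, hm]; ring
    exact Nat.eq_of_mul_eq_mul_left (by norm_num) this
  rw [h1, Nat.mul_div_cancel_left _ d.pos]
  exact ⟨m, rfl⟩

theorem sign_eq (d : Dat h k D σ s a z) : (σ * (D : ℤ)).sign = σ := by
  have h1 : (0 : ℤ) < D := by exact_mod_cast d.pos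
  rw [Int.sign_mul, Int.sign_eq_one_of_pos h1, mul_one]
  rcases d.sign with rfl | rfl <;> rfl

theorem natAbs_eq (d : Dat h k D σ s a z) : (σ * (D : ℤ)).natAbs = D := by
  rcases d.sign with rfl | rfl <;> simp

theorem mem_cand (d : Dat h k D σ s a z) (hk : 12 ∣ k) : (σ * (D : ℤ), σ * s) ∈ cand :=
  ElevenTwelveArith.mem_cand (d.dvd' hk) d.adm d.sq d.ne_one d.ne24 d.sign d.five

theorem mem_zc (d : Dat h k D σ s a z) (hn : (1 + z ^ 2) * h ≤ 244823040) : z ∈ zc h D (md D) := by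
  refine ElevenTwelveArith.mem_zc (by unfold md; split_ifs <;> norm_num) ?_ d.lt d.omg hn
  unfold md
  split_ifs with h11
  · have h1 := d.eleven (Nat.dvd_of_mod_eq_zero h11)
    have h2 : (11 : ℤ) ∣ D := by exact_mod_cast Nat.dvd_of_mod_eq_zero h11
    have h3 := d.twenty
    have h4 : (11 : ℤ) ∣ D - z := dvd_sub h2 h1
    push_cast
    omega
  · exact d.twenty

end Dat

theorem dvd_kk_of {k D1 D2 D3 D4 : ℕ} (h11 : ¬ 11 ∣ k) (h1 : k ∣ 48964608 / D1)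
    (h2 : k ∣ 48964608 / D2) (h3 : k ∣ 48964608 / D3) (h4 : k ∣ 48964608 / D4) :
    k ∣ kk D1 D2 D3 D4 := by
  have hg := Nat.dvd_gcd (Nat.dvd_gcd h1 h2) (Nat.dvd_gcd h3 h4)
  unfold kk
  simp only
  split_ifs with h
  · obtain ⟨m, hm⟩ := h
    rw [hm, Nat.mul_div_cancel_left _ (by norm_num)]
    rw [hm] at hg
    exact (Nat.Coprime.dvd_mul_left
      ((Nat.Prime.coprime_iff_not_dvd (by norm_num)).2 h11).symm).1 hg
  · exact hg

theorem smoothH {m : ℕ} (h : m ∣ 193536) :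
    ∃ a < 11, ∃ b < 4, ∃ c < 2, m = 2 ^ a * 3 ^ b * 7 ^ c := by
  have h1 : m ∣ 2 ^ 10 * (3 ^ 3 * 7 ^ 1) := by norm_num; exact h
  obtain ⟨x, y, hx, hy, hxy⟩ := (Nat.dvd_mul).1 h1
  obtain ⟨z, w, hz, hw, hzw⟩ := (Nat.dvd_mul).1 hy
  obtain ⟨a, ha, rfl⟩ := (Nat.dvd_prime_pow Nat.prime_two).1 hx
  obtain ⟨b, hb, rfl⟩ := (Nat.dvd_prime_pow Nat.prime_three).1 hz
  obtain ⟨c, hc, rfl⟩ := (Nat.dvd_prime_pow (by norm_num : Nat.Prime 7)).1 hw
  exact ⟨a, by omega, b, by omega, c, by omega, by rw [← hxy, ← hzw]; ring⟩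

/-- The numerical data of the principal `5`-block. -/
structure All (h k : ℕ) (D1 D2 D3 D4 : ℕ) (σ1 s1 a1 z1 σ2 s2 a2 z2 σ3 s3 a3 z3 σ4 s4 a4 z4 : ℤ) :
    Prop where
  k12 : 12 ∣ k
  k11 : ¬ 11 ∣ k
  hH : ∃ m, h = 23 * m ∧ m ∣ 193536
  ok : okH h = true
  d1 : Dat h k D1 σ1 s1 a1 z1
  d2 : Dat h k D2 σ2 s2 a2 z2
  d3 : Dat h k D3 σ3 s3 a3 z3
  d4 : Dat h k D4 σ4 s4 a4 z4
  relD : 1 + σ1 * D1 + σ2 * D2 + σ3 * D3 + σ4 * D4 = 0
  relV : 22 + σ1 * s1 + σ2 * s2 + σ3 * s3 + σ4 * s4 = 0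
  relA : 1 + σ1 * a1 + σ2 * a2 + σ3 * a3 + σ4 * a4 = 0
  relZ : 1 + σ1 * z1 + σ2 * z2 + σ3 * z3 + σ4 * z4 = 0
  norm : (1 + z1 ^ 2 + z2 ^ 2 + z3 ^ 2 + z4 ^ 2) * h ≤ 244823040
  avg : ∃ n : ℕ, (n : ℚ) * 244823040 = h * h * k *
    (1 + z1 ^ 2 / (σ1 * D1) + z2 ^ 2 / (σ2 * D2) + z3 ^ 2 / (σ3 * D3) + z4 ^ 2 / (σ4 * D4))

theorem okCol_of {h k n : ℕ} {r1 r2 r3 r4 z1 z2 z3 z4 : ℤ}
    (hz : r4.sign * (-(1 + r1.sign * z1 + r2.sign * z2 + r3.sign * z3)) = z4)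
    (hlt : z4.natAbs < r4.natAbs) (hdvd : r4.natAbs ∣ h * z4.natAbs)
    (hn : (1 + z1 ^ 2 + z2 ^ 2 + z3 ^ 2 + z4 ^ 2) * h ≤ 244823040)
    (hkey : (n : ℤ) * 244823040 * (r1 * r2 * r3 * r4) = h * h * k *
      (r1 * r2 * r3 * r4 + z1 ^ 2 * r2 * r3 * r4 + z2 ^ 2 * r1 * r3 * r4 +
        z3 ^ 2 * r1 * r2 * r4 + z4 ^ 2 * r1 * r2 * r3))
    (hpos : 0 < h * h * k) (hk : k ∣ kk r1.natAbs r2.natAbs r3.natAbs r4.natAbs)
    (hL : r1 * r2 * r3 * r4 ≠ 0) : okCol h r1 r2 r3 r4 z1 z2 z3 = true := by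
  simp only [okCol, hz, Bool.and_eq_true, decide_eq_true_eq, beq_iff_eq]
  generalize r1 * r2 * r3 * r4 + z1 ^ 2 * r2 * r3 * r4 + z2 ^ 2 * r1 * r3 * r4 +
        z3 ^ 2 * r1 * r2 * r4 + z4 ^ 2 * r1 * r2 * r3 = T at *
  generalize r1 * r2 * r3 * r4 = L at *
  refine ⟨⟨⟨hlt, Nat.mod_eq_zero_of_dvd hdvd⟩, hn⟩, ?_, ?_⟩
  · have h1 : (0 : ℤ) < h * h * k := by exact_mod_cast hpos
    have h2 : 0 ≤ (h * h * k : ℤ) * (T * L.sign) := by
      have : (h * h * k : ℤ) * (T * L.sign) = n * 244823040 * (L * L.sign) := by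
        rw [← mul_assoc, ← hkey]; ring
      rw [this, Int.mul_sign_self]
      positivity
    exact nonneg_of_mul_nonneg_right h2 h1
  · obtain ⟨w, hw⟩ := hk
    apply Nat.mod_eq_zero_of_dvd
    rw [hw]
    refine ⟨w * n, ?_⟩
    have h3 := congrArg Int.natAbs hkey
    simp only [Int.natAbs_mul, Int.natAbs_natCast] at h3
    calc h * h * (k * w) * T.natAbs = w * (h * h * k * T.natAbs) := by ring
      _ = w * (n * (244823040 : ℤ).natAbs * L.natAbs) := by rw [h3]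
      _ = 244823040 * L.natAbs * (w * n) := by
        have : (244823040 : ℤ).natAbs = 244823040 := rfl
        rw [this]; ring

namespace All

variable {h k : ℕ} {D1 D2 D3 D4 : ℕ} {σ1 s1 a1 z1 σ2 s2 a2 z2 σ3 s3 a3 z3 σ4 s4 a4 z4 : ℤ}

theorem swap12 (A : All h k D1 D2 D3 D4 σ1 s1 a1 z1 σ2 s2 a2 z2 σ3 s3 a3 z3 σ4 s4 a4 z4) :
    All h k D2 D1 D3 D4 σ2 s2 a2 z2 σ1 s1 a1 z1 σ3 s3 a3 z3 σ4 s4 a4 z4 := by
  obtain ⟨n, hn⟩ := A.avg
  exact ⟨A.k12, A.k11, A.hH, A.ok, A.d2, A.d1, A.d3, A.d4, by linarith [A.relD],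
    by linarith [A.relV], by linarith [A.relA], by linarith [A.relZ],
    by have := A.norm; convert this using 2; ring, ⟨n, by rw [hn]; ring⟩⟩

theorem swap23 (A : All h k D1 D2 D3 D4 σ1 s1 a1 z1 σ2 s2 a2 z2 σ3 s3 a3 z3 σ4 s4 a4 z4) :
    All h k D1 D3 D2 D4 σ1 s1 a1 z1 σ3 s3 a3 z3 σ2 s2 a2 z2 σ4 s4 a4 z4 := by
  obtain ⟨n, hn⟩ := A.avg
  exact ⟨A.k12, A.k11, A.hH, A.ok, A.d1, A.d3, A.d2, A.d4, by linarith [A.relD],
    by linarith [A.relV], by linarith [A.relA], by linarith [A.relZ],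
    by have := A.norm; convert this using 2; ring, ⟨n, by rw [hn]; ring⟩⟩

theorem swap34 (A : All h k D1 D2 D3 D4 σ1 s1 a1 z1 σ2 s2 a2 z2 σ3 s3 a3 z3 σ4 s4 a4 z4) :
    All h k D1 D2 D4 D3 σ1 s1 a1 z1 σ2 s2 a2 z2 σ4 s4 a4 z4 σ3 s3 a3 z3 := by
  obtain ⟨n, hn⟩ := A.avg
  exact ⟨A.k12, A.k11, A.hH, A.ok, A.d1, A.d2, A.d4, A.d3, by linarith [A.relD],
    by linarith [A.relV], by linarith [A.relA], by linarith [A.relZ],
    by have := A.norm; convert this using 2; ring, ⟨n, by rw [hn]; ring⟩⟩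

/-- The case that the first character is the special one and the degrees are ordered. -/
theorem false_sorted (A : All h k D1 D2 D3 D4 σ1 s1 a1 z1 σ2 s2 a2 z2 σ3 s3 a3 z3 σ4 s4 a4 z4)
    (hs : σ1 * a1 = -1) (h23 : D2 ≤ D3) (h34 : D3 ≤ D4) : False := by
  have hh0 : (0 : ℤ) ≤ h := by positivity
  have hd1 := A.d1
  have ha1 : a1 ≠ 0 := by rintro rfl; rw [mul_zero] at hs; norm_num at hs
  obtain ⟨ha1', h11a, h11z⟩ := hd1.avg.resolve_left ha1
  obtain ⟨hσ1, hD1⟩ := special (hd1.dvd' A.k12) hd1.adm hd1.sq hd1.ne_one hd1.sign hd1.five hs h11a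
  have hs1 : s1 = 0 := by
    have := hd1.adm
    unfold AdmAt at this
    rcases hD1 with rfl | rfl <;> omega
  subst hσ1
  subst hs1
  have e1 : (1 : ℤ) * D1 = D1 := one_mul _
  have hmem := mem_sets (r1 := D1) (by rcases hD1 with rfl | rfl <;> norm_num)
    (A.d2.mem_cand A.k12) (A.d3.mem_cand A.k12) (A.d4.mem_cand A.k12)
    (by rw [A.d2.natAbs_eq, A.d3.natAbs_eq]; exact h23)
    (by rw [A.d3.natAbs_eq, A.d4.natAbs_eq]; exact h34)
    (by have := A.relD; linarith) (by have := A.relV; linarith)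
  obtain ⟨m, hm, hm'⟩ := A.hH
  obtain ⟨a, ha, b, hb, c, hc, hmm⟩ := smoothH hm'
  have hchk := chkAll_true a ha b hb c hc
  rw [chkAll, ← hmm, ← hm] at hchk
  simp only [A.ok, Bool.not_true, Bool.false_or] at hchk
  rw [List.all_eq_true] at hchk
  have h5 := hchk _ hmem
  simp only at h5
  rw [chkCol, List.all_eq_true] at h5
  have hN := A.norm
  have hz : ∀ z : ℤ, z ^ 2 ≤ z1 ^ 2 + z2 ^ 2 + z3 ^ 2 + z4 ^ 2 → (1 + z ^ 2) * h ≤ 244823040 := by
    intro z hz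
    refine le_trans (mul_le_mul_of_nonneg_right ?_ hh0) hN
    linarith
  have h6 := h5 z2 (by
    rw [A.d2.natAbs_eq]
    exact A.d2.mem_zc (hz z2 (by nlinarith [sq_nonneg z1, sq_nonneg z3, sq_nonneg z4])))
  rw [List.all_eq_true] at h6
  have h7 := h6 z3 (by
    rw [A.d3.natAbs_eq]
    exact A.d3.mem_zc (hz z3 (by nlinarith [sq_nonneg z1, sq_nonneg z2, sq_nonneg z4])))
  rw [List.all_eq_true] at h7
  have h8 := h7 z1 (by
    rw [Int.natAbs_natCast]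
    refine ElevenTwelveArith.mem_zc (by norm_num) ?_ hd1.lt hd1.omg
      (hz z1 (by nlinarith [sq_nonneg z2, sq_nonneg z3, sq_nonneg z4]))
    have h20 := hd1.twenty
    push_cast
    omega)
  rw [Bool.not_eq_true'] at h8
  rw [← Bool.not_eq_true] at h8
  apply h8
  -- the conditions
  have hr1 : ((D1 : ℤ)).sign = 1 := Int.sign_eq_one_of_pos (by exact_mod_cast hd1.pos)
  have hσ4 : σ4 * σ4 = 1 := by rcases A.d4.sign with h | h <;> rw [h] <;> norm_num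
  obtain ⟨n, hn⟩ := A.avg
  have hD1' : (D1 : ℚ) ≠ 0 := by exact_mod_cast hd1.pos.ne'
  have hD2' : (D2 : ℚ) ≠ 0 := by exact_mod_cast A.d2.pos.ne'
  have hD3' : (D3 : ℚ) ≠ 0 := by exact_mod_cast A.d3.pos.ne'
  have hD4' : (D4 : ℚ) ≠ 0 := by exact_mod_cast A.d4.pos.ne'
  have hq : ∀ {σ : ℤ}, σ = 1 ∨ σ = -1 → (σ : ℚ) ≠ 0 := by
    intro σ hσ
    rcases hσ with rfl | rfl <;> norm_num
  have q2 := hq A.d2.sign
  have q3 := hq A.d3.sign
  have q4 := hq A.d4.sign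
  refine okCol_of (z4 := z4) (k := k) (n := n) ?_ ?_ ?_ ?_ ?_ ?_ ?_ ?_
  · rw [hr1, A.d2.sign_eq, A.d3.sign_eq, A.d4.sign_eq]
    have h9 := A.relZ
    have h10 : -(1 + 1 * z1 + σ2 * z2 + σ3 * z3) = σ4 * z4 := by linarith
    rw [h10, ← mul_assoc, hσ4, one_mul]
  · rw [A.d4.natAbs_eq]
    have := abs_lt.1 A.d4.lt
    omega
  · rw [A.d4.natAbs_eq]
    have h9 := Int.natAbs_dvd_natAbs.2 A.d4.omg
    rwa [Int.natAbs_mul, Int.natAbs_natCast, Int.natAbs_natCast] at h9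
  · exact hN
  · have h9 : ((n : ℤ) * 244823040 * (((D1 : ℤ) * (σ2 * D2) * (σ3 * D3) * (σ4 * D4) : ℤ) : ℤ) : ℚ) =
        h * h * k * (((D1 : ℤ) * (σ2 * D2) * (σ3 * D3) * (σ4 * D4) +
          z1 ^ 2 * (σ2 * D2) * (σ3 * D3) * (σ4 * D4) + z2 ^ 2 * D1 * (σ3 * D3) * (σ4 * D4) +
          z3 ^ 2 * D1 * (σ2 * D2) * (σ4 * D4) + z4 ^ 2 * D1 * (σ2 * D2) * (σ3 * D3) : ℤ) : ℚ) := by
      push_cast
      push_cast at hn
      rw [hn]
      field_simp
    exact_mod_cast h9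
  · have hh : h ≠ 0 := by
      rintro rfl
      have : m = 0 := by omega
      subst this
      norm_num at hm'
    have hk0 : k ≠ 0 := by
      rintro rfl
      exact A.k11 (dvd_zero _)
    positivity
  · rw [Int.natAbs_natCast, A.d2.natAbs_eq, A.d3.natAbs_eq, A.d4.natAbs_eq]
    exact dvd_kk_of A.k11 hd1.dvd_kk A.d2.dvd_kk A.d3.dvd_kk A.d4.dvd_kk
  · have : (((D1 : ℤ) * (σ2 * D2) * (σ3 * D3) * (σ4 * D4) : ℤ) : ℚ) ≠ 0 := by
      push_cast
      positivity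
    exact_mod_cast this

/-- The case that the first character is the special one. -/
theorem false_first (A : All h k D1 D2 D3 D4 σ1 s1 a1 z1 σ2 s2 a2 z2 σ3 s3 a3 z3 σ4 s4 a4 z4)
    (hs : σ1 * a1 = -1) : False := by
  rcases le_total D2 D3 with h23 | h23 <;> rcases le_total D3 D4 with h34 | h34 <;>
    rcases le_total D2 D4 with h24 | h24
  · exact A.false_sorted hs h23 h34
  · exact A.false_sorted hs h23 h34
  · exact A.swap34.false_sorted hs h24 h34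
  · exact A.swap34.swap23.false_sorted hs h24 h23
  · exact A.swap23.false_sorted hs h23 h24
  · exact A.swap23.swap34.false_sorted hs h34 h24
  · exact A.swap23.swap34.swap23.false_sorted hs h34 h23
  · exact A.swap23.swap34.swap23.false_sorted hs h34 h23

theorem contra (A : All h k D1 D2 D3 D4 σ1 s1 a1 z1 σ2 s2 a2 z2 σ3 s3 a3 z3 σ4 s4 a4 z4) :
    False := by
  have key : ∀ {D : ℕ} {σ s a z : ℤ}, Dat h k D σ s a z → σ * a = -1 ∨ 0 ≤ σ * a := by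
    intro D σ s a z d
    rcases d.sign with rfl | rfl <;> rcases d.avg with rfl | ⟨rfl | rfl, -⟩ <;> norm_num
  have hA := A.relA
  rcases key A.d1 with h1 | h1
  · exact A.false_first h1
  rcases key A.d2 with h2 | h2
  · exact A.swap12.false_first h2
  rcases key A.d3 with h3 | h3
  · exact A.swap23.swap12.false_first h3
  rcases key A.d4 with h4 | h4
  · exact A.swap34.swap23.swap12.false_first h4
  linarith

end All

end Cfsg.Agent.SporadicA.M24.ElevenTwelveArith
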