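import Cfsg.Agent.SmallSimple.BlockIndex
import Cfsg.Agent.SmallSimple.LargePrime
import Cfsg.Agent.SporadicA.M24.Sylow23

/-!
# Sylow 11-subgroups in a simple group of order `244823040`: `|N(P) : C(P)| ≠ 2`

If `|N(P) : C(P)| = 2` the principal 11-block has degrees `1, 23; 24` or `1, 45; 46`. The averaged
class multiplication formula says that `11 |K| |G| D (D + 1)` is a square, `D = 23, 45`; this is
impossible if `7` does not divide `|K|`.
-/

set_option autoImplicit false
set_option linter.unusedSectionVars false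

namespace Cfsg.Agent.SporadicA.M24.ElevenTwo

open Cfsg Subgroup Cfsg.Agent.Characters.Core
open Cfsg.Agent.Blocks.Basic (irr_one_eq_charDegree)
open Cfsg.Agent.SmallSimple Cfsg.Agent.SmallSimple.PrimeLocal
open Cfsg.Agent.M23.Block Cfsg.Agent.SporadicA.M24.Sylow23

universe u

theorem arith_plus : ∀ a < 1423, 2 ≤ a → 244823040 % (11 * a + 1) = 0 →
    244823040 % (11 * a + 2) = 0 → a = 2 ∨ a = 4 := by
  decide +kernel

theorem arith_minus : ∀ a < 1423, 2 ≤ a → 244823040 % (11 * a + 10) = 0 →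
    244823040 % (11 * a + 9) = 0 → False := by
  decide +kernel

/-- The degrees in the case `e = 2`. -/
theorem degrees {D D' a a' : ℕ} {ε d : ℤ} (hD : D < 15647) (hDd : D ∣ 244823040)
    (hD' : D' ∣ 244823040) (ha : 2 ≤ a)
    (h1 : (ε = 1 ∧ D = 11 * a + 1) ∨ (ε = -1 ∧ D + 1 = 11 * (a + 1)))
    (h2 : (d = 1 ∧ D' = 11 * a' + 2) ∨ (d = -1 ∧ D' + 2 = 11 * (a' + 1)))
    (hrel : 1 + ε * D = d * D') :
    ε = 1 ∧ d = 1 ∧ D' = D + 1 ∧ (D = 23 ∨ D = 45) := by
  rcases h1 with ⟨rfl, h1⟩ | ⟨rfl, h1⟩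
  · have hd : d = 1 := by
      rcases h2 with ⟨h, -⟩ | ⟨h, -⟩
      · exact h
      · rw [h] at hrel; omega
    subst hd
    have hD1 : D' = D + 1 := by omega
    subst hD1
    have h3 : D + 1 = 11 * a + 2 := by omega
    have h4 := Nat.mod_eq_zero_of_dvd hDd
    have h5 := Nat.mod_eq_zero_of_dvd hD'
    rw [h1] at h4
    rw [h3] at h5
    have := arith_plus a (by omega) ha h4 h5
    omega
  · exfalso
    have hD1 : D' = D - 1 := by
      rcases h2 with ⟨h, h2⟩ | ⟨h, h2⟩ <;> rw [h] at hrel <;> omega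
    have h3 : D' = 11 * a + 9 := by omega
    have h3' : D = 11 * a + 10 := by omega
    have h4 := Nat.mod_eq_zero_of_dvd hDd
    have h5 := Nat.mod_eq_zero_of_dvd hD'
    rw [h3'] at h4
    rw [h3] at h5
    exact arith_minus a (by omega) ha h4 h5

/-- The valuation argument. -/
theorem seven_dvd {A k h K w : ℕ} (hA : A = 11 * (244823040 * (23 * 24)) ∨
    A = 11 * (244823040 * (45 * 46))) (heq : A * (k * k) = h * h * K * (w * w)) (hh : h ≠ 0)
    (hw : w ≠ 0) (hK : K ≠ 0) : 7 ∣ K := by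
  by_contra h7
  have hA0 : A ≠ 0 := by rcases hA with rfl | rfl <;> norm_num
  have hk : k ≠ 0 := by
    rintro rfl
    rw [mul_zero, mul_zero] at heq
    have : h * h * K * (w * w) ≠ 0 := by positivity
    exact this heq.symm
  have h1 : (A * (k * k)).factorization 7 = (h * h * K * (w * w)).factorization 7 := by rw [heq]
  rw [Nat.factorization_mul hA0 (by positivity), Nat.factorization_mul hk hk,
    Nat.factorization_mul (by positivity) (by positivity),
    Nat.factorization_mul (by positivity) hK, Nat.factorization_mul hh hh,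
    Nat.factorization_mul hw hw] at h1
  simp only [Finsupp.coe_add, Pi.add_apply] at h1
  rw [Nat.factorization_eq_zero_of_not_dvd h7] at h1
  have h2 : A.factorization 7 = 1 := by
    have h3 : A = 7 * (A / 7) := by rcases hA with rfl | rfl <;> norm_num
    have h4 : ¬ 7 ∣ A / 7 := by rcases hA with rfl | rfl <;> norm_num
    have h5 : A / 7 ≠ 0 := by rintro h; rw [h] at h4; exact h4 (dvd_zero _)
    rw [h3, Nat.factorization_mul (by norm_num) h5, Finsupp.coe_add, Pi.add_apply,
      Nat.factorization_eq_zero_of_not_dvd h4, Nat.Prime.factorization_self (by norm_num)]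
  omega

variable {G : Type u} [Group G] [Finite G] [IsSimpleGroup G]

theorem card_eleven (hcard : Nat.card G = 244823040) (P : Sylow 11 G) : Nat.card P = 11 := by
  have hp : Fact (Nat.Prime 11) := ⟨by norm_num⟩
  exact card_of_not_sq_dvd (by rw [hcard]; norm_num) (by rw [hcard]; norm_num) P

/-- **T2.** -/
theorem two_false (hcard : Nat.card G = 244823040) {P : Sylow 11 G} {K : Subgroup G}
    (h : IsLocal 11 P 2 K) (hK1 : Nat.card K ≠ 1) (h7 : ¬ 7 ∣ Nat.card K) : False := by
  classical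
  have hp : Fact (Nat.Prime 11) := ⟨by norm_num⟩
  have hP := card_eleven hcard P
  obtain ⟨M, NE, X, ε, d, S, B⟩ := exists_blk (not_prime hcard) 11 (by norm_num) P hP 2 5
    (BlockIndex.relIndex_eq h) (by norm_num)
  obtain ⟨χ, hχ⟩ : ∃ χ, NE.erase ⟨1, isIrr_one⟩ = {χ} := by
    apply Finset.card_eq_one.1
    rw [Finset.card_erase_of_mem B.kb.one_mem, B.kb.card_NE]
  have hχm : χ ∈ NE.erase ⟨1, isIrr_one⟩ := by rw [hχ]; exact Finset.mem_singleton_self _
  have hχN := Finset.mem_of_mem_erase hχm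
  have hχ1 := Finset.ne_of_mem_erase hχm
  have hcop : Nat.Coprime 11 (Nat.card K) :=
    (Nat.Prime.coprime_iff_not_dvd (by norm_num)).2 h.not_dvd
  have hKb : K ≠ ⊥ := by rintro rfl; exact hK1 (by simp)
  obtain ⟨a, ha, hdeg, -⟩ := B.kb.ne_data K h.le_centralizer hcop hKb χ hχN hχ1
  obtain ⟨Θ, hΘ⟩ : ∃ Θ, Θ ∈ X := by
    apply Finset.card_pos.1
    rw [B.kb.card_X]; norm_num
  obtain ⟨a', ha', hdeg', -⟩ := B.kb.x_data K h.le_centralizer hcop hKb Θ hΘ
  have hdeg1 : charDegree ((⟨1, isIrr_one⟩ : IrrCharacter G) : G → ℂ) = 1 := charDegree_one'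
  have hrel := B.kb.rel_one Θ hΘ
  rw [← Finset.add_sum_erase _ _ B.kb.one_mem, hχ, Finset.sum_singleton, B.kb.eps_one, hdeg1]
    at hrel
  obtain ⟨hε, hd, hD', hD⟩ := degrees (charDegree_lt hcard χ) (charDegree_dvd hcard χ)
    (charDegree_dvd hcard Θ) ha hdeg hdeg' (by push_cast at hrel; linarith)
  -- an involution
  have h2 : Fact (Nat.Prime 2) := ⟨Nat.prime_two⟩
  obtain ⟨s, hs⟩ := exists_prime_orderOf_dvd_card' (G := G) 2 (by rw [hcard]; norm_num)
  have hs2 : s ^ 2 = 1 := by rw [← hs]; exact pow_orderOf_eq_one s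
  have hs2' : s * s = 1 := by rw [← pow_two]; exact hs2
  have hs1 : s ≠ 1 := by rintro rfl; rw [orderOf_one] at hs; omega
  have hs11 : ¬ 11 ∣ orderOf s := by rw [hs]; norm_num
  obtain ⟨z, hz, hzlt, -⟩ := InvolColumn.exists_int
    (LargePrime.commutator_eq_top (not_comm hcard)) χ.2
    (fun h' => hχ1 (Subtype.ext h')) hs2 hs1
  have hsum : ∀ f : IrrCharacter G → ℂ, ∑ ψ ∈ NE, f ψ = f ⟨1, isIrr_one⟩ + f χ := by
    intro f
    rw [← Finset.add_sum_erase _ _ B.kb.one_mem, hχ, Finset.sum_singleton]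
  have hΘs : (Θ : G → ℂ) s = 1 + z := by
    have h1 := B.kb.rel Θ hΘ s hs11
    rw [hsum, B.kb.eps_one, hε, hd, hz] at h1
    have h2 : ((⟨1, isIrr_one⟩ : IrrCharacter G) : G → ℂ) s = 1 := rfl
    rw [h2] at h1
    push_cast at h1
    linear_combination -h1
  obtain ⟨k, hk, -⟩ := BlockIndex.exists_pair B hP (by norm_num) h
  have key := hk Θ hΘ s s hs2' hs2'
  rw [hsum, B.kb.eps_one, hε, hd, hz, hΘs, irr_one_eq_charDegree χ.2, irr_one_eq_charDegree Θ.2,
    hD', hcard] at key
  simp only [Pi.one_apply] at key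
  set D := charDegree (χ : G → ℂ) with hDdef
  set i := (centralizer ({s} : Set G)).index with hi
  obtain ⟨w, hw⟩ : ∃ w : ℕ, (w : ℤ) = D - z := by
    have := abs_lt.1 hzlt
    exact ⟨(D - z).toNat, by omega⟩
  have hw0 : w ≠ 0 := by
    have := abs_lt.1 hzlt
    rintro rfl
    omega
  have hwc : (w : ℂ) = D - z := by exact_mod_cast hw
  have hDc : (D : ℂ) ≠ 0 := by
    have : D ≠ 0 := by omega
    exact_mod_cast this
  have hDc' : (D : ℂ) + 1 ≠ 0 := by exact_mod_cast Nat.succ_ne_zero D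
  refine h7 (seven_dvd (A := 11 * (244823040 * (D * (D + 1)))) (k := k s) (h := i)
    (K := Nat.card K) (w := w) (by rcases hD with h | h <;> rw [h] <;> simp) ?_
    Subgroup.index_ne_zero_of_finite hw0 Nat.card_pos.ne')
  have h5 : (11 * (244823040 * (D * (D + 1))) * (k s * k s) : ℂ) =
      i * i * Nat.card K * (w * w) := by
    rw [hwc]
    have h6 : (1 : ℂ) + z ^ 2 / D - (1 + z) ^ 2 / (D + 1) = (D - z) ^ 2 / (D * (D + 1)) := by
      field_simp
      ring
    have h7 : (11 * (k s * k s) : ℂ) * 244823040 = i * i * Nat.card K *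
        ((D - z) ^ 2 / (D * (D + 1))) := by
      rw [← h6]
      push_cast at key
      rw [key]
      ring
    calc (11 * (244823040 * (D * (D + 1))) * (k s * k s) : ℂ) =
        ((11 * (k s * k s) : ℂ) * 244823040) * (D * (D + 1)) := by ring
      _ = _ := by rw [h7]; field_simp
  exact_mod_cast h5

end Cfsg.Agent.SporadicA.M24.ElevenTwo
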