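import Mathlib.Tactic

/-!
# Arithmetic for the case `e = 5`, `|K| = 2` of the Sylow 11-subgroups

Degrees of a simple group of order `244823040`: `adm d` and `vv d` (the sum of the character over
the nonidentity elements of a Sylow 23-subgroup).
-/

set_option autoImplicit false

namespace Cfsg.Agent.SporadicA.M24.ElevenTwoArith

/-- `V(χ)` in terms of the degree. -/
def vv (d : ℕ) : ℤ :=
  if d % 23 = 0 then 0 else if d % 23 = 1 then 22 else if d % 23 = 22 then -22 else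
    if d % 23 = 11 then -11 else 11

/-- Admissible degrees. -/
def adm (d : ℕ) : Bool :=
  1 < d && 244823040 % d == 0 && d < 15647 &&
    (d % 23 == 0 || d % 23 == 1 || d % 23 == 22 || d % 23 == 11 || d % 23 == 12)

/-- The sign modulo five. -/
def s5 (d : ℕ) : ℤ := if d % 5 = 1 then 1 else -1

/-- The sign modulo eleven. -/
def s11 (d : ℕ) : ℤ := if d % 11 = 1 then 1 else -1

/-- The admissible degrees congruent to `±1` modulo 5. -/
def degs5 : List ℕ := [11, 24, 46, 69, 126, 161, 184, 231, 264, 276, 414, 506, 576, 621, 644, 736,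
  759, 896, 966, 1024, 1104, 1449, 1656, 1771, 2024, 2484, 2576, 2944, 3024, 3036, 3864, 4416,
  4554, 5544, 5796, 6336, 6624, 6831, 7084, 8096, 8694, 9856, 9936, 10304, 10626, 11776, 12144,
  13824, 15456]

/-- The admissible degrees congruent to `±1` modulo 11, except 45. -/
def degs11 : List ℕ := [12, 23, 230, 252, 276, 483, 540, 736, 1024, 1035, 1242, 1288, 2760, 3024,
  3312, 3840, 4830, 5796, 7360, 8832, 12420, 12880, 15456]

theorem smooth {k : ℕ} (h : k ∣ 244823040) :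
    ∃ a < 11, ∃ b < 4, ∃ c < 2, ∃ d < 2, ∃ e < 2, ∃ f < 2,
      k = 2 ^ a * (3 ^ b * (5 ^ c * (7 ^ d * (11 ^ e * 23 ^ f)))) := by
  have h1 : k ∣ 2 ^ 10 * (3 ^ 3 * (5 ^ 1 * (7 ^ 1 * (11 ^ 1 * 23 ^ 1)))) := by norm_num; exact h
  obtain ⟨x, y, hx, hy, hxy⟩ := (Nat.dvd_mul).1 h1
  obtain ⟨z, w, hz, hw, hzw⟩ := (Nat.dvd_mul).1 hy
  obtain ⟨s, t, hs, ht, hst⟩ := (Nat.dvd_mul).1 hw
  obtain ⟨s', t', hs', ht', hst'⟩ := (Nat.dvd_mul).1 ht
  obtain ⟨s'', t'', hs'', ht'', hst''⟩ := (Nat.dvd_mul).1 ht'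
  obtain ⟨a, ha, rfl⟩ := (Nat.dvd_prime_pow Nat.prime_two).1 hx
  obtain ⟨b, hb, rfl⟩ := (Nat.dvd_prime_pow Nat.prime_three).1 hz
  obtain ⟨c, hc, rfl⟩ := (Nat.dvd_prime_pow (by norm_num : Nat.Prime 5)).1 hs
  obtain ⟨d, hd, rfl⟩ := (Nat.dvd_prime_pow (by norm_num : Nat.Prime 7)).1 hs'
  obtain ⟨e, he, rfl⟩ := (Nat.dvd_prime_pow (by norm_num : Nat.Prime 11)).1 hs''
  obtain ⟨f, hf, rfl⟩ := (Nat.dvd_prime_pow (by norm_num : Nat.Prime 23)).1 ht''
  exact ⟨a, by omega, b, by omega, c, by omega, d, by omega, e, by omega, f, by omega, by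
    rw [← hxy, ← hzw, ← hst, ← hst', ← hst'']⟩

/-- The test for `degs5`. -/
def chk5 (d : ℕ) : Bool := !(adm d && (d % 5 == 1 || d % 5 == 4)) || degs5.contains d

/-- The test for `degs11`. -/
def chk11 (d : ℕ) : Bool := !(adm d && (d % 11 == 1 || d % 11 == 10)) || (d == 45 || degs11.contains d)

theorem mem_degs5' : ∀ a < 11, ∀ b < 4, ∀ c < 2, ∀ d < 2, ∀ e < 2, ∀ f < 2,
    chk5 (2 ^ a * (3 ^ b * (5 ^ c * (7 ^ d * (11 ^ e * 23 ^ f))))) = true := by
  decide +kernel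

theorem mem_degs11' : ∀ a < 11, ∀ b < 4, ∀ c < 2, ∀ d < 2, ∀ e < 2, ∀ f < 2,
    chk11 (2 ^ a * (3 ^ b * (5 ^ c * (7 ^ d * (11 ^ e * 23 ^ f))))) = true := by
  decide +kernel

theorem dvd_of_adm {d : ℕ} (h : adm d = true) : d ∣ 244823040 := by
  simp only [adm, Bool.and_eq_true, decide_eq_true_eq, beq_iff_eq] at h
  exact Nat.dvd_of_mod_eq_zero h.1.1.2

theorem mem_degs5 {d : ℕ} (h : adm d = true) (h5 : d % 5 = 1 ∨ d % 5 = 4) : d ∈ degs5 := by
  obtain ⟨a, ha, b, hb, c, hc, d', hd, e, he, f, hf, hd'⟩ := smooth (dvd_of_adm h)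
  have h1 := mem_degs5' a ha b hb c hc d' hd e he f hf
  rw [← hd'] at h1
  simp only [chk5, Bool.or_eq_true, Bool.not_eq_true', Bool.and_eq_false_iff, h,
    Bool.or_eq_false_iff, beq_eq_false_iff_ne, ne_eq, List.contains_iff_mem, reduceCtorEq,
    false_or] at h1
  rcases h1 with h1 | h1
  · omega
  · exact h1

theorem mem_degs11 {d : ℕ} (h : adm d = true) (h11 : d % 11 = 1 ∨ d % 11 = 10) :
    d = 45 ∨ d ∈ degs11 := by
  obtain ⟨a, ha, b, hb, c, hc, d', hd, e, he, f, hf, hd'⟩ := smooth (dvd_of_adm h)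
  have h1 := mem_degs11' a ha b hb c hc d' hd e he f hf
  rw [← hd'] at h1
  simp only [chk11, Bool.or_eq_true, Bool.not_eq_true', Bool.and_eq_false_iff, h,
    Bool.or_eq_false_iff, beq_eq_false_iff_ne, ne_eq, List.contains_iff_mem, reduceCtorEq,
    false_or, beq_iff_eq] at h1
  rcases h1 with h1 | h1
  · omega
  · exact h1

/-! ### `e₅ = 2` -/

theorem two_cases' : ∀ d ∈ degs5, ∀ f ∈ [d - 1, d + 1], adm f = true →
    1 + s5 d * d = s5 d * f → 22 + s5 d * vv d = s5 d * vv f → (d = 11 ∧ f = 12) ∨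
      (d = 24 ∧ f = 23) := by
  decide +kernel

/-! ### The order of the centralizer -/

def cs : List ℕ := [110, 1320, 6160, 15840, 73920, 190080, 887040, 10644480]

/-- The test for `cs`. -/
def chkc (c : ℕ) : Bool :=
  !(c % 110 == 0 && (c / 110 % 11 == 1 && !(c % 23 == 0))) || cs.contains c

theorem cent' : ∀ a < 11, ∀ b < 4, ∀ c < 2, ∀ d < 2, ∀ e < 2, ∀ f < 2,
    chkc (2 ^ a * (3 ^ b * (5 ^ c * (7 ^ d * (11 ^ e * 23 ^ f))))) = true := by
  decide +kernel

theorem mem_cs {c : ℕ} (h : c ∣ 244823040) (h110 : c % 110 = 0) (h11 : (c / 110) % 11 = 1)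
    (h23 : ¬ 23 ∣ c) : c ∈ cs := by
  obtain ⟨a, ha, b, hb, c', hc, d', hd, e, he, f, hf, hd'⟩ := smooth h
  have h1 := cent' a ha b hb c' hc d' hd e he f hf
  rw [← hd'] at h1
  have h2 : c % 23 ≠ 0 := fun h => h23 (Nat.dvd_of_mod_eq_zero h)
  simpa [chkc, h110, h11, h2] using h1

/-! ### Values -/

/-- The condition on a value `z` of a character of degree `d`. -/
def cond (c d : ℕ) (z : ℤ) : Bool :=
  Nat.blt z.natAbs d && z * z < (c : ℤ) && (((244823040 / c : ℕ) : ℤ) * z) % (d : ℤ) == 0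

/-- The possible values of a character of degree `d` in both principal blocks. -/
def zin (c d : ℕ) : List ℤ :=
  ((List.range (d / 110 + 1)).map fun k : ℕ => (d : ℤ) - 220 * (k : ℤ)).filter (cond c d)

/-- The possible values of a character of degree `d` outside of the principal 11-block. -/
def zout (c d : ℕ) : List ℤ :=
  ((List.range (d / 110 + 1)).map fun k : ℕ =>
    (d : ℤ) - 20 * (11 * (k : ℤ) + (((11 - d % 11) % 11 : ℕ) : ℤ))).filter (cond c d)

theorem mem_zin {c d : ℕ} {z : ℤ} (hz : |z| < d) (h20 : (20 : ℤ) ∣ d - z) (h11 : (11 : ℤ) ∣ d - z)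
    (hc : cond c d z = true) : z ∈ zin c d := by
  rw [abs_lt] at hz
  refine List.mem_filter.2 ⟨List.mem_map.2 ⟨((d - z) / 220).toNat, ?_, ?_⟩, hc⟩
  · rw [List.mem_range]
    omega
  · omega

theorem mem_zout {c d : ℕ} {z : ℤ} (hz : |z| < d) (h20 : (20 : ℤ) ∣ d - z) (h11 : (11 : ℤ) ∣ d + z)
    (hc : cond c d z = true) : z ∈ zout c d := by
  rw [abs_lt] at hz
  refine List.mem_filter.2 ⟨List.mem_map.2 ⟨((d - z) / 220).toNat, ?_, ?_⟩, hc⟩
  · rw [List.mem_range]
    omega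
  · omega

theorem cond_of {c d : ℕ} {z : ℤ} (hzd : |z| < d) (hz : z * z < c)
    (hd : (d : ℤ) ∣ ((244823040 / c : ℕ) : ℤ) * z) : cond c d z = true := by
  rw [abs_lt] at hzd
  simp only [cond, Bool.and_eq_true, decide_eq_true_eq, beq_iff_eq, Nat.blt_eq]
  exact ⟨⟨by omega, hz⟩, Int.emod_eq_zero_of_dvd hd⟩

/-- The possible values of a character of degree `d`. -/
def zany (c d : ℕ) : List ℤ := zin c d ++ zout c d

/-! ### Case A -/

def spec : List ℕ := [736, 1024, 5796]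

theorem mem_spec : ∀ d ∈ degs5, ((d % 5 = 1 ∧ d % 11 = 10) ∨ (d % 5 = 4 ∧ d % 11 = 1)) →
    d ∈ spec := by
  decide +kernel

/-- The last value of a column. -/
def z3 (σ a b n : ℕ) (z0 z1 z2 : ℤ) : ℤ := s5 n * (-1 - s5 σ * z0 - s5 a * z1 - s5 b * z2)

/-- No common column. -/
def testA (c σ a b n : ℕ) : Bool :=
  (zin c σ).all fun z0 => (zany c a).all fun z1 => (zany c b).all fun z2 =>
    !((zany c n).contains (z3 σ a b n z0 z1 z2) &&
      decide (1 + z0 * z0 + z1 * z1 + z2 * z2 + z3 σ a b n z0 z1 z2 * z3 σ a b n z0 z1 z2 ≤ c))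

/-- The last signed degree. -/
def m3 (σ a b : ℕ) : ℤ := -1 - s5 σ * σ - s5 a * a - s5 b * b

/-- The test of Case A. -/
def chkA (σ a b : ℕ) : Bool :=
  !(Nat.ble a b && (Nat.ble b (m3 σ a b).natAbs && (degs5.contains (m3 σ a b).natAbs &&
    (s5 (m3 σ a b).natAbs * ((m3 σ a b).natAbs : ℤ) == m3 σ a b &&
    (22 + s5 σ * vv σ + s5 a * vv a + s5 b * vv b +
      s5 (m3 σ a b).natAbs * vv (m3 σ a b).natAbs == 0))))) ||
    cs.all fun c => testA c σ a b (m3 σ a b).natAbs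

theorem caseA : ∀ σ ∈ spec, ∀ a ∈ degs5, ∀ b ∈ degs5, chkA σ a b = true := by
  decide +kernel

theorem s5_sq (n : ℕ) : s5 n * s5 n = 1 := by
  unfold s5; split_ifs <;> rfl

/-- **Case A** is impossible. -/
theorem false_of_caseA {c σ a b n : ℕ} {z0 z1 z2 z3' : ℤ} (hc : c ∈ cs) (hσ : σ ∈ spec)
    (ha : a ∈ degs5) (hb : b ∈ degs5) (hn : n ∈ degs5) (hab : a ≤ b) (hbn : b ≤ n)
    (hsum : 1 + s5 σ * σ + s5 a * a + s5 b * b + s5 n * n = 0)
    (hV : 22 + s5 σ * vv σ + s5 a * vv a + s5 b * vv b + s5 n * vv n = 0)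
    (h0 : z0 ∈ zin c σ) (h1 : z1 ∈ zany c a) (h2 : z2 ∈ zany c b) (h3 : z3' ∈ zany c n)
    (hz : 1 + s5 σ * z0 + s5 a * z1 + s5 b * z2 + s5 n * z3' = 0)
    (hnorm : 1 + z0 * z0 + z1 * z1 + z2 * z2 + z3' * z3' ≤ c) : False := by
  have hm : m3 σ a b = s5 n * n := by unfold m3; linarith
  have hmn : (m3 σ a b).natAbs = n := by
    rw [hm]
    unfold s5
    split_ifs <;> omega
  have h4 := caseA σ hσ a ha b hb
  simp only [chkA, hmn, Bool.or_eq_true, Bool.not_eq_true', Bool.and_eq_false_iff] at h4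
  rcases h4 with (h4 | h4 | h4 | h4 | h4) | h4
  · rw [← Bool.not_eq_true, Nat.ble_eq] at h4; exact h4 hab
  · rw [← Bool.not_eq_true, Nat.ble_eq] at h4; exact h4 hbn
  · rw [← Bool.not_eq_true, List.contains_iff_mem] at h4; exact h4 hn
  · rw [beq_eq_false_iff_ne] at h4; exact h4 hm.symm
  · rw [beq_eq_false_iff_ne] at h4; exact h4 hV
  · have h5 := List.all_eq_true.1 h4 c hc
    have h6 := List.all_eq_true.1 (List.all_eq_true.1 (List.all_eq_true.1 h5 z0 h0) z1 h1) z2 h2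
    have h7 : z3 σ a b n z0 z1 z2 = z3' := by
      have := s5_sq n
      unfold z3
      linear_combination (-s5 n) * hz + z3' * this
    rw [h7] at h6
    simp only [Bool.not_eq_true', Bool.and_eq_false_iff, decide_eq_false_iff_not] at h6
    rcases h6 with h6 | h6
    · rw [← Bool.not_eq_true, List.contains_iff_mem] at h6; exact h6 h3
    · exact h6 hnorm

/-! ### Case B -/

/-- Possible degrees of the exceptional characters of the principal 11-block in case B. -/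
def specB : List ℕ := [126, 621, 644, 896, 4416]

theorem mem_specB : ∀ d ∈ degs5, ((d % 5 = 1 ∧ d % 11 = 5) ∨ (d % 5 = 4 ∧ d % 11 = 6)) →
    d ∈ specB := by
  decide +kernel

/-- The last signed degree. -/
def m2 (f a : ℕ) : ℤ := -1 - 2 * (s5 f * f) - s5 a * a

/-- The last value. -/
def z2B (f a b : ℕ) (z0 z1 : ℤ) : ℤ := s5 b * (-1 - 2 * (s5 f * z0) - s5 a * z1)

/-- Only one column. -/
def testB (c f a b : ℕ) : Bool :=
  (zin c f).all fun z0 => (zout c a).all fun z1 =>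
    !((zout c b).contains (z2B f a b z0 z1) &&
      decide (1 + 2 * (z0 * z0) + z1 * z1 + z2B f a b z0 z1 * z2B f a b z0 z1 ≤ c)) ||
    (c == 15840 && (f == 896 && z0 == 16))

/-- The test of Case B. -/
def chkB (f a : ℕ) : Bool :=
  !(Nat.ble a (m2 f a).natAbs && (degs5.contains (m2 f a).natAbs &&
    (s5 (m2 f a).natAbs * ((m2 f a).natAbs : ℤ) == m2 f a &&
    (22 + 2 * (s5 f * vv f) + s5 a * vv a +
      s5 (m2 f a).natAbs * vv (m2 f a).natAbs == 0)))) ||
    cs.all fun c => testB c f a (m2 f a).natAbs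

theorem caseB : ∀ f ∈ specB, ∀ a ∈ degs5, chkB f a = true := by
  decide +kernel

/-- **Case B**. -/
theorem eq_of_caseB {c f a b : ℕ} {z0 z1 z2 : ℤ} (hc : c ∈ cs) (hf : f ∈ specB)
    (ha : a ∈ degs5) (hb : b ∈ degs5) (hab : a ≤ b)
    (hsum : 1 + 2 * (s5 f * f) + s5 a * a + s5 b * b = 0)
    (hV : 22 + 2 * (s5 f * vv f) + s5 a * vv a + s5 b * vv b = 0)
    (h0 : z0 ∈ zin c f) (h1 : z1 ∈ zout c a) (h2 : z2 ∈ zout c b)
    (hz : 1 + 2 * (s5 f * z0) + s5 a * z1 + s5 b * z2 = 0)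
    (hnorm : 1 + 2 * (z0 * z0) + z1 * z1 + z2 * z2 ≤ c) : c = 15840 ∧ f = 896 := by
  have hm : m2 f a = s5 b * b := by unfold m2; linarith
  have hmn : (m2 f a).natAbs = b := by
    rw [hm]
    unfold s5
    split_ifs <;> omega
  have h4 := caseB f hf a ha
  simp only [chkB, hmn, Bool.or_eq_true, Bool.not_eq_true', Bool.and_eq_false_iff] at h4
  rcases h4 with (h4 | h4 | h4 | h4) | h4
  · rw [← Bool.not_eq_true, Nat.ble_eq] at h4; exact absurd hab h4
  · rw [← Bool.not_eq_true, List.contains_iff_mem] at h4; exact absurd hb h4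
  · rw [beq_eq_false_iff_ne] at h4; exact absurd hm.symm h4
  · rw [beq_eq_false_iff_ne] at h4; exact absurd hV h4
  · have h5 := List.all_eq_true.1 h4 c hc
    have h6 := List.all_eq_true.1 (List.all_eq_true.1 h5 z0 h0) z1 h1
    have h7 : z2B f a b z0 z1 = z2 := by
      have := s5_sq b
      unfold z2B
      linear_combination (-s5 b) * hz + z2 * this
    rw [h7] at h6
    simp only [Bool.or_eq_true, Bool.not_eq_true', Bool.and_eq_false_iff, decide_eq_false_iff_not,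
      Bool.and_eq_true, beq_iff_eq] at h6
    rcases h6 with (h6 | h6) | h6
    · rw [← Bool.not_eq_true, List.contains_iff_mem] at h6; exact absurd h2 h6
    · exact absurd hnorm h6
    · exact ⟨h6.1, h6.2.1⟩

/-! ### The principal 11-block -/

/-- The last signed degree. -/
def m4 (a b c : ℕ) : ℤ := 895 - s11 a * a - s11 b * b - s11 c * c

/-- The test. -/
def chk4 (a b c : ℕ) : Bool :=
  !(degs11.contains (m4 a b c).natAbs &&
    (s11 (m4 a b c).natAbs * ((m4 a b c).natAbs : ℤ) == m4 a b c &&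
    (s11 a * vv a + s11 b * vv b + s11 c * vv c +
      s11 (m4 a b c).natAbs * vv (m4 a b c).natAbs == -44)))

theorem case4 : ∀ a ∈ degs11, ∀ b ∈ degs11, a ≤ b → ∀ c ∈ degs11, b ≤ c →
    chk4 a b c = true := by
  decide +kernel

theorem false_of_case4 {a b c d : ℕ} (ha : a ∈ degs11) (hb : b ∈ degs11) (hc : c ∈ degs11)
    (hd : d ∈ degs11) (hab : a ≤ b) (hbc : b ≤ c)
    (hsum : s11 a * a + s11 b * b + s11 c * c + s11 d * d = 895)
    (hV : s11 a * vv a + s11 b * vv b + s11 c * vv c + s11 d * vv d = -44) : False := by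
  have hm : m4 a b c = s11 d * d := by unfold m4; linarith
  have hmn : (m4 a b c).natAbs = d := by
    rw [hm]
    unfold s11
    split_ifs <;> omega
  have h4 := case4 a ha b hb hab c hc hbc
  simp only [chk4, hmn, Bool.not_eq_true', Bool.and_eq_false_iff] at h4
  rcases h4 with h4 | h4 | h4
  · rw [← Bool.not_eq_true, List.contains_iff_mem] at h4; exact h4 hd
  · rw [beq_eq_false_iff_ne] at h4; exact h4 hm.symm
  · rw [beq_eq_false_iff_ne] at h4; exact h4 hV

end Cfsg.Agent.SporadicA.M24.ElevenTwoArith
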