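import Cfsg.Agent.SporadicA.M24.ElevenTwoLocal

/-!
# The case `e = 5`, `|K| = 2` of the Sylow 11-subgroups does not occur

Task T5 of the elimination for the prime 11 in a simple group of order `244823040`.
-/

set_option autoImplicit false
set_option linter.unusedSectionVars false

namespace Cfsg.Agent.SporadicA.M24.ElevenTwoBase

open Cfsg Subgroup Cfsg.Agent.Characters.Core
open Cfsg.Agent.Blocks.Basic (irr_one_eq_charDegree)
open Cfsg.Agent.SmallSimple Cfsg.Agent.SmallSimple.PrimeLocal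
open Cfsg.Agent.M23.Block
open Cfsg.Agent.M23.Adm (V AdmAt V_const V_sum_hom exists_add_V sum_V)
open Cfsg.Agent.SporadicA.M24.Sylow23 Cfsg.Agent.SporadicA.M24.ElevenTwoArith
open Cfsg.Agent.SporadicA.M24.BlockTwo Cfsg.Agent.SporadicA.M24.ElevenTwoLocal
open Cfsg.Agent.MTwelve.FiveBlock (exists_enum)

universe u

variable {G : Type u} [Group G] [Finite G]

/-- The principal character. -/
abbrev one (G : Type u) [Group G] : IrrCharacter G := ⟨1, isIrr_one⟩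

section five

variable {Q : Sylow 5 G} {M : Ideal AlgInt} {NE X : Finset (IrrCharacter G)}
  {ε : IrrCharacter G → ℤ} {d : ℤ} {S : IrrCharacter G → Finset (Q →* ℂˣ)}

theorem five_NE [Fact (Nat.Prime 5)] {e t' : ℕ} (B : Blk 5 Q e t' M NE X ε d S)
    (hQ : Nat.card Q = 5) {χ : IrrCharacter G} (hχ : χ ∈ NE) :
    (charDegree (χ : G → ℂ) % 5 = 1 ∨ charDegree (χ : G → ℂ) % 5 = 4) ∧ s5 (charDegree (χ : G → ℂ)) = ε χ := by
  have h1 := dvd_NE B hQ hχ
  have h2 := B.kb.eps χ hχ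
  push_cast at h1
  unfold s5
  split_ifs <;> omega

theorem five_X [Fact (Nat.Prime 5)] (B : Blk 5 Q 4 1 M NE X ε d S)
    (hQ : Nat.card Q = 5) {χ : IrrCharacter G} (hχ : χ ∈ X) :
    (charDegree (χ : G → ℂ) % 5 = 1 ∨ charDegree (χ : G → ℂ) % 5 = 4) ∧ s5 (charDegree (χ : G → ℂ)) = -d := by
  have h1 := dvd_X B hQ hχ
  have h2 := B.kb.hd
  push_cast at h1
  unfold s5
  split_ifs <;> omega

theorem five_rel [Fact (Nat.Prime 5)] [DecidableEq (IrrCharacter G)]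
    (B : Blk 5 Q 4 1 M NE X ε d S) (hQ : Nat.card Q = 5) {g : G} (hg : ¬ 5 ∣ orderOf g) :
    ∑ χ ∈ (NE ∪ X).erase (one G), (s5 (charDegree (χ : G → ℂ)) : ℂ) * (χ : G → ℂ) g = -1 := by
  obtain ⟨Θ, hΘ⟩ := Finset.card_eq_one.1 B.kb.card_X
  have hΘX : Θ ∈ X := by rw [hΘ]; exact Finset.mem_singleton_self Θ
  have h1 : ∑ χ ∈ NE ∪ X, (s5 (charDegree (χ : G → ℂ)) : ℂ) * (χ : G → ℂ) g = 0 := by
    rw [Finset.sum_union B.kb.disj, hΘ, Finset.sum_singleton, (five_X B hQ hΘX).2,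
      Finset.sum_congr rfl fun χ hχ => by rw [(five_NE B hQ hχ).2], B.kb.rel Θ hΘX g hg]
    push_cast
    ring
  rw [← Finset.add_sum_erase _ _ (Finset.mem_union_left X B.kb.one_mem)] at h1
  have h2 : charDegree (one G : G → ℂ) = 1 := charDegree_one
  have h3 : (one G : G → ℂ) g = 1 := rfl
  rw [h2, h3] at h1
  have h4 : s5 1 = 1 := rfl
  rw [h4] at h1
  push_cast at h1
  linear_combination h1

theorem five_card [Fact (Nat.Prime 5)] [DecidableEq (IrrCharacter G)]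
    (B : Blk 5 Q 4 1 M NE X ε d S) : ((NE ∪ X).erase (one G)).card = 4 := by
  rw [Finset.card_erase_of_mem (Finset.mem_union_left X B.kb.one_mem),
    Finset.card_union_of_disjoint B.kb.disj, B.kb.card_NE, B.kb.card_X]

end five

/-- Everything about the values at `t`. -/
theorem mem_zin' [IsSimpleGroup G] (hcard : Nat.card G = 244823040) {P : Sylow 11 G}
    {Q : Sylow 5 G} {t : G} (L : Loc P Q t) [Fact (Nat.Prime 5)] [Fact (Nat.Prime 11)]
    {e5 t5 : ℕ} {M5 : Ideal AlgInt} {NE5 X5 : Finset (IrrCharacter G)}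
    {ε5 : IrrCharacter G → ℤ} {d5 : ℤ} {S5 : IrrCharacter G → Finset (Q →* ℂˣ)}
    (B5 : Blk 5 Q e5 t5 M5 NE5 X5 ε5 d5 S5)
    {M : Ideal AlgInt} {NE X : Finset (IrrCharacter G)}
    {ε : IrrCharacter G → ℤ} {d : ℤ} {S : IrrCharacter G → Finset (P →* ℂˣ)}
    (B : Blk 11 P 5 2 M NE X ε d S) {χ : IrrCharacter G} (h1 : χ ≠ one G)
    (h5 : χ ∈ NE5 ∨ χ ∈ X5) (h11 : χ ∈ NE ∨ χ ∈ X) {z : ℤ} (hz : (χ : G → ℂ) t = z) :
    z ∈ zin (Nat.card (centralizer ({t} : Set G))) (charDegree (χ : G → ℂ)) := by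
  obtain ⟨a1, a2, a3⟩ := value hcard L.t_ord h1 hz
  have b5 : (5 : ℤ) ∣ _ := dvd_sub B5 (card_Q hcard Q) h5 L.t_memQ (by rw [L.t_ord]; norm_num) hz
  have b11 : (11 : ℤ) ∣ _ :=
    dvd_sub B (card_P11 hcard P) h11 L.t_mem (by rw [L.t_ord]; norm_num) hz
  exact mem_zin a1 (by omega) b11 a3

theorem mem_zout' [IsSimpleGroup G] (hcard : Nat.card G = 244823040) {P : Sylow 11 G}
    {Q : Sylow 5 G} {t : G} (L : Loc P Q t) [Fact (Nat.Prime 5)] [Fact (Nat.Prime 11)]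
    {e5 t5 : ℕ} {M5 : Ideal AlgInt} {NE5 X5 : Finset (IrrCharacter G)}
    {ε5 : IrrCharacter G → ℤ} {d5 : ℤ} {S5 : IrrCharacter G → Finset (Q →* ℂˣ)}
    (B5 : Blk 5 Q e5 t5 M5 NE5 X5 ε5 d5 S5)
    {M : Ideal AlgInt} {NE X : Finset (IrrCharacter G)}
    {ε : IrrCharacter G → ℤ} {d : ℤ} {S : IrrCharacter G → Finset (P →* ℂˣ)}
    (B : Blk 11 P 5 2 M NE X ε d S) {χ : IrrCharacter G} (h1 : χ ≠ one G)
    (h5 : χ ∈ NE5 ∨ χ ∈ X5) (hNE : χ ∉ NE) (hX : χ ∉ X) {z : ℤ} (hz : (χ : G → ℂ) t = z) :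
    z ∈ zout (Nat.card (centralizer ({t} : Set G))) (charDegree (χ : G → ℂ)) := by
  obtain ⟨a1, a2, a3⟩ := value hcard L.t_ord h1 hz
  have b5 : (5 : ℤ) ∣ _ := dvd_sub B5 (card_Q hcard Q) h5 L.t_memQ (by rw [L.t_ord]; norm_num) hz
  have b11 : (11 : ℤ) ∣ _ :=
    dvd_add B (card_P11 hcard P) (by norm_num) L.cardC L.t_mem L.t_ord hNE hX hz
  exact mem_zout a1 (by omega) b11 a3

/-- Values of the members of the principal 5-block. -/
theorem mem_zany' [IsSimpleGroup G] (hcard : Nat.card G = 244823040) {P : Sylow 11 G}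
    {Q : Sylow 5 G} {t : G} (L : Loc P Q t) [Fact (Nat.Prime 5)] [Fact (Nat.Prime 11)]
    {e5 t5 : ℕ} {M5 : Ideal AlgInt} {NE5 X5 : Finset (IrrCharacter G)}
    {ε5 : IrrCharacter G → ℤ} {d5 : ℤ} {S5 : IrrCharacter G → Finset (Q →* ℂˣ)}
    (B5 : Blk 5 Q e5 t5 M5 NE5 X5 ε5 d5 S5)
    {M : Ideal AlgInt} {NE X : Finset (IrrCharacter G)}
    {ε : IrrCharacter G → ℤ} {d : ℤ} {S : IrrCharacter G → Finset (P →* ℂˣ)}
    (B : Blk 11 P 5 2 M NE X ε d S) {χ : IrrCharacter G} (h1 : χ ≠ one G)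
    (h5 : χ ∈ NE5 ∨ χ ∈ X5) {z : ℤ} (hz : (χ : G → ℂ) t = z) :
    z ∈ zany (Nat.card (centralizer ({t} : Set G))) (charDegree (χ : G → ℂ)) := by
  unfold zany
  rw [List.mem_append]
  by_cases hNE : χ ∈ NE
  · exact Or.inl (mem_zin' hcard L B5 B h1 h5 (Or.inl hNE) hz)
  · by_cases hX : χ ∈ X
    · exact Or.inl (mem_zin' hcard L B5 B h1 h5 (Or.inr hX) hz)
    · exact Or.inr (mem_zout' hcard L B5 B h1 h5 hNE hX hz)

/-- Every character has an integral value at an involution. -/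
theorem exists_zt {t : G} (ht : orderOf t = 2) :
    ∃ zt : IrrCharacter G → ℤ, ∀ χ : IrrCharacter G, (χ : G → ℂ) t = zt χ := by
  have ht2 : t ^ 2 = 1 := by rw [← ht]; exact pow_orderOf_eq_one t
  have h : ∀ χ : IrrCharacter G, ∃ z : ℤ, (χ : G → ℂ) t = z := fun χ => by
    obtain ⟨n, z, -, hz, -⟩ := InvolColumn.exists_int_of_char (isIrr_isCharacter χ.2) ht2
    exact ⟨z, hz⟩
  choose zt hzt using h
  exact ⟨zt, hzt⟩

/-- The case `e₅ = 2`. -/
theorem two_false [IsSimpleGroup G] (hcard : Nat.card G = 244823040) {P : Sylow 11 G}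
    {Q : Sylow 5 G} {t : G} (L : Loc P Q t) [Fact (Nat.Prime 5)] [Fact (Nat.Prime 11)]
    {M5 : Ideal AlgInt} {NE5 X5 : Finset (IrrCharacter G)}
    {ε5 : IrrCharacter G → ℤ} {d5 : ℤ} {S5 : IrrCharacter G → Finset (Q →* ℂˣ)}
    (B5 : Blk 5 Q 2 2 M5 NE5 X5 ε5 d5 S5)
    {M : Ideal AlgInt} {NE X : Finset (IrrCharacter G)}
    {ε : IrrCharacter G → ℤ} {d : ℤ} {S : IrrCharacter G → Finset (P →* ℂˣ)}
    (B : Blk 11 P 5 2 M NE X ε d S) : False := by
  classical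
  obtain ⟨P23⟩ : Nonempty (Sylow 23 G) := inferInstance
  have hQ := card_Q hcard Q
  obtain ⟨Θ, Θ', hne, hX⟩ := Finset.card_eq_two.1 B5.kb.card_X
  have hΘ : Θ ∈ X5 := by rw [hX]; simp
  have hcardE : (NE5.erase (one G)).card = 1 := by
    rw [Finset.card_erase_of_mem B5.kb.one_mem, B5.kb.card_NE]
  obtain ⟨χ, hχ⟩ := Finset.card_eq_one.1 hcardE
  have hχmem : χ ∈ NE5.erase (one G) := by rw [hχ]; exact Finset.mem_singleton_self χ
  have hχne : χ ≠ one G := Finset.ne_of_mem_erase hχmem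
  have hχNE : χ ∈ NE5 := Finset.mem_of_mem_erase hχmem
  have hNE : NE5 = {one G, χ} := by
    rw [← Finset.insert_erase B5.kb.one_mem, hχ]
  have hΘne : Θ ≠ one G := by
    rintro rfl
    exact Finset.disjoint_left.1 B5.kb.disj B5.kb.one_mem hΘ
  have hone : charDegree (one G : G → ℂ) = 1 := charDegree_one
  -- the degree relation
  have h1 := B5.kb.rel_one Θ hΘ
  rw [hNE, Finset.sum_pair hχne.symm, B5.kb.eps_one] at h1
  have h1' : 1 + ε5 χ * (charDegree (χ : G → ℂ) : ℤ) = d5 * (charDegree (Θ : G → ℂ) : ℤ) := by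
    rw [← h1]
    have : (charDegree ((one G : IrrCharacter G) : G → ℂ) : ℤ) = 1 := by exact_mod_cast hone
    rw [this]
    ring
  -- the relation at the elements of order 23
  have hP23 : Nat.card (P23 : Subgroup G) = 23 := card_P hcard P23
  have h2 := sum_V NE5 (fun ψ => (ε5 ψ : ℂ)) (fun ψ : IrrCharacter G => (ψ : G → ℂ))
    (P23 : Subgroup G) (g := (Θ : G → ℂ)) (d := (d5 : ℂ)) (fun x hx hx1 => by
      apply B5.kb.rel Θ hΘ x
      have h2 : orderOf x ∣ 23 := by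
        have := orderOf_dvd_natCard (⟨x, hx⟩ : (P23 : Subgroup G))
        rw [Subgroup.orderOf_mk, hP23] at this
        exact this
      intro h3
      have := h3.trans h2
      revert this
      norm_num)
  rw [hNE, Finset.sum_pair hχne.symm, B5.kb.eps_one, V_one hcard, (adm_and_V hcard P23 hχne).2,
    (adm_and_V hcard P23 hΘne).2] at h2
  have h2' : 22 + ε5 χ * vv (charDegree (χ : G → ℂ)) = d5 * vv (charDegree (Θ : G → ℂ)) := by
    have : ((22 + ε5 χ * vv (charDegree (χ : G → ℂ)) : ℤ) : ℂ) = ((d5 * vv (charDegree (Θ : G → ℂ)) : ℤ) : ℂ) := by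
      push_cast
      rw [← h2]
      push_cast
      ring
    exact_mod_cast this
  obtain ⟨hmod, hs⟩ := five_NE B5 hQ hχNE
  have hadmχ := (adm_and_V hcard P23 hχne).1
  have hadmΘ := (adm_and_V hcard P23 hΘne).1
  have hlt := one_lt_charDegree hcard hχne
  have hltΘ := one_lt_charDegree hcard hΘne
  have hd : d5 = s5 (charDegree (χ : G → ℂ)) ∧ (charDegree (Θ : G → ℂ) = charDegree (χ : G → ℂ) - 1 ∨ charDegree (Θ : G → ℂ) = charDegree (χ : G → ℂ) + 1) := by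
    rw [hs]
    have a1 := B5.kb.eps χ hχNE
    have a2 := B5.kb.hd
    rcases a1 with a1 | a1 <;> rcases a2 with a2 | a2 <;> rw [a1, a2] at h1' <;> omega
  rw [← hs, hd.1] at h1' h2'
  have hmem : charDegree (Θ : G → ℂ) ∈ [charDegree (χ : G → ℂ) - 1, charDegree (χ : G → ℂ) + 1] := by
    simp only [List.mem_cons, List.not_mem_nil, or_false]
    exact hd.2
  obtain ⟨z, hz⟩ := exists_zt (G := G) L.t_ord
  obtain ⟨a1, a2, -⟩ := value hcard L.t_ord hχne (hz χ)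
  have b5 : (5 : ℤ) ∣ _ :=
    dvd_sub B5 hQ (Or.inl hχNE) L.t_memQ (by rw [L.t_ord]; norm_num) (hz χ)
  rw [abs_lt] at a1
  have hP := card_P11 hcard P
  rcases two_cases' (charDegree (χ : G → ℂ)) (mem_degs5 hadmχ hmod) (charDegree (Θ : G → ℂ)) hmem hadmΘ h1' h2' with
    ⟨h3, -⟩ | ⟨h3, -⟩
  · -- degree 11
    have h3' : (charDegree (χ : G → ℂ) : ℤ) = 11 := by exact_mod_cast h3
    rw [h3'] at a1 a2 b5
    by_cases hB : χ ∈ NE ∨ χ ∈ X
    · have b11 : (11 : ℤ) ∣ _ := dvd_sub B hP hB L.t_mem (by rw [L.t_ord]; norm_num) (hz χ)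
      rw [h3'] at b11
      omega
    · rw [not_or] at hB
      have b11 : (11 : ℤ) ∣ _ :=
        dvd_add B hP (by norm_num) L.cardC L.t_mem L.t_ord hB.1 hB.2 (hz χ)
      rw [h3'] at b11
      omega
  · -- degree 24
    have h3' : (charDegree (χ : G → ℂ) : ℤ) = 24 := by exact_mod_cast h3
    have hNE' : χ ∉ NE := by
      intro hB
      have c1 : (11 : ℤ) ∣ _ := dvd_NE B hP hB
      have c2 := B.kb.eps χ hB
      rw [h3'] at c1
      omega
    have hX' : χ ∉ X := by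
      intro hB
      have c1 : (11 : ℤ) ∣ _ := dvd_X B hP hB
      have c2 := B.kb.hd
      rw [h3'] at c1
      push_cast at c1
      omega
    have b11 : (11 : ℤ) ∣ _ :=
      dvd_add B hP (by norm_num) L.cardC L.t_mem L.t_ord hNE' hX' (hz χ)
    rw [h3'] at a1 a2 b5 b11
    omega

end Cfsg.Agent.SporadicA.M24.ElevenTwoBase
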