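import Cfsg.Agent.SporadicA.M24.ElevenTwoBase

/-!
# The case `e = 5`, `|K| = 2` of the Sylow 11-subgroups, `e₅ = 4`
-/

set_option autoImplicit false
set_option linter.unusedSectionVars false

namespace Cfsg.Agent.SporadicA.M24.ElevenTwoFour

open Cfsg Subgroup Cfsg.Agent.Characters.Core
open Cfsg.Agent.Blocks.Basic (irr_one_eq_charDegree)
open Cfsg.Agent.SmallSimple Cfsg.Agent.SmallSimple.PrimeLocal
open Cfsg.Agent.M23.Block
open Cfsg.Agent.M23.Adm (V AdmAt V_const V_sum_hom exists_add_V sum_V)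
open Cfsg.Agent.SporadicA.M24.Sylow23 Cfsg.Agent.SporadicA.M24.ElevenTwoArith
open Cfsg.Agent.SporadicA.M24.BlockTwo Cfsg.Agent.SporadicA.M24.ElevenTwoLocal
open Cfsg.Agent.SporadicA.M24.ElevenTwoBase
open Cfsg.Agent.MTwelve.FiveBlock (exists_enum)

universe u

variable {G : Type u} [Group G] [Finite G] [Fact (Nat.Prime 5)] [Fact (Nat.Prime 11)]
variable {P : Sylow 11 G} {Q : Sylow 5 G} {t : G}
variable {M5 : Ideal AlgInt} {NE5 X5 : Finset (IrrCharacter G)}
    {ε5 : IrrCharacter G → ℤ} {d5 : ℤ} {S5 : IrrCharacter G → Finset (Q →* ℂˣ)}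
variable {M : Ideal AlgInt} {NE X : Finset (IrrCharacter G)}
    {ε : IrrCharacter G → ℤ} {d : ℤ} {S : IrrCharacter G → Finset (P →* ℂˣ)}

/-- The degree relation. -/
theorem rel_deg [DecidableEq (IrrCharacter G)] (B5 : Blk 5 Q 4 1 M5 NE5 X5 ε5 d5 S5)
    (hQ : Nat.card Q = 5) :
    ∑ χ ∈ (NE5 ∪ X5).erase (one G), s5 (charDegree (χ : G → ℂ)) *
      (charDegree (χ : G → ℂ) : ℤ) = -1 := by
  have h := five_rel B5 hQ (g := 1) (BlockTwo.not_dvd_one (p := 5))
  have h1 : ((∑ χ ∈ (NE5 ∪ X5).erase (one G), s5 (charDegree (χ : G → ℂ)) *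
      (charDegree (χ : G → ℂ) : ℤ) : ℤ) : ℂ) = ((-1 : ℤ) : ℂ) := by
    push_cast
    rw [← h]
    refine Finset.sum_congr rfl fun χ _ => ?_
    rw [irr_one_eq_charDegree χ.2]
  exact_mod_cast h1

/-- The relation at the involution. -/
theorem rel_inv [DecidableEq (IrrCharacter G)] (B5 : Blk 5 Q 4 1 M5 NE5 X5 ε5 d5 S5)
    (hQ : Nat.card Q = 5) (ht : orderOf t = 2) {zt : IrrCharacter G → ℤ}
    (hzt : ∀ χ : IrrCharacter G, (χ : G → ℂ) t = zt χ) :
    ∑ χ ∈ (NE5 ∪ X5).erase (one G), s5 (charDegree (χ : G → ℂ)) * zt χ = -1 := by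
  have h := five_rel B5 hQ (g := t) (by rw [ht]; norm_num)
  have h1 : ((∑ χ ∈ (NE5 ∪ X5).erase (one G), s5 (charDegree (χ : G → ℂ)) *
      zt χ : ℤ) : ℂ) = ((-1 : ℤ) : ℂ) := by
    push_cast
    rw [← h]
    refine Finset.sum_congr rfl fun χ _ => ?_
    rw [hzt χ]
  exact_mod_cast h1

/-- The relation at the elements of order 23. -/
theorem rel_V [IsSimpleGroup G] [DecidableEq (IrrCharacter G)] (hcard : Nat.card G = 244823040)
    (B5 : Blk 5 Q 4 1 M5 NE5 X5 ε5 d5 S5) :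
    ∑ χ ∈ (NE5 ∪ X5).erase (one G), s5 (charDegree (χ : G → ℂ)) *
      vv (charDegree (χ : G → ℂ)) = -22 := by
  obtain ⟨P23⟩ : Nonempty (Sylow 23 G) := inferInstance
  have hP23 : Nat.card (P23 : Subgroup G) = 23 := card_P hcard P23
  have h2 := sum_V ((NE5 ∪ X5).erase (one G)) (fun ψ => (s5 (charDegree (ψ : G → ℂ)) : ℂ))
    (fun ψ : IrrCharacter G => (ψ : G → ℂ))
    (P23 : Subgroup G) (g := (one G : G → ℂ)) (d := -1) (fun x hx hx1 => by
      have h3 : (one G : G → ℂ) x = 1 := rfl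
      rw [h3, mul_one]
      apply five_rel B5 (card_Q hcard Q)
      have h2 : orderOf x ∣ 23 := by
        have := orderOf_dvd_natCard (⟨x, hx⟩ : (P23 : Subgroup G))
        rw [Subgroup.orderOf_mk, hP23] at this
        exact this
      intro h3
      have := h3.trans h2
      revert this
      norm_num)
  rw [V_one hcard] at h2
  have h1 : ((∑ χ ∈ (NE5 ∪ X5).erase (one G), s5 (charDegree (χ : G → ℂ)) *
      vv (charDegree (χ : G → ℂ)) : ℤ) : ℂ) = ((-22 : ℤ) : ℂ) := by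
    push_cast
    push_cast at h2
    rw [show (-22 : ℂ) = -1 * 22 by norm_num, ← h2]
    refine Finset.sum_congr rfl fun χ hχ => ?_
    rw [(adm_and_V hcard P23 (Finset.ne_of_mem_erase hχ)).2]
  exact_mod_cast h1

/-- The relation at the elements of order 11 and 22. -/
theorem rel_X [IsSimpleGroup G] [DecidableEq (IrrCharacter G)] (hcard : Nat.card G = 244823040)
    (L : Loc P Q t) (B5 : Blk 5 Q 4 1 M5 NE5 X5 ε5 d5 S5) (B : Blk 11 P 5 2 M NE X ε d S)
    {w : IrrCharacter G → ℤ} (h1 : ∀ χ ∈ NE, w χ = 2 * ε χ) (h2 : ∀ χ ∈ X, w χ = -d)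
    (h3 : ∀ χ, χ ∉ NE → χ ∉ X → w χ = 0) :
    ∑ χ ∈ (NE5 ∪ X5).erase (one G), s5 (charDegree (χ : G → ℂ)) * w χ = -2 := by
  have hP : Nat.card (P : Subgroup G) = 11 := card_P11 hcard P
  have htp : ¬ 11 ∣ orderOf t := by rw [L.t_ord]; norm_num
  -- the values of the sums
  have hV : ∀ χ : IrrCharacter G, V (P : Subgroup G) (fun x => (χ : G → ℂ) x +
      (χ : G → ℂ) (x * t)) = 10 * w χ := by
    intro χ
    by_cases hNE : χ ∈ NE
    · have h4 := V_const (P : Subgroup G) (χ := fun x => (χ : G → ℂ) x + (χ : G → ℂ) (x * t))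
        (c := 2 * (ε χ : ℂ)) (fun x hx hx1 => by
          have h5 := mul_eq B (Or.inl hNE) L.t_mem htp hx hx1
          have h6 := B.val_NE χ hNE x hx hx1 1 (one_mem _) (BlockTwo.not_dvd_one (p := 11))
          rw [mul_one] at h6
          rw [h5, h6]
          ring)
      rw [h4, hP, h1 χ hNE]
      push_cast
      ring
    · by_cases hX : χ ∈ X
      · obtain ⟨hc, h1S, hv⟩ := B.val_X χ hX
        have h4 := V_sum_hom (P := (P : Subgroup G)) h1S
          (χ := fun x => (χ : G → ℂ) x + (χ : G → ℂ) (x * t)) (d := 2 * (d : ℂ)) (fun x hx1 => by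
            have h5 := mul_eq B (Or.inr hX) L.t_mem htp x.2 (fun h => hx1 (Subtype.ext h))
            have h6 := hv x hx1 1 (one_mem _) (BlockTwo.not_dvd_one (p := 11))
            rw [mul_one] at h6
            rw [h5, h6]
            ring)
        rw [h4, hc, h2 χ hX]
        push_cast
        ring
      · have h4 := V_const (P : Subgroup G) (χ := fun x => (χ : G → ℂ) x + (χ : G → ℂ) (x * t))
          (c := 0) (fun x hx hx1 =>
            add_eq_zero B hP (by norm_num) L.cardC L.t_mem L.t_ord hNE hX hx hx1)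
        rw [h4, h3 χ hNE hX]
        push_cast
        ring
  have hV1 : V (P : Subgroup G) (fun _ => (1 : ℂ)) = 10 := by
    rw [V_const (P : Subgroup G) (c := 1) (fun _ _ _ => rfl), hP]
    norm_num
  have h4 := sum_V ((NE5 ∪ X5).erase (one G)) (fun ψ => (s5 (charDegree (ψ : G → ℂ)) : ℂ))
    (fun (χ : IrrCharacter G) x => (χ : G → ℂ) x + (χ : G → ℂ) (x * t))
    (P : Subgroup G) (g := fun _ => 1) (d := -2) (fun x hx hx1 => by
      have hox := Cfsg.Agent.Blocks.CyclicOrtho.orderOf_eq P hP hx hx1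
      have h5 := five_rel B5 (card_Q hcard Q) (g := x) (by rw [hox]; norm_num)
      have h6 := five_rel B5 (card_Q hcard Q) (g := x * t) (by
        rw [BlockTwo.mul_ne hP (by norm_num) L.t_mem L.t_ord hx hx1]; norm_num)
      simp only [mul_add]
      rw [Finset.sum_add_distrib, h5, h6]
      norm_num)
  rw [hV1] at h4
  simp only [hV] at h4
  have h7 : ((10 * ∑ χ ∈ (NE5 ∪ X5).erase (one G), s5 (charDegree (χ : G → ℂ)) * w χ : ℤ) : ℂ) =
      ((-20 : ℤ) : ℂ) := by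
    push_cast
    rw [show (-20 : ℂ) = -2 * 10 by norm_num, ← h4, Finset.mul_sum]
    refine Finset.sum_congr rfl fun χ _ => ?_
    ring
  have h8 : 10 * ∑ χ ∈ (NE5 ∪ X5).erase (one G), s5 (charDegree (χ : G → ℂ)) * w χ = -20 := by
    exact_mod_cast h7
  omega

/-- Case A: a member `σ` of both principal blocks, nonexceptional in the 11-block, with opposite
signs. -/
theorem caseA_false [IsSimpleGroup G] [DecidableEq (IrrCharacter G)]
    (hcard : Nat.card G = 244823040)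
    (L : Loc P Q t) (B5 : Blk 5 Q 4 1 M5 NE5 X5 ε5 d5 S5) (B : Blk 11 P 5 2 M NE X ε d S)
    {σ : IrrCharacter G} (hσ : σ ∈ (NE5 ∪ X5).erase (one G)) (hσNE : σ ∈ NE)
    (hsign : s5 (charDegree (σ : G → ℂ)) * ε σ = -1) : False := by
  have hQ := card_Q hcard Q
  have hP := card_P11 hcard P
  obtain ⟨P23⟩ : Nonempty (Sylow 23 G) := inferInstance
  obtain ⟨zt, hzt⟩ := exists_zt (G := G) L.t_ord
  have hmem5 : ∀ χ ∈ (NE5 ∪ X5).erase (one G), χ ≠ one G ∧ (χ ∈ NE5 ∨ χ ∈ X5) :=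
    fun χ hχ => ⟨Finset.ne_of_mem_erase hχ, Finset.mem_union.1 (Finset.mem_of_mem_erase hχ)⟩
  have hmod : ∀ χ ∈ (NE5 ∪ X5).erase (one G),
      charDegree (χ : G → ℂ) % 5 = 1 ∨ charDegree (χ : G → ℂ) % 5 = 4 := fun χ hχ => by
    rcases (hmem5 χ hχ).2 with h | h
    · exact (five_NE B5 hQ h).1
    · exact (five_X B5 hQ h).1
  have hdegs : ∀ χ ∈ (NE5 ∪ X5).erase (one G), charDegree (χ : G → ℂ) ∈ degs5 := fun χ hχ =>
    mem_degs5 (adm_and_V hcard P23 (hmem5 χ hχ).1).1 (hmod χ hχ)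
  have hspec : charDegree (σ : G → ℂ) ∈ spec := by
    apply mem_spec _ (hdegs σ hσ)
    have h1 := hmod σ hσ
    have h2 : (11 : ℤ) ∣ _ := dvd_NE B hP hσNE
    have h3 := B.kb.eps σ hσNE
    unfold s5 at hsign
    split_ifs at hsign <;> omega
  obtain ⟨c, hinj, hc, hmono⟩ := exists_enum (((NE5 ∪ X5).erase (one G)).erase σ)
    (fun χ => charDegree (χ : G → ℂ)) (n := 3) (by
      rw [Finset.card_erase_of_mem hσ, five_card B5])
  have hcm : ∀ i, c i ∈ (NE5 ∪ X5).erase (one G) := fun i =>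
    Finset.mem_of_mem_erase ((hc (c i)).2 ⟨i, rfl⟩)
  have hset : ((NE5 ∪ X5).erase (one G)).erase σ = Finset.univ.image c := by
    ext χ
    rw [hc χ, Finset.mem_image]
    simp
  have hsum : ∀ f : IrrCharacter G → ℤ, ∑ χ ∈ (NE5 ∪ X5).erase (one G), f χ =
      f σ + f (c 0) + f (c 1) + f (c 2) := by
    intro f
    rw [← Finset.add_sum_erase _ _ hσ, hset, Finset.sum_image (fun i _ j _ h => hinj h),
      Fin.sum_univ_three]
    ring
  have e1 := rel_deg B5 hQ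
  have e2 := rel_V hcard B5
  have e3 := rel_inv B5 hQ L.t_ord hzt
  have e4 := InvolColumn.sum_sq_le (NE5 ∪ X5) t zt (fun χ _ => hzt χ)
  rw [← Finset.add_sum_erase _ _ (Finset.mem_union_left X5 B5.kb.one_mem)] at e4
  rw [hsum] at e1 e2 e3 e4
  have hone : zt (one G) = 1 := by
    have h1 := hzt (one G)
    have h2 : (one G : G → ℂ) t = 1 := rfl
    rw [h2] at h1
    exact_mod_cast h1.symm
  have h01 : charDegree (c 0 : G → ℂ) ≤ charDegree (c 1 : G → ℂ) :=
    hmono (show (0 : Fin 3) ≤ 1 by decide)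
  have h12 : charDegree (c 1 : G → ℂ) ≤ charDegree (c 2 : G → ℂ) :=
    hmono (show (1 : Fin 3) ≤ 2 by decide)
  have hany : ∀ i, zt (c i) ∈ zany (Nat.card (centralizer ({t} : Set G)))
      (charDegree (c i : G → ℂ)) := fun i =>
    mem_zany' hcard L B5 B (hmem5 _ (hcm i)).1 (hmem5 _ (hcm i)).2 (hzt (c i))
  refine false_of_caseA L.card_cs hspec (hdegs _ (hcm 0)) (hdegs _ (hcm 1)) (hdegs _ (hcm 2))
    h01 h12 (by linarith) (by linarith)
    (mem_zin' hcard L B5 B (hmem5 σ hσ).1 (hmem5 σ hσ).2 (Or.inl hσNE) (hzt σ))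
    (hany 0) (hany 1) (hany 2) (by linarith) ?_
  rw [hone] at e4
  nlinarith [e4]

/-- The sum over the exceptional characters. -/
theorem X_sub [IsSimpleGroup G] [DecidableEq (IrrCharacter G)] (hcard : Nat.card G = 244823040)
    (L : Loc P Q t) (B5 : Blk 5 Q 4 1 M5 NE5 X5 ε5 d5 S5) (B : Blk 11 P 5 2 M NE X ε d S)
    (hA : ∀ σ ∈ (NE5 ∪ X5).erase (one G), σ ∈ NE → s5 (charDegree (σ : G → ℂ)) * ε σ ≠ -1) :
    X ⊆ (NE5 ∪ X5).erase (one G) ∧ (∀ χ ∈ X, s5 (charDegree (χ : G → ℂ)) * d = 1) ∧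
      ∀ χ ∈ (NE5 ∪ X5).erase (one G), χ ∉ NE := by
  set S' := (NE5 ∪ X5).erase (one G) with hS'
  let w : IrrCharacter G → ℤ := fun χ => if χ ∈ NE then 2 * ε χ else if χ ∈ X then -d else 0
  have hXNE : ∀ χ ∈ X, χ ∉ NE := fun χ hχ h => Finset.disjoint_left.1 B.kb.disj h hχ
  have w1 : ∀ χ ∈ NE, w χ = 2 * ε χ := fun χ h => by simp only [w, if_pos h]
  have w2 : ∀ χ ∈ X, w χ = -d := fun χ h => by simp only [w, if_neg (hXNE χ h), if_pos h]
  have w3 : ∀ χ, χ ∉ NE → χ ∉ X → w χ = 0 := fun χ h h' => by simp only [w, if_neg h, if_neg h']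
  have hrel := rel_X hcard L B5 B w1 w2 w3
  rw [← hS'] at hrel
  let T : IrrCharacter G → ℤ := fun χ =>
    s5 (charDegree (χ : G → ℂ)) * w χ + (if χ ∈ X then 1 else 0)
  have hs5 : ∀ n : ℕ, s5 n = 1 ∨ s5 n = -1 := fun n => by
    unfold s5; split_ifs <;> simp
  have hTNE : ∀ χ ∈ S', χ ∈ NE → T χ = 2 := by
    intro χ hχ hNE
    have h1 := hA χ hχ hNE
    simp only [T, w1 χ hNE, if_neg (fun h => hXNE χ h hNE)]
    rcases hs5 (charDegree (χ : G → ℂ)) with h2 | h2 <;>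
      rcases B.kb.eps χ hNE with h3 | h3 <;> rw [h2, h3] at h1 ⊢ <;> omega
  have hTX : ∀ χ ∈ X, T χ = 1 - s5 (charDegree (χ : G → ℂ)) * d := by
    intro χ hX
    simp only [T, w2 χ hX, if_pos hX]
    ring
  have hTX0 : ∀ χ ∈ X, 0 ≤ T χ := by
    intro χ hX
    rw [hTX χ hX]
    rcases hs5 (charDegree (χ : G → ℂ)) with h2 | h2 <;>
      rcases B.kb.hd with h3 | h3 <;> rw [h2, h3] <;> omega
  have hT0 : ∀ χ, χ ∉ NE → χ ∉ X → T χ = 0 := by
    intro χ h1 h2
    simp only [T, w3 χ h1 h2, if_neg h2]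
    ring
  have hTnn : ∀ χ ∈ S', 0 ≤ T χ := by
    intro χ hχ
    by_cases h1 : χ ∈ NE
    · rw [hTNE χ hχ h1]; omega
    · by_cases h2 : χ ∈ X
      · exact hTX0 χ h2
      · rw [hT0 χ h1 h2]
  have hsum : ∑ χ ∈ S', T χ = -2 + ((S'.filter (· ∈ X)).card : ℤ) := by
    simp only [T]
    rw [Finset.sum_add_distrib, hrel, Finset.sum_ite]
    simp
  have hle : (S'.filter (· ∈ X)).card ≤ 2 := by
    rw [← B.kb.card_X]
    exact Finset.card_le_card fun χ hχ => (Finset.mem_filter.1 hχ).2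
  have hnn := Finset.sum_nonneg hTnn
  have hcard2 : (S'.filter (· ∈ X)).card = 2 := by omega
  have hzero : ∑ χ ∈ S', T χ = 0 := by rw [hsum, hcard2]; norm_num
  have hall := (Finset.sum_eq_zero_iff_of_nonneg hTnn).1 hzero
  have hXeq : S'.filter (· ∈ X) = X := by
    apply Finset.eq_of_subset_of_card_le (fun χ hχ => (Finset.mem_filter.1 hχ).2)
    rw [hcard2, B.kb.card_X]
  have hXS : X ⊆ S' := by
    rw [← hXeq]
    exact Finset.filter_subset _ _
  refine ⟨hXS, fun χ hχ => ?_, fun χ hχ hNE => ?_⟩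
  · have h1 := hall χ (hXS hχ)
    rw [hTX χ hχ] at h1
    omega
  · have h1 := hall χ hχ
    rw [hTNE χ hχ hNE] at h1
    omega

/-- Case B: only one possibility is left. -/
theorem caseB_eq [IsSimpleGroup G] [DecidableEq (IrrCharacter G)] (hcard : Nat.card G = 244823040)
    (L : Loc P Q t) (B5 : Blk 5 Q 4 1 M5 NE5 X5 ε5 d5 S5) (B : Blk 11 P 5 2 M NE X ε d S)
    (hXS : X ⊆ (NE5 ∪ X5).erase (one G))
    (hXd : ∀ χ ∈ X, s5 (charDegree (χ : G → ℂ)) * d = 1)
    (hNE : ∀ χ ∈ (NE5 ∪ X5).erase (one G), χ ∉ NE) :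
    Nat.card (centralizer ({t} : Set G)) = 15840 ∧ ∀ χ ∈ X, charDegree (χ : G → ℂ) = 896 := by
  have hQ := card_Q hcard Q
  have hP := card_P11 hcard P
  obtain ⟨P23⟩ : Nonempty (Sylow 23 G) := inferInstance
  obtain ⟨zt, hzt⟩ := exists_zt (G := G) L.t_ord
  have hmem5 : ∀ χ ∈ (NE5 ∪ X5).erase (one G), χ ≠ one G ∧ (χ ∈ NE5 ∨ χ ∈ X5) :=
    fun χ hχ => ⟨Finset.ne_of_mem_erase hχ, Finset.mem_union.1 (Finset.mem_of_mem_erase hχ)⟩
  have hmod : ∀ χ ∈ (NE5 ∪ X5).erase (one G),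
      charDegree (χ : G → ℂ) % 5 = 1 ∨ charDegree (χ : G → ℂ) % 5 = 4 := fun χ hχ => by
    rcases (hmem5 χ hχ).2 with h | h
    · exact (five_NE B5 hQ h).1
    · exact (five_X B5 hQ h).1
  have hdegs : ∀ χ ∈ (NE5 ∪ X5).erase (one G), charDegree (χ : G → ℂ) ∈ degs5 := fun χ hχ =>
    mem_degs5 (adm_and_V hcard P23 (hmem5 χ hχ).1).1 (hmod χ hχ)
  obtain ⟨Θ, Θ', hne, hX⟩ := Finset.card_eq_two.1 B.kb.card_X
  have hΘ : Θ ∈ X := by rw [hX]; simp
  have hΘ' : Θ' ∈ X := by rw [hX]; simp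
  have hd0 : (d : ℂ) ≠ 0 := by
    rcases B.kb.hd with h | h <;> rw [h] <;> norm_num
  have hdeg : charDegree (Θ' : G → ℂ) = charDegree (Θ : G → ℂ) := by
    have h1 := B.kb.rel_one Θ hΘ
    rw [B.kb.rel_one Θ' hΘ'] at h1
    rcases B.kb.hd with h | h <;> rw [h] at h1 <;> omega
  have hzz : zt Θ' = zt Θ := by
    have h2 : ¬ 11 ∣ orderOf t := by rw [L.t_ord]; norm_num
    have h1 := B.kb.rel Θ hΘ t h2
    rw [B.kb.rel Θ' hΘ' t h2, hzt, hzt] at h1
    have := mul_left_cancel₀ hd0 h1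
    exact_mod_cast this
  have hspec : charDegree (Θ : G → ℂ) ∈ specB := by
    apply mem_specB _ (hdegs Θ (hXS hΘ))
    have h1 := hmod Θ (hXS hΘ)
    have h2 : (11 : ℤ) ∣ _ := dvd_X B hP hΘ
    have h3 := hXd Θ hΘ
    rcases B.kb.hd with h | h <;> rw [h] at h2 h3 <;> unfold s5 at h3 <;> push_cast at h2 <;>
      split_ifs at h3 <;> omega
  obtain ⟨c, hinj, hc, hmono⟩ := exists_enum ((NE5 ∪ X5).erase (one G) \ X)
    (fun χ => charDegree (χ : G → ℂ)) (n := 2) (by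
      rw [Finset.card_sdiff_of_subset hXS, five_card B5, B.kb.card_X])
  have hcm : ∀ i, c i ∈ (NE5 ∪ X5).erase (one G) ∧ c i ∉ X := fun i =>
    Finset.mem_sdiff.1 ((hc (c i)).2 ⟨i, rfl⟩)
  have hset : (NE5 ∪ X5).erase (one G) \ X = Finset.univ.image c := by
    ext χ
    rw [hc χ, Finset.mem_image]
    simp
  have hsum : ∀ f : IrrCharacter G → ℤ, ∑ χ ∈ (NE5 ∪ X5).erase (one G), f χ =
      f Θ + f Θ' + f (c 0) + f (c 1) := by
    intro f
    rw [← Finset.sum_sdiff hXS, hset, Finset.sum_image (fun i _ j _ h => hinj h),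
      Fin.sum_univ_two, hX, Finset.sum_pair hne]
    ring
  have e1 := rel_deg B5 hQ
  have e2 := rel_V hcard B5
  have e3 := rel_inv B5 hQ L.t_ord hzt
  have e4 := InvolColumn.sum_sq_le (NE5 ∪ X5) t zt (fun χ _ => hzt χ)
  rw [← Finset.add_sum_erase _ _ (Finset.mem_union_left X5 B5.kb.one_mem)] at e4
  rw [hsum] at e1 e2 e3 e4
  have hone : zt (one G) = 1 := by
    have h1 := hzt (one G)
    have h2 : (one G : G → ℂ) t = 1 := rfl
    rw [h2] at h1
    exact_mod_cast h1.symm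
  rw [hdeg] at e1 e2 e3
  rw [hzz] at e3 e4
  rw [hone] at e4
  have h01 : charDegree (c 0 : G → ℂ) ≤ charDegree (c 1 : G → ℂ) :=
    hmono (show (0 : Fin 2) ≤ 1 by decide)
  have hout : ∀ i, zt (c i) ∈ zout (Nat.card (centralizer ({t} : Set G)))
      (charDegree (c i : G → ℂ)) := fun i =>
    mem_zout' hcard L B5 B (hmem5 _ (hcm i).1).1 (hmem5 _ (hcm i).1).2 (hNE _ (hcm i).1)
      (hcm i).2 (hzt (c i))
  have hin := mem_zin' hcard L B5 B (hmem5 Θ (hXS hΘ)).1 (hmem5 Θ (hXS hΘ)).2 (Or.inr hΘ) (hzt Θ)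
  have key := eq_of_caseB L.card_cs hspec (hdegs _ (hcm 0).1) (hdegs _ (hcm 1).1) h01
    (by linarith) (by linarith) hin (hout 0) (hout 1) (by linarith) (by nlinarith [e4])
  refine ⟨key.1, fun χ hχ => ?_⟩
  rw [hX, Finset.mem_insert, Finset.mem_singleton] at hχ
  rcases hχ with rfl | rfl
  · exact key.2
  · rw [hdeg]; exact key.2

/-- The remaining possibility: the degrees of the principal 11-block. -/
theorem final_false [IsSimpleGroup G] (hcard : Nat.card G = 244823040)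
    (L : Loc P Q t) (B : Blk 11 P 5 2 M NE X ε d S)
    (hc : Nat.card (centralizer ({t} : Set G)) = 15840)
    (hd1 : d = 1) (hX896 : ∀ χ ∈ X, charDegree (χ : G → ℂ) = 896) : False := by
  classical
  have hP := card_P11 hcard P
  obtain ⟨P23⟩ : Nonempty (Sylow 23 G) := inferInstance
  have hP23 : Nat.card (P23 : Subgroup G) = 23 := card_P hcard P23
  obtain ⟨Θ, Θ', hne, hX⟩ := Finset.card_eq_two.1 B.kb.card_X
  have hΘ : Θ ∈ X := by rw [hX]; simp
  have hΘne : Θ ≠ one G := by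
    rintro rfl
    exact Finset.disjoint_left.1 B.kb.disj B.kb.one_mem hΘ
  have hf := hX896 Θ hΘ
  -- the degree relation
  have h1 := B.kb.rel_one Θ hΘ
  have hone : (charDegree ((one G : IrrCharacter G) : G → ℂ) : ℤ) = 1 := by
    exact_mod_cast (charDegree_one (G := G))
  rw [← Finset.add_sum_erase _ _ B.kb.one_mem, B.kb.eps_one, hone, hf, hd1] at h1
  -- the relation for the elements of order 23
  have h2 := sum_V NE (fun ψ => (ε ψ : ℂ)) (fun ψ : IrrCharacter G => (ψ : G → ℂ))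
    (P23 : Subgroup G) (g := (Θ : G → ℂ)) (d := (d : ℂ)) (fun x hx hx1 => by
      apply B.kb.rel Θ hΘ x
      have h2 : orderOf x ∣ 23 := by
        have := orderOf_dvd_natCard (⟨x, hx⟩ : (P23 : Subgroup G))
        rw [Subgroup.orderOf_mk, hP23] at this
        exact this
      intro h3
      have := h3.trans h2
      revert this
      norm_num)
  rw [← Finset.add_sum_erase _ _ B.kb.one_mem, B.kb.eps_one, V_one hcard,
    (adm_and_V hcard P23 hΘne).2, hf, hd1] at h2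
  have hvv : vv 896 = -22 := by decide
  rw [hvv] at h2
  -- the other members
  have hs11 : ∀ χ ∈ NE, (charDegree (χ : G → ℂ) % 11 = 1 ∨ charDegree (χ : G → ℂ) % 11 = 10) ∧
      s11 (charDegree (χ : G → ℂ)) = ε χ := by
    intro χ hχ
    have h3 : (11 : ℤ) ∣ _ := dvd_NE B hP hχ
    have h4 := B.kb.eps χ hχ
    unfold s11
    split_ifs <;> omega
  have hdegs : ∀ χ ∈ NE.erase (one G), charDegree (χ : G → ℂ) ∈ degs11 := by
    intro χ hχ
    have hχ1 := Finset.ne_of_mem_erase hχ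
    have hχNE := Finset.mem_of_mem_erase hχ
    rcases mem_degs11 (adm_and_V hcard P23 hχ1).1 (hs11 χ hχNE).1 with h3 | h3
    · exfalso
      obtain ⟨zt, hzt⟩ := exists_zt (G := G) L.t_ord
      obtain ⟨a1, a2, a3⟩ := value hcard L.t_ord hχ1 (hzt χ)
      have b11 : (11 : ℤ) ∣ _ :=
        dvd_sub B hP (Or.inl hχNE) L.t_mem (by rw [L.t_ord]; norm_num) (hzt χ)
      rw [h3, hc] at a3
      simp only [ElevenTwoArith.cond, Bool.and_eq_true, beq_iff_eq] at a3
      have a4 := a3.2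
      rw [h3] at a1 a2 b11
      rw [abs_lt] at a1
      norm_num at a4
      push_cast at a1 a2 b11
      omega
    · exact h3
  have h1' : ∑ χ ∈ NE.erase (one G), s11 (charDegree (χ : G → ℂ)) *
      (charDegree (χ : G → ℂ) : ℤ) = 895 := by
    have : ∑ χ ∈ NE.erase (one G), s11 (charDegree (χ : G → ℂ)) *
        (charDegree (χ : G → ℂ) : ℤ) =
        ∑ χ ∈ NE.erase (one G), ε χ * (charDegree (χ : G → ℂ) : ℤ) :=
      Finset.sum_congr rfl fun χ hχ => by rw [(hs11 χ (Finset.mem_of_mem_erase hχ)).2]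
    rw [this]
    push_cast at h1
    linarith
  have h2' : ∑ χ ∈ NE.erase (one G), s11 (charDegree (χ : G → ℂ)) *
      vv (charDegree (χ : G → ℂ)) = -44 := by
    have h3 : ((∑ χ ∈ NE.erase (one G), s11 (charDegree (χ : G → ℂ)) *
        vv (charDegree (χ : G → ℂ)) : ℤ) : ℂ) = ((-44 : ℤ) : ℂ) := by
      push_cast
      have h4 : ∑ χ ∈ NE.erase (one G), (s11 (charDegree (χ : G → ℂ)) : ℂ) *
          (vv (charDegree (χ : G → ℂ)) : ℂ) = ∑ χ ∈ NE.erase (one G), (ε χ : ℂ) *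
            V (P23 : Subgroup G) (χ : G → ℂ) :=
        Finset.sum_congr rfl fun χ hχ => by
          rw [(hs11 χ (Finset.mem_of_mem_erase hχ)).2,
            (adm_and_V hcard P23 (Finset.ne_of_mem_erase hχ)).2]
      rw [h4]
      push_cast at h2
      linear_combination h2
    exact_mod_cast h3
  obtain ⟨c, hinj, hcc, hmono⟩ := exists_enum (NE.erase (one G))
    (fun χ => charDegree (χ : G → ℂ)) (n := 4) (by
      rw [Finset.card_erase_of_mem B.kb.one_mem, B.kb.card_NE])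
  have hcm : ∀ i, c i ∈ NE.erase (one G) := fun i => (hcc (c i)).2 ⟨i, rfl⟩
  have hset : NE.erase (one G) = Finset.univ.image c := by
    ext χ
    rw [hcc χ, Finset.mem_image]
    simp
  have hsum : ∀ f : IrrCharacter G → ℤ, ∑ χ ∈ NE.erase (one G), f χ =
      f (c 0) + f (c 1) + f (c 2) + f (c 3) := by
    intro f
    rw [hset, Finset.sum_image (fun i _ j _ h => hinj h), Fin.sum_univ_four]
  rw [hsum] at h1' h2'
  exact false_of_case4 (hdegs _ (hcm 0)) (hdegs _ (hcm 1)) (hdegs _ (hcm 2)) (hdegs _ (hcm 3))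
    (hmono (show (0 : Fin 4) ≤ 1 by decide)) (hmono (show (1 : Fin 4) ≤ 2 by decide)) h1' h2'

/-- The case `e₅ = 4`. -/
theorem four_false [IsSimpleGroup G] (hcard : Nat.card G = 244823040)
    (L : Loc P Q t) (B5 : Blk 5 Q 4 1 M5 NE5 X5 ε5 d5 S5) (B : Blk 11 P 5 2 M NE X ε d S) :
    False := by
  classical
  by_cases hA : ∃ σ ∈ (NE5 ∪ X5).erase (one G), σ ∈ NE ∧
      s5 (charDegree (σ : G → ℂ)) * ε σ = -1
  · obtain ⟨σ, h1, h2, h3⟩ := hA
    exact caseA_false hcard L B5 B h1 h2 h3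
  · have hA' : ∀ σ ∈ (NE5 ∪ X5).erase (one G), σ ∈ NE →
        s5 (charDegree (σ : G → ℂ)) * ε σ ≠ -1 := fun σ h1 h2 h3 => hA ⟨σ, h1, h2, h3⟩
    obtain ⟨hXS, hXd, hNE⟩ := X_sub hcard L B5 B hA'
    obtain ⟨hc, h896⟩ := caseB_eq hcard L B5 B hXS hXd hNE
    have hne : X.Nonempty := by
      rw [← Finset.card_pos, B.kb.card_X]; norm_num
    obtain ⟨Θ, hΘ⟩ := hne
    have h1 := hXd Θ hΘ
    rw [h896 Θ hΘ] at h1
    have h2 : s5 896 = 1 := by decide
    rw [h2, one_mul] at h1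
    exact final_false hcard L B hc h1 h896

end Cfsg.Agent.SporadicA.M24.ElevenTwoFour
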