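import Cfsg.Agent.SporadicA.M24.ElevenTwoArith
import Cfsg.Agent.SporadicA.M24.BlockTwo
import Cfsg.Agent.SporadicA.M24.Adm
import Cfsg.Agent.SmallSimple.FixCount
import Cfsg.Agent.SmallSimple.PrimeSylowAut
import Cfsg.Agent.MTwelve.FiveBlock
import Cfsg.Agent.MTwelve.ElevenBlock

/-!
# The case `e = 5`, `|K| = 2` of the Sylow 11-subgroups: local analysis and values
-/

set_option autoImplicit false
set_option linter.unusedSectionVars false

namespace Cfsg.Agent.SporadicA.M24.ElevenTwoLocal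

open Cfsg Subgroup Cfsg.Agent.Characters.Core
open Cfsg.Agent.Blocks.Basic (irr_one_eq_charDegree)
open Cfsg.Agent.SmallSimple Cfsg.Agent.SmallSimple.PrimeLocal
open Cfsg.Agent.M23.Block
open Cfsg.Agent.M23.Adm (V AdmAt V_const V_sum_hom exists_add_V sum_V)
open Cfsg.Agent.SporadicA.M24.Sylow23 Cfsg.Agent.SporadicA.M24.ElevenTwoArith

universe u

variable {G : Type u} [Group G] [Finite G]

/-- The local data. -/
structure Loc (P : Sylow 11 G) (Q : Sylow 5 G) (t : G) : Prop where
  t_mem : t ∈ centralizer (P : Set G)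
  t_ord : orderOf t = 2
  t_memQ : t ∈ centralizer (Q : Set G)
  cardC : Nat.card (centralizer (P : Set G)) = 2 * 11
  card_cs : Nat.card (centralizer ({t} : Set G)) ∈ cs

theorem card_Q (hcard : Nat.card G = 244823040) (Q : Sylow 5 G) : Nat.card Q = 5 := by
  have : Fact (Nat.Prime 5) := ⟨by norm_num⟩
  exact card_of_not_sq_dvd (by rw [hcard]; norm_num) (by rw [hcard]; norm_num) Q

theorem card_P11 (hcard : Nat.card G = 244823040) (P : Sylow 11 G) : Nat.card P = 11 := by
  have : Fact (Nat.Prime 11) := ⟨by norm_num⟩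
  exact card_of_not_sq_dvd (by rw [hcard]; norm_num) (by rw [hcard]; norm_num) P

variable [IsSimpleGroup G]

theorem commutator_eq (hcard : Nat.card G = 244823040) : commutator G = ⊤ :=
  MTwelve.SmallDegree.commutator_eq_top_of_card (by rw [hcard]; norm_num)

/-- An element whose centralizer contains an element of order 23 has order dividing 23. -/
theorem not_dvd_centralizer (hcard : Nat.card G = 244823040) {t : G} (ht : orderOf t = 2) :
    ¬ 23 ∣ Nat.card (centralizer ({t} : Set G)) := by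
  intro hdvd
  have hp : Fact (Nat.Prime 23) := ⟨by norm_num⟩
  obtain ⟨⟨x, hx⟩, hox⟩ := exists_prime_orderOf_dvd_card' 23 hdvd
  have hox' : orderOf x = 23 := by rwa [← Subgroup.orderOf_coe] at hox
  obtain ⟨P, hPx⟩ := PrimeSylowAut.exists_sylow_eq_zpowers (fun P => card_P hcard P) hox'
  have htP : t ∈ (P : Subgroup G) := by
    rw [← Sylow23.centralizer_eq hcard P, mem_centralizer_iff]
    intro y hy
    have hy' : y ∈ zpowers x := by rw [← hPx]; exact hy
    obtain ⟨i, rfl⟩ := mem_zpowers_iff.1 hy'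
    exact (Commute.zpow_left (mem_centralizer_singleton_iff.1 hx : Commute x t) i)
  have h1 : orderOf t ∣ 23 := by
    have := orderOf_dvd_natCard (⟨t, htP⟩ : (P : Subgroup G))
    rw [Subgroup.orderOf_mk] at this
    have h2 : Nat.card (P : Subgroup G) = 23 := card_P hcard P
    rwa [h2] at this
  rw [ht] at h1
  norm_num at h1

theorem exists_loc (hcard : Nat.card G = 244823040) {P : Sylow 11 G} {K : Subgroup G}
    (h : IsLocal 11 P 5 K) (hK : Nat.card K = 2) : ∃ (Q : Sylow 5 G) (t : G), Loc P Q t := by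
  have hfact2 : Fact (Nat.Prime 2) := ⟨by norm_num⟩
  have hfact5 : Fact (Nat.Prime 5) := ⟨by norm_num⟩
  have hfact11 : Fact (Nat.Prime 11) := ⟨by norm_num⟩
  obtain ⟨t, ht⟩ := exists_prime_orderOf_dvd_card' (G := K) 2 (by rw [hK])
  have ht' : orderOf (t : G) = 2 := by rw [Subgroup.orderOf_coe, ht]
  have ht1 : (t : G) ≠ 1 := by
    intro h
    rw [h, orderOf_one] at ht'
    omega
  have htt : ∀ s ∈ K, s ≠ 1 → s = t := by
    intro s hs hs1
    have h1 : Nat.card (zpowers (t : G)) = Nat.card K := by rw [Nat.card_zpowers, ht', hK]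
    have h2 : zpowers (t : G) = K :=
      Subgroup.eq_of_le_of_card_ge (by rw [zpowers_le]; exact t.2) h1.symm.le
    rw [← h2] at hs
    obtain ⟨k, rfl⟩ := mem_zpowers_iff.1 hs
    have h3 : (t : G) ^ 2 = 1 := by rw [← ht', pow_orderOf_eq_one]
    rcases Int.even_or_odd' k with ⟨j, rfl | rfl⟩
    · exfalso
      apply hs1
      rw [zpow_mul]
      have : (t : G) ^ (2 : ℤ) = 1 := by exact_mod_cast h3
      rw [this, one_zpow]
    · rw [zpow_add, zpow_mul, zpow_one]
      have : (t : G) ^ (2 : ℤ) = 1 := by exact_mod_cast h3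
      rw [this, one_zpow, one_mul]
  have hnt : ∀ n ∈ normalizer (P : Set G), n * (t : G) * n⁻¹ = t := by
    intro n hn
    have h1 : n * (t : G) * n⁻¹ ∈ K := (mem_normalizer_iff.1 (h.normalizer_le hn) (t : G)).1 t.2
    refine htt _ h1 ?_
    intro h2
    apply ht1
    rw [mul_inv_eq_one] at h2
    exact mul_eq_left.1 h2
  have hcomm : ∀ n ∈ normalizer (P : Set G), n * (t : G) = t * n := by
    intro n hn
    have h2 := hnt n hn
    rw [mul_inv_eq_iff_eq_mul] at h2
    exact h2
  have hNle : normalizer (P : Set G) ≤ centralizer ({(t : G)} : Set G) := by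
    intro n hn
    rw [mem_centralizer_singleton_iff]
    exact hcomm n hn
  have hcardN := h.card_normalizer
  have hcardC := h.card_centralizer
  rw [hK] at hcardN hcardC
  obtain ⟨y, hy⟩ := exists_prime_orderOf_dvd_card' (G := normalizer (P : Set G)) 5
    (by rw [hcardN]; norm_num)
  have hy' : orderOf (y : G) = 5 := by rw [Subgroup.orderOf_coe, hy]
  obtain ⟨Q, hQ⟩ := PrimeSylowAut.exists_sylow_eq_zpowers (fun Q => card_Q hcard Q) hy'
  refine ⟨Q, t, h.le_centralizer t.2, ht', ?_, by rw [hcardC], ?_⟩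
  · rw [mem_centralizer_iff]
    intro z hz
    have hz' : z ∈ zpowers (y : G) := by rw [← hQ]; exact hz
    obtain ⟨i, rfl⟩ := mem_zpowers_iff.1 hz'
    exact ((show Commute (y : G) t from hcomm y y.2).zpow_left i).eq
  · obtain ⟨n, hn1, hn2⟩ := FixCount.card_eq_mul_modEq_one P (centralizer ({(t : G)} : Set G))
      ((le_normalizer).trans hNle)
    rw [inf_eq_right.2 hNle, hcardN] at hn2
    have h2 : n % 11 = 1 := hn1
    refine mem_cs ?_ ?_ ?_ (not_dvd_centralizer hcard ht')
    · rw [← hcard]; exact card_subgroup_dvd_card _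
    · rw [hn2]; omega
    · rw [hn2]; omega

/-! ### Degrees and values -/

theorem V_one (hcard : Nat.card G = 244823040) (P : Sylow 23 G) :
    V (P : Subgroup G) ((⟨1, isIrr_one⟩ : IrrCharacter G) : G → ℂ) = (22 : ℤ) := by
  have hP : Nat.card (P : Subgroup G) = 23 := card_P hcard P
  have h := V_const (χ := ((⟨1, isIrr_one⟩ : IrrCharacter G) : G → ℂ)) (P : Subgroup G)
    (c := 1) (fun x _ _ => rfl)
  rw [h, hP]
  norm_num

omit [Finite G] [IsSimpleGroup G] in
theorem charDegree_one : charDegree (((⟨1, isIrr_one⟩ : IrrCharacter G)) : G → ℂ) = 1 := by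
  have h := irr_one_eq_charDegree (χ := (((⟨1, isIrr_one⟩ : IrrCharacter G)) : G → ℂ)) isIrr_one
  have h1 : (((⟨1, isIrr_one⟩ : IrrCharacter G)) : G → ℂ) 1 = 1 := rfl
  rw [h1] at h
  exact_mod_cast h.symm

theorem one_lt_charDegree (hcard : Nat.card G = 244823040) {χ : IrrCharacter G}
    (hχ : χ ≠ ⟨1, isIrr_one⟩) : 1 < charDegree (χ : G → ℂ) := by
  refine MTwelve.ElevenBlock.one_lt_charDegree (commutator_eq hcard) χ.2 ?_
  intro h
  exact hχ (Subtype.ext h)

/-- The degree is admissible and determines the sum over a Sylow 23-subgroup. -/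
theorem adm_and_V (hcard : Nat.card G = 244823040) (P : Sylow 23 G) {χ : IrrCharacter G}
    (hχ : χ ≠ ⟨1, isIrr_one⟩) : adm (charDegree (χ : G → ℂ)) = true ∧
      V (P : Subgroup G) (χ : G → ℂ) = vv (charDegree (χ : G → ℂ)) := by
  obtain ⟨s, hs, hadm⟩ := Adm.adm hcard P χ
  have h1 := one_lt_charDegree hcard hχ
  have h2 := charDegree_lt hcard χ
  have h3 := Nat.mod_eq_zero_of_dvd (charDegree_dvd hcard χ)
  unfold AdmAt at hadm
  constructor
  · simp only [adm, Bool.and_eq_true, decide_eq_true_eq, beq_iff_eq, Bool.or_eq_true]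
    refine ⟨⟨⟨h1, h3⟩, h2⟩, ?_⟩
    omega
  · rw [hs]
    congr 1
    unfold vv
    split_ifs <;> omega

/-- The value at an involution. -/
theorem value (hcard : Nat.card G = 244823040) {t : G} (ht : orderOf t = 2) {χ : IrrCharacter G}
    (hχ : χ ≠ ⟨1, isIrr_one⟩) {z : ℤ} (hz : (χ : G → ℂ) t = z) :
    |z| < charDegree (χ : G → ℂ) ∧ (4 : ℤ) ∣ (charDegree (χ : G → ℂ) : ℤ) - z ∧
      cond (Nat.card (centralizer ({t} : Set G))) (charDegree (χ : G → ℂ)) z = true := by
  classical
  have ht2 : t ^ 2 = 1 := by rw [← ht]; exact pow_orderOf_eq_one t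
  have ht1 : t ≠ 1 := by
    rintro rfl
    rw [orderOf_one] at ht
    norm_num at ht
  obtain ⟨z', hz', hlt, h4⟩ := InvolColumn.exists_int (commutator_eq hcard) χ.2
    (fun h => hχ (Subtype.ext h)) ht2 ht1
  have hzz : z' = z := by
    rw [hz] at hz'
    exact_mod_cast hz'.symm
  subst hzz
  refine ⟨hlt, h4, cond_of hlt ?_ ?_⟩
  · have h5 := InvolColumn.sum_norm_sq_le {χ, ⟨1, isIrr_one⟩} t
    rw [Finset.sum_pair hχ, hz] at h5
    have h6 : (((⟨1, isIrr_one⟩ : IrrCharacter G)) : G → ℂ) t = 1 := rfl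
    rw [h6, Complex.norm_intCast, sq_abs, norm_one] at h5
    have h7 : ((z' * z' + 1 : ℤ) : ℝ) ≤ (Nat.card (centralizer ({t} : Set G)) : ℤ) := by
      push_cast
      linarith
    have h8 : z' * z' + 1 ≤ (Nat.card (centralizer ({t} : Set G)) : ℤ) := by exact_mod_cast h7
    omega
  · have h5 := InvolColumn.dvd_index_mul χ.2 hz
    have h6 : (centralizer ({t} : Set G)).index =
        244823040 / Nat.card (centralizer ({t} : Set G)) := by
      have h4 := (centralizer ({t} : Set G)).card_mul_index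
      rw [hcard] at h4
      rw [← h4, Nat.mul_div_cancel_left _ Nat.card_pos]
    rw [h6] at h5
    exact h5

end Cfsg.Agent.SporadicA.M24.ElevenTwoLocal
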