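import Cfsg.Agent.SporadicA.M24.ElevenCases
import Cfsg.Agent.SporadicA.M24.Adm

/-!
# Sylow 11-subgroups in a simple group of order `244823040`: the sum over a Sylow 23-subgroup

* `sum_V_eq`: the relation of a principal block summed over the nontrivial elements of `P₂₃`;
* `five_false`: `e = 5`, `|K| = 3456` is impossible;
* `ten_false`: `e = 10`, `|K| = 144, 1728` is impossible.
-/

set_option autoImplicit false
set_option linter.unusedSectionVars false

namespace Cfsg.Agent.SporadicA.M24.ElevenV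

open Cfsg Subgroup Cfsg.Agent.Characters.Core
open Cfsg.Agent.Blocks.Basic (irr_one_eq_charDegree)
open Cfsg.Agent.SmallSimple Cfsg.Agent.SmallSimple.PrimeLocal
open Cfsg.Agent.M23.Block Cfsg.Agent.SporadicA.M24.Sylow23 Cfsg.Agent.SporadicA.M24.ElevenTwo
open Cfsg.Agent.M23.Adm (V AdmAt V_const sum_V)
open Cfsg.Agent.SporadicA.M24.Adm

universe u

/-- The degree is not a divisor of `M`, or is `0` mod 23, or not admissible. -/
def okV (M n : ℕ) : Bool :=
  !(M % n == 0) || (n % 23 == 0 || !(n % 23 == 1 || (n % 23 == 22 || (n % 23 == 11 ||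
    n % 23 == 12))))

theorem arith10 : ∀ a < 1423, 2 ≤ a →
    (okV 154560 (11 * a + 1) && okV 154560 (11 * a + 10)) = true := by
  decide +kernel

theorem arith5 : ∀ a < 1423, 2 ≤ a →
    ((okV 6440 (11 * a + 1) && okV 6440 (11 * a + 10)) &&
      (okV 6440 (11 * a + 5) && okV 6440 (11 * a + 6))) = true := by
  decide +kernel

theorem eq_zero_of_okV {M n : ℕ} {s : ℤ} (h : okV M n = true) (hd : n ∣ M) (hs : AdmAt n s) :
    s = 0 := by
  unfold okV at h
  rw [Nat.mod_eq_zero_of_dvd hd] at h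
  simp at h
  unfold AdmAt at hs
  omega

variable {G : Type u} [Group G] [Finite G] [IsSimpleGroup G]

/-- The relation of a principal block summed over the nontrivial elements of `P₂₃`. -/
theorem sum_V_eq (hcard : Nat.card G = 244823040) (P23 : Sylow 23 G) {p e t : ℕ} [hp : Fact p.Prime]
    (hp23 : p ≠ 23) {P : Sylow p G}
    {M : Ideal AlgInt} {NE X : Finset (IrrCharacter G)} {ε : IrrCharacter G → ℤ} {d : ℤ}
    {S : IrrCharacter G → Finset (P →* ℂˣ)} (B : Blk p P e t M NE X ε d S)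
    {Θ : IrrCharacter G} (hΘ : Θ ∈ X) {v : IrrCharacter G → ℤ}
    (hv : ∀ χ : IrrCharacter G, V (P23 : Subgroup G) (χ : G → ℂ) = v χ) :
    ∑ χ ∈ NE, ε χ * v χ = d * v Θ := by
  have hP : Nat.card (P23 : Subgroup G) = 23 := card_P hcard P23
  have h1 := sum_V NE (fun χ => (ε χ : ℂ)) (fun χ : IrrCharacter G => (χ : G → ℂ))
    (P23 : Subgroup G) (g := (Θ : G → ℂ)) (d := (d : ℂ)) (fun x hx hx1 => by
      apply B.kb.rel Θ hΘ x
      have h2 : orderOf x ∣ 23 := by
        have := orderOf_dvd_natCard (⟨x, hx⟩ : (P23 : Subgroup G))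
        rw [Subgroup.orderOf_mk, hP] at this
        exact this
      intro h3
      have := h3.trans h2
      exact hp23 ((Nat.prime_dvd_prime_iff_eq hp.out (by norm_num)).1 this))
  rw [hv, Finset.sum_congr rfl fun χ _ => by rw [hv]] at h1
  exact_mod_cast h1

theorem v_one (hcard : Nat.card G = 244823040) (P23 : Sylow 23 G) :
    V (P23 : Subgroup G) ((⟨1, isIrr_one⟩ : IrrCharacter G) : G → ℂ) = (22 : ℤ) := by
  have hP : Nat.card (P23 : Subgroup G) = 23 := card_P hcard P23
  have h := V_const (χ := ((⟨1, isIrr_one⟩ : IrrCharacter G) : G → ℂ)) (P23 : Subgroup G)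
    (c := 1) (fun x _ _ => rfl)
  rw [h, hP]
  norm_num

/-- If all degrees in the principal block (apart from `1`) are `0` mod 23 we get a
contradiction. -/
theorem false_of_okV (hcard : Nat.card G = 244823040) {e t N : ℕ} {P : Sylow 11 G}
    {K : Subgroup G} (h : IsLocal 11 P e K) (hK1 : Nat.card K ≠ 1) (ht : e * t = 10)
    (hN : N * (11 * Nat.card K) = 244823040)
    (hNE : ∀ a < 1423, 2 ≤ a → okV N (11 * a + 1) = true ∧ okV N (11 * a + 10) = true)
    (hX : ∀ f a : ℕ, a < 1423 → 2 ≤ a → (f = 11 * a + e ∨ f + e = 11 * (a + 1)) →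
      okV N f = true) : False := by
  classical
  have hp : Fact (Nat.Prime 11) := ⟨by norm_num⟩
  have hP := card_eleven hcard P
  obtain ⟨M, NE, X, ε, d, S, B⟩ := exists_blk (not_prime hcard) 11 (by norm_num) P hP e t
    (BlockIndex.relIndex_eq h) (by rw [ht])
  let P23 : Sylow 23 G := default
  choose v hv1 hv2 using fun χ : IrrCharacter G => adm hcard P23 χ
  have hcop : Nat.Coprime 11 (Nat.card K) :=
    (Nat.Prime.coprime_iff_not_dvd (by norm_num)).2 h.not_dvd
  have hKb : K ≠ ⊥ := by rintro rfl; exact hK1 (by simp)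
  have he10 : e ≤ 10 := Nat.le_of_dvd (by norm_num) ⟨t, ht.symm⟩
  have hdvd : ∀ χ : IrrCharacter G, χ ∈ NE ∨ χ ∈ X → charDegree (χ : G → ℂ) ∣ N := by
    intro χ hχ
    have h1 := BlockIndex.mul_dvd_card B hP h.card_centralizer hχ
    rw [hcard, ← hN] at h1
    exact Nat.dvd_of_mul_dvd_mul_right (Nat.mul_pos (by norm_num) Nat.card_pos) h1
  obtain ⟨Θ, hΘ⟩ : ∃ Θ, Θ ∈ X := by
    apply Finset.card_pos.1
    rw [B.kb.card_X]
    rcases Nat.eq_zero_or_pos t with h0 | h0
    · rw [h0] at ht; omega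
    · exact h0
  have hrel := sum_V_eq hcard P23 (by norm_num) B hΘ (v := v) hv1
  have hvΘ : v Θ = 0 := by
    obtain ⟨a, ha, hdeg, -⟩ := B.kb.x_data K h.le_centralizer hcop hKb Θ hΘ
    have hlt := charDegree_lt hcard Θ
    exact eq_zero_of_okV (hX _ a (by omega) ha (hdeg.imp And.right And.right))
      (hdvd Θ (Or.inr hΘ)) (hv2 Θ)
  have hvNE : ∀ χ ∈ NE.erase ⟨1, isIrr_one⟩, ε χ * v χ = 0 := by
    intro χ hχ
    have hχN := Finset.mem_of_mem_erase hχ
    obtain ⟨a, ha, hdeg, -⟩ := B.kb.ne_data K h.le_centralizer hcop hKb χ hχN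
      (Finset.ne_of_mem_erase hχ)
    have hlt := charDegree_lt hcard χ
    have h3 := hNE a (by omega) ha
    have h4 : okV N (charDegree (χ : G → ℂ)) = true := by
      rcases hdeg with ⟨-, h5⟩ | ⟨-, h5⟩
      · rw [h5]; exact h3.1
      · have h6 : charDegree (χ : G → ℂ) = 11 * a + 10 := by omega
        rw [h6]; exact h3.2
    rw [eq_zero_of_okV h4 (hdvd χ (Or.inl hχN)) (hv2 χ), mul_zero]
  have hv22 : v ⟨1, isIrr_one⟩ = 22 := by
    have := (hv1 ⟨1, isIrr_one⟩).symm.trans (v_one hcard P23)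
    exact_mod_cast this
  rw [← Finset.add_sum_erase _ _ B.kb.one_mem, Finset.sum_eq_zero hvNE, B.kb.eps_one, hvΘ,
    hv22] at hrel
  norm_num at hrel

theorem okV_of_dvd {M N n : ℕ} (hMN : N ∣ M) (h : okV M n = true) : okV N n = true := by
  unfold okV at h ⊢
  by_cases hn : N % n = 0
  · have h1 : M % n = 0 := Nat.mod_eq_zero_of_dvd ((Nat.dvd_of_mod_eq_zero hn).trans hMN)
    rw [h1] at h
    rw [hn]
    exact h
  · simp [hn]

/-- **T4**, `e = 10`. -/
theorem ten_false (hcard : Nat.card G = 244823040) {P : Sylow 11 G} {K : Subgroup G}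
    (h : IsLocal 11 P 10 K) (hk : Nat.card K = 144 ∨ Nat.card K = 1728) : False := by
  obtain ⟨N, hN, hNd⟩ : ∃ N, N * (11 * Nat.card K) = 244823040 ∧ N ∣ 154560 := by
    rcases hk with h1 | h1 <;> rw [h1]
    · exact ⟨154560, by norm_num, dvd_refl _⟩
    · exact ⟨12880, by norm_num, by norm_num⟩
  have key : ∀ a < 1423, 2 ≤ a → okV N (11 * a + 1) = true ∧ okV N (11 * a + 10) = true := by
    intro a ha ha2
    have h1 := arith10 a ha ha2
    rw [Bool.and_eq_true] at h1
    exact ⟨okV_of_dvd hNd h1.1, okV_of_dvd hNd h1.2⟩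
  refine false_of_okV hcard (t := 1) h (by rcases hk with h1 | h1 <;> rw [h1] <;> norm_num)
    (by norm_num) hN key ?_
  rintro f a ha ha2 (rfl | hf)
  · exact (key a ha ha2).2
  · have h2 : f = 11 * a + 1 := by omega
    rw [h2]
    exact (key a ha ha2).1

/-- **T4**, `e = 5`. -/
theorem five_false (hcard : Nat.card G = 244823040) {P : Sylow 11 G} {K : Subgroup G}
    (h : IsLocal 11 P 5 K) (hk : Nat.card K = 3456) : False := by
  have key : ∀ a < 1423, 2 ≤ a → (okV 6440 (11 * a + 1) = true ∧ okV 6440 (11 * a + 10) = true) ∧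
      (okV 6440 (11 * a + 5) = true ∧ okV 6440 (11 * a + 6) = true) := by
    intro a ha ha2
    have h1 := arith5 a ha ha2
    rw [Bool.and_eq_true, Bool.and_eq_true, Bool.and_eq_true] at h1
    exact h1
  refine false_of_okV hcard (t := 2) (N := 6440) h (by rw [hk]; norm_num)
    (by norm_num) (by rw [hk]) (fun a ha ha2 => (key a ha ha2).1) ?_
  rintro f a ha ha2 (rfl | hf)
  · exact (key a ha ha2).2.1
  · have h2 : f = 11 * a + 6 := by omega
    rw [h2]
    exact (key a ha ha2).2.2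

end Cfsg.Agent.SporadicA.M24.ElevenV
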