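import Cfsg.Agent.SporadicA.M24.Setup
import Cfsg.Agent.SmallSimple.FlatBlock
import Cfsg.Agent.SmallSimple.DegreeData
import Cfsg.Agent.SmallSimple.BurnsideNC
import Cfsg.Agent.SmallSimple.Simple168Max

/-!
# The principal 5-block of a simple group of order 244823040
-/

set_option autoImplicit false
set_option linter.unusedSectionVars false

open Cfsg Subgroup
open Cfsg.Agent.Characters.Core
open Cfsg.Agent.SmallSimple
open Cfsg.Agent.SmallSimple.FlatBlock
open Cfsg.Agent.M23Order.Base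
open Cfsg.Agent.SporadicA.M24.Setup
open scoped ComplexConjugate

namespace Cfsg.Agent.SporadicA.M24.Five

universe u

/-- signed degrees `≡ 1` modulo 5 -/
def L5 : List ℤ := [-12144, -7084, -5544, -4554, -3024, -2024, -1024, -759, -264, 231, 276, 506,
  736, 1771, 3036, 5796, 6336, 6831, 8096, 9856, 10626, 15456]

theorem arith_L5 : ∀ d ∈ A, d ≠ 1 → d ≠ 11 → (d % 5 = 1 → (d : ℤ) ∈ L5) ∧
    (d % 5 = 4 → (-(d : ℤ)) ∈ L5) := by
  decide

/-- exceptional modulo 23 -/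
def ex (s : ℤ) : Bool := s.natAbs % 23 == 11 || s.natAbs % 23 == 12

/-- the compatibility condition for degrees exceptional modulo 23 -/
def cp (s t : ℤ) : Bool := !(ex s) || !(ex t) || s.natAbs == t.natAbs

/-- signed degrees of the nontrivial characters of the principal 5-block -/
def sols5 : List (List ℤ) := [[-7084, -5544, 5796, 6831], [-5544, -2024, 736, 6831],
  [-5544, -2024, 1771, 5796], [-5544, -759, 506, 5796], [-5544, 736, 1771, 3036],
  [-1024, -1024, 276, 1771]]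

theorem arith_five : ∀ s₁ ∈ L5, ∀ s₂ ∈ L5, s₁ ≤ s₂ → ∀ s₃ ∈ L5, s₂ ≤ s₃ →
    -(1 + s₁ + s₂ + s₃) ∈ L5 → s₃ ≤ -(1 + s₁ + s₂ + s₃) → cp s₁ s₂ = true → cp s₁ s₃ = true →
    cp s₁ (-(1 + s₁ + s₂ + s₃)) = true → cp s₂ s₃ = true →
    cp s₂ (-(1 + s₁ + s₂ + s₃)) = true → cp s₃ (-(1 + s₁ + s₂ + s₃)) = true →
    [s₁, s₂, s₃, -(1 + s₁ + s₂ + s₃)] ∈ sols5 := by
  decide +kernel

/-- signed degrees `≡ 1` modulo 5, `e = 2` -/
theorem arith_two : ∀ s ∈ L5, (1 + s).natAbs ∉ A := by decide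

/-- the orders of the complement -/
theorem arith_index {k : ℕ} {l : List ℤ} (hl : l ∈ sols5) (hk : k % 5 = 2)
    (h : ∀ s ∈ l, s.natAbs * (5 * k) ∣ 244823040) :
    (l = [-7084, -5544, 5796, 6831] ∧ (k = 2 ∨ k = 32)) ∨
    (l = [-5544, -2024, 736, 6831] ∧ (k = 2 ∨ k = 32)) ∨
    (l = [-5544, -2024, 1771, 5796] ∧ (k = 2 ∨ k = 12 ∨ k = 32 ∨ k = 192)) ∨
    (l = [-5544, -759, 506, 5796] ∧ (k = 2 ∨ k = 12 ∨ k = 32 ∨ k = 192)) ∨
    (l = [-5544, 736, 1771, 3036] ∧ (k = 2 ∨ k = 12 ∨ k = 32)) := by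
  have hdvd : ∀ m s : ℕ, 0 < s → 244823040 = 5 * s * m → s * (5 * k) ∣ 244823040 → k ∣ m := by
    intro m s hs hm h
    have h1 : 5 * s * k ∣ 5 * s * m := by
      rw [← hm, show 5 * s * k = s * (5 * k) by ring]; exact h
    exact Nat.dvd_of_mul_dvd_mul_left (by positivity) h1
  simp only [sols5, List.mem_cons, List.not_mem_nil, or_false] at hl
  rcases hl with rfl | rfl | rfl | rfl | rfl | rfl
  · left
    refine ⟨rfl, ?_⟩
    simp only [List.mem_cons, List.not_mem_nil, or_false, forall_eq_or_imp, forall_eq] at h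
    obtain ⟨h1, h2, h3, h4⟩ := h
    have e1 := hdvd 6912 7084 (by norm_num) (by norm_num) h1
    have e4 := hdvd 7168 6831 (by norm_num) (by norm_num) h4
    have e5 : k ∣ 256 := by simpa using Nat.dvd_gcd e1 e4
    have e2 := hdvd 8832 5544 (by norm_num) (by norm_num) h2
    have e6 : k ∣ 128 := by simpa using Nat.dvd_gcd e5 e2
    have e7 : k ∈ Nat.divisors 128 := Nat.mem_divisors.2 ⟨e6, by norm_num⟩
    have e8 : ∀ k ∈ Nat.divisors 128, k % 5 = 2 → k = 2 ∨ k = 32 := by decide +kernel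
    exact e8 k e7 hk
  · right; left
    refine ⟨rfl, ?_⟩
    simp only [List.mem_cons, List.not_mem_nil, or_false, forall_eq_or_imp, forall_eq] at h
    obtain ⟨h1, h2, h3, h4⟩ := h
    have e1 := hdvd 8832 5544 (by norm_num) (by norm_num) h1
    have e4 := hdvd 7168 6831 (by norm_num) (by norm_num) h4
    have e3 := hdvd 66528 736 (by norm_num) (by norm_num) h3
    have e5 : k ∣ 128 := by simpa using (Nat.dvd_gcd e1 e4).trans (by norm_num)
    have e6 : k ∣ 32 := by simpa using Nat.dvd_gcd e5 e3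
    have e7 : k ∈ Nat.divisors 32 := Nat.mem_divisors.2 ⟨e6, by norm_num⟩
    have e8 : ∀ k ∈ Nat.divisors 32, k % 5 = 2 → k = 2 ∨ k = 32 := by decide +kernel
    exact e8 k e7 hk
  · right; right; left
    refine ⟨rfl, ?_⟩
    simp only [List.mem_cons, List.not_mem_nil, or_false, forall_eq_or_imp, forall_eq] at h
    obtain ⟨h1, h2, h3, h4⟩ := h
    have e1 := hdvd 8832 5544 (by norm_num) (by norm_num) h1
    have e4 := hdvd 8448 5796 (by norm_num) (by norm_num) h4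
    have e5 : k ∣ 384 := by simpa using Nat.dvd_gcd e1 e4
    have e7 : k ∈ Nat.divisors 384 := Nat.mem_divisors.2 ⟨e5, by norm_num⟩
    have e8 : ∀ k ∈ Nat.divisors 384, k % 5 = 2 → k = 2 ∨ k = 12 ∨ k = 32 ∨ k = 192 := by
      decide +kernel
    exact e8 k e7 hk
  · right; right; right; left
    refine ⟨rfl, ?_⟩
    simp only [List.mem_cons, List.not_mem_nil, or_false, forall_eq_or_imp, forall_eq] at h
    obtain ⟨h1, h2, h3, h4⟩ := h
    have e1 := hdvd 8832 5544 (by norm_num) (by norm_num) h1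
    have e4 := hdvd 8448 5796 (by norm_num) (by norm_num) h4
    have e5 : k ∣ 384 := by simpa using Nat.dvd_gcd e1 e4
    have e7 : k ∈ Nat.divisors 384 := Nat.mem_divisors.2 ⟨e5, by norm_num⟩
    have e8 : ∀ k ∈ Nat.divisors 384, k % 5 = 2 → k = 2 ∨ k = 12 ∨ k = 32 ∨ k = 192 := by
      decide +kernel
    exact e8 k e7 hk
  · right; right; right; right
    refine ⟨rfl, ?_⟩
    simp only [List.mem_cons, List.not_mem_nil, or_false, forall_eq_or_imp, forall_eq] at h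
    obtain ⟨h1, h2, h3, h4⟩ := h
    have e1 := hdvd 8832 5544 (by norm_num) (by norm_num) h1
    have e2 := hdvd 66528 736 (by norm_num) (by norm_num) h2
    have e5 : k ∣ 96 := by simpa using Nat.dvd_gcd e1 e2
    have e7 : k ∈ Nat.divisors 96 := Nat.mem_divisors.2 ⟨e5, by norm_num⟩
    have e8 : ∀ k ∈ Nat.divisors 96, k % 5 = 2 → k = 2 ∨ k = 12 ∨ k = 32 := by decide +kernel
    exact e8 k e7 hk
  · exfalso
    simp only [List.mem_cons, List.not_mem_nil, or_false, forall_eq_or_imp, forall_eq] at h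
    obtain ⟨h1, h2, h3, h4⟩ := h
    have e1 := hdvd 47817 1024 (by norm_num) (by norm_num) h1
    have e3 := hdvd 177408 276 (by norm_num) (by norm_num) h3
    have e4 := hdvd 27648 1771 (by norm_num) (by norm_num) h4
    have e5 : k ∣ 693 := by simpa using Nat.dvd_gcd e1 e3
    have e6 : k ∣ 9 := by simpa using Nat.dvd_gcd e5 e4
    have e7 : k ∈ Nat.divisors 9 := Nat.mem_divisors.2 ⟨e6, by norm_num⟩
    have e8 : ∀ k ∈ Nat.divisors 9, k % 5 ≠ 2 := by decide +kernel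
    exact e8 k e7 hk

variable {G : Type u} [Group G] [Finite G] [IsSimpleGroup G] (H : Hyp G)

include H

theorem not_prime : ¬ (Nat.card G).Prime := by rw [H.hcard]; norm_num

theorem not_comm : ¬ IsMulCommutative G := by
  intro h
  obtain ⟨a, b, hab⟩ := M22.NonSelfCent.not_comm_of_not_prime (not_prime H)
  exact hab (h.is_comm.comm a b)

theorem tr_eq : tr G = H.D.one := by
  apply Subtype.ext
  rw [H.D.coe_one, coe_tr]

theorem cp_of {ε₁ ε₂ : ℤ} (h₁ : ε₁ = 1 ∨ ε₁ = -1) (h₂ : ε₂ = 1 ∨ ε₂ = -1) (χ ψ : IrrCharacter G) :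
    cp (ε₁ * (dg χ : ℤ)) (ε₂ * (dg ψ : ℤ)) = true := by
  have e1 : (ε₁ * (dg χ : ℤ)).natAbs = dg χ := by
    rcases h₁ with h | h <;> rw [h] <;> simp
  have e2 : (ε₂ * (dg ψ : ℤ)).natAbs = dg ψ := by
    rcases h₂ with h | h <;> rw [h] <;> simp
  unfold cp ex
  rw [e1, e2]
  by_cases h3 : dg χ % 23 = 11 ∨ dg χ % 23 = 12
  · by_cases h4 : dg ψ % 23 = 11 ∨ dg ψ % 23 = 12
    · have := compat23 H h3 h4
      rw [this]; simp
    · push Not at h4
      simp [h4.1, h4.2]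
  · push Not at h3
    simp [h3.1, h3.2]

/-- signed degrees in the principal 5-block, `e = 4` -/
theorem sd_mem {R : Sylow 5 G} (hR : Nat.card R = 5) {M : Ideal AlgInt}
    {B : Finset (IrrCharacter G)} {ε : IrrCharacter G → ℤ}
    (h5 : Fact (Nat.Prime 5)) (h : Flat 5 R M B ε) {χ : IrrCharacter G} (hχ : χ ∈ B)
    (hχ1 : χ ≠ tr G) : ε χ * (dg χ : ℤ) ∈ L5 := by
  have hA := arith_L5 _ (dg_mem_A H χ)
    (fun h => hχ1 ((eq_one_of_dg H h).trans (tr_eq H).symm)) (dg_ne_eleven H χ)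
  have h1 := h.modEq hR hχ
  rcases h.ε_mem χ hχ with h2 | h2
  · rw [h2, one_mul] at h1 ⊢
    exact hA.1 (by have := h1.dvd; omega)
  · rw [h2, neg_one_mul] at h1 ⊢
    exact hA.2 (by have := h1.dvd; omega)

/-- The case `e = 2` is impossible. -/
theorem e_ne_two {R : Sylow 5 G} (hR : Nat.card R = 5)
    (he : (centralizer (R : Set G)).relIndex (normalizer (R : Set G)) = 2) : False := by
  have h5 : Fact (Nat.Prime 5) := ⟨by norm_num⟩
  obtain ⟨M, hM⟩ := Blocks.ExistsModular.exists_isPModular (p := 5) (by norm_num)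
  obtain ⟨B⟩ := DegreeData.exists_blockData 5 (by norm_num) M hM R hR 2 2 he (by norm_num)
  have hone : B.one = H.D.one := by
    apply Subtype.ext
    rw [B.coe_one, H.D.coe_one]
  obtain ⟨χ, hl⟩ : ∃ χ, B.l = [χ] := List.length_eq_one_iff.1 (by have := B.length; omega)
  have h1 := B.dexc_eq (by norm_num)
  have hχ : χ ∈ B.l := by rw [hl]; simp
  have h2 : B.ε χ * (dg χ : ℤ) ∈ L5 := by
    have hχ1 : χ ≠ H.D.one := by
      rw [← hone]
      rintro rfl
      exact (List.nodup_cons.1 B.nodup).1 hχ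
    have hA := arith_L5 _ (dg_mem_A H χ) (fun h => hχ1 (eq_one_of_dg H h)) (dg_ne_eleven H χ)
    have h1 : B.ε χ * (dg χ : ℤ) ≡ 1 [ZMOD 5] := B.sd_modEq hR (List.mem_cons_of_mem _ hχ)
    rcases B.ε_mem χ (List.mem_cons_of_mem _ hχ) with h | h
    · rw [h, one_mul] at h1 ⊢
      exact hA.1 (by have := h1.dvd; omega)
    · rw [h, neg_one_mul] at h1 ⊢
      exact hA.2 (by have := h1.dvd; omega)
  obtain ⟨Θ, hΘ⟩ := B.exists_X (by norm_num)
  have h3 : B.degs.sum = B.ε χ * (dg χ : ℤ) := by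
    rw [DegreeData.BlockData.degs, hl]
    simp [DegreeData.BlockData.sd, dg]
  rw [h3] at h1
  apply arith_two _ h2
  rw [h1, B.natAbs_dexc, ← B.deg_X Θ hΘ]
  exact dg_mem_A H Θ

/-- The principal 5-block. -/
theorem exists_five (R : Sylow 5 G) : ∃ (K : Subgroup G) (M : Ideal AlgInt)
    (B : Finset (IrrCharacter G)) (ε : IrrCharacter G → ℤ) (l : List (IrrCharacter G)),
    FlatLoc 5 R K M B ε ∧ (tr G :: l).Nodup ∧ (∀ χ, χ ∈ B ↔ χ ∈ tr G :: l) ∧
    ((l.map (fun χ => ε χ * (dg χ : ℤ)) = [-7084, -5544, 5796, 6831] ∧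
        (Nat.card K = 2 ∨ Nat.card K = 32)) ∨
    (l.map (fun χ => ε χ * (dg χ : ℤ)) = [-5544, -2024, 736, 6831] ∧
        (Nat.card K = 2 ∨ Nat.card K = 32)) ∨
    (l.map (fun χ => ε χ * (dg χ : ℤ)) = [-5544, -2024, 1771, 5796] ∧
        (Nat.card K = 2 ∨ Nat.card K = 12 ∨ Nat.card K = 32 ∨ Nat.card K = 192)) ∨
    (l.map (fun χ => ε χ * (dg χ : ℤ)) = [-5544, -759, 506, 5796] ∧
        (Nat.card K = 2 ∨ Nat.card K = 12 ∨ Nat.card K = 32 ∨ Nat.card K = 192)) ∨
    (l.map (fun χ => ε χ * (dg χ : ℤ)) = [-5544, 736, 1771, 3036] ∧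
        (Nat.card K = 2 ∨ Nat.card K = 12 ∨ Nat.card K = 32))) := by
  classical
  have h5 : Fact (Nat.Prime 5) := ⟨by norm_num⟩
  have hR : Nat.card R = 5 := by
    refine Simple168Max.card_sylow_eq_prime R ?_ ?_ <;> rw [H.hcard] <;> norm_num
  obtain ⟨e, K, hK⟩ := PrimeLocal.exists_local (not_comm H) (p := 5)
    (by rw [H.hcard]; norm_num) (by rw [H.hcard]; norm_num) R
  have he : e = 4 := by
    have h1 : e ∣ 4 := hK.dvd_pred
    have h2 : e ≤ 4 := Nat.le_of_dvd (by norm_num) h1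
    have h3 := hK.one_lt
    have h4 := e_ne_two H hR
    rw [BlockIndex.relIndex_eq hK] at h4
    interval_cases e
    · exact absurd rfl h4
    · omega
    · rfl
  subst he
  obtain ⟨M, B, ε, hB⟩ := exists_flatLoc (not_prime H) 5 (by norm_num) R hR hK
  obtain ⟨l, hl1, hl2, hl3, hl4, hl5, -⟩ := hB.toFlat.exists_list
  refine ⟨K, M, B, ε, l, hB, hl1, hl2, ?_⟩
  have hmem : ∀ χ ∈ l, χ ∈ B := fun χ hχ => (hl2 χ).2 (List.mem_cons_of_mem _ hχ)
  have hne : ∀ χ ∈ l, χ ≠ tr G := by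
    rintro χ hχ rfl
    exact (List.nodup_cons.1 hl1).1 hχ
  have hmod : Nat.card K % 5 = 2 := by
    have h1 := local_modEq hK (m := 48964608) (by rw [H.hcard])
    have h2 : 4 * Nat.card K % 5 = 48964608 % 5 := h1
    omega
  have hdvd : ∀ s ∈ l.map (fun χ => ε χ * (dg χ : ℤ)), s.natAbs * (5 * Nat.card K) ∣ 244823040 := by
    intro s hs
    obtain ⟨χ, hχ, rfl⟩ := List.mem_map.1 hs
    rw [hB.toFlat.natAbs_sd (hmem χ hχ), ← H.hcard]
    exact hB.toFlat.mul_dvd_card hR hK.card_centralizer (hmem χ hχ)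
  refine arith_index ?_ hmod hdvd
  obtain ⟨x, y, z, w, rfl⟩ : ∃ x y z w, l = [x, y, z, w] := by
    match l, hl3 with
    | [x, y, z, w], _ => exact ⟨x, y, z, w, rfl⟩
  simp only [List.map_cons, List.map_nil, List.pairwise_cons, List.mem_cons, List.not_mem_nil,
    or_false, forall_eq_or_imp, forall_eq, IsEmpty.forall_iff, implies_true, List.Pairwise.nil,
    and_true, false_imp_iff, List.sum_cons, List.sum_nil, add_zero] at hl4 hl5 ⊢
  have hx := sd_mem H hR h5 hB.toFlat (hmem x (by simp)) (hne x (by simp))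
  have hy := sd_mem H hR h5 hB.toFlat (hmem y (by simp)) (hne y (by simp))
  have hz := sd_mem H hR h5 hB.toFlat (hmem z (by simp)) (hne z (by simp))
  have hw := sd_mem H hR h5 hB.toFlat (hmem w (by simp)) (hne w (by simp))
  have ex := hB.ε_mem x (hmem x (by simp))
  have ey := hB.ε_mem y (hmem y (by simp))
  have ez := hB.ε_mem z (hmem z (by simp))
  have ew := hB.ε_mem w (hmem w (by simp))
  have hw' : ε w * (dg w : ℤ) =
      -(1 + ε x * (dg x : ℤ) + ε y * (dg y : ℤ) + ε z * (dg z : ℤ)) := by linarith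
  have c1 := cp_of H ex ey x y
  have c2 := cp_of H ex ez x z
  have c3 := cp_of H ex ew x w
  have c4 := cp_of H ey ez y z
  have c5 := cp_of H ey ew y w
  have c6 := cp_of H ez ew z w
  rw [hw'] at hw c3 c5 c6 hl4 ⊢
  exact arith_five _ hx _ hy hl4.1.1 _ hz hl4.2.1.1 hw hl4.2.2 c1 c2 c3 c4 c5 c6

end Cfsg.Agent.SporadicA.M24.Five
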