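import Cfsg.Agent.SporadicA.M24.Col

/-!
# Gram inequalities for columns of involutions

* `gram` : the column of degrees and the column of an involution;
* `gram_pair` : the columns of two non-conjugate involutions.
-/

set_option autoImplicit false

open Cfsg Subgroup
open Cfsg.Agent.Characters.Core
open Cfsg.Agent.SmallSimple
open Cfsg.Agent.SmallSimple.FlatBlock
open Cfsg.Agent.M23Order.Base
open Cfsg.Agent.SporadicA.M24.Col
open scoped ComplexConjugate

namespace Cfsg.Agent.SporadicA.M24.Gram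

universe u

variable {G : Type u} [Group G] [Finite G]

theorem sum_sq {t : G} {v : IrrCharacter G → ℤ} (h : Column t v) [Fintype (IrrCharacter G)] :
    ∑ χ : IrrCharacter G, v χ ^ 2 = Nat.card (centralizer ({t} : Set G)) := by
  have := Fintype.ofFinite G
  have h1 := (Cfsg.Agent.S0145.result t t).1 (IsConj.refl t)
  rw [finsum_eq_sum_of_fintype] at h1
  have h' : ((∑ χ : IrrCharacter G, v χ ^ 2 : ℤ) : ℂ) =
      ((Nat.card (centralizer ({t} : Set G)) : ℤ) : ℂ) := by
    rw [Int.cast_sum]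
    push_cast at h1 ⊢
    rw [← h1]
    refine Finset.sum_congr rfl fun χ _ => ?_
    rw [h.val, map_intCast, pow_two]
  exact_mod_cast h'

theorem sum_dg_mul {t : G} {v : IrrCharacter G → ℤ} (h : Column t v)
    [Fintype (IrrCharacter G)] : ∑ χ : IrrCharacter G, (dg χ : ℤ) * v χ = 0 := by
  have := Fintype.ofFinite G
  have h1 := (Cfsg.Agent.S0145.result (1 : G) t).2 (fun h' => h.ne_one (isConj_one_right.1 h'))
  rw [finsum_eq_sum_of_fintype] at h1
  have h' : ((∑ χ : IrrCharacter G, (dg χ : ℤ) * v χ : ℤ) : ℂ) = ((0 : ℤ) : ℂ) := by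
    rw [Int.cast_sum, Int.cast_zero, ← h1]
    refine Finset.sum_congr rfl fun χ _ => ?_
    rw [h.val, map_intCast, dg_eq]
    push_cast
    rfl
  exact_mod_cast h'

theorem sum_mul {t u : G} {v w : IrrCharacter G → ℤ} (h : Column t v) (h' : Column u w)
    (hc : ¬ IsConj t u) [Fintype (IrrCharacter G)] :
    ∑ χ : IrrCharacter G, v χ * w χ = 0 := by
  have := Fintype.ofFinite G
  have h1 := (Cfsg.Agent.S0145.result t u).2 hc
  rw [finsum_eq_sum_of_fintype] at h1
  have h' : ((∑ χ : IrrCharacter G, v χ * w χ : ℤ) : ℂ) = ((0 : ℤ) : ℂ) := by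
    rw [Int.cast_sum, Int.cast_zero, ← h1]
    refine Finset.sum_congr rfl fun χ _ => ?_
    rw [h.val, h'.val, map_intCast]
    push_cast
    rfl
  exact_mod_cast h'

theorem cauchy {ι : Type*} [Fintype ι] [DecidableEq ι] {f g : ι → ℤ} {A B : ℤ}
    (hf : ∑ i, f i ^ 2 = A) (hg : ∑ i, g i ^ 2 = B) (h0 : ∑ i, f i * g i = 0) (S : Finset ι) :
    (∑ i ∈ S, f i * g i) ^ 2 ≤ (A - ∑ i ∈ S, f i ^ 2) * (B - ∑ i ∈ S, g i ^ 2) := by
  have e1 := Finset.sum_add_sum_compl S (fun i => f i ^ 2)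
  have e2 := Finset.sum_add_sum_compl S (fun i => g i ^ 2)
  have e3 := Finset.sum_add_sum_compl S (fun i => f i * g i)
  have h4 := Finset.sum_mul_sq_le_sq_mul_sq Sᶜ f g
  have e1' : ∑ i ∈ Sᶜ, f i ^ 2 = A - ∑ i ∈ S, f i ^ 2 := by rw [← hf, ← e1]; ring
  have e2' : ∑ i ∈ Sᶜ, g i ^ 2 = B - ∑ i ∈ S, g i ^ 2 := by rw [← hg, ← e2]; ring
  have e3' : ∑ i ∈ S, f i * g i = - ∑ i ∈ Sᶜ, f i * g i := by rw [h0] at e3; linarith
  rw [e3', neg_sq, ← e1', ← e2']
  exact h4

/-- The Gram inequality for the degrees and the column of an involution. -/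
theorem gram {t : G} {v : IrrCharacter G → ℤ} (h : Column t v) (S : Finset (IrrCharacter G)) :
    (∑ χ ∈ S, (dg χ : ℤ) * v χ) ^ 2 ≤ ((Nat.card G : ℤ) - ∑ χ ∈ S, (dg χ : ℤ) ^ 2) *
      ((Nat.card (centralizer ({t} : Set G)) : ℤ) - ∑ χ ∈ S, v χ ^ 2) := by
  classical
  have := finite_irr (G := G)
  have := Fintype.ofFinite (IrrCharacter G)
  refine cauchy ?_ (sum_sq h) (sum_dg_mul h) S
  have := sum_dg_sq (G := G)
  exact_mod_cast this

/-- The Gram inequality for the columns of two non-conjugate involutions. -/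
theorem gram_pair {t u : G} {v w : IrrCharacter G → ℤ} (h : Column t v) (h' : Column u w)
    (hc : ¬ IsConj t u) (S : Finset (IrrCharacter G)) :
    (∑ χ ∈ S, v χ * w χ) ^ 2 ≤ ((Nat.card (centralizer ({t} : Set G)) : ℤ) -
      ∑ χ ∈ S, v χ ^ 2) *
      ((Nat.card (centralizer ({u} : Set G)) : ℤ) - ∑ χ ∈ S, w χ ^ 2) := by
  classical
  have := finite_irr (G := G)
  have := Fintype.ofFinite (IrrCharacter G)
  exact cauchy (sum_sq h) (sum_sq h') (sum_mul h h' hc) S

/-- `gram` for a list of different characters. -/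
theorem gram_list {t : G} {v : IrrCharacter G → ℤ} (h : Column t v) {l : List (IrrCharacter G)}
    (hl : l.Nodup) :
    ((l.map fun χ => (dg χ : ℤ) * v χ).sum) ^ 2 ≤
      ((Nat.card G : ℤ) - (l.map fun χ => (dg χ : ℤ) ^ 2).sum) *
      ((Nat.card (centralizer ({t} : Set G)) : ℤ) - (l.map fun χ => v χ ^ 2).sum) := by
  classical
  have h1 := gram h l.toFinset
  rwa [List.sum_toFinset _ hl, List.sum_toFinset _ hl, List.sum_toFinset _ hl] at h1

/-- `gram_pair` for a list of different characters. -/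
theorem gram_pair_list {t u : G} {v w : IrrCharacter G → ℤ} (h : Column t v) (h' : Column u w)
    (hc : ¬ IsConj t u) {l : List (IrrCharacter G)} (hl : l.Nodup) :
    ((l.map fun χ => v χ * w χ).sum) ^ 2 ≤
      ((Nat.card (centralizer ({t} : Set G)) : ℤ) - (l.map fun χ => v χ ^ 2).sum) *
      ((Nat.card (centralizer ({u} : Set G)) : ℤ) - (l.map fun χ => w χ ^ 2).sum) := by
  classical
  have h1 := gram_pair h h' hc l.toFinset
  rwa [List.sum_toFinset _ hl, List.sum_toFinset _ hl, List.sum_toFinset _ hl] at h1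

end Cfsg.Agent.SporadicA.M24.Gram
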