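import Cfsg.Agent.SporadicA.M24.Five
import Cfsg.Agent.SmallSimple.BlockShared
import Cfsg.Agent.SmallSimple.DegreeSearch

/-!
# The principal 5- and 7-blocks of a simple group of order 244823040

`exists_blocks` : the possibilities for the two principal blocks (with the orders of the
complements of the centralizers).
-/

set_option autoImplicit false
set_option linter.unusedSectionVars false

open Cfsg Subgroup
open Cfsg.Agent.Characters.Core
open Cfsg.Agent.SmallSimple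
open Cfsg.Agent.SmallSimple.FlatBlock Cfsg.Agent.SmallSimple.BlockShared
open Cfsg.Agent.SmallSimple.DegreeData
open Cfsg.Agent.M23Order.Base
open Cfsg.Agent.SporadicA.M24.Setup Cfsg.Agent.SporadicA.M24.Five
open scoped ComplexConjugate

namespace Cfsg.Agent.SporadicA.M24.Seven

universe u

/-- signed degrees `≡ 1` modulo 7 -/
def L7 : List ℤ := [-12144, -6831, -5060, -3520, -1518, -1035, -230, 22, 253, 540, 736, 2024, 3312,
  3795, 6336, 9108, 11880]

/-- negatives of the signed degrees of exceptional characters, `e = 3` -/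
def X7 : List ℤ := [-11385, -7360, -6072, -2530, -1760, -1242, -990, -759, -528, -276, -45, 1012,
  3840, 4554, 8096, 15180]

theorem arith_L7 : ∀ d ∈ A, d ≠ 1 → d ≠ 11 → (d % 7 = 1 → (d : ℤ) ∈ L7) ∧
    (d % 7 = 6 → (-(d : ℤ)) ∈ L7) ∧ (d % 7 = 3 → (-(d : ℤ)) ∈ X7) ∧
    (d % 7 = 4 → (d : ℤ) ∈ X7) := by
  decide

/-- solutions of the degree relation for `e = 3` -/
def sols3 : List (List ℤ) := [[-3520, -1035, 4554], [-3520, 3795, -276], [-1035, 22, 1012],
  [-1035, 2024, -990], [22, 22, -45], [22, 253, -276], [22, 736, -759], [253, 736, -990]]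

theorem arith_three : ∀ s₁ ∈ L7, ∀ s₂ ∈ L7, s₁ ≤ s₂ → -(1 + s₁ + s₂) ∈ X7 →
    cp s₁ s₂ = true → cp s₁ (-(1 + s₁ + s₂)) = true → cp s₂ (-(1 + s₁ + s₂)) = true →
    [s₁, s₂, -(1 + s₁ + s₂)] ∈ sols3 := by
  decide +kernel

/-- the lists for the principal 5-block -/
def sols5' : List (List ℤ) := [[-7084, -5544, 5796, 6831], [-5544, -2024, 736, 6831],
  [-5544, -2024, 1771, 5796], [-5544, -759, 506, 5796], [-5544, 736, 1771, 3036]]

theorem arith_inter3 : ∀ l ∈ sols5', ∀ l' ∈ sols3, ∀ s ∈ l, -s ∈ l' →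
    l' = [-1035, 2024, -990] ∧ s = -2024 ∧
    (l = [-5544, -2024, 736, 6831] ∨ l = [-5544, -2024, 1771, 5796]) := by
  decide +kernel

/-- signed degrees `≡ 1` modulo 7, `e = 2` -/
theorem arith_two : ∀ s ∈ L7, (1 + s).natAbs ∈ A → s = 22 := by decide

theorem arith_no_two : ∀ l ∈ sols5', ∀ s ∈ l, s.natAbs ≠ 22 ∧ s.natAbs ≠ 23 := by decide

/-- solutions of the degree relation for `e = 6` -/
def sols6 : List (List ℤ) := [[-12144, -1518, -1035, 2024, 6336, 6336], [-12144, -1035, 22,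
  2024, 2024, 9108], [-12144, 22, 253, 736, 2024, 9108], [-6831, -6831, -1035, 2024, 6336, 6336],
  [-6831, -6831, 22, 736, 3795, 9108], [-6831, -6831, 253, 736, 6336, 6336], [-6831, -5060, -1518,
  736, 6336, 6336], [-6831, -5060, -1035, 22, 3795, 9108], [-6831, -5060, -1035, 253, 6336, 6336],
  [-6831, -5060, 22, 736, 2024, 9108], [-6831, -3520, -1518, -1035, 3795, 9108], [-6831, -3520,
  -1518, 736, 2024, 9108], [-6831, -3520, -1035, -1035, 3312, 9108], [-6831, -3520, -1035, 253,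
  2024, 9108], [-6831, -3520, -1035, 3795, 3795, 3795], [-6831, -3520, -230, 736, 736, 9108],
  [-6831, -3520, 253, 253, 736, 9108], [-6831, -3520, 736, 2024, 3795, 3795], [-6831, -1518,
  -1518, 22, 736, 9108], [-6831, -1518, -1035, 22, 253, 9108], [-6831, -1518, 22, 736, 3795,
  3795], [-6831, -1035, -1035, -230, 22, 9108], [-6831, -1035, 22, 253, 3795, 3795], [-6831,
  -1035, 22, 736, 3312, 3795], [-6831, -1035, 22, 2024, 2024, 3795], [-6831, 22, 253, 736, 2024,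
  3795], [-6831, 22, 736, 736, 2024, 3312], [-6831, 22, 736, 2024, 2024, 2024], [-5060, -5060,
  -1035, 22, 2024, 9108], [-5060, -3520, -1518, -1035, 2024, 9108], [-5060, -3520, -1035, 2024,
  3795, 3795], [-5060, -3520, 736, 2024, 2024, 3795], [-5060, -1518, 22, 736, 2024, 3795], [-5060,
  -1035, 22, 253, 2024, 3795], [-5060, -1035, 22, 736, 2024, 3312], [-5060, -1035, 22, 2024, 2024,
  2024], [-5060, 22, 253, 736, 2024, 2024], [-3520, -1518, -1518, 736, 2024, 3795], [-3520, -1518,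
  -1035, 253, 2024, 3795], [-3520, -1518, -1035, 736, 2024, 3312], [-3520, -1518, -1035, 2024,
  2024, 2024], [-3520, -1518, 253, 736, 2024, 2024], [-3520, -1035, -1035, -230, 2024, 3795],
  [-3520, -1035, -1035, 253, 2024, 3312], [-3520, -1035, -230, 736, 2024, 2024], [-3520, -1035,
  253, 253, 2024, 2024], [-3520, -230, 253, 736, 736, 2024], [-3520, 253, 253, 253, 736, 2024],
  [-1518, -1518, -1035, 22, 2024, 2024], [-1518, -1518, 22, 253, 736, 2024], [-1518, -1035, -230,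
  22, 736, 2024], [-1518, -1035, 22, 253, 253, 2024], [-1035, -1035, -1035, 540, 540, 2024],
  [-1035, -1035, -230, 22, 253, 2024]]

/-- pairwise compatibility -/
def cpAll (l : List ℤ) : Bool := l.all fun s => l.all fun t => cp s t

/-- the test for the kernel search -/
def test6 (l : List ℤ) : Bool :=
  !(cpAll l) || !(l.contains 2024 || l.contains (-6831)) || sols6.contains l

theorem search6 : DegreeSearch.check 10410 6 (DegreeSearch.aff 7 12144 0 fun _ => 0) test6 L7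
    [(10409, 244823039)] = true := by
  decide +kernel

/-- the lists of signed degrees and the orders of the complement for `e = 6` -/
def pairs6 : List (List ℤ × ℕ) := [([-12144, -1518, -1035, 2024, 6336, 6336], 3), ([-12144,
  -1518, -1035, 2024, 6336, 6336], 24), ([-12144, -1035, 22, 2024, 2024, 9108], 3), ([-12144,
  -1035, 22, 2024, 2024, 9108], 24), ([-12144, -1035, 22, 2024, 2024, 9108], 192), ([-12144, 22,
  253, 736, 2024, 9108], 3), ([-12144, 22, 253, 736, 2024, 9108], 24), ([-5060, -5060, -1035, 22,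
  2024, 9108], 3), ([-5060, -5060, -1035, 22, 2024, 9108], 24), ([-5060, -5060, -1035, 22, 2024,
  9108], 192), ([-5060, -3520, -1518, -1035, 2024, 9108], 3), ([-5060, -3520, -1518, -1035, 2024,
  9108], 24), ([-5060, -3520, -1035, 2024, 3795, 3795], 3), ([-5060, -3520, -1035, 2024, 3795,
  3795], 24), ([-5060, -3520, 736, 2024, 2024, 3795], 3), ([-5060, -3520, 736, 2024, 2024, 3795],
  24), ([-5060, -1518, 22, 736, 2024, 3795], 3), ([-5060, -1518, 22, 736, 2024, 3795], 24),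
  ([-5060, -1035, 22, 253, 2024, 3795], 3), ([-5060, -1035, 22, 253, 2024, 3795], 24), ([-5060,
  -1035, 22, 253, 2024, 3795], 192), ([-5060, -1035, 22, 736, 2024, 3312], 3), ([-5060, -1035, 22,
  736, 2024, 3312], 24), ([-5060, -1035, 22, 2024, 2024, 2024], 3), ([-5060, -1035, 22, 2024,
  2024, 2024], 24), ([-5060, -1035, 22, 2024, 2024, 2024], 192), ([-5060, 22, 253, 736, 2024,
  2024], 3), ([-5060, 22, 253, 736, 2024, 2024], 24), ([-5060, 22, 253, 736, 2024, 2024], 108),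
  ([-5060, 22, 253, 736, 2024, 2024], 864), ([-3520, -1518, -1518, 736, 2024, 3795], 3), ([-3520,
  -1518, -1518, 736, 2024, 3795], 24), ([-3520, -1518, -1035, 253, 2024, 3795], 3), ([-3520,
  -1518, -1035, 253, 2024, 3795], 24), ([-3520, -1518, -1035, 736, 2024, 3312], 3), ([-3520,
  -1518, -1035, 736, 2024, 3312], 24), ([-3520, -1518, -1035, 2024, 2024, 2024], 3), ([-3520,
  -1518, -1035, 2024, 2024, 2024], 24), ([-3520, -1518, 253, 736, 2024, 2024], 3), ([-3520, -1518,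
  253, 736, 2024, 2024], 24), ([-3520, -1035, -1035, -230, 2024, 3795], 3), ([-3520, -1035, -1035,
  -230, 2024, 3795], 24), ([-3520, -1035, -1035, 253, 2024, 3312], 3), ([-3520, -1035, -1035, 253,
  2024, 3312], 24), ([-3520, -1035, -230, 736, 2024, 2024], 3), ([-3520, -1035, -230, 736, 2024,
  2024], 24), ([-3520, -1035, 253, 253, 2024, 2024], 3), ([-3520, -1035, 253, 253, 2024, 2024],
  24), ([-3520, -230, 253, 736, 736, 2024], 3), ([-3520, -230, 253, 736, 736, 2024], 24), ([-3520,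
  -230, 253, 736, 736, 2024], 108), ([-3520, 253, 253, 253, 736, 2024], 3), ([-3520, 253, 253,
  253, 736, 2024], 24), ([-3520, 253, 253, 253, 736, 2024], 108), ([-1518, -1518, -1035, 22, 2024,
  2024], 3), ([-1518, -1518, -1035, 22, 2024, 2024], 24), ([-1518, -1518, -1035, 22, 2024, 2024],
  192), ([-1518, -1518, 22, 253, 736, 2024], 3), ([-1518, -1518, 22, 253, 736, 2024], 24),
  ([-1518, -1035, -230, 22, 736, 2024], 3), ([-1518, -1035, -230, 22, 736, 2024], 24), ([-1518,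
  -1035, 22, 253, 253, 2024], 3), ([-1518, -1035, 22, 253, 253, 2024], 24), ([-1518, -1035, 22,
  253, 253, 2024], 192), ([-1035, -1035, -230, 22, 253, 2024], 3), ([-1035, -1035, -230, 22, 253,
  2024], 24), ([-1035, -1035, -230, 22, 253, 2024], 192)]

theorem arith_inter6 : ∀ l ∈ sols5', ∀ s ∈ l, -s ∈ L7 → s.natAbs = 2024 ∨ s.natAbs = 6831 := by
  decide

/-- the orders of the complement -/
theorem arith_index6 {k : ℕ} {l : List ℤ} (hl : l ∈ sols6) (hk : k % 7 = 3) (h5 : k % 5 ≠ 0)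
    (h : ∀ s ∈ l, s.natAbs * (7 * k) ∣ 244823040) : (l, k) ∈ pairs6 := by
  have hdvd : ∀ m s : ℕ, 0 < s → 244823040 = 7 * s * m → s * (7 * k) ∣ 244823040 → k ∣ m := by
    intro m s hs hm h
    have h1 : 7 * s * k ∣ 7 * s * m := by
      rw [← hm, show 7 * s * k = s * (7 * k) by ring]; exact h
    exact Nat.dvd_of_mul_dvd_mul_left (by positivity) h1
  have hkey : ∀ l ∈ sols6, (2024 : ℤ) ∈ l ∨ (-6831 : ℤ) ∈ l := by decide +kernel
  have hk' : k ∈ [3, 24, 108, 192, 864] := by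
    rcases hkey l hl with h1 | h1
    · have h2 := hdvd 17280 2024 (by norm_num) (by norm_num) (h _ h1)
      have h3 : k ∈ Nat.divisors 17280 := Nat.mem_divisors.2 ⟨h2, by norm_num⟩
      have h4 : ∀ k ∈ Nat.divisors 17280, k % 7 = 3 → k % 5 ≠ 0 → k ∈ [3, 24, 108, 192, 864] := by
        decide +kernel
      exact h4 k h3 hk h5
    · have h2 := hdvd 5120 6831 (by norm_num) (by norm_num) (h _ h1)
      have h3 : k ∈ Nat.divisors 5120 := Nat.mem_divisors.2 ⟨h2, by norm_num⟩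
      have h4 : ∀ k ∈ Nat.divisors 5120, k % 7 = 3 → k % 5 ≠ 0 → k ∈ [3, 24, 108, 192, 864] := by
        decide +kernel
      exact h4 k h3 hk h5
  have h1 : ∀ l ∈ sols6, ∀ k ∈ [3, 24, 108, 192, 864],
      (l.all fun s => 244823040 % (s.natAbs * (7 * k)) == 0) = true → (l, k) ∈ pairs6 := by
    decide +kernel
  refine h1 l hl k hk' ?_
  rw [List.all_eq_true]
  intro s hs
  simpa using Nat.mod_eq_zero_of_dvd (h s hs)

theorem pairs6_spec : ∀ x ∈ pairs6, (2024 : ℤ) ∈ x.1 ∧ (-6831 : ℤ) ∉ x.1 := by decide +kernel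

theorem arith_inter6' : ∀ x ∈ pairs6, ∀ l ∈ sols5', ∀ s ∈ l, -s ∈ x.1 →
    s = -2024 ∧ (l = [-5544, -2024, 736, 6831] ∨ l = [-5544, -2024, 1771, 5796]) := by
  decide +kernel

/-- The principal 5-block: `{1, a, b, c, d}`, `a(1) = 5544`, `b(1) = 2024`. -/
structure B5 {G : Type u} [Group G] [Finite G] (R : Sylow 5 G) (K : Subgroup G) (M : Ideal AlgInt)
    (B : Finset (IrrCharacter G)) (ε : IrrCharacter G → ℤ) (a b c d : IrrCharacter G) : Prop where
  loc : FlatLoc 5 R K M B ε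
  nodup : [tr G, a, b, c, d].Nodup
  mem : ∀ χ, χ ∈ B ↔ χ ∈ [tr G, a, b, c, d]
  dg_a : dg a = 5544
  ε_a : ε a = -1
  dg_b : dg b = 2024
  ε_b : ε b = -1
  ε_c : ε c = 1
  ε_d : ε d = 1
  dg_cd : (dg c = 736 ∧ dg d = 6831 ∧ (Nat.card K = 2 ∨ Nat.card K = 32)) ∨
    (dg c = 1771 ∧ dg d = 5796 ∧
      (Nat.card K = 2 ∨ Nat.card K = 12 ∨ Nat.card K = 32 ∨ Nat.card K = 192))

/-- The principal 7-block, `e = 3`: `{1, a, b; Θ, Θ'}`, `a(1) = 1035`, `b(1) = 2024`,
`Θ(1) = 990`. -/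
structure B7three {G : Type u} [Group G] [Finite G] (S : Sylow 7 G) (K : Subgroup G)
    (M : Ideal AlgInt) (D : BlockData 7 M S 3 2) (a b : IrrCharacter G) : Prop where
  modular : IsPModular 7 M
  loc : PrimeLocal.IsLocal 7 S 3 K
  l_eq : D.l = [a, b]
  dg_a : dg a = 1035
  ε_a : D.ε a = -1
  dg_b : dg b = 2024
  ε_b : D.ε b = 1
  d_eq : D.d = 1
  f_eq : D.f = 990
  card_K : Nat.card K = 6 ∨ Nat.card K = 48 ∨ Nat.card K = 384

/-- The principal 7-block, `e = 6`; `b(1) = 2024`. -/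
structure B7six {G : Type u} [Group G] [Finite G] (S : Sylow 7 G) (K : Subgroup G)
    (M : Ideal AlgInt) (B : Finset (IrrCharacter G)) (ε : IrrCharacter G → ℤ)
    (l : List (IrrCharacter G)) (b : IrrCharacter G) : Prop where
  loc : FlatLoc 7 S K M B ε
  nodup : (tr G :: l).Nodup
  mem : ∀ χ, χ ∈ B ↔ χ ∈ tr G :: l
  mem_pairs : (l.map fun χ => ε χ * (dg χ : ℤ), Nat.card K) ∈ pairs6
  b_mem : b ∈ l
  ε_b : ε b = 1

variable {G : Type u} [Group G] [Finite G] [IsSimpleGroup G] (H : Hyp G)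

include H

theorem card_seven (S : Sylow 7 G) : Nat.card S = 7 := by
  have h7 : Fact (Nat.Prime 7) := ⟨by norm_num⟩
  refine Simple168Max.card_sylow_eq_prime S ?_ ?_ <;> rw [H.hcard] <;> norm_num

theorem card_five (S : Sylow 5 G) : Nat.card S = 5 := by
  have h7 : Fact (Nat.Prime 5) := ⟨by norm_num⟩
  refine Simple168Max.card_sylow_eq_prime S ?_ ?_ <;> rw [H.hcard] <;> norm_num

/-- `exists_five` with the two lists only. -/
theorem exists_five' (R : Sylow 5 G) : ∃ (K : Subgroup G) (M : Ideal AlgInt)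
    (B : Finset (IrrCharacter G)) (ε : IrrCharacter G → ℤ) (l : List (IrrCharacter G)),
    FlatLoc 5 R K M B ε ∧ (tr G :: l).Nodup ∧ (∀ χ, χ ∈ B ↔ χ ∈ tr G :: l) ∧
    l.map (fun χ => ε χ * (dg χ : ℤ)) ∈ sols5' ∧
    (Nat.card K = 2 ∨ Nat.card K = 12 ∨ Nat.card K = 32 ∨ Nat.card K = 192) ∧
    (l.map (fun χ => ε χ * (dg χ : ℤ)) = [-5544, -2024, 736, 6831] →
      Nat.card K = 2 ∨ Nat.card K = 32) := by
  obtain ⟨K, M, B, ε, l, h1, h2, h3, h4⟩ := exists_five H R
  refine ⟨K, M, B, ε, l, h1, h2, h3, ?_, ?_, ?_⟩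
  · rcases h4 with h | h | h | h | h <;> rw [h.1] <;> simp [sols5']
  · rcases h4 with h | h | h | h | h <;> have h' := h.2 <;> omega
  · intro h5
    rw [h5] at h4
    rcases h4 with h | h | h | h | h
    · simp at h
    · exact h.2
    · simp at h
    · simp at h
    · simp at h

theorem no_thirtyfive {R : Sylow 5 G} {K : Subgroup G}
    (hK : PrimeLocal.IsLocal 5 R 4 K)
    (h : Nat.card K = 2 ∨ Nat.card K = 12 ∨ Nat.card K = 32 ∨ Nat.card K = 192) (g : G) :
    orderOf g ≠ 5 * 7 := by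
  have h5 : Fact (Nat.Prime 5) := ⟨by norm_num⟩
  intro hg
  have h1 := dvd_card_of_orderOf (card_five H R) hK (q := 7) (by norm_num) hg
  rcases h with h | h | h | h <;> rw [h] at h1 <;> omega

/-- signed degree of a nonexceptional character of the 7-block -/
theorem sd_mem {ε : ℤ} (hε : ε = 1 ∨ ε = -1) {χ : IrrCharacter G} (hχ1 : χ ≠ tr G)
    (h1 : ε * (dg χ : ℤ) ≡ 1 [ZMOD 7]) : ε * (dg χ : ℤ) ∈ L7 := by
  have hA := arith_L7 _ (dg_mem_A H χ)
    (fun h => hχ1 ((eq_one_of_dg H h).trans (tr_eq H).symm)) (dg_ne_eleven H χ)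
  rcases hε with h2 | h2
  · rw [h2, one_mul] at h1 ⊢
    exact hA.1 (by have := h1.dvd; omega)
  · rw [h2, neg_one_mul] at h1 ⊢
    exact hA.2.1 (by have := h1.dvd; omega)

theorem dexc_mem {M : Ideal AlgInt} {S : Sylow 7 G} (D : BlockData 7 M S 3 2) :
    -D.dexc ∈ X7 := by
  have h7 : Fact (Nat.Prime 7) := ⟨by norm_num⟩
  obtain ⟨Θ, hΘ⟩ := D.exists_X (by norm_num)
  have hΘ1 : Θ ≠ tr G := by
    rw [← one_eq D]
    rintro rfl
    exact D.notMem_X _ List.mem_cons_self hΘ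
  have hA := arith_L7 _ (dg_mem_A H Θ)
    (fun h => hΘ1 ((eq_one_of_dg H h).trans (tr_eq H).symm)) (dg_ne_eleven H Θ)
  have h4 : D.dexc ≡ 3 [ZMOD 7] := D.dexc_modEq (card_seven H S) (by norm_num)
  rw [DegreeData.BlockData.dexc, ← D.deg_X Θ hΘ] at h4 ⊢
  change D.d * (dg Θ : ℤ) ≡ 3 [ZMOD 7] at h4
  change -(D.d * (dg Θ : ℤ)) ∈ X7
  rcases D.d_mem with h | h
  · rw [h, one_mul] at h4 ⊢
    exact hA.2.2.1 (by have := h4.dvd; omega)
  · rw [h, neg_one_mul] at h4 ⊢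
    rw [neg_neg]
    exact hA.2.2.2 (by have := h4.dvd; omega)

/-- the signed degree of the exceptional characters is compatible -/
theorem cp_dexc {M : Ideal AlgInt} {S : Sylow 7 G} {e t : ℕ} [Fact (Nat.Prime 7)]
    (D : BlockData 7 M S e t) (ht : e * t = 7 - 1) {χ : IrrCharacter G} {ε : ℤ}
    (hε : ε = 1 ∨ ε = -1) : cp (ε * (dg χ : ℤ)) (-D.dexc) = true := by
  obtain ⟨Θ, hΘ⟩ := D.exists_X ht
  have h1 : -D.dexc = (-D.d) * (dg Θ : ℤ) := by
    rw [DegreeData.BlockData.dexc, ← D.deg_X Θ hΘ]; unfold dg; ring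
  rw [h1]
  refine cp_of H hε ?_ χ Θ
  rcases D.d_mem with h | h <;> rw [h] <;> norm_num

theorem sd_of_mem_five {M : Ideal AlgInt} {R : Sylow 5 G} {B : Finset (IrrCharacter G)}
    {ε : IrrCharacter G → ℤ} (hB : Flat 5 R M B ε) {l : List (IrrCharacter G)}
    (hmem : ∀ χ, χ ∈ B ↔ χ ∈ tr G :: l) {χ : IrrCharacter G} (hχ : χ ∈ B) (hχ1 : χ ≠ tr G) :
    ε χ * (dg χ : ℤ) ∈ l.map (fun χ => ε χ * (dg χ : ℤ)) ∧ (ε χ * (dg χ : ℤ)).natAbs = dg χ := by
  refine ⟨List.mem_map_of_mem ?_, ?_⟩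
  · rcases List.mem_cons.1 ((hmem χ).1 hχ) with h | h
    · exact absurd h hχ1
    · exact h
  · rcases hB.ε_mem χ hχ with h | h <;> rw [h] <;> simp

/-- `e = 2` is impossible for `p = 7`. -/
theorem e7_ne_two {R : Sylow 5 G} {K : Subgroup G} {M : Ideal AlgInt}
    {B : Finset (IrrCharacter G)} {ε : IrrCharacter G → ℤ} {l : List (IrrCharacter G)}
    (hB : FlatLoc 5 R K M B ε) (hmem : ∀ χ, χ ∈ B ↔ χ ∈ tr G :: l)
    (hl : l.map (fun χ => ε χ * (dg χ : ℤ)) ∈ sols5')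
    (hno : ∀ g : G, orderOf g ≠ 5 * 7) {S : Sylow 7 G}
    (he : (centralizer (S : Set G)).relIndex (normalizer (S : Set G)) = 2) : False := by
  have h5 : Fact (Nat.Prime 5) := ⟨by norm_num⟩
  have h7 : Fact (Nat.Prime 7) := ⟨by norm_num⟩
  have hS := card_seven H S
  obtain ⟨M', hM'⟩ := Blocks.ExistsModular.exists_isPModular (p := 7) (by norm_num)
  obtain ⟨D⟩ := exists_blockData 7 (by norm_num) M' hM' S hS 2 3 he (by norm_num)
  obtain ⟨χ, hχl⟩ : ∃ χ, D.l = [χ] := List.length_eq_one_iff.1 (by have := D.length; omega)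
  have h1 := D.dexc_eq (by norm_num)
  have hχ : χ ∈ D.one :: D.l := by rw [hχl]; simp
  have hχ1 : χ ≠ tr G := by
    rw [← one_eq D]
    rintro rfl
    exact (List.nodup_cons.1 D.nodup).1 (by rw [hχl]; simp)
  have h2 : D.ε χ * (dg χ : ℤ) ∈ L7 := sd_mem H (D.ε_mem χ hχ) hχ1 (D.sd_modEq hS hχ)
  obtain ⟨Θ, hΘ⟩ := D.exists_X (by norm_num)
  have h3 : D.degs.sum = D.ε χ * (dg χ : ℤ) := by
    rw [DegreeData.BlockData.degs, hχl]
    simp [DegreeData.BlockData.sd, dg]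
  rw [h3] at h1
  have h4 : D.ε χ * (dg χ : ℤ) = 22 := by
    apply arith_two _ h2
    rw [h1, D.natAbs_dexc, ← D.deg_X Θ hΘ]
    exact dg_mem_A H Θ
  have h5' : dg χ = 22 := by
    rcases D.ε_mem χ hχ with h | h <;> rw [h] at h4 <;> omega
  obtain ⟨ψ, hψ1, hψ2, hψ3⟩ := exists_shared_data (by norm_num) (card_five H R) hS hB.toFlat hM' D
    hno
  obtain ⟨h6, h7'⟩ := sd_of_mem_five H hB.toFlat hmem hψ1 hψ2
  have h8 := arith_no_two _ hl _ h6
  rw [h7'] at h8
  rcases hψ3 with ⟨h9, -⟩ | ⟨h9, -⟩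
  · rw [hχl, List.mem_singleton] at h9
    rw [h9] at h8
    exact h8.1 h5'
  · apply h8.2
    have h10 : dg ψ = D.f := D.deg_X ψ h9
    rw [h10, ← D.natAbs_dexc, ← h1, h4]
    rfl

/-- The case `e = 3` for `p = 7`. -/
theorem exists_three {R : Sylow 5 G} {K : Subgroup G} {M : Ideal AlgInt}
    {B : Finset (IrrCharacter G)} {ε : IrrCharacter G → ℤ} {l : List (IrrCharacter G)}
    (hB : FlatLoc 5 R K M B ε) (hmem : ∀ χ, χ ∈ B ↔ χ ∈ tr G :: l)
    (hl : l.map (fun χ => ε χ * (dg χ : ℤ)) ∈ sols5')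
    (hno : ∀ g : G, orderOf g ≠ 5 * 7) {S : Sylow 7 G} {K' : Subgroup G}
    (hK' : PrimeLocal.IsLocal 7 S 3 K') : ∃ (M' : Ideal AlgInt) (D : BlockData 7 M' S 3 2)
    (a b : IrrCharacter G), B7three S K' M' D a b ∧ b ∈ B ∧ b ≠ tr G ∧
      (l.map (fun χ => ε χ * (dg χ : ℤ)) = [-5544, -2024, 736, 6831] ∨
        l.map (fun χ => ε χ * (dg χ : ℤ)) = [-5544, -2024, 1771, 5796]) := by
  have h5 : Fact (Nat.Prime 5) := ⟨by norm_num⟩
  have h7 : Fact (Nat.Prime 7) := ⟨by norm_num⟩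
  have hS := card_seven H S
  obtain ⟨M', hM'⟩ := Blocks.ExistsModular.exists_isPModular (p := 7) (by norm_num)
  obtain ⟨D⟩ := exists_blockData 7 (by norm_num) M' hM' S hS 3 2 (BlockIndex.relIndex_eq hK')
    (by norm_num)
  obtain ⟨a, b, hab⟩ : ∃ a b, D.l = [a, b] := by
    have := D.length
    match hl : D.l, this with
    | [a, b], _ => exact ⟨a, b, rfl⟩
    | [], h => rw [hl] at this; simp at this
    | [_], h => rw [hl] at this; simp at this
    | _ :: _ :: _ :: _, h => rw [hl] at this; simp at this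
  have ha : a ∈ D.one :: D.l := by rw [hab]; simp
  have hb : b ∈ D.one :: D.l := by rw [hab]; simp
  have hne : ∀ χ ∈ D.l, χ ≠ tr G := by
    intro χ hχ
    rw [← one_eq D]
    rintro rfl
    exact (List.nodup_cons.1 D.nodup).1 hχ
  have ha1 := hne a (by rw [hab]; simp)
  have hb1 := hne b (by rw [hab]; simp)
  have h2a : D.ε a * (dg a : ℤ) ∈ L7 := sd_mem H (D.ε_mem a ha) ha1 (D.sd_modEq hS ha)
  have h2b : D.ε b * (dg b : ℤ) ∈ L7 := sd_mem H (D.ε_mem b hb) hb1 (D.sd_modEq hS hb)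
  have h3 : D.degs = [D.ε a * (dg a : ℤ), D.ε b * (dg b : ℤ)] := by
    rw [DegreeData.BlockData.degs, hab]
    simp [DegreeData.BlockData.sd, dg]
  have h1 := D.dexc_eq (by norm_num)
  have hsort := D.degs_sorted
  rw [h3] at h1 hsort
  simp only [List.sum_cons, List.sum_nil, add_zero] at h1
  simp only [List.pairwise_cons, List.mem_cons, List.not_mem_nil, or_false, forall_eq,
    IsEmpty.forall_iff, implies_true, List.Pairwise.nil, and_true] at hsort
  have h4 : -D.dexc = -(1 + D.ε a * (dg a : ℤ) + D.ε b * (dg b : ℤ)) := by rw [← h1]; ring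
  have h6 := dexc_mem H D
  have c1 := cp_of H (D.ε_mem a ha) (D.ε_mem b hb) a b
  have c2 := cp_dexc H D (by norm_num) (χ := a) (D.ε_mem a ha)
  have c3 := cp_dexc H D (by norm_num) (χ := b) (D.ε_mem b hb)
  have h8 : [D.ε a * (dg a : ℤ), D.ε b * (dg b : ℤ), -D.dexc] ∈ sols3 := by
    rw [h4] at h6 c2 c3 ⊢
    exact arith_three _ h2a _ h2b hsort h6 c1 c2 c3
  obtain ⟨ψ, hψ1, hψ2, hψ3⟩ := exists_shared_data (by norm_num) (card_five H R) hS hB.toFlat hM' D
    hno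
  obtain ⟨h9, h10⟩ := sd_of_mem_five H hB.toFlat hmem hψ1 hψ2
  have h11 : -(ε ψ * (dg ψ : ℤ)) ∈ [D.ε a * (dg a : ℤ), D.ε b * (dg b : ℤ), -D.dexc] := by
    rcases hψ3 with ⟨h, h'⟩ | ⟨h, h'⟩
    · rw [hab] at h
      have h12 : -(ε ψ * (dg ψ : ℤ)) = D.ε ψ * (dg ψ : ℤ) := by rw [h']; ring
      rw [h12]
      simp only [List.mem_cons, List.not_mem_nil, or_false] at h
      rcases h with rfl | rfl <;> simp
    · have h12 : -(ε ψ * (dg ψ : ℤ)) = -D.dexc := by
        rw [DegreeData.BlockData.dexc, ← D.deg_X ψ h, h']; rfl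
      rw [h12]; simp
  obtain ⟨h12, h13, h14⟩ := arith_inter3 _ hl _ h8 _ h9 h11
  rw [h13] at h10
  simp only [List.cons.injEq, and_true] at h12
  obtain ⟨h15, h16, h17⟩ := h12
  have ea := D.ε_mem a ha
  have eb := D.ε_mem b hb
  have hda : D.ε a = -1 ∧ dg a = 1035 := by
    rcases ea with h | h <;> rw [h] at h15 ⊢ <;> constructor <;> omega
  have hdb : D.ε b = 1 ∧ dg b = 2024 := by
    rcases eb with h | h <;> rw [h] at h16 ⊢ <;> constructor <;> omega
  have hdd : D.d = 1 ∧ D.f = 990 := by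
    rw [DegreeData.BlockData.dexc] at h17
    rcases D.d_mem with h | h <;> rw [h] at h17 ⊢ <;> constructor <;> omega
  have hψ : ψ = b := by
    rcases hψ3 with ⟨h, -⟩ | ⟨h, -⟩
    · rw [hab] at h
      simp only [List.mem_cons, List.not_mem_nil, or_false] at h
      rcases h with rfl | rfl
      · rw [hda.2] at h10; norm_num at h10
      · rfl
    · have h18 : dg ψ = D.f := D.deg_X ψ h
      rw [h18, hdd.2] at h10
      norm_num at h10
  subst hψ
  refine ⟨M', D, a, ψ, ⟨hM', hK', hab, hda.2, hda.1, hdb.2, hdb.1, hdd.1, hdd.2, ?_⟩, hψ1, hψ2, h14⟩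
  have e1 := mul_dvd_card D hS hK'.card_centralizer ha
  have e2 := mul_dvd_card D hS hK'.card_centralizer hb
  rw [hda.2, H.hcard, show (244823040 : ℕ) = (1035 * 7) * 33792 by norm_num, ← mul_assoc] at e1
  rw [hdb.2, H.hcard, show (244823040 : ℕ) = (2024 * 7) * 17280 by norm_num, ← mul_assoc] at e2
  have e3 := Nat.dvd_of_mul_dvd_mul_left (by norm_num) e1
  have e4 := Nat.dvd_of_mul_dvd_mul_left (by norm_num) e2
  have e5 : Nat.card K' ∣ 384 := by simpa using Nat.dvd_gcd e3 e4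
  have hmod : Nat.card K' % 7 = 6 := by
    have h1 := local_modEq hK' (m := 34974720) (by rw [H.hcard])
    have h2 : 3 * Nat.card K' % 7 = 34974720 % 7 := h1
    omega
  have e6 : Nat.card K' ∈ Nat.divisors 384 := Nat.mem_divisors.2 ⟨e5, by norm_num⟩
  have e7 : ∀ k ∈ Nat.divisors 384, k % 7 = 6 → k = 6 ∨ k = 48 ∨ k = 384 := by decide +kernel
  exact e7 _ e6 hmod

/-- The case `e = 6` for `p = 7`. -/
theorem exists_six {R : Sylow 5 G} {K : Subgroup G} {M : Ideal AlgInt}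
    {B : Finset (IrrCharacter G)} {ε : IrrCharacter G → ℤ} {l : List (IrrCharacter G)}
    (hB : FlatLoc 5 R K M B ε) (hmem : ∀ χ, χ ∈ B ↔ χ ∈ tr G :: l)
    (hl : l.map (fun χ => ε χ * (dg χ : ℤ)) ∈ sols5')
    (hno : ∀ g : G, orderOf g ≠ 5 * 7) {S : Sylow 7 G} {K' : Subgroup G}
    (hK' : PrimeLocal.IsLocal 7 S 6 K') : ∃ (M' : Ideal AlgInt) (B' : Finset (IrrCharacter G))
    (ε' : IrrCharacter G → ℤ) (l' : List (IrrCharacter G)) (b : IrrCharacter G),
      B7six S K' M' B' ε' l' b ∧ b ∈ B ∧ b ≠ tr G ∧ dg b = 2024 ∧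
      (l.map (fun χ => ε χ * (dg χ : ℤ)) = [-5544, -2024, 736, 6831] ∨
        l.map (fun χ => ε χ * (dg χ : ℤ)) = [-5544, -2024, 1771, 5796]) := by
  have h5 : Fact (Nat.Prime 5) := ⟨by norm_num⟩
  have h7 : Fact (Nat.Prime 7) := ⟨by norm_num⟩
  have hS := card_seven H S
  obtain ⟨M', B', ε', hB'⟩ := exists_flatLoc (not_prime H) 7 (by norm_num) S hS hK'
  obtain ⟨l', hl1, hl2, hl3, hl4, hl5, -⟩ := hB'.toFlat.exists_list
  have hne : ∀ χ ∈ l', χ ≠ tr G := by
    rintro χ hχ rfl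
    exact (List.nodup_cons.1 hl1).1 hχ
  have hmem' : ∀ χ ∈ l', χ ∈ B' := fun χ hχ => (hl2 χ).2 (List.mem_cons_of_mem _ hχ)
  have hL : ∀ z ∈ l'.map (fun χ => ε' χ * (dg χ : ℤ)), z ∈ L7 := by
    intro z hz
    obtain ⟨χ, hχ, rfl⟩ := List.mem_map.1 hz
    exact sd_mem H (hB'.ε_mem χ (hmem' χ hχ)) (hne χ hχ) (hB'.toFlat.modEq hS (hmem' χ hχ))
  obtain ⟨ψ, hψ1, hψ2, hψ3, hψ4⟩ := exists_shared_flat (by norm_num) (card_five H R) hS hB.toFlat
    hB'.toFlat hno
  obtain ⟨h9, h10⟩ := sd_of_mem_five H hB.toFlat hmem hψ1 hψ3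
  have hψl : ψ ∈ l' := by
    rcases List.mem_cons.1 ((hl2 ψ).1 hψ2) with h | h
    · exact absurd h hψ3
    · exact h
  have h11 : -(ε ψ * (dg ψ : ℤ)) ∈ l'.map (fun χ => ε' χ * (dg χ : ℤ)) := by
    have h12 : -(ε ψ * (dg ψ : ℤ)) = ε' ψ * (dg ψ : ℤ) := by rw [hψ4]; ring
    rw [h12]
    exact List.mem_map_of_mem hψl
  have hcp : cpAll (l'.map (fun χ => ε' χ * (dg χ : ℤ))) = true := by
    unfold cpAll
    rw [List.all_eq_true]
    intro s hs
    rw [List.all_eq_true]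
    intro t ht
    obtain ⟨χ, hχ, rfl⟩ := List.mem_map.1 hs
    obtain ⟨ξ, hξ, rfl⟩ := List.mem_map.1 ht
    exact cp_of H (hB'.ε_mem χ (hmem' χ hχ)) (hB'.ε_mem ξ (hmem' ξ hξ)) χ ξ
  have hkey : (-(ε ψ * (dg ψ : ℤ)) = 2024 ∨ -(ε ψ * (dg ψ : ℤ)) = -6831) := by
    have h12 : ∀ l ∈ sols5', ∀ s ∈ l, -s ∈ L7 → (-s = 2024 ∨ -s = -6831) := by decide +kernel
    exact h12 _ hl _ h9 (hL _ h11)
  have h13 : test6 (l'.map (fun χ => ε' χ * (dg χ : ℤ))) = true := by
    refine DegreeSearch.check_spec search6 (by decide) (by rw [List.length_map]; omega) hl4 hL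
      ⟨_, List.mem_singleton_self _, ?_, ?_⟩
    · rw [DegreeSearch.sum_aff (by norm_num)]
      · rw [List.length_map]
        have e1 : l'.length = 6 := by omega
        have e2 : (l'.map (fun χ => ε' χ * (dg χ : ℤ))).sum = -1 := by linarith
        rw [e1, e2]
        norm_num
        rfl
      · intro z hz
        have h14 : ∀ z ∈ L7, (7 : ℤ) ∣ z + 12144 ∧ 0 ≤ z + 12144 := by decide +kernel
        exact h14 z (hL z hz)
    · have h14 := hB'.toFlat.sum_sq_le hl1 hl2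
      rw [H.hcard] at h14
      rw [List.map_map]
      change (l'.map fun χ => (ε' χ * (dg χ : ℤ)).natAbs ^ 2).sum ≤ 244823039
      omega
  have h14 : l'.map (fun χ => ε' χ * (dg χ : ℤ)) ∈ sols6 := by
    unfold test6 at h13
    rw [hcp] at h13
    have h15 : ((l'.map (fun χ => ε' χ * (dg χ : ℤ))).contains 2024 ||
        (l'.map (fun χ => ε' χ * (dg χ : ℤ))).contains (-6831)) = true := by
      rw [Bool.or_eq_true, List.contains_iff_mem, List.contains_iff_mem]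
      rcases hkey with h | h
      · left; rw [← h]; exact h11
      · right; rw [← h]; exact h11
    rw [h15] at h13
    simpa using h13
  have h15 : (l'.map (fun χ => ε' χ * (dg χ : ℤ)), Nat.card K') ∈ pairs6 := by
    refine arith_index6 h14 ?_ ?_ ?_
    · have h1 := local_modEq hK' (m := 34974720) (by rw [H.hcard])
      have h2 : 6 * Nat.card K' % 7 = 34974720 % 7 := h1
      omega
    · intro h
      obtain ⟨g, hg⟩ := exists_orderOf hS hK' (q := 5) (by norm_num) (by norm_num)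
        (Nat.dvd_of_mod_eq_zero h)
      exact hno g (by rw [hg])
    · intro s hs
      obtain ⟨χ, hχ, rfl⟩ := List.mem_map.1 hs
      rw [hB'.toFlat.natAbs_sd (hmem' χ hχ), ← H.hcard]
      exact hB'.toFlat.mul_dvd_card hS hK'.card_centralizer (hmem' χ hχ)
  obtain ⟨h16, h17⟩ := arith_inter6' _ h15 _ hl _ h9 h11
  rw [h16] at h10
  have h18 : ε' ψ = 1 := by
    rw [hψ4]
    rcases hB.ε_mem ψ hψ1 with h | h <;> rw [h] at h16 ⊢
    · omega
    · norm_num
  exact ⟨M', B', ε', l', ψ, ⟨hB', hl1, hl2, h15, hψl, h18⟩, hψ1, hψ3, by omega, h17⟩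

/-- The character `b` of degree 2024 in the sorted list of the principal 5-block. -/
theorem b5_of_list {M : Ideal AlgInt} {R : Sylow 5 G} {K : Subgroup G}
    {B : Finset (IrrCharacter G)} {ε : IrrCharacter G → ℤ} {l : List (IrrCharacter G)}
    (hB : FlatLoc 5 R K M B ε) (hnd : (tr G :: l).Nodup) (hmem : ∀ χ, χ ∈ B ↔ χ ∈ tr G :: l)
    (hl : l.map (fun χ => ε χ * (dg χ : ℤ)) = [-5544, -2024, 736, 6831] ∨
      l.map (fun χ => ε χ * (dg χ : ℤ)) = [-5544, -2024, 1771, 5796])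
    (hK : Nat.card K = 2 ∨ Nat.card K = 12 ∨ Nat.card K = 32 ∨ Nat.card K = 192)
    (hK2 : l.map (fun χ => ε χ * (dg χ : ℤ)) = [-5544, -2024, 736, 6831] →
      Nat.card K = 2 ∨ Nat.card K = 32) {b : IrrCharacter G} (hb : b ∈ B) (hb1 : b ≠ tr G)
    (hdb : dg b = 2024) : ∃ a c d, B5 R K M B ε a b c d := by
  have hlen : l.length = 4 := by
    rcases hl with h | h <;> · rw [← List.length_map (f := fun χ => ε χ * (dg χ : ℤ)), h]; rfl
  obtain ⟨x, y, z, w, rfl⟩ : ∃ x y z w, l = [x, y, z, w] := by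
    match l, hlen with
    | [x, y, z, w], _ => exact ⟨x, y, z, w, rfl⟩
  have hm : ∀ χ ∈ [x, y, z, w], ε χ = 1 ∨ ε χ = -1 := fun χ hχ =>
    hB.ε_mem χ ((hmem χ).2 (List.mem_cons_of_mem _ hχ))
  have ex := hm x (by simp)
  have ey := hm y (by simp)
  have ez := hm z (by simp)
  have ew := hm w (by simp)
  have hbl : b ∈ [x, y, z, w] := by
    rcases List.mem_cons.1 ((hmem b).1 hb) with h | h
    · exact absurd h hb1
    · exact h
  simp only [List.map_cons, List.map_nil, List.cons.injEq, and_true] at hl hK2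
  have key : ∀ {ε' : ℤ} {n m : ℕ}, (ε' = 1 ∨ ε' = -1) → ε' * (n : ℤ) = m → 0 < m →
      ε' = 1 ∧ n = m := by
    intro ε' n m h h' hm
    rcases h with h | h <;> rw [h] at h' ⊢ <;> constructor <;> omega
  have key' : ∀ {ε' : ℤ} {n m : ℕ}, (ε' = 1 ∨ ε' = -1) → ε' * (n : ℤ) = -m → 0 < m →
      ε' = -1 ∧ n = m := by
    intro ε' n m h h' hm
    rcases h with h | h <;> rw [h] at h' ⊢ <;> constructor <;> omega
  rcases hl with h | h
  · have hK3 := hK2 h
    obtain ⟨h1, h2, h3, h4⟩ := h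
    obtain ⟨x1, x2⟩ := key' (m := 5544) ex (by rw [h1]; rfl) (by norm_num)
    obtain ⟨y1, y2⟩ := key' (m := 2024) ey (by rw [h2]; rfl) (by norm_num)
    obtain ⟨z1, z2⟩ := key (m := 736) ez (by rw [h3]; rfl) (by norm_num)
    obtain ⟨w1, w2⟩ := key (m := 6831) ew (by rw [h4]; rfl) (by norm_num)
    have hby : b = y := by
      simp only [List.mem_cons, List.not_mem_nil, or_false] at hbl
      rcases hbl with rfl | rfl | rfl | rfl
      · omega
      · rfl
      · omega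
      · omega
    subst hby
    exact ⟨x, z, w, hB, hnd, hmem, x2, x1, y2, y1, z1, w1, Or.inl ⟨z2, w2, hK3⟩⟩
  · obtain ⟨h1, h2, h3, h4⟩ := h
    obtain ⟨x1, x2⟩ := key' (m := 5544) ex (by rw [h1]; rfl) (by norm_num)
    obtain ⟨y1, y2⟩ := key' (m := 2024) ey (by rw [h2]; rfl) (by norm_num)
    obtain ⟨z1, z2⟩ := key (m := 1771) ez (by rw [h3]; rfl) (by norm_num)
    obtain ⟨w1, w2⟩ := key (m := 5796) ew (by rw [h4]; rfl) (by norm_num)
    have hby : b = y := by
      simp only [List.mem_cons, List.not_mem_nil, or_false] at hbl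
      rcases hbl with rfl | rfl | rfl | rfl
      · omega
      · rfl
      · omega
      · omega
    subst hby
    exact ⟨x, z, w, hB, hnd, hmem, x2, x1, y2, y1, z1, w1, Or.inr ⟨z2, w2, hK⟩⟩

/-- **The principal 5- and 7-blocks.** -/
theorem exists_blocks (R : Sylow 5 G) (S : Sylow 7 G) :
    ∃ (K : Subgroup G) (M : Ideal AlgInt) (B : Finset (IrrCharacter G)) (ε : IrrCharacter G → ℤ)
      (a b c d : IrrCharacter G), B5 R K M B ε a b c d ∧
    ((∃ (K' : Subgroup G) (M' : Ideal AlgInt) (D : BlockData 7 M' S 3 2) (a' : IrrCharacter G),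
      B7three S K' M' D a' b) ∨
    (∃ (K' : Subgroup G) (M' : Ideal AlgInt) (B' : Finset (IrrCharacter G))
      (ε' : IrrCharacter G → ℤ) (l' : List (IrrCharacter G)), B7six S K' M' B' ε' l' b)) := by
  have h5 : Fact (Nat.Prime 5) := ⟨by norm_num⟩
  have h7 : Fact (Nat.Prime 7) := ⟨by norm_num⟩
  obtain ⟨K, M, B, ε, l, hB, hnd, hmem, hl, hK, hK2⟩ := exists_five' H R
  have hno := no_thirtyfive H hB.loc hK
  obtain ⟨e, K', hK'⟩ := PrimeLocal.exists_local (not_comm H) (p := 7)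
    (by rw [H.hcard]; norm_num) (by rw [H.hcard]; norm_num) S
  have he : e = 2 ∨ e = 3 ∨ e = 6 := by
    have h1 : e ∣ 6 := hK'.dvd_pred
    have h2 : e ≤ 6 := Nat.le_of_dvd (by norm_num) h1
    have h3 := hK'.one_lt
    interval_cases e <;> omega
  rcases he with rfl | rfl | rfl
  · exact absurd (BlockIndex.relIndex_eq hK') fun h => e7_ne_two H hB hmem hl hno h
  · obtain ⟨M', D, a', b, h1, h2, h3, h4⟩ := exists_three H hB hmem hl hno hK'
    obtain ⟨a, c, d, h6⟩ := b5_of_list H hB hnd hmem h4 hK hK2 h2 h3 h1.dg_b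
    exact ⟨K, M, B, ε, a, b, c, d, h6, Or.inl ⟨K', M', D, a', h1⟩⟩
  · obtain ⟨M', B', ε', l', b, h1, h2, h3, h3', h4⟩ := exists_six H hB hmem hl hno hK'
    obtain ⟨a, c, d, h6⟩ := b5_of_list H hB hnd hmem h4 hK hK2 h2 h3 h3'
    exact ⟨K, M, B, ε, a, b, c, d, h6, Or.inr ⟨K', M', B', ε', l', h1⟩⟩

end Cfsg.Agent.SporadicA.M24.Seven
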