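import Cfsg.Agent.SporadicA.M24.SixWRows

/-!
# Searches for columns of involutions, `e₇ = 6`: the second column, `|K₅| = 192`
-/

set_option autoImplicit false

namespace Cfsg.Agent.SporadicA.M24.SixRows

theorem w192_1 : wS W192 R192_1 253 9108 (-12144) 736 22 = true := by
  decide +kernel

theorem w192_2 : wS W192 R192_2 (-1518) 3795 (-5060) 736 22 = true := by
  decide +kernel

theorem w192_3 : wS W192 R192_3 (-5060) (-1035) 3312 736 22 = true := by
  decide +kernel

theorem w192_4 : wS W192 R192_4 2024 253 (-5060) 736 22 = true := by
  decide +kernel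

theorem w192_5 : wS W192 R192_5 (-1518) (-1518) 253 736 22 = true := by
  decide +kernel

theorem w192_6 : wS W192 R192_6 (-1518) (-1035) 736 (-230) 22 = true := by
  decide +kernel

end Cfsg.Agent.SporadicA.M24.SixRows
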