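import Cfsg.Agent.SporadicA.M24.SixW12
import Cfsg.Agent.SporadicA.M24.SixW192

/-!
# Searches for columns of involutions, `e₇ = 6`: the conclusion of the arithmetic

`no_cols` : the columns of `t` and `w` do not exist together.
-/

set_option autoImplicit false

namespace Cfsg.Agent.SporadicA.M24.SixRows

open Cfsg.Agent.SporadicA.M24.RowU

/-- The data of the column of an involution: `c` the order of the centralizer, `k5`, `k7` the
numbers of the pair formulas, `a, b, x, y` the values on the principal 5-block, `z0, …, z4` the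
remaining signed values on the principal 7-block, `s0, …, s4` the signed degrees. -/
structure ColData (K : ℤ) (q : ℕ) (res B : ℤ → ℕ) (s0 s1 s2 s3 s4 : ℤ) (c k5 k7 : ℕ)
    (a b x y z0 z1 z2 z3 z4 : ℤ) : Prop where
  hc : 0 < c
  rel5 : 1 - a - b + x + y = 0
  rel7 : 1 + b + (z0 + z1 + z2 + z3 + z4) = 0
  norm : N5 a b x y + (z0 * z0 + z1 * z1 + z2 * z2 + z3 * z3 + z4 * z4) ≤ c
  d1 : (5544 : ℤ) ∣ ((244823040 / c : ℕ) : ℤ) * a
  d2 : (2024 : ℤ) ∣ ((244823040 / c : ℕ) : ℤ) * b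
  d3 : (1771 : ℤ) ∣ ((244823040 / c : ℕ) : ℤ) * x
  d4 : (5796 : ℤ) ∣ ((244823040 / c : ℕ) : ℤ) * y
  p5 : ((k5 : ℤ) * c) * (k5 * c) = 384 * K * F5 a b x y
  hk5 : (k5 : ℤ) ≤ K
  p7 : 24 * (244823040 + 120960 * (b * b) + (244823040 / s0 * (z0 * z0) +
      244823040 / s1 * (z1 * z1) + 244823040 / s2 * (z2 * z2) + 244823040 / s3 * (z3 * z3) +
      244823040 / s4 * (z4 * z4))) = 7 * ((k7 * c) * (k7 * c))
  hk7 : k7 < 25
  a0 : Adm q res B c s0 z0
  a1 : Adm q res B c s1 z1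
  a2 : Adm q res B c s2 z2
  a3 : Adm q res B c s3 z3
  a4 : Adm q res B c s4 z4

/-- the bound for the signed degrees -/
def Bd (s0 s1 s2 s3 s4 : ℤ) : Prop :=
  -20000 ≤ s0 ∧ -20000 ≤ s1 ∧ -20000 ≤ s2 ∧ -20000 ≤ s3 ∧ -20000 ≤ s4

section

variable {K : ℤ} {q : ℕ} {res B : ℤ → ℕ} {s0 s1 s2 s3 s4 : ℤ} {c k5 k7 : ℕ}
  {a b x y z0 z1 z2 z3 z4 : ℤ}

theorem ColData.norm5 (h : ColData K q res B s0 s1 s2 s3 s4 c k5 k7 a b x y z0 z1 z2 z3 z4) :
    N5 a b x y ≤ c := by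
  have := h.norm
  have := mul_self_nonneg z0
  have := mul_self_nonneg z1
  have := mul_self_nonneg z2
  have := mul_self_nonneg z3
  have := mul_self_nonneg z4
  linarith

theorem ColData.mem_rows (h : ColData K q res B s0 s1 s2 s3 s4 c k5 k7 a b x y z0 z1 z2 z3 z4)
    (hK : 0 < K) (hK' : K < 256) {q' ra rb rx : ℤ} {m : ℕ} (hq : 0 < q') (ha : a % q' = ra)
    (hb : b % q' = rb) (hx : x % q' = rx) (hm : (c : ℤ) ≤ (q' * m) * (q' * m)) (hm0 : 0 < m) :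
    (c, k5, a, b, x, y) ∈ rows5 K q' ra rb rx m c :=
  mem_rows5 hq ha hb hx h.rel5 h.norm5 hm hm0 h.hc h.d1 h.d2 h.d3 h.d4 hK h.hk5 hK' h.p5

theorem ColData.search {m : ℕ} {t : Tab}
    (h : ColData K q res B s0 s1 s2 s3 s4 c k5 k7 a b x y z0 z1 z2 z3 z4)
    (hb : Bd s0 s1 s2 s3 s4) (hq : 0 < q) (hqm : q * m ≤ 1120) (ht : tabOk q m res B t = true)
    {ok : R5 → ℕ → List ℕ → Bool}
    (hs : srch t ok (key s0) (key s1) (key s2) (key s3) (key s4) (c, k5, a, b, x, y) = true) :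
    ∃ acc, ok (c, k5, a, b, x, y) k7 acc = true ∧ dec acc = [z0, z1, z2, z3, z4] :=
  srch_spec hq hqm ht hs h.a0 h.a1 h.a2 h.a3 h.a4 hb.1 hb.2.1 hb.2.2.1 hb.2.2.2.1 hb.2.2.2.2
    h.rel7 h.norm h.hk7 h.p7

/-- The column of `t` is in the list. -/
theorem mem_TR (hK : 0 < K) (hK' : K < 256) (hB : Bd s0 s1 s2 s3 s4) {T : List R5}
    {TR : List C7} (hT5 : (CT.all fun c => (rowsT K c).all fun r => T.contains r) = true)
    (hT : tS T TR s0 s1 s2 s3 s4 = true)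
    (h : ColData K 28 rT bT s0 s1 s2 s3 s4 c k5 k7 a b x y z0 z1 z2 z3 z4) (hc : c ∈ CT)
    (ha : a % 28 = 0) (hb : b % 28 = 8) (hx : x % 28 = 7)
    (h5 : c % 5 = 0 → a % 5 = 4 ∧ b % 5 = 4 ∧ x % 5 = 1) :
    ((c, k5, a, b, x, y), k7, [z0, z1, z2, z3, z4]) ∈ TR := by
  have hc' : c ≤ 967680 := by
    have h1 : ∀ c ∈ CT, c ≤ 967680 := by decide
    exact h1 c hc
  have hc2 : (c : ℤ) ≤ 967680 := by exact_mod_cast hc'
  have hr : (c, k5, a, b, x, y) ∈ rowsT K c := by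
    unfold rowsT
    split_ifs with h1
    · obtain ⟨e1, e2, e3⟩ := h5 h1
      exact h.mem_rows hK hK' (by norm_num) (by omega) (by omega) (by omega)
        (by norm_num; linarith) (by norm_num)
    · exact h.mem_rows hK hK' (by norm_num) ha hb hx (by norm_num; linarith) (by norm_num)
  rw [List.all_eq_true] at hT5
  have h1 := hT5 c hc
  rw [List.all_eq_true] at h1
  have h2 : (c, k5, a, b, x, y) ∈ T := by
    have h3 := h1 _ hr
    rwa [List.contains_iff_mem] at h3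
  obtain ⟨acc, h4, h5⟩ := h.search hB (by norm_num) (by norm_num) tabT_ok (allP_spec hT h2)
  rw [tOk, List.contains_iff_mem, h5] at h4
  exact h4

/-- The column of `w` and the columns in the list. -/
theorem ne_of_wS (hK : 0 < K) (hK' : K < 256) (hB : Bd s0 s1 s2 s3 s4) {W : List R5}
    {TR : List C7} (hW5 : (CW'.all fun c => (rowsW K c).all fun r => W.contains r) = true)
    (hW : wS W TR s0 s1 s2 s3 s4 = true)
    (h : ColData K 4 rW bW s0 s1 s2 s3 s4 c k5 k7 a b x y z0 z1 z2 z3 z4)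
    (hc1 : c ∣ 967680) (hc2 : 10 ∣ c) (hc3 : c ≤ 15646)
    (ha : a % 20 = 4) (hb : b % 20 = 4) (hx : x % 20 = 11) :
    ∀ t ∈ TR, 7 * (((t.2.1 * t.1.1 : ℕ) : ℤ) * ((k7 * c : ℕ) : ℤ)) ≠
      24 * S7 [s0, s1, s2, s3, s4] t.1.2.2.2.1 b t.2.2 [z0, z1, z2, z3, z4] := by
  have hc : c ∈ CW' := by
    rw [← cw, CW, List.mem_filter, List.mem_range, Bool.and_eq_true, Nat.beq_eq, Nat.beq_eq]
    exact ⟨by omega, Nat.mod_eq_zero_of_dvd hc2, Nat.mod_eq_zero_of_dvd hc1⟩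
  have hc4 : (c : ℤ) ≤ 15646 := by exact_mod_cast hc3
  have hr : (c, k5, a, b, x, y) ∈ rowsW K c :=
    h.mem_rows hK hK' (by norm_num) ha hb hx (by norm_num; linarith) (by norm_num)
  rw [List.all_eq_true] at hW5
  have h1 := hW5 c hc
  rw [List.all_eq_true] at h1
  have h2 : (c, k5, a, b, x, y) ∈ W := by
    have h3 := h1 _ hr
    rwa [List.contains_iff_mem] at h3
  obtain ⟨acc, h4, h5⟩ := h.search hB (by norm_num) (by norm_num) tabW_ok (allP_spec hW h2)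
  rw [wOk, List.all_eq_true] at h4
  intro t ht h6
  have h7 := h4 t ht
  rw [h5, Bool.not_eq_true', beq_eq_false_iff_ne] at h7
  exact h7 h6

end

/-- **The columns of `t` and `w` do not exist together.** -/
theorem no_cols {K : ℤ} (hK : 0 < K) (hK' : K < 256) {s0 s1 s2 s3 s4 : ℤ}
    (hB : Bd s0 s1 s2 s3 s4) {T W : List R5} {TR : List C7}
    (hT5 : (CT.all fun c => (rowsT K c).all fun r => T.contains r) = true)
    (hT : tS T TR s0 s1 s2 s3 s4 = true)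
    (hW5 : (CW'.all fun c => (rowsW K c).all fun r => W.contains r) = true)
    (hW : TR = [] ∨ wS W TR s0 s1 s2 s3 s4 = true)
    {c k5 k7 c' k5' k7' : ℕ} {a b x y z0 z1 z2 z3 z4 a' b' x' y' z0' z1' z2' z3' z4' : ℤ}
    (h : ColData K 28 rT bT s0 s1 s2 s3 s4 c k5 k7 a b x y z0 z1 z2 z3 z4) (hc : c ∈ CT)
    (ha : a % 28 = 0) (hb : b % 28 = 8) (hx : x % 28 = 7)
    (h5 : c % 5 = 0 → a % 5 = 4 ∧ b % 5 = 4 ∧ x % 5 = 1)
    (h' : ColData K 4 rW bW s0 s1 s2 s3 s4 c' k5' k7' a' b' x' y' z0' z1' z2' z3' z4')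
    (hc1 : c' ∣ 967680) (hc2 : 10 ∣ c') (hc3 : c' ≤ 15646)
    (ha' : a' % 20 = 4) (hb' : b' % 20 = 4) (hx' : x' % 20 = 11)
    (hp : 7 * (((k7 : ℤ) * c) * (k7' * c')) = 24 * (244823040 + 120960 * (b * b') +
      (244823040 / s0 * (z0 * z0') + 244823040 / s1 * (z1 * z1') + 244823040 / s2 * (z2 * z2') +
      244823040 / s3 * (z3 * z3') + 244823040 / s4 * (z4 * z4')))) : False := by
  have h1 := mem_TR hK hK' hB hT5 hT h hc ha hb hx h5
  rcases hW with rfl | hW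
  · simp at h1
  · refine ne_of_wS hK hK' hB hW5 hW h' hc1 hc2 hc3 ha' hb' hx' _ h1 ?_
    simp only [S7, dot, List.map_cons, List.map_nil]
    push_cast
    linear_combination hp

end Cfsg.Agent.SporadicA.M24.SixRows
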