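import Cfsg.Agent.SporadicA.M24.Seven
import Cfsg.Agent.SporadicA.M24.BlockAvg
import Cfsg.Agent.SporadicA.M11CharSimple
import Cfsg.Agent.M23.BlockInt
import Cfsg.Agent.M23.ElevenFive
import Cfsg.Agent.Characters.SchurBound
import Cfsg.Agent.MTwelve.SmallDegree

/-!
# The principal 7-block with `e = 6`: the complement has order 3 or 24

`|K| ≠ 108, 864` by the order of `N(P)`; `|K| ≠ 192` by the rational character of degree 22.
-/

set_option autoImplicit false
set_option linter.unusedSectionVars false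

open Cfsg Subgroup
open Cfsg.Agent.Characters.Core
open Cfsg.Agent.SmallSimple
open Cfsg.Agent.SmallSimple.FlatBlock
open Cfsg.Agent.M23Order.Base
open Cfsg.Agent.SporadicA.M24.Setup Cfsg.Agent.SporadicA.M24.Five Cfsg.Agent.SporadicA.M24.Seven
open scoped ComplexConjugate

namespace Cfsg.Agent.SporadicA.M24.SixD0

universe u

section general

variable {G : Type u} [Group G] [Finite G]

/-- values at `g` and `g ^ 2` -/
theorem sq_le {χ : G → ℂ} (hχ : IsCharacter G χ) {g : G} {n a b : ℤ} (h1 : χ 1 = n)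
    (ha : χ g = a) (hb : χ (g ^ 2) = b) : n - b ≤ 4 * (n + a) := by
  obtain ⟨s, hs, hk⟩ := Blocks.GaloisConj.exists_multiset_pow hχ (n := Nat.card G)
    Nat.card_pos.ne' (pow_card_eq_one' (x := g))
  have h0 := hk 0
  have h1' := hk 1
  have h2 := hk 2
  rw [pow_zero, h1] at h0
  rw [pow_one, ha] at h1'
  rw [hb] at h2
  simp only [pow_zero, pow_one, Multiset.map_const', Multiset.sum_replicate, nsmul_eq_mul,
    mul_one, Multiset.map_id'] at h0 h1'
  have r0 : (n : ℝ) = (s.card : ℝ) := by exact_mod_cast h0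
  have r1 : (a : ℝ) = (s.map Complex.re).sum := by
    have h3 := congrArg Complex.reAddGroupHom h1'
    rw [map_multiset_sum] at h3
    simpa using h3
  have r2 : (b : ℝ) = (s.map fun z => (z ^ 2).re).sum := by
    have h3 := congrArg Complex.reAddGroupHom h2
    rw [map_multiset_sum, Multiset.map_map] at h3
    simpa using h3
  have key : (s.map fun z : ℂ => 1 - (z ^ 2).re).sum ≤ (s.map fun z : ℂ => 4 * (1 + z.re)).sum := by
    refine Multiset.sum_map_le_sum_map _ _ fun z hz => ?_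
    have hn : ‖z‖ = 1 := Complex.norm_eq_one_of_pow_eq_one (hs z hz) Nat.card_pos.ne'
    have h3 : z.re ^ 2 + z.im ^ 2 = 1 := by
      have := Complex.normSq_eq_norm_sq z
      rw [hn, Complex.normSq_apply] at this
      nlinarith
    have h4 : (z ^ 2).re = z.re ^ 2 - z.im ^ 2 := by
      rw [pow_two, Complex.mul_re]; ring
    rw [h4]
    nlinarith [sq_nonneg z.im, sq_nonneg (z.re + 1)]
  have e1 : (s.map fun z : ℂ => 1 - (z ^ 2).re).sum = n - b := by
    rw [r0, r2, Multiset.sum_map_sub]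
    simp
  have e2 : (s.map fun z : ℂ => 4 * (1 + z.re)).sum = 4 * (n + a) := by
    rw [r0, r1, Multiset.sum_map_mul_left, Multiset.sum_map_add]
    simp
  rw [e1, e2] at key
  exact_mod_cast key

/-- A list with exactly one preimage of `b`. -/
theorem unique_of_filter {α β : Type*} [DecidableEq β] (l : List α) (f : α → β) (b : β)
    (h : ((l.map f).filter fun y => decide (y = b)).length = 1) {x y : α} (hx : x ∈ l) (hy : y ∈ l)
    (fx : f x = b) (fy : f y = b) : x = y := by
  rw [List.filter_map, List.length_map, List.length_eq_one_iff] at h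
  obtain ⟨z, hz⟩ := h
  have hx' : x ∈ l.filter ((fun y => decide (y = b)) ∘ f) := by
    rw [List.mem_filter]; exact ⟨hx, by simpa using fx⟩
  have hy' : y ∈ l.filter ((fun y => decide (y = b)) ∘ f) := by
    rw [List.mem_filter]; exact ⟨hy, by simpa using fy⟩
  rw [hz, List.mem_singleton] at hx' hy'
  rw [hx', hy']

theorem dg_powIrr {m : ℕ} (hm : m.Coprime (Nat.card G)) (χ : IrrCharacter G) :
    dg (M23.BlockInt.powIrr hm χ) = dg χ := by
  apply dg_of_eq
  rw [M23.BlockInt.powIrr_apply, one_pow, dg_eq]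

/-- A character of the block whose signed degree is unique has integer values. -/
theorem exists_int_of_unique {p : ℕ} {P : Sylow p G} {M : Ideal AlgInt}
    {B : Finset (IrrCharacter G)} {ε : IrrCharacter G → ℤ} (h : Flat p P M B ε)
    {χ : IrrCharacter G} (hχ : χ ∈ B) (hu : ∀ ψ ∈ B, dg ψ = dg χ → ψ = χ) (g : G) :
    ∃ z : ℤ, (χ : G → ℂ) g = z := by
  refine Characters.GaloisBasic.exists_int_of_rat (isIrr_isCharacter χ.2) g
    ((Characters.GaloisBasic.exists_rat_iff (isIrr_isCharacter χ.2) g).2 fun m hm => ?_)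
  have h1 := M23.BlockInt.powIrr_mem hm ((h.mem_iff χ).2 hχ)
  have h2 := hu _ ((h.mem_iff _).1 h1) (dg_powIrr hm χ)
  have h3 := congrFun (congrArg (fun ψ : IrrCharacter G => (ψ : G → ℂ)) h2) g
  exact h3

end general

theorem arith192 : ∀ x ∈ pairs6, x.2 = 192 → (22 : ℤ) ∈ x.1 ∧ (-22 : ℤ) ∉ x.1 ∧
    (x.1.filter fun y => decide (y = 22)).length = 1 := by
  decide +kernel

variable {G : Type u} [Group G] [Finite G] [IsSimpleGroup G] (H : Hyp G)

include H

theorem card_normalizer_dvd {S : Sylow 7 G} {K : Subgroup G} (h : PrimeLocal.IsLocal 7 S 6 K) :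
    42 * Nat.card K ∣ 244823040 := by
  have h1 := (normalizer (S : Set G)).card_subgroup_dvd_card
  rw [h.card_normalizer, H.hcard] at h1
  exact h1

variable {S : Sylow 7 G} {K : Subgroup G} {M : Ideal AlgInt} {B : Finset (IrrCharacter G)}
  {ε : IrrCharacter G → ℤ} {l : List (IrrCharacter G)} {b : IrrCharacter G}

theorem card_ne_108 (h7 : B7six S K M B ε l b) : Nat.card K ≠ 108 := by
  intro h
  have h1 := card_normalizer_dvd H h7.loc.loc
  rw [h] at h1
  omega

theorem card_ne_864 (h7 : B7six S K M B ε l b) : Nat.card K ≠ 864 := by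
  intro h
  have h1 := card_normalizer_dvd H h7.loc.loc
  rw [h] at h1
  omega

/-- The possible values of the character of degree 22 at the 2-elements of `K`. -/
theorem values (h7 : B7six S K M B ε l b) {χ : IrrCharacter G} (hχ : χ ∈ B) (hd : dg χ = 22)
    (hε : ε χ = 1) (hu : ∀ ψ ∈ B, dg ψ = dg χ → ψ = χ) {s : G} (hs : s ∈ K)
    (h2 : ∃ k : ℕ, orderOf s = 2 ^ k) (hs1 : s ≠ 1) :
    (χ : G → ℂ) s = (8 : ℤ) ∨ (χ : G → ℂ) s = (-6 : ℤ) := by
  have h7' : Fact (Nat.Prime 7) := ⟨by norm_num⟩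
  have hS := card_seven H S
  have hloc := h7.loc
  have hχ1 : (χ : G → ℂ) ≠ 1 := by
    intro h
    have h3 : χ = tr G := Subtype.ext h
    rw [h3, dg_tr] at hd
    omega
  have hone : (χ : G → ℂ) 1 = (22 : ℤ) := by rw [dg_eq, hd]; norm_num
  -- the possible values at an arbitrary nontrivial 2-element
  have key : ∀ s ∈ K, (∃ k : ℕ, orderOf s = 2 ^ k) → s ≠ 1 →
      ∃ z : ℤ, (χ : G → ℂ) s = z ∧ (z = -20 ∨ z = -6 ∨ z = 8) := by
    intro s hs h2 hs1
    obtain ⟨z, hz⟩ := exists_int_of_unique hloc.toFlat hχ hu s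
    refine ⟨z, hz, ?_⟩
    obtain ⟨k, hk⟩ := h2
    have h7s : ¬ 7 ∣ orderOf s := by
      rw [hk]
      intro h
      have := (Nat.Prime.dvd_of_dvd_pow (by norm_num : Nat.Prime 7) h)
      omega
    have e1 := hloc.toFlat.val_modEq hS hχ (hloc.loc.le_centralizer hs) h7s hz
    rw [hε] at e1
    have e2 : (2 : ℤ) ∣ z - 22 := by
      refine M23.ElevenFive.dvd_sub_of_ppart Nat.prime_two χ.2 (a := s) (b := 1)
        (Commute.one_right s) ⟨k, hk⟩ ?_ ?_ ?_
      · rw [orderOf_one]; norm_num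
      · rw [mul_one]; exact hz
      · exact hone
    have e3 : |z| ≤ 22 := by
      have h3 := Characters.SchurBound.norm_le (isIrr_isCharacter χ.2) (n := 22)
        (by rw [hone]; norm_num) s
      rw [hz, Complex.norm_intCast] at h3
      exact_mod_cast h3
    have e4 : |z| ≠ 22 := by
      intro h3
      apply hs1
      refine MTwelve.SmallDegree.eq_one_of_norm_eq H.hcomm χ.2 hχ1 ?_
      rw [hz, hone, Complex.norm_intCast, Complex.norm_intCast]
      exact_mod_cast h3
    have e5 := e1.dvd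
    rw [abs_le] at e3
    have e6 : z ≠ 22 := by rintro rfl; exact e4 rfl
    have e7 : z ≠ -22 := by rintro rfl; exact e4 rfl
    omega
  obtain ⟨z, hz, hz'⟩ := key s hs h2 hs1
  rcases hz' with rfl | rfl | rfl
  · exfalso
    obtain ⟨k, hk⟩ := h2
    by_cases h3 : s ^ 2 = 1
    · obtain ⟨z', h4, -, h5⟩ := InvolColumn.exists_int H.hcomm χ.2 hχ1 h3 hs1
      rw [hz] at h4
      have h6 : (-20 : ℤ) = z' := by exact_mod_cast h4
      have h7 : (charDegree (χ : G → ℂ) : ℤ) = 22 := by
        have : charDegree (χ : G → ℂ) = 22 := hd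
        rw [this]; norm_num
      rw [h7, ← h6] at h5
      omega
    · have h4 : ∃ k : ℕ, orderOf (s ^ 2) = 2 ^ k := by
        obtain ⟨j, -, hj⟩ := (Nat.dvd_prime_pow Nat.prime_two).1
          (hk ▸ orderOf_pow_dvd (x := s) 2)
        exact ⟨j, hj⟩
      obtain ⟨w, hw, hw'⟩ := key (s ^ 2) (K.pow_mem hs 2) h4 h3
      have h5 := sq_le (isIrr_isCharacter χ.2) hone hz hw
      omega
  · right; exact hz
  · left; exact hz

/-- The sum argument. -/
theorem card_ne_192 (h7 : B7six S K M B ε l b) : Nat.card K ≠ 192 := by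
  classical
  intro hK
  have hloc := h7.loc
  have hmem : ∀ χ ∈ l, χ ∈ B := fun χ hχ => (h7.mem χ).2 (List.mem_cons_of_mem _ hχ)
  obtain ⟨h1, h2, h3⟩ := arith192 _ h7.mem_pairs hK
  obtain ⟨χ, hχl, hχ⟩ := List.mem_map.1 h1
  have hχB := hmem χ hχl
  obtain ⟨hε, -⟩ := hloc.toFlat.ε_of_pos hχB (by rw [hχ]; norm_num)
  have hd : dg χ = 22 := by
    rw [hε, one_mul] at hχ
    exact_mod_cast hχ
  have hu : ∀ ψ ∈ B, dg ψ = dg χ → ψ = χ := by
    intro ψ hψ hψd
    rw [hd] at hψd
    rcases List.mem_cons.1 ((h7.mem ψ).1 hψ) with h | h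
    · rw [h, dg_tr] at hψd
      omega
    · refine unique_of_filter l _ (22 : ℤ) h3 h hχl ?_ hχ
      rcases hloc.ε_mem ψ hψ with h4 | h4
      · rw [h4, hψd]; norm_num
      · exfalso
        apply h2
        have := List.mem_map_of_mem (f := fun χ => ε χ * (dg χ : ℤ)) h
        rw [h4, hψd] at this
        simpa using this
  have hv := fun s (hs : s ∈ K) => values H h7 hχB hd hε hu hs
  -- a Sylow 2-subgroup
  obtain ⟨T, hTp, hT⟩ : ∃ T : Subgroup K, IsPGroup 2 T ∧ Nat.card T = 64 := by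
    obtain ⟨T⟩ : Nonempty (Sylow 2 K) := inferInstance
    refine ⟨T, T.isPGroup', ?_⟩
    rw [T.card_eq_multiplicity, hK]
    have : Nat.factorization 192 2 = 6 := by
      rw [show (192 : ℕ) = 2 ^ 6 * 3 by norm_num, Nat.factorization_mul (by norm_num) (by norm_num),
        Nat.Prime.factorization_pow Nat.prime_two]
      simp [Nat.Prime.factorization (by norm_num : Nat.Prime 3)]
    rw [this]; norm_num
  have := Fintype.ofFinite T
  let φ : T → ℂ := fun t => (χ : G → ℂ) ((t : K) : G)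
  have hφ : IsCharacter T φ :=
    isCharacter_comp (K.subtype.comp T.subtype) (isIrr_isCharacter χ.2)
  have hval : ∀ t : T, t ≠ 1 → φ t = (8 : ℤ) ∨ φ t = (-6 : ℤ) := by
    intro t ht
    refine hv _ (t : K).2 ?_ ?_
    · obtain ⟨k, hk⟩ := (IsPGroup.iff_orderOf.1 hTp) t
      refine ⟨k, ?_⟩
      rw [orderOf_coe, orderOf_coe, hk]
    · intro h
      exact ht (Subtype.ext (Subtype.ext h))
  have hval1 : φ 1 = (22 : ℤ) := by
    change (χ : G → ℂ) 1 = _
    rw [dg_eq, hd]; norm_num
  have hex : ∀ t : T, ∃ z : ℤ, φ t = z ∧ (z - 1) ^ 2 = if t = 1 then 441 else 49 := by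
    intro t
    by_cases ht : t = 1
    · exact ⟨22, by rw [ht]; exact hval1, by rw [if_pos ht]; norm_num⟩
    · rcases hval t ht with h | h
      · exact ⟨8, h, by rw [if_neg ht]; norm_num⟩
      · exact ⟨-6, h, by rw [if_neg ht]; norm_num⟩
  choose z hz hz2 using hex
  obtain ⟨a, ha⟩ := classInner_isNat hφ hφ
  obtain ⟨c, hc⟩ := classInner_isNat hφ (isCharacter_one (G := T))
  have hT' : (Nat.card T : ℂ) = 64 := by rw [hT]; norm_num
  rw [classInner_def, hT', inv_mul_eq_iff_eq_mul₀ (by norm_num)] at ha hc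
  have e1 : ∑ t : T, z t ^ 2 = 64 * (a : ℤ) := by
    have : ((∑ t : T, z t ^ 2 : ℤ) : ℂ) = ((64 * (a : ℤ) : ℤ) : ℂ) := by
      push_cast
      rw [← ha]
      refine Finset.sum_congr rfl fun t _ => ?_
      rw [hz, map_intCast, pow_two]
    exact_mod_cast this
  have e2 : ∑ t : T, z t = 64 * (c : ℤ) := by
    have : ((∑ t : T, z t : ℤ) : ℂ) = ((64 * (c : ℤ) : ℤ) : ℂ) := by
      push_cast
      rw [← hc]
      refine Finset.sum_congr rfl fun t _ => ?_
      rw [hz, Pi.one_apply, map_one, mul_one]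
    exact_mod_cast this
  have hcard : Fintype.card T = 64 := by rw [← Nat.card_eq_fintype_card, hT]
  have e3 : ∑ t : T, (z t - 1) ^ 2 = 3528 := by
    rw [Finset.sum_congr rfl fun t _ => hz2 t, ← Finset.add_sum_erase _ _ (Finset.mem_univ (1 : T)),
      if_pos rfl, Finset.sum_congr rfl fun t ht => if_neg (Finset.ne_of_mem_erase ht),
      Finset.sum_const, Finset.card_erase_of_mem (Finset.mem_univ _), Finset.card_univ, hcard]
    norm_num
  have e4 : ∑ t : T, (z t - 1) ^ 2 = ∑ t : T, z t ^ 2 - 2 * ∑ t : T, z t + 64 := by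
    rw [Finset.mul_sum, ← Finset.sum_sub_distrib]
    have : (64 : ℤ) = ∑ t : T, (1 : ℤ) := by
      rw [Finset.sum_const, Finset.card_univ, hcard]; norm_num
    rw [this, ← Finset.sum_add_distrib]
    exact Finset.sum_congr rfl fun t _ => by ring
  rw [e3, e1, e2] at e4
  omega

/-- **D0**: the complement has order 3 or 24. -/
theorem card_K (h7 : B7six S K M B ε l b) : Nat.card K = 3 ∨ Nat.card K = 24 := by
  have h1 : ∀ x ∈ pairs6, x.2 = 3 ∨ x.2 = 24 ∨ x.2 = 108 ∨ x.2 = 192 ∨ x.2 = 864 := by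
    decide +kernel
  rcases h1 _ h7.mem_pairs with h | h | h | h | h
  · exact Or.inl h
  · exact Or.inr h
  · exact absurd h (card_ne_108 H h7)
  · exact absurd h (card_ne_192 H h7)
  · exact absurd h (card_ne_864 H h7)

end Cfsg.Agent.SporadicA.M24.SixD0
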