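import Cfsg.Agent.SporadicA.M24.SixT
import Cfsg.Agent.SporadicA.M24.ColSix
import Cfsg.Agent.SporadicA.M24.LSeven
import Cfsg.Agent.SporadicA.M24.KillThree

/-!
# The column of an involution of `K₇`, `e₇ = 6`: order of the centralizer and principal 5-block
-/

set_option autoImplicit false
set_option linter.unusedSectionVars false

open Cfsg Subgroup
open Cfsg.Agent.Characters.Core
open Cfsg.Agent.SmallSimple
open Cfsg.Agent.SmallSimple.FlatBlock
open Cfsg.Agent.M23Order.Base
open Cfsg.Agent.SporadicA.M24.Setup Cfsg.Agent.SporadicA.M24.Five Cfsg.Agent.SporadicA.M24.Seven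
open Cfsg.Agent.SporadicA.M24.Col
open Cfsg.Agent.SporadicA.M24.SixRows

namespace Cfsg.Agent.SporadicA.M24.SixRow5

universe u

/-- The order of the centralizer. -/
theorem mem_CT {c m n : ℕ} (hc : c = m * n) (hn : n % 7 = 1) (hm : m = 336 ∨ m = 1008)
    (hd : c ∣ 967680) : c ∈ CT := by
  rcases hm with rfl | rfl
  · have h1 : n ∣ 2880 := by
      rw [hc] at hd
      exact Nat.dvd_of_mul_dvd_mul_left (k := 336) (by norm_num) (by norm_num; exact hd)
    have h2 : n ∈ Nat.divisors 2880 := Nat.mem_divisors.2 ⟨h1, by norm_num⟩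
    have h3 : ∀ n ∈ Nat.divisors 2880, n % 7 = 1 → 336 * n ∈ CT := by decide +kernel
    rw [hc]
    exact h3 n h2 hn
  · have h1 : n ∣ 960 := by
      rw [hc] at hd
      exact Nat.dvd_of_mul_dvd_mul_left (k := 1008) (by norm_num) (by norm_num; exact hd)
    have h2 : n ∈ Nat.divisors 960 := Nat.mem_divisors.2 ⟨h1, by norm_num⟩
    have h3 : ∀ n ∈ Nat.divisors 960, n % 7 = 1 → 1008 * n ∈ CT := by decide +kernel
    rw [hc]
    exact h3 n h2 hn

theorem CT_facts : ∀ c ∈ CT, 7 ∣ c ∧ c ∣ 967680 ∧ c ≤ 967680 ∧ 0 < c := by decide +kernel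

variable {G : Type u} [Group G] [Finite G] [IsSimpleGroup G] (H : Hyp G)

include H

/-- the index of the centralizer -/
theorem index_eq {t : G} {v : IrrCharacter G → ℤ} (_hv : Column t v) :
    (centralizer ({t} : Set G)).index =
      244823040 / Nat.card (centralizer ({t} : Set G)) := by
  have h1 := (centralizer ({t} : Set G)).card_mul_index
  rw [H.hcard] at h1
  rw [← h1, Nat.mul_div_cancel_left _ Nat.card_pos]

set_option maxHeartbeats 2000000 in
/-- **The row on the principal 5-block.** -/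
theorem row5 {R : Sylow 5 G} {K : Subgroup G} {M : Ideal AlgInt} {B : Finset (IrrCharacter G)}
    {ε : IrrCharacter G → ℤ} {a b c d : IrrCharacter G} (h5 : B5 R K M B ε a b c d)
    {S : Sylow 7 G} {K' : Subgroup G} {M' : Ideal AlgInt} {B' : Finset (IrrCharacter G)}
    {ε' : IrrCharacter G → ℤ} {l : List (IrrCharacter G)} (h7 : B7six S K' M' B' ε' l b)
    {t : G} {v : IrrCharacter G → ℤ} (hv : Column t v)
    (hCT : Nat.card (centralizer ({t} : Set G)) ∈ CT) : ∃ k : ℕ,
      (Nat.card K = 12 →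
        (Nat.card (centralizer ({t} : Set G)), k, v a, v b, v c, v d) ∈ T12) ∧
      (Nat.card K = 192 →
        (Nat.card (centralizer ({t} : Set G)), k, v a, v b, v c, v d) ∈ T192) := by
  classical
  have f5 : Fact (Nat.Prime 5) := ⟨by norm_num⟩
  have f7 : Fact (Nat.Prime 7) := ⟨by norm_num⟩
  obtain ⟨hdc, hdd, hK⟩ := KillThree.card_K H h5
  set cc : ℕ := Nat.card (centralizer ({t} : Set G)) with hcc
  obtain ⟨c7, -, cle, cpos⟩ := CT_facts cc hCT
  have hnt : ∀ χ ∈ [a, b, c, d], χ ≠ tr G := by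
    rintro χ hχ rfl
    exact (List.nodup_cons.1 h5.nodup).1 hχ
  have mem : ∀ χ ∈ [a, b, c, d], χ ∈ B := fun χ hχ =>
    (h5.mem χ).2 (List.mem_cons_of_mem _ hχ)
  -- residues modulo 4
  have a4 := hv.mod4 a (hnt a (by simp))
  have b4 := hv.mod4 b (hnt b (by simp))
  have c4 := hv.mod4 c (hnt c (by simp))
  rw [h5.dg_a] at a4
  rw [h5.dg_b] at b4
  rw [hdc] at c4
  -- residues modulo 7
  have a7 : (7 : ℤ) ∣ v a := ColSix.seven_dvd H hv c7 (by rw [h5.dg_a]; norm_num)
  have c7' : (7 : ℤ) ∣ v c := ColSix.seven_dvd H hv c7 (by rw [hdc]; norm_num)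
  have b7 := ColSix.seven_modEq_six H h7 hv c7 ((h7.mem b).2 (List.mem_cons_of_mem _ h7.b_mem))
  rw [h7.ε_b] at b7
  have b7' : v b % 7 = 1 := by
    have := b7
    unfold Int.ModEq at this
    omega
  -- divisibility
  have hidx := index_eq H hv
  have d1 := hv.dvd a
  have d2 := hv.dvd b
  have d3 := hv.dvd c
  have d4 := hv.dvd d
  rw [h5.dg_a, hidx, ← hcc] at d1
  rw [h5.dg_b, hidx, ← hcc] at d2
  rw [hdc, hidx, ← hcc] at d3
  rw [hdd, hidx, ← hcc] at d4
  have hrel := five_rel h5 hv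
  have hn : N5 (v a) (v b) (v c) (v d) ≤ cc := by
    have h1 := hv.norm_list h5.nodup
    simp only [List.map_cons, List.map_nil, List.sum_cons, List.sum_nil, add_zero, hv.v_tr] at h1
    unfold N5
    rw [← hcc] at h1
    nlinarith [h1]
  obtain ⟨k, hk, hkle, -, -, -⟩ := ColSix.five_pair_list h5
  have hp := hk t t v v hv hv
  rw [H.hcard, hdc, hdd, ← hcc] at hp
  have hp' : ((k t : ℤ) * cc) * (k t * cc) = 384 * (Nat.card K : ℤ) *
      F5 (v a) (v b) (v c) (v d) := by
    have h1 : (((k t : ℤ) * cc) * (k t * cc) : ℚ) = 384 * (Nat.card K : ℚ) *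
        (127512 - 23 * (v a * v a) - 63 * (v b * v b) + 72 * (v c * v c) +
          22 * (v d * v d)) := by
      push_cast at hp ⊢
      linear_combination hp / 5
    unfold F5
    exact_mod_cast h1
  have hcond : (5 ∣ cc) ∨ ¬ 5 ∣ cc := em _
  have key : ∀ (Kz : ℤ), (Nat.card K : ℤ) = Kz → 0 < Kz → Kz < 256 →
      (cc, k t, v a, v b, v c, v d) ∈ rowsT Kz cc := by
    intro Kz hKz h0 h256
    rw [hKz] at hp'
    have hkK : ((k t : ℕ) : ℤ) ≤ Kz := by
      rw [← hKz]; exact_mod_cast hkle t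
    have clez : (cc : ℤ) ≤ 967680 := by exact_mod_cast cle
    unfold rowsT
    split_ifs with h
    · have h5c : 5 ∣ cc := Nat.dvd_of_mod_eq_zero h
      have ea := ColSix.five_modEq H h5 hv h5c (mem a (by simp))
      have eb := ColSix.five_modEq H h5 hv h5c (mem b (by simp))
      have ec := ColSix.five_modEq H h5 hv h5c (mem c (by simp))
      rw [h5.ε_a] at ea
      rw [h5.ε_b] at eb
      rw [h5.ε_c] at ec
      unfold Int.ModEq at ea eb ec
      exact mem_rows5 (by norm_num) (by omega) (by omega) (by omega) hrel hn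
        (by norm_num; linarith) (by norm_num) cpos d1 d2 d3 d4 h0 hkK h256 hp'
    · exact mem_rows5 (by norm_num) (by omega) (by omega) (by omega) hrel hn
        (by norm_num; linarith) (by norm_num) cpos d1 d2 d3 d4 h0 hkK h256 hp'
  refine ⟨k t, fun h12 => ?_, fun h192 => ?_⟩
  · have h1 := key 12 (by rw [h12]; norm_num) (by norm_num) (by norm_num)
    have h2 := List.all_eq_true.1 (List.all_eq_true.1 t12 cc hCT) _ h1
    exact List.contains_iff_mem.1 h2
  · have h1 := key 192 (by rw [h192]; norm_num) (by norm_num) (by norm_num)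
    have h2 := List.all_eq_true.1 (List.all_eq_true.1 t192 cc hCT) _ h1
    exact List.contains_iff_mem.1 h2

/-- **The involution `t` of `K₇`.** -/
theorem exists_t {S : Sylow 7 G} {K' : Subgroup G} {M' : Ideal AlgInt}
    {B' : Finset (IrrCharacter G)} {ε' : IrrCharacter G → ℤ} {l : List (IrrCharacter G)}
    {b : IrrCharacter G} (h7 : B7six S K' M' B' ε' l b) (hK' : Nat.card K' = 24) :
    ∃ t ∈ K', ∃ v : IrrCharacter G → ℤ, Column t v ∧
      Nat.card (centralizer ({t} : Set G)) ∈ CT := by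
  obtain ⟨t, ht, htt, ht1, m, n, hc, hn, hm⟩ := LSeven.exists_row h7.loc.loc hK'
  obtain ⟨v, hv⟩ := exists_col H.hcomm htt ht1
  exact ⟨t, ht, v, hv, mem_CT hc hn hm (card_dvd H hv)⟩

end Cfsg.Agent.SporadicA.M24.SixRow5
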