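import Cfsg.Agent.SporadicA.M24.RowU

/-!
# Searches for columns of involutions, `e₇ = 6`: the engine

Pure arithmetic. A column of an involution is given by the order `c` of the centralizer, the values
`a, b, x, y` on the characters of degrees 5544, 2024, 1771, 5796 of the principal 5-block, and the
list of the values on the five remaining characters of the principal 7-block (signed degrees `sl`).

* `rows5` : the rows on the principal 5-block;
* `srch`, `srch_spec` : depth first search for the five remaining values.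
-/

set_option autoImplicit false

namespace Cfsg.Agent.SporadicA.M24.SixRows

open Cfsg.Agent.SporadicA.M24.RowU

/-- `q (j - m) + r`, `0 ≤ j ≤ 2 m` -/
def prog (q r : ℤ) (m : ℕ) : List ℤ :=
  (List.range (2 * m + 1)).map fun j : ℕ => q * ((j : ℤ) - m) + r

theorem mem_prog {q r x : ℤ} {m : ℕ} (hq : 0 < q) (h : x % q = r) (h1 : -(q * m) ≤ x)
    (h2 : x < q * m + q) : x ∈ prog q r m := by
  have h3 := Int.emod_add_mul_ediv x q
  rw [h] at h3
  rw [prog, List.mem_map]
  have hr0 : 0 ≤ r := by rw [← h]; exact Int.emod_nonneg _ hq.ne'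
  have hr1 : r < q := by rw [← h]; exact Int.emod_lt_of_pos _ hq
  have h4 : -(m : ℤ) ≤ x / q := by
    rw [Int.le_ediv_iff_mul_le hq]; linarith
  have h5 : x / q < m + 1 := by
    rw [Int.ediv_lt_iff_lt_mul hq]; linarith
  refine ⟨(x / q + m).toNat, ?_, ?_⟩
  · rw [List.mem_range]; omega
  · have h6 : (((x / q + m).toNat : ℕ) : ℤ) = x / q + m := Int.toNat_of_nonneg (by omega)
    rw [h6]
    linarith

/-- A row on the principal 5-block: `c, k, a, b, x, y`. -/
abbrev R5 := ℕ × ℕ × ℤ × ℤ × ℤ × ℤ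

/-- the quadratic form of the principal 5-block -/
def F5 (a b x y : ℤ) : ℤ := 127512 - 23 * (a * a) - 63 * (b * b) + 72 * (x * x) + 22 * (y * y)

/-- the norm of the principal 5-block -/
def N5 (a b x y : ℤ) : ℤ := 1 + a * a + b * b + x * x + y * y

/-- candidates for the value on a character of degree `d` -/
def cnd (c : ℕ) (d : ℤ) (q r : ℤ) (m : ℕ) : List ℤ :=
  (prog q r m).filter fun x => decide (x * x ≤ c) && (((244823040 / c : ℕ) : ℤ) * x) % d == 0

/-- the row with given values, if the pair formula has a solution -/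
def leaf5 (K : ℤ) (c : ℕ) (a b x y : ℤ) : List R5 :=
  let n := (384 * K * F5 a b x y).toNat
  let k := root (n / (c * c)) 8 0
  bif decide (N5 a b x y ≤ c) && (decide (0 ≤ F5 a b x y) &&
    ((((244823040 / c : ℕ) : ℤ) * y) % 5796 == 0 && (k * c * (k * c) == n && decide ((k : ℤ) ≤ K))))
  then [(c, k, a, b, x, y)] else []

/-- the rows on the principal 5-block -/
def rows5 (K q ra rb rx : ℤ) (m : ℕ) (c : ℕ) : List R5 :=
  (cnd c 5544 q ra m).flatMap fun a => (cnd c 2024 q rb m).flatMap fun b =>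
    (cnd c 1771 q rx m).flatMap fun x => leaf5 K c a b x (a + b - x - 1)

theorem mem_leaf5 {K a b x y : ℤ} {c k : ℕ} (hc0 : 0 < c) (hn : N5 a b x y ≤ c)
    (d4 : (5796 : ℤ) ∣ ((244823040 / c : ℕ) : ℤ) * y)
    (hK : 0 < K) (hkK : (k : ℤ) ≤ K) (hK' : K < 256)
    (hp : ((k : ℤ) * c) * (k * c) = 384 * K * F5 a b x y) :
    (c, k, a, b, x, y) ∈ leaf5 K c a b x y := by
  have hf : 0 ≤ F5 a b x y := by
    have h1 : 0 ≤ 384 * K * F5 a b x y := by rw [← hp]; exact mul_self_nonneg _
    exact nonneg_of_mul_nonneg_right h1 (by positivity)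
  have hN : (384 * K * F5 a b x y).toNat = k * c * (k * c) := by
    rw [← hp]
    have : ((k : ℤ) * c) * (k * c) = ((k * c * (k * c) : ℕ) : ℤ) := by push_cast; ring
    rw [this, Int.toNat_natCast]
  have hk : root ((384 * K * F5 a b x y).toNat / (c * c)) 8 0 = k := by
    rw [hN, show k * c * (k * c) = k * k * (c * c) by ring,
      Nat.mul_div_cancel _ (by positivity)]
    refine root_eq k 8 0 (Nat.zero_le _) ?_
    have : (k : ℤ) < 256 := by linarith
    norm_num
    exact_mod_cast this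
  have hcond : (decide (N5 a b x y ≤ c) && (decide (0 ≤ F5 a b x y) &&
      ((((244823040 / c : ℕ) : ℤ) * y) % 5796 == 0 &&
      (k * c * (k * c) == (384 * K * F5 a b x y).toNat && decide ((k : ℤ) ≤ K))))) = true := by
    rw [hN]
    simp only [Bool.and_eq_true, decide_eq_true_eq, beq_iff_eq]
    exact ⟨hn, hf, Int.emod_eq_zero_of_dvd d4, trivial, hkK⟩
  unfold leaf5
  simp only [hk]
  rw [hcond]
  simp

theorem mem_cnd {c : ℕ} {d q r x : ℤ} {m : ℕ} (hq : 0 < q) (h : x % q = r) (h1 : x * x ≤ c)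
    (h2 : d ∣ ((244823040 / c : ℕ) : ℤ) * x) (hm : (c : ℤ) ≤ (q * m) * (q * m)) (hm0 : 0 < m) :
    x ∈ cnd c d q r m := by
  have h3 : 0 < q * m := by positivity
  have h4 : |x| ≤ q * m := abs_le_of_sq_le_sq (by nlinarith) h3.le
  have h5 := abs_le.1 h4
  rw [cnd, List.mem_filter]
  refine ⟨mem_prog hq h (by linarith) (by linarith), ?_⟩
  rw [Bool.and_eq_true, decide_eq_true_eq, beq_iff_eq]
  exact ⟨h1, Int.emod_eq_zero_of_dvd h2⟩

theorem mem_rows5 {K q ra rb rx a b x y : ℤ} {m c k : ℕ} (hq : 0 < q) (ha : a % q = ra)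
    (hb : b % q = rb) (hx : x % q = rx) (hrel : 1 - a - b + x + y = 0)
    (hn : N5 a b x y ≤ c) (hm : (c : ℤ) ≤ (q * m) * (q * m)) (hm0 : 0 < m) (hc0 : 0 < c)
    (d1 : (5544 : ℤ) ∣ ((244823040 / c : ℕ) : ℤ) * a)
    (d2 : (2024 : ℤ) ∣ ((244823040 / c : ℕ) : ℤ) * b)
    (d3 : (1771 : ℤ) ∣ ((244823040 / c : ℕ) : ℤ) * x)
    (d4 : (5796 : ℤ) ∣ ((244823040 / c : ℕ) : ℤ) * y)
    (hK : 0 < K) (hkK : (k : ℤ) ≤ K) (hK' : K < 256)
    (hp : ((k : ℤ) * c) * (k * c) = 384 * K * F5 a b x y) :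
    (c, k, a, b, x, y) ∈ rows5 K q ra rb rx m c := by
  have hy : y = a + b - x - 1 := by linarith
  unfold N5 at hn
  have sa := mul_self_nonneg a
  have sb := mul_self_nonneg b
  have sx := mul_self_nonneg x
  have sy := mul_self_nonneg y
  rw [rows5, List.mem_flatMap]
  refine ⟨a, mem_cnd hq ha (by linarith) d1 hm hm0, ?_⟩
  rw [List.mem_flatMap]
  refine ⟨b, mem_cnd hq hb (by linarith) d2 hm hm0, ?_⟩
  rw [List.mem_flatMap]
  refine ⟨x, mem_cnd hq hx (by linarith) d3 hm hm0, ?_⟩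
  rw [← hy]
  exact mem_leaf5 hc0 hn d4 hK hkK hK' hp

/-! ### The remaining characters of the principal 7-block

The signed values `z = ε χ(t)` are encoded by the natural numbers `y = 1120 + z`. -/

theorem ble_t {a b : ℕ} (h : a ≤ b) : Nat.ble a b = true := by rw [Nat.ble_eq]; exact h

theorem beq_t {a b : ℕ} (h : a = b) : Nat.beq a b = true := by rw [Nat.beq_eq]; exact h

/-- `|z|` -/
def ab (y : ℕ) : ℕ := Nat.add (Nat.sub y 1120) (Nat.sub 1120 y)

theorem ab_eq (z : ℤ) (h : -1120 ≤ z) : ((ab (1120 + z).toNat : ℕ) : ℤ) = |z| := by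
  have h1 : ab (1120 + z).toNat = ((1120 + z).toNat - 1120) + (1120 - (1120 + z).toNat) := rfl
  rw [h1]
  rcases abs_cases z with ⟨h2, h3⟩ | ⟨h2, h3⟩ <;> rw [h2] <;> omega

theorem ab_sq (z : ℤ) (h : -1120 ≤ z) :
    ((Nat.mul (ab (1120 + z).toNat) (ab (1120 + z).toNat) : ℕ) : ℤ) = z * z := by
  change (((ab (1120 + z).toNat) * (ab (1120 + z).toNat) : ℕ) : ℤ) = z * z
  push_cast
  rw [ab_eq z h]
  exact abs_mul_abs_self z

/-- `lo + q n, …` -/
def ap (q lo : ℕ) : ℕ → List ℕ
  | 0 => []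
  | n + 1 => Nat.add lo (Nat.mul q n) :: ap q lo n

theorem mem_ap {q lo n j : ℕ} (h : j < n) : lo + q * j ∈ ap q lo n := by
  induction n with
  | zero => omega
  | succ n ih =>
    rw [ap, List.mem_cons]
    rcases Nat.lt_succ_iff_lt_or_eq.1 h with h | rfl
    · exact Or.inr (ih h)
    · exact Or.inl rfl

/-- filter: divisible by `e`, absolute value at most `B` -/
def filt (e B : ℕ) : List ℕ → List ℕ
  | [] => []
  | y :: l => cond (Nat.beq (Nat.mod (ab y) e) 0) (cond (Nat.ble (ab y) B) (y :: filt e B l)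
      (filt e B l)) (filt e B l)

theorem mem_filt {e B y : ℕ} {l : List ℕ} (hy : y ∈ l) (h1 : ab y % e = 0) (h2 : ab y ≤ B) :
    y ∈ filt e B l := by
  induction l with
  | nil => simp at hy
  | cons a l ih =>
    rw [List.mem_cons] at hy
    rw [filt]
    rcases hy with rfl | hy
    · have e1 : Nat.beq (Nat.mod (ab y) e) 0 = true := beq_t h1
      have e2 : Nat.ble (ab y) B = true := ble_t h2
      rw [e1, e2]
      simp
    · have h3 := ih hy
      cases Nat.beq (Nat.mod (ab a) e) 0 <;> cases Nat.ble (ab a) B <;> simp [h3]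

/-! ### The depth first search

The state is the natural number `X = 2 ^ 14 (rest * W + 24 S) + tgt` where `W = 7 c² 2 ^ 20`,
`rest` is the remaining norm, `S` the value of the quadratic form and `tgt` the sum of the
remaining `y`. The value `y` subtracts `dl w y = y + w (y - 1120)²`. The lists of the values of
`dl` are sorted. The last value is determined by the target. -/

/-- `7 c² 2 ^ 20` -/
def WW (c : ℕ) : ℕ := 7 * (c * c) * 1048576

/-- the coefficient of `z²` for the signed degree `s` -/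
def wt (c : ℕ) (s : ℤ) : ℕ := (16384 * ((WW c : ℤ) - 24 * (244823040 / s))).toNat

/-- the packed value -/
def dl (w y : ℕ) : ℕ := Nat.add y (Nat.mul w (Nat.mul (ab y) (ab y)))

/-- one level -/
noncomputable def lvl (next : ℕ → List ℕ → Bool) (C : List ℕ) (X : ℕ) (acc : List ℕ) : Bool :=
  @List.rec ℕ (fun _ => Bool) true (fun d _ ih => @Bool.rec (fun _ => Bool) true
    (@Bool.rec (fun _ => Bool) false ih (next (Nat.sub X d) (d :: acc))) (Nat.ble d X)) C

/-- bit `y` of `m` -/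
def bit (m y : ℕ) : Bool := Nat.beq (Nat.land (Nat.shiftRight m y) 1) 1

/-- the last level -/
noncomputable def lv0 (lf : ℕ → List ℕ → Bool) (mask w X : ℕ) (acc : List ℕ) : Bool :=
  (fun y => @Bool.rec (fun _ => Bool) true
    ((fun d => @Bool.rec (fun _ => Bool) true (lf (Nat.sub X d) (y :: acc)) (Nat.ble d X))
      (dl w y)) (bit mask y)) (Nat.mod X 16384)

/-- the numbers `2 ^ (k²)`, `k ≤ 24` -/
def sqm : ℕ := ((List.range 25).map fun k => 2 ^ (k * k)).sum

/-- the leaf -/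
noncomputable def leaf (cc : ℕ) (ok : ℕ → List ℕ → Bool) (X : ℕ) (acc : List ℕ) : Bool :=
  @Bool.rec (fun _ => Bool) true
    ((fun q => @Bool.rec (fun _ => Bool) true (ok (root q 5 0) acc) (bit sqm q))
      (Nat.mod (Nat.div X cc) 1048576)) (Nat.beq (Nat.mod X cc) 0)

/-- sorted -/
def srt : List ℕ → Bool
  | [] => true
  | a :: l => Nat.ble a (l.headD a) && srt l

theorem srt_cons {a : ℕ} {l : List ℕ} (h : srt (a :: l) = true) : srt l = true ∧
    ∀ b ∈ l, a ≤ b := by
  induction l generalizing a with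
  | nil => exact ⟨rfl, fun b hb => by simp at hb⟩
  | cons c l ih =>
    rw [srt, Bool.and_eq_true, Nat.ble_eq] at h
    refine ⟨h.2, fun b hb => ?_⟩
    have h1 : a ≤ c := h.1
    rcases List.mem_cons.1 hb with rfl | hb
    · exact h1
    · exact h1.trans ((ih h.2).2 b hb)

theorem lvl_spec {next : ℕ → List ℕ → Bool} {X : ℕ} {acc : List ℕ} {d : ℕ} : ∀ {C : List ℕ},
    lvl next C X acc = true → srt C = true → d ∈ C → d ≤ X →
    next (X - d) (d :: acc) = true
  | [], _, _, hd, _ => by simp at hd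
  | a :: C, h, hs, hd, hX => by
    have h0 : lvl next (a :: C) X acc = @Bool.rec (fun _ => Bool) true
      (@Bool.rec (fun _ => Bool) false (lvl next C X acc) (next (Nat.sub X a) (a :: acc)))
        (Nat.ble a X) := rfl
    have hs' := srt_cons hs
    have ha : a ≤ d := by
      rcases List.mem_cons.1 hd with rfl | hd
      · exact le_rfl
      · exact hs'.2 d hd
    have h1 : Nat.ble a X = true := ble_t (ha.trans hX)
    rw [h1] at h0
    have h2 : @Bool.rec (fun _ => Bool) false (lvl next C X acc)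
        (next (Nat.sub X a) (a :: acc)) = true := h0.symm.trans h
    have h3 : next (X - a) (a :: acc) = true := by
      change next (Nat.sub X a) (a :: acc) = true
      cases h4 : next (Nat.sub X a) (a :: acc) with
      | true => rfl
      | false =>
        rw [h4] at h2
        exact absurd h2 Bool.false_ne_true
    rcases List.mem_cons.1 hd with rfl | hd
    · exact h3
    · refine lvl_spec (C := C) ?_ hs'.1 hd hX
      have h4 : next (Nat.sub X a) (a :: acc) = true := h3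
      rw [h4] at h2
      exact h2

theorem lv0_spec {lf : ℕ → List ℕ → Bool} {mask w X y : ℕ} {acc : List ℕ}
    (h : lv0 lf mask w X acc = true) (hy : X % 16384 = y) (hm : bit mask y = true)
    (hd : dl w y ≤ X) : lf (X - dl w y) (y :: acc) = true := by
  have h0 : lv0 lf mask w X acc = @Bool.rec (fun _ => Bool) true
    (@Bool.rec (fun _ => Bool) true (lf (X - dl w (X % 16384)) ((X % 16384) :: acc))
      (Nat.ble (dl w (X % 16384)) X)) (bit mask (X % 16384)) := rfl
  rw [hy, hm, ble_t hd] at h0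
  exact h0.symm.trans h

theorem bit_sqm : ∀ k < 25, bit sqm (k * k) = true := by decide +kernel

theorem leaf_spec {cc X k : ℕ} {ok : ℕ → List ℕ → Bool} {acc : List ℕ}
    (h : leaf cc ok X acc = true) (h1 : X % cc = 0) (h2 : X / cc % 1048576 = k * k)
    (hk : k < 25) : ok k acc = true := by
  have h0 : leaf cc ok X acc = @Bool.rec (fun _ => Bool) true
    (@Bool.rec (fun _ => Bool) true (ok (root (X / cc % 1048576) 5 0) acc)
      (bit sqm (X / cc % 1048576))) (Nat.beq (X % cc) 0) := rfl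
  have h3 : root (k * k) 5 0 = k := root_eq k 5 0 (Nat.zero_le _) (by norm_num; omega)
  rw [h2, bit_sqm k hk, beq_t h1, h3] at h0
  exact h0.symm.trans h

/-! ### The tables -/

/-- look up -/
noncomputable def look {β : Type} (tab : List (ℕ × β)) (key : ℕ) (k : β → Bool) : Bool :=
  @List.rec (ℕ × β) (fun _ => Bool) false (fun e _ ih =>
    @Prod.rec ℕ β (fun _ => Bool) (fun n L => @Bool.rec (fun _ => Bool) ih (k L) (Nat.beq n key))
      e) tab

theorem look_spec {β : Type} {key : ℕ} {k : β → Bool} : ∀ {tab : List (ℕ × β)},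
    look tab key k = true → ∃ L, (key, L) ∈ tab ∧ k L = true
  | [], h => by exact absurd (show false = true from h) Bool.false_ne_true
  | (n, L) :: tab, h => by
    have h0 : look ((n, L) :: tab) key k =
      @Bool.rec (fun _ => Bool) (look tab key k) (k L) (Nat.beq n key) := rfl
    cases h1 : Nat.beq n key with
    | true =>
      rw [h1] at h0
      have h2 : n = key := by rwa [Nat.beq_eq] at h1
      exact ⟨L, by rw [h2]; exact List.mem_cons_self, h0.symm.trans h⟩
    | false =>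
      rw [h1] at h0
      obtain ⟨L', h2, h3⟩ := look_spec (tab := tab) (h0.symm.trans h)
      exact ⟨L', List.mem_cons_of_mem _ h2, h3⟩

/-- An entry: key of the signed degree, weight, mask, list. -/
abbrev Ent := ℕ × ℕ × ℕ × List ℕ

/-- A table: `c`, entries. -/
abbrev Tab := List (ℕ × List Ent)

/-- the key of a signed degree -/
def key (s : ℤ) : ℕ := (s + 20000).toNat

/-- membership -/
def memN (a : ℕ) : List ℕ → Bool
  | [] => false
  | b :: l => cond (Nat.beq a b) true (memN a l)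

theorem memN_spec {a : ℕ} {l : List ℕ} (h : memN a l = true) : a ∈ l := by
  induction l with
  | nil => simp [memN] at h
  | cons b l ih =>
    rw [memN] at h
    cases h1 : Nat.beq a b with
    | true =>
      rw [Nat.beq_eq] at h1
      rw [h1]; exact List.mem_cons_self
    | false =>
      rw [h1] at h
      exact List.mem_cons_of_mem _ (ih h)

/-- the divisor of the values -/
def dv (c : ℕ) (s : ℤ) : ℕ := s.natAbs / Nat.gcd (244823040 / c) s.natAbs

/-- candidates: `z ≡ r` modulo `q`, `|z| < q k`, `dv ∣ z`, `|z| ≤ B` -/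
def cand (q k : ℕ) (res B : ℤ → ℕ) (c : ℕ) (s : ℤ) : List ℕ :=
  filt (dv c s) (B s) (ap q (1120 - q * k + res s) (2 * k + 1))

/-- an entry is complete -/
def entOk (q k : ℕ) (res B : ℤ → ℕ) (c : ℕ) (e : Ent) : Bool :=
  let s : ℤ := (e.1 : ℤ) - 20000
  e.2.1 == wt c s && (srt e.2.2.2 && (cand q k res B c s).all fun y =>
    memN (dl e.2.1 y) e.2.2.2 && bit e.2.2.1 y)

/-- a table is complete -/
def tabOk (q k : ℕ) (res B : ℤ → ℕ) (t : Tab) : Bool :=
  t.all fun g => decide (336 ≤ g.1) && (decide (g.1 ≤ (q * k) * (q * k)) &&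
    g.2.all fun e => entOk q k res B g.1 e)

/-- an admissible value -/
structure Adm (q : ℕ) (res B : ℤ → ℕ) (c : ℕ) (s z : ℤ) : Prop where
  res : z % q = res s
  dvd : (dv c s : ℤ) ∣ z
  le : |z| ≤ B s
  sq : z * z ≤ c

theorem wt_cast {c : ℕ} (hc : 336 ≤ c) (s : ℤ) :
    (wt c s : ℤ) = 16384 * ((WW c : ℤ) - 24 * (244823040 / s)) := by
  have h1 : 336 * 336 ≤ c * c := Nat.mul_le_mul hc hc
  have h2 : (244823040 : ℤ) / s ≤ 244823040 := by
    have h3 := Int.natAbs_ediv_le_natAbs 244823040 s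
    omega
  have h4 : (WW c : ℤ) = 7 * ((c * c : ℕ) : ℤ) * 1048576 := by unfold WW; push_cast; ring
  have h5 : (336 * 336 : ℤ) ≤ ((c * c : ℕ) : ℤ) := by exact_mod_cast h1
  unfold wt
  rw [Int.toNat_of_nonneg]
  rw [h4]
  omega

theorem dl_cast {c : ℕ} (hc : 336 ≤ c) {s z : ℤ} (hz : -1120 ≤ z) :
    (dl (wt c s) (1120 + z).toNat : ℤ) =
      1120 + z + 16384 * ((WW c : ℤ) - 24 * (244823040 / s)) * (z * z) := by
  have h1 : (dl (wt c s) (1120 + z).toNat : ℤ) = ((1120 + z).toNat : ℤ) +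
      (wt c s : ℤ) * ((Nat.mul (ab (1120 + z).toNat) (ab (1120 + z).toNat) : ℕ) : ℤ) := by
    unfold dl
    rfl
  rw [h1, wt_cast hc, ab_sq z hz, Int.toNat_of_nonneg (by omega)]

theorem dl_mod {c : ℕ} (hc : 336 ≤ c) {s z : ℤ} (hz : -1120 ≤ z) (hz' : z ≤ 1120) :
    dl (wt c s) (1120 + z).toNat % 16384 = (1120 + z).toNat := by
  have h1 := dl_cast hc (s := s) hz
  have h2 : ((dl (wt c s) (1120 + z).toNat : ℕ) : ℤ) % 16384 = 1120 + z := by
    rw [h1, mul_assoc, Int.add_mul_emod_self_left]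
    exact Int.emod_eq_of_lt (by omega) (by omega)
  omega

theorem Adm.bounds {q : ℕ} {res B : ℤ → ℕ} {c : ℕ} {s z : ℤ} (h : Adm q res B c s z) {m : ℕ}
    (hc : c ≤ m * m) : -(m : ℤ) ≤ z ∧ z ≤ m := by
  have h1 : (c : ℤ) ≤ m * m := by exact_mod_cast hc
  have h2 : |z| ≤ m := abs_le_of_sq_le_sq (by have := h.sq; nlinarith) (by positivity)
  exact abs_le.1 h2

theorem mem_cand {q k : ℕ} {res B : ℤ → ℕ} {c : ℕ} {s z : ℤ} (hq : 0 < q) (hqk : q * k ≤ 1120)
    (hc : c ≤ (q * k) * (q * k)) (h : Adm q res B c s z) :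
    (1120 + z).toNat ∈ cand q k res B c s := by
  obtain ⟨h1, h2⟩ := h.bounds hc
  have hqk' : ((q * k : ℕ) : ℤ) ≤ 1120 := by exact_mod_cast hqk
  have hz : -1120 ≤ z := by omega
  have hab := ab_eq z hz
  have hq' : (0 : ℤ) < q := by exact_mod_cast hq
  have h3 := Int.emod_add_mul_ediv z q
  have h4 : -(k : ℤ) ≤ z / q := by
    rw [Int.le_ediv_iff_mul_le hq']
    push_cast at h1
    linarith
  have h5 : z / q < k + 1 := by
    rw [Int.ediv_lt_iff_lt_mul hq']
    push_cast at h2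
    linarith
  unfold cand
  refine mem_filt ?_ ?_ ?_
  · have h6 : (1120 + z).toNat = (1120 - q * k + res s) + q * (z / q + k).toNat := by
      have h7 : (((z / q + k).toNat : ℕ) : ℤ) = z / q + k := Int.toNat_of_nonneg (by omega)
      zify
      rw [Int.toNat_of_nonneg (by omega), Nat.cast_sub hqk, h7, ← h.res]
      push_cast
      linarith
    rw [h6]
    exact mem_ap (by omega)
  · have h6 := h.dvd
    rw [← dvd_abs, ← hab] at h6
    exact Nat.mod_eq_zero_of_dvd (by exact_mod_cast h6)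
  · have h6 := h.le
    rw [← hab] at h6
    exact_mod_cast h6

theorem ent_spec {q k : ℕ} {res B : ℤ → ℕ} (hq : 0 < q) (hqk : q * k ≤ 1120) {c : ℕ}
    (hc : c ≤ (q * k) * (q * k)) {s z : ℤ} (hs : -20000 ≤ s) {w m : ℕ} {L : List ℕ}
    (he : entOk q k res B c (key s, w, m, L) = true) (h : Adm q res B c s z) :
    w = wt c s ∧ srt L = true ∧ dl (wt c s) (1120 + z).toNat ∈ L ∧
      bit m (1120 + z).toNat = true := by
  have hs' : ((key s : ℕ) : ℤ) - 20000 = s := by
    unfold key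
    rw [Int.toNat_of_nonneg (by omega)]
    ring
  unfold entOk at he
  simp only [hs', Bool.and_eq_true, beq_iff_eq, List.all_eq_true] at he
  obtain ⟨h1, h2, h3⟩ := he
  obtain ⟨h4, h5⟩ := h3 _ (mem_cand hq hqk hc h)
  rw [h1] at h4
  exact ⟨h1, h2, memN_spec h4, h5⟩

/-- the start -/
def X0 (r : R5) : ℕ := 16384 * (((r.1 : ℤ) - N5 r.2.2.1 r.2.2.2.1 r.2.2.2.2.1
  r.2.2.2.2.2).toNat * WW r.1 + 24 * (244823040 + 120960 * (r.2.2.2.1.natAbs * r.2.2.2.1.natAbs)))
    + (5599 - r.2.2.2.1).toNat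

/-- forced look up -/
noncomputable def look3 (t : List Ent) (n : ℕ) (f : ℕ → ℕ → List ℕ → Bool) : Bool :=
  look t n fun e => @Prod.rec ℕ (ℕ × List ℕ) (fun _ => Bool) (fun w e' =>
    @Prod.rec ℕ (List ℕ) (fun _ => Bool) (fun m L => f w m L) e') e

/-- the search -/
noncomputable def srch (t : Tab) (ok : R5 → ℕ → List ℕ → Bool) (n0 n1 n2 n3 n4 : ℕ) (r : R5) :
    Bool :=
  look t r.1 fun g => look3 g n4 fun _ _ L4 => look3 g n3 fun _ _ L3 => look3 g n2 fun _ _ L2 =>
    look3 g n1 fun _ _ L1 => look3 g n0 fun w0 m0 _ =>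
      lvl (lvl (lvl (lvl (lv0 (leaf (16384 * (7 * (r.1 * r.1))) (ok r)) m0 w0) L1) L2) L3) L4
        (X0 r) []

/-- decoding -/
def dec (l : List ℕ) : List ℤ := l.map fun d => ((d % 16384 : ℕ) : ℤ) - 1120

theorem look3_spec {t : List Ent} {n : ℕ} {f : ℕ → ℕ → List ℕ → Bool} (h : look3 t n f = true) :
    ∃ w m L, (n, w, m, L) ∈ t ∧ f w m L = true := by
  obtain ⟨⟨w, m, L⟩, h1, h2⟩ := look_spec h
  exact ⟨w, m, L, h1, h2⟩

/-- Soundness of the search. -/
theorem srch_spec {q m : ℕ} {res B : ℤ → ℕ} (hq : 0 < q) (hqm : q * m ≤ 1120) {t : Tab}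
    (ht : tabOk q m res B t = true) {ok : R5 → ℕ → List ℕ → Bool} {c k k5 : ℕ}
    {a b x y s0 s1 s2 s3 s4 z0 z1 z2 z3 z4 : ℤ}
    (h : srch t ok (key s0) (key s1) (key s2) (key s3) (key s4) (c, k5, a, b, x, y) = true)
    (h0 : Adm q res B c s0 z0) (h1 : Adm q res B c s1 z1) (h2 : Adm q res B c s2 z2)
    (h3 : Adm q res B c s3 z3) (h4 : Adm q res B c s4 z4)
    (b0 : -20000 ≤ s0) (b1 : -20000 ≤ s1) (b2 : -20000 ≤ s2) (b3 : -20000 ≤ s3)
    (b4 : -20000 ≤ s4)
    (hrel : 1 + b + (z0 + z1 + z2 + z3 + z4) = 0)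
    (hn : N5 a b x y + (z0 * z0 + z1 * z1 + z2 * z2 + z3 * z3 + z4 * z4) ≤ c)
    (hk : k < 25)
    (hp : 24 * (244823040 + 120960 * (b * b) + (244823040 / s0 * (z0 * z0) +
      244823040 / s1 * (z1 * z1) + 244823040 / s2 * (z2 * z2) + 244823040 / s3 * (z3 * z3) +
      244823040 / s4 * (z4 * z4))) = 7 * ((k * c) * (k * c))) :
    ∃ acc, ok (c, k5, a, b, x, y) k acc = true ∧ dec acc = [z0, z1, z2, z3, z4] := by
  obtain ⟨g, hg, h⟩ := look_spec h
  obtain ⟨w4, m4, L4, hg4, h⟩ := look3_spec h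
  obtain ⟨w3, m3, L3, hg3, h⟩ := look3_spec h
  obtain ⟨w2, m2, L2, hg2, h⟩ := look3_spec h
  obtain ⟨w1, m1, L1, hg1, h⟩ := look3_spec h
  obtain ⟨w0, m0, L0, hg0, h⟩ := look3_spec h
  rw [tabOk, List.all_eq_true] at ht
  have hgt := ht _ hg
  simp only [Bool.and_eq_true, decide_eq_true_eq, List.all_eq_true] at hgt
  obtain ⟨hc, hcq, hall⟩ := hgt
  have e4 := ent_spec hq hqm hcq b4 (hall _ hg4) h4
  have e3 := ent_spec hq hqm hcq b3 (hall _ hg3) h3
  have e2 := ent_spec hq hqm hcq b2 (hall _ hg2) h2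
  have e1 := ent_spec hq hqm hcq b1 (hall _ hg1) h1
  have e0 := ent_spec hq hqm hcq b0 (hall _ hg0) h0
  have hqm' : ((q * m : ℕ) : ℤ) ≤ 1120 := by exact_mod_cast hqm
  have r4 := h4.bounds hcq
  have r3 := h3.bounds hcq
  have r2 := h2.bounds hcq
  have r1 := h1.bounds hcq
  have r0 := h0.bounds hcq
  have c4 := dl_cast hc (s := s4) (z := z4) (by omega)
  have c3 := dl_cast hc (s := s3) (z := z3) (by omega)
  have c2 := dl_cast hc (s := s2) (z := z2) (by omega)
  have c1 := dl_cast hc (s := s1) (z := z1) (by omega)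
  have c0 := dl_cast hc (s := s0) (z := z0) (by omega)
  have d4 := dl_mod hc (s := s4) (z := z4) (by omega) (by omega)
  have d3 := dl_mod hc (s := s3) (z := z3) (by omega) (by omega)
  have d2 := dl_mod hc (s := s2) (z := z2) (by omega) (by omega)
  have d1 := dl_mod hc (s := s1) (z := z1) (by omega) (by omega)
  have d0 := dl_mod hc (s := s0) (z := z0) (by omega) (by omega)
  rw [e0.1] at h
  set D4 := dl (wt c s4) (1120 + z4).toNat with hD4
  set D3 := dl (wt c s3) (1120 + z3).toNat with hD3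
  set D2 := dl (wt c s2) (1120 + z2).toNat with hD2
  set D1 := dl (wt c s1) (1120 + z1).toNat with hD1
  set D0 := dl (wt c s0) (1120 + z0).toNat with hD0
  obtain ⟨ρ, hρ⟩ : ∃ ρ : ℕ, (ρ : ℤ) = c - N5 a b x y -
      (z0 * z0 + z1 * z1 + z2 * z2 + z3 * z3 + z4 * z4) :=
    ⟨(c - N5 a b x y - (z0 * z0 + z1 * z1 + z2 * z2 + z3 * z3 + z4 * z4)).toNat,
      Int.toNat_of_nonneg (by linarith)⟩
  have hsq : 0 ≤ z0 * z0 + z1 * z1 + z2 * z2 + z3 * z3 + z4 * z4 := by
    have := mul_self_nonneg z0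
    have := mul_self_nonneg z1
    have := mul_self_nonneg z2
    have := mul_self_nonneg z3
    have := mul_self_nonneg z4
    linarith
  have hW : (WW c : ℤ) = 7 * (c * c) * 1048576 := by unfold WW; push_cast; ring
  have hX : X0 (c, k5, a, b, x, y) =
      D4 + (D3 + (D2 + (D1 + (D0 + 16384 * (7 * (c * c)) * (ρ * 1048576 + k * k))))) := by
    have hb : (((b.natAbs * b.natAbs : ℕ)) : ℤ) = b * b := by
      push_cast; exact abs_mul_abs_self b
    have hb' : 0 ≤ 5599 - b := by linarith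
    have hN : 0 ≤ (c : ℤ) - N5 a b x y := by linarith
    zify
    rw [c0, c1, c2, c3, c4]
    unfold X0
    push_cast
    push_cast at hb
    rw [Int.toNat_of_nonneg hb', Int.toNat_of_nonneg hN, hb, hρ, hW]
    linear_combination (16384 : ℤ) * hp - hrel
  rw [hX] at h
  have f4 := lvl_spec h e4.2.1 e4.2.2.1 (Nat.le_add_right _ _)
  rw [Nat.add_sub_cancel_left] at f4
  have f3 := lvl_spec f4 e3.2.1 e3.2.2.1 (Nat.le_add_right _ _)
  rw [Nat.add_sub_cancel_left] at f3
  have f2 := lvl_spec f3 e2.2.1 e2.2.2.1 (Nat.le_add_right _ _)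
  rw [Nat.add_sub_cancel_left] at f2
  have f1 := lvl_spec f2 e1.2.1 e1.2.2.1 (Nat.le_add_right _ _)
  rw [Nat.add_sub_cancel_left] at f1
  have f0 := lv0_spec f1 (y := (1120 + z0).toNat) (by
    rw [show 16384 * (7 * (c * c)) * (ρ * 1048576 + k * k) =
      16384 * ((7 * (c * c)) * (ρ * 1048576 + k * k)) by ring, Nat.add_mul_mod_self_left, d0])
    e0.2.2.2 (Nat.le_add_right _ _)
  rw [Nat.add_sub_cancel_left] at f0
  have hk2 : k * k < 1048576 := lt_of_le_of_lt
    (Nat.mul_le_mul (show k ≤ 24 by omega) (show k ≤ 24 by omega)) (by norm_num)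
  have hcc : 0 < 16384 * (7 * (c * c)) := by positivity
  have g1 : (16384 * (7 * (c * c)) * (ρ * 1048576 + k * k)) % (16384 * (7 * (c * c))) = 0 :=
    Nat.mul_mod_right _ _
  have g2 : (16384 * (7 * (c * c)) * (ρ * 1048576 + k * k)) / (16384 * (7 * (c * c))) %
      1048576 = k * k := by
    rw [Nat.mul_div_cancel_left _ hcc, Nat.mul_add_mod', Nat.mod_eq_of_lt hk2]
  have f := leaf_spec f0 g1 g2 hk
  refine ⟨_, f, ?_⟩
  simp only [dec, List.map_cons, List.map_nil, d1, d2, d3, d4]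
  have g0 : (1120 + z0).toNat % 16384 = (1120 + z0).toNat := Nat.mod_eq_of_lt (by omega)
  rw [g0, Int.toNat_of_nonneg (by omega), Int.toNat_of_nonneg (by omega),
    Int.toNat_of_nonneg (by omega), Int.toNat_of_nonneg (by omega),
    Int.toNat_of_nonneg (by omega)]
  simp

end Cfsg.Agent.SporadicA.M24.SixRows
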