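import Cfsg.Agent.SporadicA.M24.SixTabT

/-!
# Searches for columns of involutions, `e₇ = 6`: the first column
-/

set_option autoImplicit false
set_option linter.style.longLine false

namespace Cfsg.Agent.SporadicA.M24.SixRows

/-- A column: row on the principal 5-block, `k'`, remaining signed values. -/
abbrev C7 := R5 × ℕ × List ℤ

/-- all -/
noncomputable def allP {α : Type} (l : List α) (f : α → Bool) : Bool :=
  @List.rec α (fun _ => Bool) true (fun y _ ih => @Bool.rec (fun _ => Bool) false ih (f y)) l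

theorem allP_spec {α : Type} {f : α → Bool} {x : α} : ∀ {l : List α}, allP l f = true → x ∈ l →
    f x = true
  | [], _, hx => by simp at hx
  | a :: l, h, hx => by
    have h0 : allP (a :: l) f = @Bool.rec (fun _ => Bool) false (allP l f) (f a) := rfl
    cases h1 : f a with
    | false =>
      rw [h1] at h0
      exact absurd (h0.symm.trans h) Bool.false_ne_true
    | true =>
      rw [h1] at h0
      rcases List.mem_cons.1 hx with rfl | hx
      · exact h1
      · exact allP_spec (l := l) (h0.symm.trans h) hx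

/-- the orders of the centralizer of `t` -/
def CT : List ℕ := [336, 2688, 5040, 12096, 21504, 40320, 96768, 322560, 1008, 8064, 15120, 64512,
  120960, 967680]

/-- the rows of `t` on the principal 5-block -/
def rowsT (K : ℤ) (c : ℕ) : List R5 :=
  if c % 5 = 0 then rows5 K 140 84 64 91 8 c else rows5 K 28 0 8 7 36 c

/-- the rows of `t`, `|K₅| = 12` -/
def T12 : List R5 := [
  (2688, 9, 0, 8, 7, 0), (12096, 2, 0, 8, 7, 0), (21504, 1, -56, 8, -21, -28),
  (40320, 1, 84, -76, 91, -84), (322560, 0, -336, 64, -189, -84), (8064, 3, 0, 8, 7, 0),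
  (967680, 0, 504, 344, 91, 756)]

/-- the rows of `t`, `|K₅| = 192` -/
def T192 : List R5 := [
  (2688, 36, 0, 8, 7, 0), (12096, 8, 0, 8, 7, 0), (21504, 4, -56, 8, -21, -28),
  (21504, 6, 0, -48, 35, -84), (21504, 3, 0, 64, -21, 84), (21504, 5, 56, 8, 35, 28),
  (40320, 4, 84, -76, 91, -84), (96768, 1, 0, 8, 7, 0), (322560, 0, -336, 64, -189, -84),
  (1008, 96, 0, 8, 7, 0), (8064, 12, 0, 8, 7, 0), (64512, 1, -168, 8, -77, -84),
  (64512, 5, 0, -48, -133, 84), (64512, 2, 0, -48, 35, -84), (64512, 1, 0, 64, -21, 84),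
  (64512, 2, 168, 8, 91, 84), (967680, 0, 504, 344, 91, 756)]

theorem t12 : (CT.all fun c => (rowsT 12 c).all fun r => T12.contains r) = true := by
  decide +kernel

theorem t192 : (CT.all fun c => (rowsT 192 c).all fun r => T192.contains r) = true := by
  decide +kernel

/-- the leaf of the first search -/
def tOk (TR : List C7) (r : R5) (k : ℕ) (acc : List ℕ) : Bool := TR.contains (r, k, dec acc)

/-- the first search -/
noncomputable def tS (T : List R5) (TR : List C7) (s0 s1 s2 s3 s4 : ℤ) : Bool :=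
  allP T fun r => srch tabT (tOk TR) (key s0) (key s1) (key s2) (key s3) (key s4) r

/-- columns of `t` -/
def R12_0 : List C7 := []

/-- columns of `t` -/
def R12_1 : List C7 := []

/-- columns of `t` -/
def R12_2 : List C7 := []

/-- columns of `t` -/
def R12_3 : List C7 := [
  ((8064, 3, 0, 8, 7, 0), 3, [-62, 43, 8, 8, -6]),
  ((8064, 3, 0, 8, 7, 0), 3, [50, -13, -48, 8, -6])]

/-- columns of `t` -/
def R12_4 : List C7 := []

/-- columns of `t` -/
def R12_5 : List C7 := [
  ((8064, 3, 0, 8, 7, 0), 5, [64, -27, -48, 8, -6])]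

/-- columns of `t` -/
def R12_6 : List C7 := [
  ((2688, 9, 0, 8, 7, 0), 15, [8, -20, 36, -27, -6]),
  ((2688, 9, 0, 8, 7, 0), 15, [-20, 8, 36, -27, -6]),
  ((2688, 9, 0, 8, 7, 0), 18, [36, -20, 8, -27, -6]),
  ((2688, 9, 0, 8, 7, 0), 18, [-20, 36, 8, -27, -6]),
  ((12096, 2, 0, 8, 7, 0), 4, [36, -20, 8, -27, -6]),
  ((12096, 2, 0, 8, 7, 0), 4, [-20, 36, 8, -27, -6]),
  ((12096, 2, 0, 8, 7, 0), 4, [36, 36, -48, -27, -6]),
  ((8064, 3, 0, 8, 7, 0), 5, [8, -20, 36, -27, -6]),
  ((8064, 3, 0, 8, 7, 0), 5, [-20, 8, 36, -27, -6]),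
  ((8064, 3, 0, 8, 7, 0), 6, [36, -20, 8, -27, -6]),
  ((8064, 3, 0, 8, 7, 0), 6, [-20, 36, 8, -27, -6]),
  ((8064, 3, 0, 8, 7, 0), 6, [36, 36, -48, -27, -6])]

/-- columns of `t` -/
def R12_7 : List C7 := [
  ((8064, 3, 0, 8, 7, 0), 10, [64, 1, -20, -48, -6])]

/-- columns of `t` -/
def R12_8 : List C7 := []

/-- columns of `t` -/
def R12_9 : List C7 := [
  ((40320, 1, 84, -76, 91, -84), 3, [-6, 78, 57, -48, -6]),
  ((40320, 1, 84, -76, 91, -84), 3, [78, -6, 57, -48, -6])]

/-- columns of `t` -/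
def R12_10 : List C7 := []

/-- columns of `t` -/
def R12_11 : List C7 := []

/-- columns of `t` -/
def R12_12 : List C7 := [
  ((2688, 9, 0, 8, 7, 0), 20, [-27, 1, 1, 22, -6])]

/-- columns of `t` -/
def R192_0 : List C7 := []

/-- columns of `t` -/
def R192_1 : List C7 := [
  ((64512, 2, 0, -48, 35, -84), 5, [169, -132, -48, 64, -6])]

/-- columns of `t` -/
def R192_2 : List C7 := [
  ((96768, 1, 0, 8, 7, 0), 1, [-6, 183, -132, -48, -6]),
  ((8064, 12, 0, 8, 7, 0), 3, [-62, 43, 8, 8, -6]),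
  ((8064, 12, 0, 8, 7, 0), 3, [50, -13, -48, 8, -6]),
  ((64512, 2, 0, -48, 35, -84), 1, [-62, -97, 148, 64, -6]),
  ((64512, 1, 0, 64, -21, 84), 2, [50, -209, 36, 64, -6])]

/-- columns of `t` -/
def R192_3 : List C7 := [
  ((8064, 12, 0, 8, 7, 0), 5, [64, -27, -48, 8, -6])]

/-- columns of `t` -/
def R192_4 : List C7 := [
  ((8064, 12, 0, 8, 7, 0), 10, [64, 1, -20, -48, -6])]

/-- columns of `t` -/
def R192_5 : List C7 := [
  ((40320, 4, 84, -76, 91, -84), 3, [-6, 78, 57, -48, -6]),
  ((40320, 4, 84, -76, 91, -84), 3, [78, -6, 57, -48, -6]),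
  ((64512, 5, 0, -48, -133, 84), 0, [-90, 78, 1, 64, -6]),
  ((64512, 5, 0, -48, -133, 84), 0, [78, -90, 1, 64, -6]),
  ((64512, 2, 0, -48, 35, -84), 0, [-90, 78, 1, 64, -6]),
  ((64512, 2, 0, -48, 35, -84), 0, [78, -90, 1, 64, -6])]

/-- columns of `t` -/
def R192_6 : List C7 := [
  ((64512, 2, 0, -48, 35, -84), 1, [78, 57, -160, 78, -6])]

theorem t12_0 : tS T12 R12_0 2024 9108 (-1035) (-12144) 22 = true := by
  decide +kernel

theorem t12_1 : tS T12 R12_1 253 9108 (-12144) 736 22 = true := by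
  decide +kernel

theorem t12_2 : tS T12 R12_2 9108 (-5060) (-5060) (-1035) 22 = true := by
  decide +kernel

theorem t12_3 : tS T12 R12_3 (-1518) 3795 (-5060) 736 22 = true := by
  decide +kernel

theorem t12_4 : tS T12 R12_4 253 3795 (-5060) (-1035) 22 = true := by
  decide +kernel

theorem t12_5 : tS T12 R12_5 (-5060) (-1035) 3312 736 22 = true := by
  decide +kernel

theorem t12_6 : tS T12 R12_6 2024 2024 (-5060) (-1035) 22 = true := by
  decide +kernel

theorem t12_7 : tS T12 R12_7 2024 253 (-5060) 736 22 = true := by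
  decide +kernel

theorem t12_8 : tS T12 R12_8 (-1518) (-1518) 2024 (-1035) 22 = true := by
  decide +kernel

theorem t12_9 : tS T12 R12_9 (-1518) (-1518) 253 736 22 = true := by
  decide +kernel

theorem t12_10 : tS T12 R12_10 (-1518) (-1035) 736 (-230) 22 = true := by
  decide +kernel

theorem t12_11 : tS T12 R12_11 (-1518) 253 253 (-1035) 22 = true := by
  decide +kernel

theorem t12_12 : tS T12 R12_12 253 (-1035) (-1035) (-230) 22 = true := by
  decide +kernel

theorem t192_0 : tS T192 R192_0 2024 9108 (-1035) (-12144) 22 = true := by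
  decide +kernel

theorem t192_1 : tS T192 R192_1 253 9108 (-12144) 736 22 = true := by
  decide +kernel

theorem t192_2 : tS T192 R192_2 (-1518) 3795 (-5060) 736 22 = true := by
  decide +kernel

theorem t192_3 : tS T192 R192_3 (-5060) (-1035) 3312 736 22 = true := by
  decide +kernel

theorem t192_4 : tS T192 R192_4 2024 253 (-5060) 736 22 = true := by
  decide +kernel

theorem t192_5 : tS T192 R192_5 (-1518) (-1518) 253 736 22 = true := by
  decide +kernel

theorem t192_6 : tS T192 R192_6 (-1518) (-1035) 736 (-230) 22 = true := by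
  decide +kernel

end Cfsg.Agent.SporadicA.M24.SixRows
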