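import Cfsg.Agent.SporadicA.M24.Convert
import Cfsg.Agent.SmallSimple.PrimeFusion
import Cfsg.Agent.SmallSimple.AvgFormula
import Cfsg.Agent.Characters.GaloisIrr

/-!
# `p = 7`, `e = 6`, `|K| = 3` is impossible

Proof. `χ(y)`, `y` of order 7, is an integer `v(χ) ≡ χ(1) mod 7`, and `∑ v(χ) ^ 2 = |C(y)| = 21`, so
the sum outside the principal block is 14. If `χ` is outside the principal block and
`χ(y s) = χ(y s²)`, `s` of order 3 in `K`, then `v(χ)` is even. This excludes the degrees 45 and
3840 and then 540, contradicting the orthogonality of the 11- and 23-columns.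
-/

set_option autoImplicit false
set_option linter.unusedSectionVars false

open Cfsg Subgroup
open Cfsg.Agent.Characters.Core
open Cfsg.Agent.SmallSimple
open Cfsg.Agent.SmallSimple.FlatBlock Cfsg.Agent.SmallSimple.BlockShared
open Cfsg.Agent.M23Order.Base
open Cfsg.Agent.M24Order.Setup
open scoped ComplexConjugate

namespace Cfsg.Agent.SporadicA.M24.SixThree

universe u

theorem arith_uv : ∀ d ∈ A, d ≠ 1 → d ≠ 45 → d ≠ 540 → d ≠ 3840 →
    (0 : ℤ) ≤ (if d % 11 = 1 then 1 else if d % 11 = 10 then -1 else 0) *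
      (if d % 23 = 1 then 22 else if d % 23 = 22 then -22 else if d % 23 = 11 then -11
        else if d % 23 = 12 then 11 else 0) := by decide +kernel

theorem arith_pairs : ∀ x ∈ Seven.pairs6, (540 : ℤ) ∉ x.1 ∧ (-540 : ℤ) ∉ x.1 := by
  decide +kernel

variable {G : Type u} [Group G] [Finite G] [IsSimpleGroup G] (H : Hyp G)

include H

/-- Orthogonality of the 11- and 23-columns. -/
theorem exists_degree : ∃ χ : IrrCharacter G, dg χ = 45 ∨ dg χ = 540 ∨ dg χ = 3840 := by
  classical
  by_contra hcon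
  push Not at hcon
  have h1 := rel_vv H (S := B11 H) (c := uu) fun g hg hg1 => by
    apply rel11 H
    intro h11
    have h2 : orderOf g ∣ 23 := by
      have := orderOf_dvd_natCard (⟨g, hg⟩ : (H.P : Subgroup G))
      have hP' : Nat.card (H.P : Subgroup G) = 23 := H.hP
      rw [hP'] at this
      simpa using this
    have h3 := h11.trans h2
    norm_num at h3
  have hone : H.D.one ∈ B11 H := (mem_B11 H).2 (by rw [dg_one H]; norm_num)
  rw [← Finset.add_sum_erase _ _ hone] at h1
  have h2 : uu H.D.one * vv H.D.one = 22 := by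
    unfold uu vv; rw [dg_one H]; norm_num
  have h3 : 0 ≤ ∑ χ ∈ (B11 H).erase H.D.one, uu χ * vv χ := by
    refine Finset.sum_nonneg fun χ hχ => ?_
    have h4 : dg χ ≠ 1 := fun h => (Finset.ne_of_mem_erase hχ) (eq_one_of_dg H h)
    obtain ⟨h5, h6, h7⟩ := hcon χ
    exact arith_uv _ (dg_mem_A H χ) h4 h5 h6 h7
  linarith

theorem coprime_323 : Nat.Coprime 323 (Nat.card G) := by rw [H.hcard]; norm_num

/-- The conjugate of a character under the 323-rd power map. -/
noncomputable def pw (χ : IrrCharacter G) : IrrCharacter G :=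
  ⟨fun g => (χ : G → ℂ) (g ^ 323), Characters.GaloisIrr.isIrr_pow (coprime_323 H) χ.2⟩

theorem pw_apply (χ : IrrCharacter G) (g : G) : ((pw H χ : IrrCharacter G) : G → ℂ) g =
    (χ : G → ℂ) (g ^ 323) := rfl

theorem dg_pw (χ : IrrCharacter G) : dg (pw H χ) = dg χ := by
  apply dg_of_eq
  rw [pw_apply, one_pow, dg_eq]

/-- Characters which are exceptional for 23 are invariant on 23-regular elements. -/
theorem pw_of_exc {χ : IrrCharacter G} (h : dg χ % 23 = 11 ∨ dg χ % 23 = 12) {g : G}
    (hg : ¬ 23 ∣ orderOf g) : (χ : G → ℂ) (g ^ 323) = (χ : G → ℂ) g := by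
  have h1 := mem_X23 H h
  have h2 : pw H χ ∈ H.D.X := mem_X23 H (by rw [dg_pw]; exact h)
  have e1 := H.D.rel _ h1 g hg
  have e2 := H.D.rel _ h2 g hg
  rw [pw_apply] at e2
  rw [e1] at e2
  rcases H.D.d_mem with hd | hd <;> rw [hd] at e2
  · push_cast at e2
    linear_combination -e2
  · push_cast at e2
    linear_combination e2

/-- Characters of unique degree are invariant. -/
theorem pw_of_unique {χ : IrrCharacter G} (h : ∀ ψ : IrrCharacter G, dg ψ = dg χ → ψ = χ)
    (g : G) : (χ : G → ℂ) (g ^ 323) = (χ : G → ℂ) g := by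
  rw [← pw_apply H, h _ (dg_pw H χ)]

/-- The case `|K| = 3` is impossible. -/
theorem six_three_false {S : Sylow 7 G} {K : Subgroup G} {M : Ideal AlgInt}
    {B : Finset (IrrCharacter G)} {ε : IrrCharacter G → ℤ} {l : List (IrrCharacter G)}
    {b : IrrCharacter G} (h : Seven.B7six S K M B ε l b) (hK : Nat.card K = 3) : False := by
  classical
  have h7 : Fact (Nat.Prime 7) := ⟨by norm_num⟩
  have h3 : Fact (Nat.Prime 3) := ⟨by norm_num⟩
  have hS : Nat.card (S : Subgroup G) = 7 := Seven.card_seven (Convert.conv H) S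
  obtain ⟨v, hv1, hv2, hv3⟩ := PrimeFusion.exists_val (P := (S : Subgroup G)) hS
    (BlockIndex.relIndex_eq h.loc.loc)
  obtain ⟨y, hy, hy1⟩ := BlockIndex.exists_ne_one (P := (S : Subgroup G)) hS
  -- squares
  have hvB : ∀ χ ∈ B, v χ ^ 2 = 1 := by
    intro χ hχ
    have e1 := h.loc.toFlat.val' hχ hy hy1
    rw [hv1 χ y hy hy1] at e1
    have e2 : v χ = ε χ := by exact_mod_cast e1
    rw [e2]
    rcases h.loc.ε_mem χ hχ with e | e <;> rw [e] <;> norm_num
  have hle : ∀ T : Finset (IrrCharacter G), (∀ χ ∈ T, χ ∉ B) → ∑ χ ∈ T, v χ ^ 2 ≤ 14 := by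
    intro T hT
    have hdisj : Disjoint B T := by
      rw [Finset.disjoint_left]
      exact fun χ h1 h2 => hT χ h2 h1
    have e1 := hv3 (B ∪ T)
    rw [Finset.sum_union hdisj, Finset.sum_congr rfl hvB] at e1
    have e2 : Nat.card (centralizer ((S : Subgroup G) : Set G)) = 7 * Nat.card K :=
      h.loc.loc.card_centralizer
    rw [e2, hK, Finset.sum_const, h.loc.card] at e1
    norm_num at e1
    linarith
  -- evenness
  have hcompl := BlockIndex.compl_of_local h.loc.loc
  obtain ⟨k, hk1⟩ : ∃ k : K, k ≠ 1 := by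
    have : Nontrivial K := by rw [← Finite.one_lt_card_iff_nontrivial, hK]; norm_num
    exact exists_ne 1
  have hcomm : ∀ z : K, Commute y (z : G) := fun z =>
    mem_centralizer_iff.1 ((h.loc.loc.mem_iff _).1 z.2).1 y hy
  have hy7 : y ^ 7 = 1 := by
    have e1 := orderOf_dvd_natCard (⟨y, hy⟩ : (S : Subgroup G))
    rw [hS] at e1
    have e2 : orderOf y ∣ 7 := by simpa using e1
    exact orderOf_dvd_iff_pow_eq_one.1 e2
  have hz3 : ∀ z : K, (z : G) ^ 3 = 1 := by
    intro z
    have e1 := orderOf_dvd_natCard z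
    rw [hK] at e1
    have e2 := orderOf_dvd_iff_pow_eq_one.1 e1
    exact congrArg Subtype.val e2
  have hpow : (y * (k : G)) ^ 323 = y * (k : G) ^ 2 := by
    rw [(hcomm k).mul_pow]
    have e1 : y ^ 323 = y := by
      rw [show 323 = 7 * 46 + 1 by norm_num, pow_succ, pow_mul, hy7, one_pow, one_mul]
    have e2 : (k : G) ^ 323 = (k : G) ^ 2 := by
      rw [show 323 = 3 * 107 + 2 by norm_num, pow_add, pow_mul, hz3, one_pow, one_mul]
    rw [e1, e2]
  have hreg : ¬ 23 ∣ orderOf (y * (k : G)) := by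
    intro h23
    have e1 : (y * (k : G)) ^ 21 = 1 := by
      rw [(hcomm k).mul_pow, show 21 = 7 * 3 by norm_num, pow_mul, hy7, one_pow, one_mul,
        mul_comm, pow_mul, hz3, one_pow]
    have e2 := h23.trans (orderOf_dvd_of_pow_eq_one e1)
    norm_num at e2
  have heven : ∀ χ : IrrCharacter G, χ ∉ B →
      (χ : G → ℂ) ((y * (k : G)) ^ 323) = (χ : G → ℂ) (y * (k : G)) → Even (v χ) := by
    intro χ hχ hst
    have := Fintype.ofFinite K
    have e1 := AvgFormula.vanish S h.loc.modular hcompl hS hy hy1 (χ := χ)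
      (fun h' => hχ ((h.loc.mem_iff χ).1 h'))
    rw [hpow] at hst
    have e2 : ∀ z ∈ (Finset.univ : Finset K).erase 1,
        (χ : G → ℂ) (y * z) = (χ : G → ℂ) (y * (k : G)) := by
      intro z hz
      obtain ⟨n, hn⟩ := mem_powers_of_prime_card hK hk1 (g' := z)
      have hn' : k ^ n = z := hn
      have hk3 : k ^ 3 = 1 := Subtype.ext (hz3 k)
      have e3 : k ^ (n % 3) = z := by rw [← hn', ← pow_mod_orderOf k n]; rw [show
        orderOf k = 3 from orderOf_eq_prime hk3 hk1]
      have e4 : n % 3 < 3 := Nat.mod_lt _ (by norm_num)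
      interval_cases hn3 : n % 3
      · rw [pow_zero] at e3
        exact absurd e3.symm (Finset.ne_of_mem_erase hz)
      · rw [← e3, pow_one]
      · rw [← e3, ← hst]
        push_cast
        rfl
    rw [← Finset.add_sum_erase _ _ (Finset.mem_univ (1 : K)), Finset.sum_congr rfl e2,
      Finset.sum_const, Finset.card_erase_of_mem (Finset.mem_univ _), Finset.card_univ,
      ← Nat.card_eq_fintype_card, hK, OneMemClass.coe_one, mul_one, hv1 χ y hy hy1] at e1
    have e5 : (χ : G → ℂ) (y * (k : G)) = ((-(v χ) / 2 : ℚ) : ℂ) := by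
      push_cast
      norm_num at e1
      linear_combination e1 / 2
    obtain ⟨m, hm⟩ := Characters.GaloisBasic.exists_int_of_rat (isIrr_isCharacter χ.2) _ ⟨_, e5⟩
    rw [hm] at e1
    norm_num at e1
    have e6 : v χ + 2 * m = 0 := by exact_mod_cast e1
    exact ⟨-m, by linarith⟩
  -- the residues
  have hres : ∀ χ ∈ B, dg χ % 7 = 1 ∨ dg χ % 7 = 6 := by
    intro χ hχ
    have e1 := (h.loc.toFlat.modEq hS hχ).dvd
    rcases h.loc.ε_mem χ hχ with e | e <;> rw [e] at e1 <;> omega
  have hbad : ∀ χ : IrrCharacter G, dg χ % 7 = 3 ∨ dg χ % 7 = 4 → False := by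
    intro χ hχ
    have hχB : χ ∉ B := fun h' => by have := hres χ h'; omega
    have hsq : ∀ ψ : IrrCharacter G, dg ψ % 7 = 3 ∨ dg ψ % 7 = 4 → 9 ≤ v ψ ^ 2 := by
      intro ψ hψ
      have e1 := (hv2 ψ).dvd
      have e2 : v ψ ≤ -3 ∨ 3 ≤ v ψ := by omega
      rcases e2 with e2 | e2 <;> nlinarith
    have huniq : ∀ ψ : IrrCharacter G, dg ψ = dg χ → ψ = χ := by
      intro ψ hψ
      by_contra hne
      have e1 := hle {ψ, χ} (by
        intro ξ hξ
        rcases Finset.mem_insert.1 hξ with rfl | hξ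
        · intro h'; have := hres _ h'; omega
        · rw [Finset.mem_singleton.1 hξ]; exact hχB)
      rw [Finset.sum_pair hne] at e1
      have e2 := hsq ψ (by rw [hψ]; exact hχ)
      have e3 := hsq χ hχ
      linarith
    obtain ⟨m, hm⟩ := heven χ hχB (pw_of_unique H huniq _)
    have e1 := hle {χ} (fun ψ hψ => by rw [Finset.mem_singleton.1 hψ]; exact hχB)
    rw [Finset.sum_singleton, hm] at e1
    have e2 := (hv2 χ).dvd
    rw [hm] at e2
    have e3 : m ≤ 1 := by nlinarith
    have e4 : -1 ≤ m := by nlinarith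
    interval_cases m <;> omega
  obtain ⟨χ, hχ⟩ := exists_degree H
  rcases hχ with hχ | hχ | hχ
  · exact hbad χ (by rw [hχ]; norm_num)
  · have hχB : χ ∉ B := by
      intro h'
      have hχ1 : χ ≠ tr G := by
        rintro rfl
        rw [dg_tr] at hχ
        norm_num at hχ
      have hl : χ ∈ l := by
        rcases List.mem_cons.1 ((h.mem χ).1 h') with h'' | h''
        · exact absurd h'' hχ1
        · exact h''
      have e1 : ε χ * (dg χ : ℤ) ∈ l.map fun χ => ε χ * (dg χ : ℤ) :=
        List.mem_map_of_mem hl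
      have e2 := arith_pairs _ h.mem_pairs
      rw [hχ] at e1
      rcases h.loc.ε_mem χ h' with e | e <;> rw [e] at e1
      · exact e2.1 (by simpa using e1)
      · exact e2.2 (by simpa using e1)
    obtain ⟨m, hm⟩ := heven χ hχB (pw_of_exc H (by rw [hχ]; norm_num) hreg)
    have e1 := hle {χ} (fun ψ hψ => by rw [Finset.mem_singleton.1 hψ]; exact hχB)
    rw [Finset.sum_singleton, hm] at e1
    have e2 := (hv2 χ).dvd
    rw [hm, hχ] at e2
    have e3 : m ≤ 1 := by nlinarith
    have e4 : -1 ≤ m := by nlinarith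
    interval_cases m <;> omega
  · exact hbad χ (by rw [hχ]; norm_num)

end Cfsg.Agent.SporadicA.M24.SixThree
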