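import Cfsg.Agent.SporadicA.M24.SixWRows

/-!
# Searches for columns of involutions, `e₇ = 6`: the second column, `|K₅| = 12`
-/

set_option autoImplicit false

namespace Cfsg.Agent.SporadicA.M24.SixRows

theorem w12_3 : wS W12 R12_3 (-1518) 3795 (-5060) 736 22 = true := by
  decide +kernel

theorem w12_5 : wS W12 R12_5 (-5060) (-1035) 3312 736 22 = true := by
  decide +kernel

theorem w12_6 : wS W12 R12_6 2024 2024 (-5060) (-1035) 22 = true := by
  decide +kernel

theorem w12_7 : wS W12 R12_7 2024 253 (-5060) 736 22 = true := by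
  decide +kernel

theorem w12_9 : wS W12 R12_9 (-1518) (-1518) 253 736 22 = true := by
  decide +kernel

theorem w12_12 : wS W12 R12_12 253 (-1035) (-1035) (-230) 22 = true := by
  decide +kernel

end Cfsg.Agent.SporadicA.M24.SixRows
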