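import Cfsg.Agent.SporadicA.M24.SixT
import Cfsg.Agent.SporadicA.M24.SixTabW

/-!
# Searches for columns of involutions, `e₇ = 6`: the rows of the second column
-/

set_option autoImplicit false
set_option linter.style.longLine false

namespace Cfsg.Agent.SporadicA.M24.SixRows

/-- the possible orders of the centralizer of `w` -/
def CW : List ℕ := (List.range 15647).filter fun c =>
  Nat.beq (Nat.mod c 10) 0 && Nat.beq (Nat.mod 967680 c) 0

/-- the rows of `w` on the principal 5-block -/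
def rowsW (K : ℤ) (c : ℕ) : List R5 := rows5 K 20 4 4 11 7 c

/-- the rows of `w`, `|K₅| = 12` -/
def W12 : List R5 := [
  (1920, 11, -16, 24, -9, 16), (2560, 9, -36, 4, -9, -24), (2880, 8, -36, 4, -9, -24),
  (2880, 10, 24, -16, 31, -24), (2880, 8, 24, 24, 11, 36), (3840, 6, -36, 4, -9, -24),
  (3840, 7, -16, -16, 11, -44), (3840, 5, 4, 44, 31, 16), (3840, 6, 24, 24, 11, 36),
  (3840, 2, 44, -36, -9, 16), (3840, 7, 44, 4, 31, 16), (5760, 4, -36, 4, -9, -24),
  (5760, 3, -36, 44, -29, 36), (5760, 5, 24, -16, 31, -24), (5760, 4, 24, 24, 11, 36),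
  (7680, 3, -36, 4, -9, -24), (7680, 2, -16, 64, 51, -4), (7680, 4, 4, -36, 31, -64),
  (7680, 3, 24, 24, 11, 36), (7680, 1, 44, -36, -9, 16), (7680, 4, 64, -16, 51, -4),
  (8640, 2, -36, 44, -29, 36), (11520, 2, -36, 4, -9, -24), (11520, 2, 24, 24, 11, 36),
  (13440, 1, -56, 64, -49, 56), (15360, 1, -16, 64, -29, 76), (15360, 1, -16, 64, 51, -4),
  (15360, 2, 64, -16, -29, 76), (15360, 2, 64, -16, 51, -4)]

/-- the rows of `w`, `|K₅| = 192` -/
def W192 : List R5 := [
  (640, 156, 4, 4, 11, -4), (960, 104, 4, 4, 11, -4), (1280, 66, -16, 24, -9, 16),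
  (1280, 78, 4, 4, 11, -4), (1920, 44, -16, 24, -9, 16), (1920, 52, 4, 4, 11, -4),
  (2560, 36, -36, 4, -9, -24), (2560, 33, -16, 24, -9, 16), (2560, 39, 4, 4, 11, -4),
  (2560, 45, 24, -16, 31, -24), (2880, 32, -36, 4, -9, -24), (2880, 40, 24, -16, 31, -24),
  (2880, 32, 24, 24, 11, 36), (3840, 24, -36, 4, -9, -24), (3840, 28, -16, -16, 11, -44),
  (3840, 22, -16, 24, -9, 16), (3840, 22, 4, -36, 11, -44), (3840, 26, 4, 4, 11, -4),
  (3840, 20, 4, 44, 31, 16), (3840, 30, 24, -16, 31, -24), (3840, 24, 24, 24, 11, 36),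
  (3840, 8, 44, -36, -9, 16), (3840, 28, 44, 4, 31, 16), (5120, 15, -56, 24, -29, -4),
  (5120, 21, -16, -16, 11, -44), (5120, 18, 24, 24, 11, 36), (5760, 16, -36, 4, -9, -24),
  (5760, 12, -36, 44, -29, 36), (5760, 20, 24, -16, 31, -24), (5760, 16, 24, 24, 11, 36),
  (7680, 13, -56, -16, -9, -64), (7680, 10, -56, 24, -29, -4), (7680, 12, -36, 4, -9, -24),
  (7680, 9, -36, 44, -29, 36), (7680, 5, -16, -56, -9, -64), (7680, 14, -16, -16, 11, -44),
  (7680, 11, -16, 24, -9, 16), (7680, 8, -16, 64, 51, -4), (7680, 11, 4, -36, 11, -44),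
  (7680, 16, 4, -36, 31, -64), (7680, 13, 4, 4, 11, -4), (7680, 10, 4, 44, -9, 56),
  (7680, 10, 4, 44, 31, 16), (7680, 15, 24, -16, 31, -24), (7680, 12, 24, 24, 11, 36),
  (7680, 4, 44, -36, -9, 16), (7680, 14, 44, 4, -9, 56), (7680, 14, 44, 4, 31, 16),
  (7680, 16, 64, -16, 51, -4), (8640, 8, -36, 44, -29, 36), (11520, 10, -36, -36, 11, -84),
  (11520, 8, -36, 4, -9, -24), (11520, 6, -36, 44, -29, 36), (11520, 10, 24, -16, 31, -24),
  (11520, 8, 24, 24, 11, 36), (11520, 10, 84, 4, 51, 36), (13440, 4, -56, 64, -49, 56),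
  (15360, 5, -56, 24, -29, -4), (15360, 7, -16, -16, 11, -44), (15360, 4, -16, 64, -29, 76),
  (15360, 4, -16, 64, 51, -4), (15360, 9, 24, -56, 51, -84), (15360, 6, 24, 24, 11, 36),
  (15360, 8, 64, -16, -29, 76), (15360, 8, 64, -16, 51, -4)]

/-- the possible orders of the centralizer of `w`, as a list -/
def CW' : List ℕ := [10, 20, 30, 40, 60, 70, 80, 90, 120, 140, 160, 180, 210, 240, 270, 280, 320, 360, 420, 480, 540, 560, 630, 640, 720, 840, 960, 1080, 1120, 1260, 1280, 1440, 1680, 1890, 1920, 2160, 2240, 2520, 2560, 2880, 3360, 3780, 3840, 4320, 4480, 5040, 5120, 5760, 6720, 7560, 7680, 8640, 8960, 10080, 11520, 13440, 15120, 15360]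

theorem cw : CW = CW' := by decide +kernel

theorem w12 : (CW'.all fun c => (rowsW 12 c).all fun r => W12.contains r) = true := by
  decide +kernel

theorem w192 : (CW'.all fun c => (rowsW 192 c).all fun r => W192.contains r) = true := by
  decide +kernel

/-- `∑ g x y` -/
def dot : List ℤ → List ℤ → List ℤ → ℤ
  | g :: G, x :: X, y :: Y => g * (x * y) + dot G X Y
  | _, _, _ => 0

/-- the bilinear form of the principal 7-block, `sl` the signed degrees -/
def S7 (sl : List ℤ) (b b' : ℤ) (v v' : List ℤ) : ℤ :=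
  244823040 + 120960 * (b * b') + dot (sl.map fun s => 244823040 / s) v v'

/-- the leaf of the second search -/
def wOk (sl : List ℤ) (TR : List C7) (r : R5) (k : ℕ) (acc : List ℕ) : Bool :=
  TR.all fun t => !(7 * ((t.2.1 * t.1.1 : ℕ) * (k * r.1 : ℕ) : ℤ) ==
    24 * S7 sl t.1.2.2.2.1 r.2.2.2.1 t.2.2 (dec acc))

/-- the second search -/
noncomputable def wS (W : List R5) (TR : List C7) (s0 s1 s2 s3 s4 : ℤ) : Bool :=
  allP W fun r => srch tabW (wOk [s0, s1, s2, s3, s4] TR) (key s0) (key s1) (key s2) (key s3)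
    (key s4) r

end Cfsg.Agent.SporadicA.M24.SixRows
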