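import Cfsg.Agent.SporadicA.M24.SixD0
import Cfsg.Agent.SmallSimple.BTBasic
import Cfsg.Agent.PermChar.SymAlt

/-!
# The symmetric and the alternating square of a real character of degree 22

`cases`: for a real irreducible character `χ` of degree 22 either both squares are irreducible (up
to the trivial character), or there is an irreducible character of degree 230 in one of them.
-/

set_option autoImplicit false
set_option linter.unusedSectionVars false

open Cfsg Subgroup
open Cfsg.Agent.Characters.Core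
open Cfsg.Agent.SmallSimple
open Cfsg.Agent.SmallSimple.FlatBlock
open Cfsg.Agent.M23Order.Base
open Cfsg.Agent.SporadicA.M24.Setup
open scoped ComplexConjugate

namespace Cfsg.Agent.SporadicA.M24.Square

universe u

/-- correction for the fixed points of the Sylow 23-subgroup -/
def uu (d : ℕ) : ℤ :=
  if d % 23 = 1 then 22 else if d % 23 = 22 then -22 else if d % 23 = 11 then -11
  else if d % 23 = 12 then 11 else 0

/-- correction for the fixed points of the Sylow 11-subgroup -/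
def ww (d : ℕ) : ℤ := if d % 11 = 1 then 10 else if d % 11 = 10 then -10 else 0

theorem arith_zero : ∀ d ∈ A, d ≤ 462 → 0 ≤ 2 * (d : ℤ) + 46 * ww d - 21 * uu d ∧
    (2 * (d : ℤ) + 46 * ww d - 21 * uu d = 0 → d = 1 ∨ d = 230 ∨ d = 231) := by decide +kernel

theorem arith_neg : ∀ d ∈ A, d ≤ 253 → ww d < 0 → d = 230 ∨ d = 252 := by decide +kernel

variable {G : Type u} [Group G] [Finite G]

theorem sum_off {p : ℕ} [Fact p.Prime] (P : Subgroup G) (hP : Nat.card P = p) [Fintype P]
    {φ : G → ℂ} {a : ℂ} (h : ∀ x ∈ P, x ≠ 1 → φ x = a) :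
    ∑ x : P, φ x = φ 1 + ((p : ℂ) - 1) * a := by
  have h1 := TheoremBCor.sum_const_off (Q := P) (f := fun x => φ x) (c := a)
    (fun x hx => h x x.2 (fun h' => hx (Subtype.ext h')))
  rw [h1, hP, OneMemClass.coe_one]

variable [IsSimpleGroup G] (H : Hyp G)

include H

theorem sum_P [Fintype (H.P : Subgroup G)] (ψ : IrrCharacter G) :
    ∑ x : (H.P : Subgroup G), (ψ : G → ℂ) x = dg ψ + ((uu (dg ψ) : ℤ) : ℂ) := by
  by_cases h1 : ψ ∈ H.D.NE
  · rw [H.D.sum_NE H.hP h1]
    rcases mod23_NE H h1 with ⟨h, h'⟩ | ⟨h, h'⟩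
    · have : uu (dg ψ) = 22 := by unfold uu; rw [if_pos h']
      rw [this, h]; push_cast; ring
    · have : uu (dg ψ) = -22 := by unfold uu; rw [if_neg (by omega), if_pos h']
      rw [this, h]; push_cast; ring
  · by_cases h2 : ψ ∈ H.D.X
    · rw [H.D.sum_X h2]
      rcases mod23_X H h2 with ⟨h, h'⟩ | ⟨h, h'⟩
      · have : uu (dg ψ) = -11 := by
          unfold uu; rw [if_neg (by omega), if_neg (by omega), if_pos h']
        rw [this, h]; push_cast; ring
      · have : uu (dg ψ) = 11 := by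
          unfold uu; rw [if_neg (by omega), if_neg (by omega), if_neg (by omega), if_pos h']
        rw [this, h]; push_cast; ring
    · rw [H.D.sum_out h1 h2]
      have h' := mod23_out H h1 h2
      have : uu (dg ψ) = 0 := by
        unfold uu
        rw [if_neg (by omega), if_neg (by omega), if_neg (by omega), if_neg (by omega)]
      rw [this]; push_cast; ring

theorem sum_Q [Fintype (H.Q : Subgroup G)] (ψ : IrrCharacter G) :
    ∑ x : (H.Q : Subgroup G), (ψ : G → ℂ) x = dg ψ + ((ww (dg ψ) : ℤ) : ℂ) := by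
  by_cases h1 : ψ ∈ H.E.NE
  · rw [H.E.sum_NE H.hQ h1]
    rcases mod11_NE H h1 with ⟨h, h'⟩ | ⟨h, h'⟩
    · have : ww (dg ψ) = 10 := by unfold ww; rw [if_pos h']
      rw [this, h]; push_cast; ring
    · have : ww (dg ψ) = -10 := by unfold ww; rw [if_neg (by omega), if_pos h']
      rw [this, h]; push_cast; ring
  · by_cases h2 : ψ ∈ H.E.X
    · rw [H.E.sum_X h2]
      rcases mod11_X H h2 with ⟨h, h'⟩ | ⟨h, h'⟩
      · have : ww (dg ψ) = -10 := by
          unfold ww; rw [if_neg (by omega), if_pos h']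
        rw [this, h]; push_cast; ring
      · have : ww (dg ψ) = 10 := by
          unfold ww; rw [if_pos h']
        rw [this, h]; push_cast; ring
    · rw [H.E.sum_out h1 h2]
      have h' := mod11_out H h1 h2
      have : ww (dg ψ) = 0 := by
        unfold ww
        rw [if_neg (by omega), if_neg (by omega)]
      rw [this]; push_cast; ring

/-- The three equations for the constituents of a character. -/
theorem eqs [Fintype (IrrCharacter G)] {φ : G → ℂ} {c : IrrCharacter G → ℕ}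
    (hc : ∀ g, φ g = ∑ χ : IrrCharacter G, (c χ : ℂ) * (χ : G → ℂ) g) {n a b : ℤ}
    (h1 : φ 1 = n) (hP : ∀ x ∈ H.P, x ≠ 1 → φ x = a) (hQ : ∀ x ∈ H.Q, x ≠ 1 → φ x = b) :
    ∑ χ : IrrCharacter G, (c χ : ℤ) * dg χ = n ∧
    ∑ χ : IrrCharacter G, (c χ : ℤ) * uu (dg χ) = 22 * a ∧
    ∑ χ : IrrCharacter G, (c χ : ℤ) * ww (dg χ) = 10 * b := by
  classical
  have := Fintype.ofFinite (H.P : Subgroup G)
  have := Fintype.ofFinite (H.Q : Subgroup G)
  have e0 : ∑ χ : IrrCharacter G, (c χ : ℂ) * dg χ = n := by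
    rw [← h1, hc 1]
    exact Finset.sum_congr rfl fun χ _ => by rw [dg_eq]
  refine ⟨by exact_mod_cast e0, ?_, ?_⟩
  · have f23 : Fact (Nat.Prime 23) := ⟨by norm_num⟩
    have e1 := sum_off (p := 23) (H.P : Subgroup G) H.hP (φ := φ) (a := a) hP
    have e2 : ∑ x : (H.P : Subgroup G), φ x =
        ∑ χ : IrrCharacter G, (c χ : ℂ) * (dg χ + ((uu (dg χ) : ℤ) : ℂ)) := by
      have e3 : ∑ x : (H.P : Subgroup G), φ x = ∑ x : (H.P : Subgroup G),
          ∑ χ : IrrCharacter G, (c χ : ℂ) * (χ : G → ℂ) (x : G) :=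
        Finset.sum_congr rfl fun x _ => hc (x : G)
      rw [e3, Finset.sum_comm]
      refine Finset.sum_congr rfl fun χ _ => ?_
      rw [← sum_P H χ, Finset.mul_sum]
    rw [e1, h1] at e2
    simp only [mul_add, Finset.sum_add_distrib] at e2
    rw [e0] at e2
    have e3 : ∑ χ : IrrCharacter G, (c χ : ℂ) * ((uu (dg χ) : ℤ) : ℂ) = 22 * a := by
      have := add_left_cancel e2
      rw [← this]; push_cast; ring
    exact_mod_cast e3
  · have f11 : Fact (Nat.Prime 11) := ⟨by norm_num⟩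
    have e1 := sum_off (p := 11) (H.Q : Subgroup G) H.hQ (φ := φ) (a := b) hQ
    have e2 : ∑ x : (H.Q : Subgroup G), φ x =
        ∑ χ : IrrCharacter G, (c χ : ℂ) * (dg χ + ((ww (dg χ) : ℤ) : ℂ)) := by
      have e3 : ∑ x : (H.Q : Subgroup G), φ x = ∑ x : (H.Q : Subgroup G),
          ∑ χ : IrrCharacter G, (c χ : ℂ) * (χ : G → ℂ) (x : G) :=
        Finset.sum_congr rfl fun x _ => hc (x : G)
      rw [e3, Finset.sum_comm]
      refine Finset.sum_congr rfl fun χ _ => ?_
      rw [← sum_Q H χ, Finset.mul_sum]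
    rw [e1, h1] at e2
    simp only [mul_add, Finset.sum_add_distrib] at e2
    rw [e0] at e2
    have e3 : ∑ χ : IrrCharacter G, (c χ : ℂ) * ((ww (dg χ) : ℤ) : ℂ) = 10 * b := by
      have := add_left_cancel e2
      rw [← this]; push_cast; ring
    exact_mod_cast e3

omit H in
theorem dg_le [Fintype (IrrCharacter G)] {c : IrrCharacter G → ℕ} {n : ℤ}
    (h : ∑ χ : IrrCharacter G, (c χ : ℤ) * dg χ = n) {ψ : IrrCharacter G} (hψ : c ψ ≠ 0) :
    (dg ψ : ℤ) ≤ n := by
  rw [← h]
  refine le_trans ?_ (Finset.single_le_sum (f := fun χ => (c χ : ℤ) * dg χ)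
    (fun χ _ => by positivity) (Finset.mem_univ ψ))
  have : 1 ≤ (c ψ : ℤ) := by exact_mod_cast Nat.one_le_iff_ne_zero.2 hψ
  nlinarith [(Int.natCast_nonneg (dg ψ) : (0 : ℤ) ≤ dg ψ)]

/-- Characters on the extremal line. -/
theorem zero_mem [Fintype (IrrCharacter G)] {c : IrrCharacter G → ℕ} {n a b : ℤ}
    (h0 : ∑ χ : IrrCharacter G, (c χ : ℤ) * dg χ = n)
    (h1 : ∑ χ : IrrCharacter G, (c χ : ℤ) * uu (dg χ) = 22 * a)
    (h2 : ∑ χ : IrrCharacter G, (c χ : ℤ) * ww (dg χ) = 10 * b) (hn : n ≤ 462)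
    (hz : n + 230 * b = 231 * a) {ψ : IrrCharacter G} (hψ : c ψ ≠ 0) :
    dg ψ = 1 ∨ dg ψ = 230 ∨ dg ψ = 231 := by
  have h3 : ∑ χ : IrrCharacter G, (c χ : ℤ) * (2 * dg χ + 46 * ww (dg χ) - 21 * uu (dg χ)) = 0 := by
    have : ∑ χ : IrrCharacter G, (c χ : ℤ) * (2 * dg χ + 46 * ww (dg χ) - 21 * uu (dg χ)) =
        2 * ∑ χ : IrrCharacter G, (c χ : ℤ) * dg χ + 46 * ∑ χ : IrrCharacter G, (c χ : ℤ) * ww (dg χ)
          - 21 * ∑ χ : IrrCharacter G, (c χ : ℤ) * uu (dg χ) := by
      rw [Finset.mul_sum, Finset.mul_sum, Finset.mul_sum, ← Finset.sum_add_distrib,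
        ← Finset.sum_sub_distrib]
      exact Finset.sum_congr rfl fun χ _ => by ring
    rw [this, h0, h1, h2]
    linarith
  have h4 : ∀ χ ∈ (Finset.univ : Finset (IrrCharacter G)),
      0 ≤ (c χ : ℤ) * (2 * dg χ + 46 * ww (dg χ) - 21 * uu (dg χ)) := by
    intro χ _
    by_cases hχ : c χ = 0
    · rw [hχ]; simp
    · refine mul_nonneg (Int.natCast_nonneg _) (arith_zero _ (dg_mem_A H χ) ?_).1
      have := dg_le h0 hχ
      omega
  have h5 := (Finset.sum_eq_zero_iff_of_nonneg h4).1 h3 ψ (Finset.mem_univ ψ)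
  have h6 : (dg ψ : ℤ) ≤ n := dg_le h0 hψ
  refine (arith_zero _ (dg_mem_A H ψ) (by omega)).2 ?_
  rcases mul_eq_zero.1 h5 with h | h
  · exact absurd (by exact_mod_cast h) hψ
  · exact h

/-- The number of constituents of degrees 1, 230, 231. -/
theorem counts [Fintype (IrrCharacter G)] {c : IrrCharacter G → ℕ} {n a b : ℤ}
    (h0 : ∑ χ : IrrCharacter G, (c χ : ℤ) * dg χ = n)
    (h1 : ∑ χ : IrrCharacter G, (c χ : ℤ) * uu (dg χ) = 22 * a)
    (h2 : ∑ χ : IrrCharacter G, (c χ : ℤ) * ww (dg χ) = 10 * b) (hn : n ≤ 462)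
    (hz : n + 230 * b = 231 * a) : ∃ x y z : ℕ,
      (∀ ψ, c ψ ≠ 0 → dg ψ = 1 ∨ dg ψ = 230 ∨ dg ψ = 231) ∧
      (x = ∑ χ : IrrCharacter G with dg χ = 1, c χ) ∧
      (y = ∑ χ : IrrCharacter G with dg χ = 230, c χ) ∧
      (z = ∑ χ : IrrCharacter G with dg χ = 231, c χ) ∧
      (x : ℤ) + z = a ∧ (x : ℤ) - y = b := by
  have hm : ∀ ψ, c ψ ≠ 0 → dg ψ = 1 ∨ dg ψ = 230 ∨ dg ψ = 231 :=
    fun ψ hψ => zero_mem H h0 h1 h2 hn hz hψ
  refine ⟨_, _, _, hm, rfl, rfl, rfl, ?_, ?_⟩
  · have h3 : ∑ χ : IrrCharacter G, (c χ : ℤ) * uu (dg χ) =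
        22 * ∑ χ : IrrCharacter G with dg χ = 1, (c χ : ℤ) +
        22 * ∑ χ : IrrCharacter G with dg χ = 231, (c χ : ℤ) := by
      rw [Finset.sum_filter, Finset.sum_filter, Finset.mul_sum, Finset.mul_sum,
        ← Finset.sum_add_distrib]
      refine Finset.sum_congr rfl fun χ _ => ?_
      by_cases hχ : c χ = 0
      · rw [hχ]; simp
      · rcases hm χ hχ with h | h | h <;> rw [h] <;> norm_num [uu]
        · ring
        · ring
    rw [h3] at h1
    push_cast
    linarith
  · have h3 : ∑ χ : IrrCharacter G, (c χ : ℤ) * ww (dg χ) =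
        10 * ∑ χ : IrrCharacter G with dg χ = 1, (c χ : ℤ) -
        10 * ∑ χ : IrrCharacter G with dg χ = 230, (c χ : ℤ) := by
      rw [Finset.sum_filter, Finset.sum_filter, Finset.mul_sum, Finset.mul_sum,
        ← Finset.sum_sub_distrib]
      refine Finset.sum_congr rfl fun χ _ => ?_
      by_cases hχ : c χ = 0
      · rw [hχ]; simp
      · rcases hm χ hχ with h | h | h <;> rw [h] <;> norm_num [ww]
        · ring
        · ring
    rw [h3] at h2
    push_cast
    linarith

section parts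

variable {χ : IrrCharacter G}

/-- values of a character of degree 22 on the Sylow 23-subgroup -/
theorem val_P (hd : dg χ = 22) {x : G} (hx : x ∈ H.P) (hx1 : x ≠ 1) : (χ : G → ℂ) x = -1 := by
  have h1 : χ ∈ H.D.NE := mem_NE23 H (Or.inr (by rw [hd]))
  rw [H.D.val χ h1 x hx hx1]
  rcases mod23_NE H h1 with ⟨-, h⟩ | ⟨h, -⟩
  · rw [hd] at h; omega
  · rw [h]; norm_num

theorem out_Q (hd : dg χ % 11 = 0) {x : G} (hx : x ∈ H.Q) (hx1 : x ≠ 1) :
    (χ : G → ℂ) x = 0 := by
  refine H.E.out χ (fun h => ?_) (fun h => ?_) x hx hx1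
  · rcases mod11_NE H h with h | h <;> omega
  · rcases mod11_X H h with h | h <;> omega

theorem out_P (hd : dg χ % 23 = 0) {x : G} (hx : x ∈ H.P) (hx1 : x ≠ 1) :
    (χ : G → ℂ) x = 0 := by
  refine H.D.out χ (fun h => ?_) (fun h => ?_) x hx hx1
  · rcases mod23_NE H h with h | h <;> omega
  · rcases mod23_X H h with h | h <;> omega

/-- Values on the Sylow 11-subgroup of characters of degree `10 mod 11`. -/
theorem neg_Q (hd : dg χ % 11 = 10) {x : G} (hx : x ∈ H.Q) (hx1 : x ≠ 1) :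
    (χ : G → ℂ) x = -1 := by
  by_cases h1 : χ ∈ H.E.NE
  · rw [H.E.val χ h1 x hx hx1]
    rcases mod11_NE H h1 with ⟨-, h⟩ | ⟨h, -⟩
    · omega
    · rw [h]; norm_num
  · by_cases h2 : χ ∈ H.E.X
    · rcases mod11_X H h2 with ⟨h, -⟩ | ⟨-, h⟩
      · have h3 := H.E.val_X χ h2 ⟨x, hx⟩ (fun h' => hx1 (congrArg Subtype.val h'))
        have h4 : ∑ l ∈ H.E.S χ, ((l ⟨x, hx⟩ : ℂˣ) : ℂ) = -1 :=
          sum_hom_of_card (by norm_num : Nat.Prime 11) H.hQ (H.E.card_S χ h2)
            (H.E.one_notMem_S χ h2) (fun h' => hx1 (congrArg Subtype.val h'))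
        rw [h4, h] at h3
        rw [h3]; norm_num
      · omega
    · have := mod11_out H h1 h2; omega

omit H in
theorem sq_mem {p : ℕ} (hp : p.Prime) (hp2 : p ≠ 2) {P : Subgroup G} (hP : Nat.card P = p) {x : G}
    (hx : x ∈ P) (hx1 : x ≠ 1) : x * x ∈ P ∧ x * x ≠ 1 := by
  refine ⟨P.mul_mem hx hx, fun h => ?_⟩
  have h1 : orderOf x ∣ 2 := orderOf_dvd_of_pow_eq_one (by rw [pow_two]; exact h)
  have h2 : orderOf x ∣ p := by rw [← hP]; exact P.orderOf_dvd_natCard hx
  have h3 : orderOf x ∣ Nat.gcd 2 p := Nat.dvd_gcd h1 h2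
  rw [(Nat.coprime_primes Nat.prime_two hp).2 (Ne.symm hp2)] at h3
  exact hx1 (orderOf_eq_one_iff.1 (Nat.dvd_one.1 h3))

end parts

omit H in
theorem eq_zero_of_one {φ : G → ℂ} (hφ : IsCharacter G φ) (h1 : φ 1 = 0) (g : G) : φ g = 0 := by
  classical
  have := finite_irr (G := G)
  have := Fintype.ofFinite (IrrCharacter G)
  have := Fintype.ofFinite G
  obtain ⟨c, hc, -⟩ := Setup.exists_coeff hφ
  have h2 : ∑ χ : IrrCharacter G, c χ * dg χ = 0 := by
    have h3 := hc 1
    rw [h1] at h3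
    have h4 : ((∑ χ : IrrCharacter G, c χ * dg χ : ℕ) : ℂ) = 0 := by
      rw [h3]
      push_cast
      exact Finset.sum_congr rfl fun χ _ => by rw [dg_eq]
    exact_mod_cast h4
  rw [hc g]
  refine Finset.sum_eq_zero fun χ hχ => ?_
  have h3 := (Finset.sum_eq_zero_iff.1 h2) χ hχ
  rcases mul_eq_zero.1 h3 with h | h
  · rw [h]; simp
  · exact absurd h (dg_ne_zero χ)

omit H in
/-- Removing two different constituents. -/
theorem isCharacter_sub_two [Fintype G] {φ : G → ℂ} (hφ : IsCharacter G φ) {α β : IrrCharacter G}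
    (hab : α ≠ β) (ha : classInner φ (α : G → ℂ) ≠ 0) (hb : classInner φ (β : G → ℂ) ≠ 0) :
    IsCharacter G (fun g => φ g - (α : G → ℂ) g - (β : G → ℂ) g) := by
  classical
  have h1 := BTBasic.isCharacter_sub_sum hφ ({α, β} : Finset (IrrCharacter G)) (by
    intro χ hχ
    rcases Finset.mem_insert.1 hχ with h | h
    · rw [h]; exact ha
    · rw [Finset.mem_singleton.1 h]; exact hb)
  have h2 : φ - ∑ χ ∈ ({α, β} : Finset (IrrCharacter G)), (χ : G → ℂ) =
      fun g => φ g - (α : G → ℂ) g - (β : G → ℂ) g := by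
    rw [Finset.sum_pair hab]
    funext g
    simp only [Pi.sub_apply, Pi.add_apply]
    ring
  rwa [h2] at h1

omit H in
theorem isCharacter_sub_one [Fintype G] {φ : G → ℂ} (hφ : IsCharacter G φ) {α : IrrCharacter G}
    (ha : classInner φ (α : G → ℂ) ≠ 0) :
    IsCharacter G (fun g => φ g - (α : G → ℂ) g) := by
  classical
  have h1 := BTBasic.isCharacter_sub_sum hφ ({α} : Finset (IrrCharacter G)) (by
    intro χ hχ
    rw [Finset.mem_singleton.1 hχ]; exact ha)
  rw [Finset.sum_singleton] at h1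
  exact h1

omit H in
theorem eq_of_mem [Fintype G] {φ : G → ℂ} (hφ : IsCharacter G φ) {α : IrrCharacter G}
    (h : classInner φ (α : G → ℂ) ≠ 0) (h1 : φ 1 = dg α) (g : G) : φ g = (α : G → ℂ) g := by
  have h2 := eq_zero_of_one (isCharacter_sub_one hφ h) (by
    show φ 1 - (α : G → ℂ) 1 = 0
    rw [h1, dg_eq, sub_self]) g
  exact sub_eq_zero.1 h2

theorem cases {χ : IrrCharacter G} (hd : dg χ = 22) (hr : ∀ g, conj ((χ : G → ℂ) g) = (χ : G → ℂ) g) :
    (∃ α β : IrrCharacter G, dg α = 231 ∧ dg β = 252 ∧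
      (∀ g, (α : G → ℂ) g = ((χ : G → ℂ) g ^ 2 - (χ : G → ℂ) (g * g)) / 2) ∧
      ∀ g, (β : G → ℂ) g = ((χ : G → ℂ) g ^ 2 + (χ : G → ℂ) (g * g)) / 2 - 1) ∨
    ∃ ψ : IrrCharacter G, dg ψ = 230 ∧
      ((∀ g, (ψ : G → ℂ) g = ((χ : G → ℂ) g ^ 2 - (χ : G → ℂ) (g * g)) / 2 - 1) ∨
      ∃ ρ : G → ℂ, IsCharacter G ρ ∧ ρ 1 = 22 ∧
        (∀ g, (ψ : G → ℂ) g = ((χ : G → ℂ) g ^ 2 + (χ : G → ℂ) (g * g)) / 2 - 1 - ρ g) ∧
        ((∀ g, ρ g = (χ : G → ℂ) g) ∨ ∀ g, (∀ α : IrrCharacter G, dg α = 231 → (α : G → ℂ) g = 0) →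
          (χ : G → ℂ) g * ρ g = (χ : G → ℂ) g)) := by
  classical
  have := finite_irr (G := G)
  have := Fintype.ofFinite (IrrCharacter G)
  have := Fintype.ofFinite G
  have hχ := isIrr_isCharacter χ.2
  have hT1 : dg H.D.one = 1 := dg_one H
  have hTc : ∀ g, (H.D.one : G → ℂ) g = 1 := fun g => by rw [H.D.coe_one]; rfl
  have hone : (χ : G → ℂ) 1 = 22 := by rw [dg_eq, hd]; norm_num
  set S : G → ℂ := fun g => ((χ : G → ℂ) g ^ 2 + (χ : G → ℂ) (g * g)) / 2 with hS
  set A' : G → ℂ := fun g => ((χ : G → ℂ) g ^ 2 - (χ : G → ℂ) (g * g)) / 2 with hA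
  have hSc : IsCharacter G S := PermChar.SymAlt.isCharacter_symSq hχ
  have hAc : IsCharacter G A' := PermChar.SymAlt.isCharacter_altSq hχ
  obtain ⟨cS, hcS, hcS'⟩ := Setup.exists_coeff hSc
  obtain ⟨cA, hcA, hcA'⟩ := Setup.exists_coeff hAc
  -- values on `P` and `Q`
  have hPv : ∀ x ∈ H.P, x ≠ 1 → (χ : G → ℂ) x = -1 ∧ (χ : G → ℂ) (x * x) = -1 := by
    intro x hx hx1
    obtain ⟨h1, h2⟩ := sq_mem (by norm_num : Nat.Prime 23) (by norm_num) H.hP hx hx1
    exact ⟨val_P H hd hx hx1, val_P H hd h1 h2⟩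
  have hQv : ∀ x ∈ H.Q, x ≠ 1 → (χ : G → ℂ) x = 0 ∧ (χ : G → ℂ) (x * x) = 0 := by
    intro x hx hx1
    obtain ⟨h1, h2⟩ := sq_mem (by norm_num : Nat.Prime 11) (by norm_num) H.hQ hx hx1
    exact ⟨out_Q H (by rw [hd]) hx hx1, out_Q H (by rw [hd]) h1 h2⟩
  have hSP : ∀ x ∈ H.P, x ≠ 1 → S x = 0 := by
    intro x hx hx1
    rw [hS]; simp only; rw [(hPv x hx hx1).1, (hPv x hx hx1).2]; norm_num
  have hAP : ∀ x ∈ H.P, x ≠ 1 → A' x = 1 := by
    intro x hx hx1
    rw [hA]; simp only; rw [(hPv x hx hx1).1, (hPv x hx hx1).2]; norm_num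
  have hSQ : ∀ x ∈ H.Q, x ≠ 1 → S x = 0 := by
    intro x hx hx1
    rw [hS]; simp only; rw [(hQv x hx hx1).1, (hQv x hx hx1).2]; norm_num
  have hAQ : ∀ x ∈ H.Q, x ≠ 1 → A' x = 0 := by
    intro x hx hx1
    rw [hA]; simp only; rw [(hQv x hx hx1).1, (hQv x hx hx1).2]; norm_num
  have hS1 : S 1 = 253 := by rw [hS]; simp only [mul_one]; rw [hone]; norm_num
  have hA1 : A' 1 = 231 := by rw [hA]; simp only [mul_one]; rw [hone]; norm_num
  have hSA : S + A' = fun g => (χ : G → ℂ) g ^ 2 := by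
    funext g; rw [hS, hA]; simp only [Pi.add_apply]; ring
  -- the trivial character
  have htr : cS H.D.one + cA H.D.one = 1 := by
    have h1 : classInner (S + A') (H.D.one : G → ℂ) = 1 := by
      rw [← classInner_irr_self χ.2, classInner_def, classInner_def, hSA]
      congr 1
      refine Finset.sum_congr rfl fun g _ => ?_
      rw [hTc, map_one, mul_one, hr]
      exact pow_two _
    rw [classInner_add_left, hcS', hcA'] at h1
    exact_mod_cast h1
  have hone_iff : ∀ ψ : IrrCharacter G, dg ψ = 1 ↔ ψ = H.D.one :=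
    fun ψ => ⟨fun h => eq_one_of_dg H h, fun h => by rw [h]; exact hT1⟩
  have hfilt : ∀ c : IrrCharacter G → ℕ, ∑ ψ : IrrCharacter G with dg ψ = 1, c ψ = c H.D.one := by
    intro c
    rw [Finset.sum_filter, Finset.sum_eq_single H.D.one, if_pos hT1]
    · intro ψ _ h
      rw [if_neg (fun h' => h ((hone_iff ψ).1 h'))]
    · intro h; exact absurd (Finset.mem_univ _) h
  obtain ⟨a0, a1, a2⟩ := eqs H hcA (n := 231) (a := 1) (b := 0) (by rw [hA1]; norm_num)
    (fun x hx hx1 => by rw [hAP x hx hx1]; norm_num) (fun x hx hx1 => by rw [hAQ x hx hx1]; norm_num)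
  obtain ⟨x, y, z, hm, hx, hy, hz, e1, e2⟩ := counts H a0 a1 a2 (by norm_num) (by norm_num)
  rw [hfilt] at hx
  by_cases hx0 : x = 0
  · -- the alternating square is irreducible
    have hz1 : z = 1 := by omega
    obtain ⟨α, hα, hα0⟩ := Finset.exists_ne_zero_of_sum_ne_zero (by rw [← hz, hz1]; norm_num)
    rw [Finset.mem_filter] at hα
    have hAα : ∀ g, A' g = (α : G → ℂ) g :=
      eq_of_mem hAc (by rw [hcA']; exact_mod_cast hα0) (by rw [hA1, hα.2]; norm_num)
    have hST : cS H.D.one = 1 := by omega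
    obtain ⟨s0, s1, s2⟩ := eqs H hcS (n := 253) (a := 0) (b := 0) (by rw [hS1]; norm_num)
      (fun x hx hx1 => by rw [hSP x hx hx1]; norm_num)
      (fun x hx hx1 => by rw [hSQ x hx hx1]; norm_num)
    obtain ⟨ψ, hψ0, hψw⟩ : ∃ ψ, cS ψ ≠ 0 ∧ ww (dg ψ) < 0 := by
      by_contra hcon
      push Not at hcon
      have h1 : ∀ ψ ∈ (Finset.univ : Finset (IrrCharacter G)), 0 ≤ (cS ψ : ℤ) * ww (dg ψ) := by
        intro ψ _
        by_cases h : cS ψ = 0
        · rw [h]; simp
        · exact mul_nonneg (Int.natCast_nonneg _) (hcon ψ h)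
      have h2 := (Finset.sum_eq_zero_iff_of_nonneg h1).1 (by rw [s2]; norm_num) H.D.one
        (Finset.mem_univ _)
      rw [hST, hT1] at h2
      norm_num [ww] at h2
    have hψd : dg ψ = 230 ∨ dg ψ = 252 := by
      have h1 := dg_le s0 hψ0
      exact arith_neg _ (dg_mem_A H ψ) (by omega) hψw
    have hne : H.D.one ≠ ψ := by
      rintro rfl
      rw [hT1] at hψd; omega
    have hρc := isCharacter_sub_two hSc hne (by rw [hcS', hST]; norm_num)
      (by rw [hcS']; exact_mod_cast hψ0)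
    rcases hψd with hψd | hψd
    · -- degree 230
      right
      refine ⟨ψ, hψd, Or.inr ⟨_, hρc, ?_, fun g => ?_, ?_⟩⟩
      · rw [hS1, hTc, dg_eq, hψd]; norm_num
      · rw [hTc]; ring
      · set ρ : G → ℂ := fun g => S g - (H.D.one : G → ℂ) g - (ψ : G → ℂ) g with hρ
        have hρ1 : ρ 1 = 22 := by rw [hρ]; simp only; rw [hS1, hTc, dg_eq, hψd]; norm_num
        have hρP : ∀ x ∈ H.P, x ≠ 1 → ρ x = -1 := by
          intro x hx hx1
          rw [hρ]; simp only; rw [hSP x hx hx1, hTc, out_P H (by rw [hψd]) hx hx1]; norm_num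
        have hprod : IsCharacter G (fun g => (χ : G → ℂ) g * ρ g) := isCharacter_mul hχ hρc
        have hin : classInner (fun g => (χ : G → ℂ) g * ρ g) (χ : G → ℂ) ≠ 0 := by
          have h1 : classInner (fun g => (χ : G → ℂ) g * ρ g) (χ : G → ℂ) =
              classInner ρ ρ + (classInner ρ (H.D.one : G → ℂ) + classInner ρ (ψ : G → ℂ) +
                classInner ρ A') := by
            rw [← classInner_add_right, ← classInner_add_right, ← classInner_add_right,
              classInner_def, classInner_def]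
            congr 1
            refine Finset.sum_congr rfl fun g _ => ?_
            have h2 : (ρ + ((H.D.one : G → ℂ) + (ψ : G → ℂ) + A')) g = (χ : G → ℂ) g ^ 2 := by
              rw [← congrFun hSA g]
              simp only [Pi.add_apply, hρ]
              ring
            rw [h2, map_pow, hr]
            ring
          obtain ⟨n1, h2⟩ := classInner_isNat hρc (isIrr_isCharacter H.D.one.2)
          obtain ⟨n2, h3⟩ := classInner_isNat hρc (isIrr_isCharacter ψ.2)
          obtain ⟨n3, h4⟩ := classInner_isNat hρc hAc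
          obtain ⟨n4, h5⟩ := classInner_isNat hρc hρc
          have h6 : n4 ≠ 0 := by
            rintro rfl
            rw [Nat.cast_zero] at h5
            have := classInner_self_eq_zero h5
            rw [this] at hρ1
            norm_num at hρ1
          rw [h1, h2, h3, h4, h5]
          have h7 : n4 + (n1 + n2 + n3) ≠ 0 := by omega
          exact_mod_cast h7
        have hΦ := isCharacter_sub_one hprod hin
        obtain ⟨c, hc, hc'⟩ := Setup.exists_coeff hΦ
        obtain ⟨f0, f1, f2⟩ := eqs H hc (n := 462) (a := 2) (b := 0)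
          (by rw [hone, hρ1]; norm_num)
          (fun x hx hx1 => by rw [(hPv x hx hx1).1, hρP x hx hx1]; norm_num)
          (fun x hx hx1 => by rw [(hQv x hx hx1).1]; norm_num)
        obtain ⟨x', y', z', hm', hx', hy', hz', g1, g2⟩ := counts H f0 f1 f2 (by norm_num)
          (by norm_num)
        rw [hfilt] at hx'
        by_cases hx0' : x' = 0
        · right
          intro g hg
          have hy0 : y' = 0 := by omega
          have h1 := hc g
          rw [Finset.sum_eq_zero] at h1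
          · exact sub_eq_zero.1 h1
          · intro θ _
            by_cases hθ : c θ = 0
            · rw [hθ]; simp
            · rcases hm' θ hθ with h | h | h
              · exfalso
                rw [(hone_iff θ).1 h] at hθ
                omega
              · exfalso
                rw [hy0] at hy'
                have := (Finset.sum_eq_zero_iff.1 hy'.symm) θ (by
                  rw [Finset.mem_filter]; exact ⟨Finset.mem_univ _, h⟩)
                exact hθ this
              · rw [hg θ h, mul_zero]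
        · left
          refine eq_of_mem hρc ?_ (by rw [hρ1, hd]; norm_num)
          have h1 : classInner ρ (χ : G → ℂ) =
              classInner (fun g => (χ : G → ℂ) g * ρ g - (χ : G → ℂ) g) (H.D.one : G → ℂ) +
                classInner (χ : G → ℂ) (H.D.one : G → ℂ) := by
            rw [← classInner_add_left, classInner_def, classInner_def]
            congr 1
            refine Finset.sum_congr rfl fun g _ => ?_
            rw [Pi.add_apply, hTc, map_one, hr]
            ring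
          have h2 : classInner (χ : G → ℂ) (H.D.one : G → ℂ) = 0 := by
            refine classInner_irr_ne χ.2 H.D.one.2 fun h => ?_
            have h3 : χ = H.D.one := Subtype.ext h
            rw [h3, hT1] at hd
            omega
          rw [h1, h2, hc', add_zero]
          intro h
          apply hx0'
          rw [hx']
          exact_mod_cast h
    · -- degree 252
      left
      refine ⟨α, ψ, hα.2, hψd, fun g => (hAα g).symm, fun g => ?_⟩
      have h1 := eq_zero_of_one hρc (by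
        show S 1 - (H.D.one : G → ℂ) 1 - (ψ : G → ℂ) 1 = 0
        rw [hS1, hTc, dg_eq, hψd]; norm_num) g
      rw [hTc] at h1
      exact (sub_eq_zero.1 h1).symm
  · -- the alternating square contains the trivial character
    right
    have hx1 : x = 1 := by omega
    have hy1 : y = 1 := by omega
    obtain ⟨ψ, hψ, hψ0⟩ := Finset.exists_ne_zero_of_sum_ne_zero (by rw [← hy, hy1]; norm_num)
    rw [Finset.mem_filter] at hψ
    refine ⟨ψ, hψ.2, Or.inl fun g => ?_⟩
    have hne : H.D.one ≠ ψ := by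
      rintro rfl
      rw [hT1] at hψ; omega
    have h1 := isCharacter_sub_two hAc hne (by rw [hcA', ← hx, hx1]; norm_num)
      (by rw [hcA']; exact_mod_cast hψ0)
    have h2 := eq_zero_of_one h1 (by
      show A' 1 - (H.D.one : G → ℂ) 1 - (ψ : G → ℂ) 1 = 0
      rw [hA1, hTc, dg_eq, hψ.2]; norm_num) g
    rw [hTc] at h2
    exact (sub_eq_zero.1 h2).symm

end Cfsg.Agent.SporadicA.M24.Square
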