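import Cfsg.Agent.SporadicA.M24.Square
import Cfsg.Agent.SporadicA.M24.ColSix
import Cfsg.Agent.SporadicA.M24.YStar

/-!
# The character of degree 22: consequences of the squares for the involutions of `K₇`
-/

set_option autoImplicit false
set_option linter.unusedSectionVars false

open Cfsg Subgroup
open Cfsg.Agent.Characters.Core
open Cfsg.Agent.SmallSimple
open Cfsg.Agent.SmallSimple.FlatBlock
open Cfsg.Agent.M23Order.Base
open Cfsg.Agent.SporadicA.M24.Setup Cfsg.Agent.SporadicA.M24.Seven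
open Cfsg.Agent.SporadicA.M24.Square Cfsg.Agent.SporadicA.M24.Col
open scoped ComplexConjugate

namespace Cfsg.Agent.SporadicA.M24.SquareEnd

universe u

variable {G : Type u} [Group G] [Finite G] [IsSimpleGroup G] (H : Hyp G)

include H

/-- There is no irreducible character of degree 12. -/
theorem dg_ne_twelve (χ : IrrCharacter G) : dg χ ≠ 12 := by
  classical
  intro hχ
  have := finite_irr (G := G)
  have := Fintype.ofFinite (IrrCharacter G)
  have := Fintype.ofFinite G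
  have := Fintype.ofFinite (H.P : Subgroup G)
  have := Fintype.ofFinite (H.Q : Subgroup G)
  have hX : χ ∈ H.D.X := mem_X23 H (Or.inr (by rw [hχ]))
  have hd : H.D.d = -1 := by
    rcases mod23_X H hX with h | h
    · rw [hχ] at h; omega
    · exact h.1
  have hφ := isCharacter_mul (isIrr_isCharacter χ.2) (isCharacter_conj (isIrr_isCharacter χ.2))
  obtain ⟨c, hc, -⟩ := Setup.exists_coeff hφ
  -- the restriction to `P`
  have hval : ∀ x : (H.P : Subgroup G), x ≠ 1 →
      (χ : G → ℂ) x = - ∑ l ∈ H.D.S χ, ((l x : ℂˣ) : ℂ) := by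
    intro x hx
    have := H.D.val_X χ hX x hx
    rw [this, hd]; push_cast; ring
  have hinner : ∑ x : (H.P : Subgroup G), (∑ l ∈ H.D.S χ, ((l x : ℂˣ) : ℂ)) *
      conj (∑ l ∈ H.D.S χ, ((l x : ℂˣ) : ℂ)) = 253 := by
    calc ∑ x : (H.P : Subgroup G), (∑ l ∈ H.D.S χ, ((l x : ℂˣ) : ℂ)) *
          conj (∑ l ∈ H.D.S χ, ((l x : ℂˣ) : ℂ))
        = ∑ x : (H.P : Subgroup G), ∑ l ∈ H.D.S χ, ∑ l' ∈ H.D.S χ,
            ((l x : ℂˣ) : ℂ) * conj ((l' x : ℂˣ) : ℂ) := by
          refine Finset.sum_congr rfl fun x _ => ?_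
          rw [map_sum, Finset.sum_mul_sum]
      _ = ∑ l ∈ H.D.S χ, ∑ l' ∈ H.D.S χ, ∑ x : (H.P : Subgroup G),
            ((l x : ℂˣ) : ℂ) * conj ((l' x : ℂˣ) : ℂ) := by
          rw [Finset.sum_comm]
          exact Finset.sum_congr rfl fun l _ => Finset.sum_comm
      _ = ∑ l ∈ H.D.S χ, (23 : ℂ) := by
          refine Finset.sum_congr rfl fun l hl => ?_
          have : ∀ l' ∈ H.D.S χ, ∑ x : (H.P : Subgroup G),
              ((l x : ℂˣ) : ℂ) * conj ((l' x : ℂˣ) : ℂ) = if l = l' then 23 else 0 := by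
            intro l' _
            rw [PrimeDual.sum_hom_mul_conj l l']
            have hP' : Nat.card (H.P : Subgroup G) = 23 := H.hP
            rw [hP']
            norm_num
          rw [Finset.sum_congr rfl this, Finset.sum_ite_eq, if_pos hl]
      _ = 253 := by
          rw [Finset.sum_const, H.D.card_S χ hX]; norm_num
  have hsumP : ∑ x : (H.P : Subgroup G), (χ : G → ℂ) x * conj ((χ : G → ℂ) x) = 276 := by
    rw [← Finset.add_sum_erase _ _ (Finset.mem_univ 1)] at hinner ⊢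
    have h1 : ∑ x ∈ Finset.univ.erase (1 : (H.P : Subgroup G)),
        (χ : G → ℂ) x * conj ((χ : G → ℂ) x) =
        ∑ x ∈ Finset.univ.erase (1 : (H.P : Subgroup G)), (∑ l ∈ H.D.S χ, ((l x : ℂˣ) : ℂ)) *
          conj (∑ l ∈ H.D.S χ, ((l x : ℂˣ) : ℂ)) := by
      refine Finset.sum_congr rfl fun x hx => ?_
      rw [hval x (Finset.ne_of_mem_erase hx), map_neg]
      ring
    rw [h1]
    have h2 : ∑ l ∈ H.D.S χ, ((l 1 : ℂˣ) : ℂ) = 11 := by
      simp only [map_one, Units.val_one, Finset.sum_const, nsmul_eq_mul, mul_one]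
      rw [H.D.card_S χ hX]; norm_num
    rw [h2] at hinner
    have h3 := eq_sub_of_add_eq' hinner
    rw [h3, OneMemClass.coe_one, dg_eq, hχ, Complex.conj_natCast, map_ofNat]
    norm_num
  have hQv : ∀ x ∈ H.Q, x ≠ 1 → (χ : G → ℂ) x = 1 := by
    intro x hx hx1
    by_cases h1 : χ ∈ H.E.NE
    · rw [H.E.val χ h1 x hx hx1]
      rcases mod11_NE H h1 with ⟨h, -⟩ | ⟨-, h⟩
      · rw [h]; norm_num
      · rw [hχ] at h; omega
    · by_cases h2 : χ ∈ H.E.X
      · rcases mod11_X H h2 with ⟨-, h⟩ | ⟨h, -⟩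
        · rw [hχ] at h; omega
        · have h3 := H.E.val_X χ h2 ⟨x, hx⟩ (fun h' => hx1 (congrArg Subtype.val h'))
          have h4 : ∑ l ∈ H.E.S χ, ((l ⟨x, hx⟩ : ℂˣ) : ℂ) = -1 :=
            sum_hom_of_card (by norm_num : Nat.Prime 11) H.hQ (H.E.card_S χ h2)
              (H.E.one_notMem_S χ h2) (fun h' => hx1 (congrArg Subtype.val h'))
          rw [h4, h] at h3
          rw [h3]; norm_num
      · have := mod11_out H h1 h2; rw [hχ] at this; omega
  have f11 : Fact (Nat.Prime 11) := ⟨by norm_num⟩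
  have hsumQ : ∑ x : (H.Q : Subgroup G), (χ : G → ℂ) x * conj ((χ : G → ℂ) x) = 154 := by
    have h1 := sum_off (p := 11) (H.Q : Subgroup G) H.hQ
      (φ := fun x => (χ : G → ℂ) x * conj ((χ : G → ℂ) x)) (a := 1)
      (fun x hx hx1 => by rw [hQv x hx hx1, map_one, mul_one])
    rw [h1, dg_eq, hχ, Complex.conj_natCast]
    norm_num
  -- the equations
  have e0 : ∑ ψ : IrrCharacter G, (c ψ : ℂ) * dg ψ = 144 := by
    have h1 := hc 1
    have h2 : ∑ ψ : IrrCharacter G, (c ψ : ℂ) * (ψ : G → ℂ) 1 =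
        ∑ ψ : IrrCharacter G, (c ψ : ℂ) * dg ψ := Finset.sum_congr rfl fun ψ _ => by rw [dg_eq]
    rw [← h2, ← h1]
    simp only [Pi.mul_apply]
    rw [dg_eq, hχ, Complex.conj_natCast]
    norm_num
  have e1 : ∑ ψ : IrrCharacter G, (c ψ : ℂ) * (dg ψ + ((uu (dg ψ) : ℤ) : ℂ)) = 276 := by
    rw [← hsumP]
    have h1 : ∑ x : (H.P : Subgroup G), (χ : G → ℂ) x * conj ((χ : G → ℂ) x) =
        ∑ x : (H.P : Subgroup G), ∑ ψ : IrrCharacter G, (c ψ : ℂ) * (ψ : G → ℂ) (x : G) :=
      Finset.sum_congr rfl fun x _ => hc (x : G)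
    rw [h1, Finset.sum_comm]
    refine Finset.sum_congr rfl fun ψ _ => ?_
    rw [← sum_P H ψ, Finset.mul_sum]
  have e2 : ∑ ψ : IrrCharacter G, (c ψ : ℂ) * (dg ψ + ((ww (dg ψ) : ℤ) : ℂ)) = 154 := by
    rw [← hsumQ]
    have h1 : ∑ x : (H.Q : Subgroup G), (χ : G → ℂ) x * conj ((χ : G → ℂ) x) =
        ∑ x : (H.Q : Subgroup G), ∑ ψ : IrrCharacter G, (c ψ : ℂ) * (ψ : G → ℂ) (x : G) :=
      Finset.sum_congr rfl fun x _ => hc (x : G)
    rw [h1, Finset.sum_comm]
    refine Finset.sum_congr rfl fun ψ _ => ?_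
    rw [← sum_Q H ψ, Finset.mul_sum]
  have e0' : ∑ ψ : IrrCharacter G, (c ψ : ℤ) * dg ψ = 144 := by exact_mod_cast e0
  have e3 : ∑ ψ : IrrCharacter G, (c ψ : ℤ) * (2 * dg ψ + 46 * ww (dg ψ) - 21 * uu (dg ψ)) =
      -2024 := by
    have h1 : ∑ ψ : IrrCharacter G, (c ψ : ℂ) *
        (2 * dg ψ + 46 * ((ww (dg ψ) : ℤ) : ℂ) - 21 * ((uu (dg ψ) : ℤ) : ℂ)) = -2024 := by
      have h2 : ∑ ψ : IrrCharacter G, (c ψ : ℂ) *
          (2 * dg ψ + 46 * ((ww (dg ψ) : ℤ) : ℂ) - 21 * ((uu (dg ψ) : ℤ) : ℂ)) =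
          46 * ∑ ψ : IrrCharacter G, (c ψ : ℂ) * (dg ψ + ((ww (dg ψ) : ℤ) : ℂ)) -
          21 * ∑ ψ : IrrCharacter G, (c ψ : ℂ) * (dg ψ + ((uu (dg ψ) : ℤ) : ℂ)) -
          23 * ∑ ψ : IrrCharacter G, (c ψ : ℂ) * dg ψ := by
        rw [Finset.mul_sum, Finset.mul_sum, Finset.mul_sum, ← Finset.sum_sub_distrib,
          ← Finset.sum_sub_distrib]
        exact Finset.sum_congr rfl fun ψ _ => by ring
      rw [h2, e0, e1, e2]
      norm_num
    exact_mod_cast h1
  have e4 : 0 ≤ ∑ ψ : IrrCharacter G,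
      (c ψ : ℤ) * (2 * dg ψ + 46 * ww (dg ψ) - 21 * uu (dg ψ)) := by
    refine Finset.sum_nonneg fun ψ _ => ?_
    by_cases hψ : c ψ = 0
    · rw [hψ]; simp
    · refine mul_nonneg (Int.natCast_nonneg _) (arith_zero _ (dg_mem_A H ψ) ?_).1
      have := dg_le e0' hψ
      omega
  omega

variable {S : Sylow 7 G} {K : Subgroup G} {M : Ideal AlgInt} {B : Finset (IrrCharacter G)}
  {ε : IrrCharacter G → ℤ} {l : List (IrrCharacter G)} {b : IrrCharacter G}

/-- The two cases for the column of an involution of `K₇`. -/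
theorem two_cases (h7 : B7six S K M B ε l b) {χ : IrrCharacter G} (hχ : χ ∈ B) (hd : dg χ = 22)
    (hε : ε χ = 1) (hu : ∀ ψ ∈ B, dg ψ = dg χ → ψ = χ) {t : G} (ht : t ∈ K)
    {v : IrrCharacter G → ℤ} (hv : Column t v) :
    v χ = -6 ∧ ((∃ α β : IrrCharacter G, dg α = 231 ∧ dg β = 252 ∧ v α = 7 ∧ v β = 28) ∨
      ∃ ψ ∈ B, dg ψ = 230 ∧ ε ψ = -1 ∧ (v ψ = 6 ∨ v ψ = 34)) := by
  classical
  have f7 : Fact (Nat.Prime 7) := ⟨by norm_num⟩
  have hS := card_seven H S
  have hloc := h7.loc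
  have hint : ∀ g, ∃ z : ℤ, (χ : G → ℂ) g = z :=
    fun g => SixD0.exists_int_of_unique hloc.toFlat hχ hu g
  have hr : ∀ g, conj ((χ : G → ℂ) g) = (χ : G → ℂ) g := by
    intro g
    obtain ⟨z, hz⟩ := hint g
    rw [hz, map_intCast]
  have hone : (χ : G → ℂ) 1 = 22 := by rw [dg_eq, hd]; norm_num
  have htC : t ∈ centralizer (S : Set G) := hloc.loc.le_centralizer ht
  have ht7 : ¬ 7 ∣ orderOf t := hv.not_dvd (by norm_num) (by norm_num)
  have hvχ : v χ = -6 := by
    have h1 := hloc.toFlat.val_modEq hS hχ htC ht7 (hv.val χ)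
    rw [hε] at h1
    have hne : χ ≠ tr G := by rintro rfl; rw [dg_tr] at hd; omega
    have h2 := hv.mod4 χ hne
    have h3 := hv.lt χ hne
    rw [hd] at h2 h3
    rw [abs_lt] at h3
    have h4 := h1.dvd
    push_cast at h2 h3
    omega
  refine ⟨hvχ, ?_⟩
  have hχt : (χ : G → ℂ) t = -6 := by rw [hv.val χ, hvχ]; norm_num
  rcases cases H hd hr with ⟨α, β, hα, hβ, hα', hβ'⟩ | ⟨ψ, hψd, hψ⟩
  · left
    refine ⟨α, β, hα, hβ, ?_, ?_⟩
    · have h1 := hα' t
      rw [hv.val α, hχt, hv.sq, hone] at h1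
      have h2 : (v α : ℂ) = ((7 : ℤ) : ℂ) := by rw [h1]; norm_num
      exact_mod_cast h2
    · have h1 := hβ' t
      rw [hv.val β, hχt, hv.sq, hone] at h1
      have h2 : (v β : ℂ) = ((28 : ℤ) : ℂ) := by rw [h1]; norm_num
      exact_mod_cast h2
  · right
    -- the values on the 7-singular elements
    have hχv : ∀ x ∈ (S : Subgroup G), x ≠ 1 → ∀ k ∈ K, (χ : G → ℂ) (x * k) = 1 ∧
        (χ : G → ℂ) (x * k * (x * k)) = 1 := by
      intro x hx hx1 k hk
      have hkC := hloc.loc.le_centralizer hk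
      have hk7 : ∀ k ∈ K, ¬ 7 ∣ orderOf k := fun k hk => by
        have h1 := (BlockAvg.isReg_of_isLocal hloc.loc k).1 hk
        exact h1.2
      have h1 := hloc.toFlat.val χ hχ x hx hx1 k hkC (hk7 k hk)
      rw [hε] at h1
      obtain ⟨h2, h3⟩ := sq_mem (by norm_num : Nat.Prime 7) (by norm_num) hS hx hx1
      have h4 := hloc.toFlat.val χ hχ (x * x) h2 h3 (k * k)
        (hloc.loc.le_centralizer (K.mul_mem hk hk)) (hk7 _ (K.mul_mem hk hk))
      rw [hε] at h4
      have hc : x * k = k * x := mem_centralizer_iff.1 hkC x hx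
      have h5 : x * k * (x * k) = x * x * (k * k) := by
        calc x * k * (x * k) = x * (k * x) * k := by group
          _ = x * (x * k) * k := by rw [hc]
          _ = x * x * (k * k) := by group
      rw [h5]
      exact ⟨by rw [h1]; norm_num, by rw [h4]; norm_num⟩
    have hψv : ∀ x ∈ (S : Subgroup G), x ≠ 1 → ∀ k ∈ K, (ψ : G → ℂ) (x * k) = -1 := by
      intro x hx hx1 k hk
      obtain ⟨h1, h2⟩ := hχv x hx hx1 k hk
      rcases hψ with h | ⟨ρ, -, -, h, h'⟩
      · rw [h, h1, h2]; norm_num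
      · have h3 : ρ (x * k) = 1 := by
          rcases h' with h' | h'
          · rw [h', h1]
          · have h4 := h' (x * k) (fun α hα => by
              refine KBlock.eq_zero_of_defect_zero α (by norm_num : Nat.Prime 7) (n := 1) ?_ ?_ ?_ ?_
              · rw [H.hcard]; norm_num
              · rw [H.hcard]; norm_num
              · rw [pow_one]
                change 7 ∣ dg α
                rw [hα]; norm_num
              · have hkC := hloc.loc.le_centralizer hk
                have hk7 : ¬ 7 ∣ orderOf k := ((BlockAvg.isReg_of_isLocal hloc.loc k).1 hk).2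
                have hox := Cfsg.Agent.Blocks.CyclicOrtho.orderOf_eq S hS hx hx1
                have hc : Commute x k := mem_centralizer_iff.1 hkC x hx
                rw [hc.orderOf_mul_eq_mul_orderOf_of_coprime, hox]
                · exact dvd_mul_right _ _
                · rw [hox]
                  exact (Nat.Prime.coprime_iff_not_dvd (by norm_num)).2 hk7)
            rw [h1, one_mul] at h4
            exact h4
        rw [h, h1, h2, h3]; norm_num
    obtain ⟨x, hx, hx1⟩ : ∃ x ∈ (S : Subgroup G), x ≠ 1 := by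
      by_contra hcon
      push Not at hcon
      have h1 : (S : Subgroup G) = ⊥ := (Subgroup.eq_bot_iff_forall _).2 hcon
      have h2 : Nat.card (S : Subgroup G) = 7 := hS
      rw [h1] at h2
      simp at h2
    have hψB : ψ ∈ B := by
      have := Fintype.ofFinite K
      rw [← hloc.toFlat.mem_iff]
      by_contra hcon
      have h1 := BlockAvg.sum_eq_zero S hS hloc.modular hx hx1
        (BlockAvg.isReg_of_isLocal hloc.loc) hcon
      have h0 : ∑ k : K, (ψ : G → ℂ) (x * k) = ∑ _k : K, (-1 : ℂ) :=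
        Finset.sum_congr rfl fun k _ => hψv x hx hx1 k k.2
      rw [h0, Finset.sum_const, nsmul_eq_mul] at h1
      have h2 : ((Finset.univ : Finset K).card : ℂ) = 0 := by
        linear_combination -h1
      rw [Finset.card_univ, Nat.cast_eq_zero, Fintype.card_eq_zero_iff] at h2
      exact h2.elim 1
    have hψε : ε ψ = -1 := by
      have h1 := hloc.toFlat.val' hψB hx hx1
      have h2 := hψv x hx hx1 1 K.one_mem
      rw [mul_one, h1] at h2
      exact_mod_cast h2
    refine ⟨ψ, hψB, hψd, hψε, ?_⟩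
    have hne : ψ ≠ tr G := by rintro rfl; rw [dg_tr] at hψd; omega
    have h1 := hloc.toFlat.val_modEq hS hψB htC ht7 (hv.val ψ)
    have h2 := hv.mod4 ψ hne
    rw [hψε] at h1
    rw [hψd] at h2
    have h3 := h1.dvd
    push_cast at h2
    have h4 : 6 ≤ v ψ ∧ v ψ ≤ 50 := by
      rcases hψ with h | ⟨ρ, hρ, hρ1, h, -⟩
      · have h5 := h t
        rw [hv.val ψ, hχt, hv.sq, hone] at h5
        have h6 : (v ψ : ℂ) = ((6 : ℤ) : ℂ) := by rw [h5]; norm_num
        have h7 : v ψ = 6 := by exact_mod_cast h6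
        omega
      · have h5 := h t
        rw [hv.val ψ, hχt, hv.sq, hone] at h5
        have h6 : ρ t = ((28 - v ψ : ℤ) : ℂ) := by
          push_cast
          rw [h5]; ring
        have h7 := Characters.SchurBound.norm_le hρ (n := 22) (by rw [hρ1]; norm_num) t
        rw [h6, Complex.norm_intCast] at h7
        have h8 : |28 - v ψ| ≤ 22 := by exact_mod_cast h7
        rw [abs_le] at h8
        omega
    omega

omit H in
theorem nine_dvd (hcard : Nat.card G = 244823040) {t : G} {v : IrrCharacter G → ℤ}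
    (hv : Column t v) {β : IrrCharacter G} (hβ : dg β = 252) (h28 : v β = 28) :
    9 * Nat.card (centralizer ({t} : Set G)) ∣ 244823040 := by
  have h1 := hv.dvd β
  rw [hβ, h28] at h1
  have h2 : (252 : ℤ) ∣ (((centralizer ({t} : Set G)).index * 28 : ℕ) : ℤ) := by
    push_cast; exact_mod_cast h1
  have h3 : 252 ∣ (centralizer ({t} : Set G)).index * 28 := by exact_mod_cast h2
  have h4 : 9 ∣ (centralizer ({t} : Set G)).index := by
    obtain ⟨k, hk⟩ := h3
    exact ⟨k, by omega⟩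
  obtain ⟨k, hk⟩ := h4
  refine ⟨k, ?_⟩
  rw [← hcard, ← (centralizer ({t} : Set G)).card_mul_index, hk]
  ring

theorem arith23 : ∀ d ∈ A, (d % 23 = 1 → d ≠ 1 → 231 ≤ d) ∧ (d % 23 = 12 → d ≠ 12 → 495 ≤ d) := by
  decide

/-- The norm of a column, with the pair relation for 23. -/
theorem norm23 {t : G} {v : IrrCharacter G → ℤ} (hv : Column t v) {χ α β : IrrCharacter G}
    (hχ : dg χ = 22) (hα : dg α = 231) (hβ : dg β = 252) (vχ : v χ = -6) (vα : v α = 7)
    (vβ : v β = 28) {s0 : Finset (IrrCharacter G)} (h0 : ∀ ψ ∈ s0, dg ψ % 23 = 0) :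
    1687 + ∑ ψ ∈ s0, v ψ ^ 2 ≤ (Nat.card (centralizer ({t} : Set G)) : ℤ) := by
  classical
  have htr : tr G = H.D.one := by
    apply Subtype.ext
    rw [H.D.coe_one]; rfl
  have hv1 : v (tr G) = 1 := by
    have h1 := hv.val (tr G)
    rw [coe_tr, Pi.one_apply] at h1
    exact_mod_cast h1.symm
  obtain ⟨Θ, hΘ⟩ : H.D.X.Nonempty := by
    rw [← Finset.card_ne_zero, H.D.card_X]; norm_num
  have mχ : χ ∈ H.D.NE := mem_NE23 H (Or.inr (by rw [hχ]))
  have mα : α ∈ H.D.NE := mem_NE23 H (Or.inl (by rw [hα]))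
  have mβ : β ∈ H.D.NE := mem_NE23 H (Or.inr (by rw [hβ]))
  have m1 : tr G ∈ H.D.NE := by rw [htr]; exact H.D.one_mem
  have hsub : ({tr G, χ, α, β} : Finset (IrrCharacter G)) ⊆ H.D.NE := by
    intro ψ hψ
    simp only [Finset.mem_insert, Finset.mem_singleton] at hψ
    rcases hψ with rfl | rfl | rfl | rfl
    · exact m1
    · exact mχ
    · exact mα
    · exact mβ
  have n1 : tr G ∉ ({χ, α, β} : Finset (IrrCharacter G)) := by
    intro h
    simp only [Finset.mem_insert, Finset.mem_singleton] at h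
    rcases h with h | h | h
    · rw [← h, dg_tr] at hχ; omega
    · rw [← h, dg_tr] at hα; omega
    · rw [← h, dg_tr] at hβ; omega
  have n2 : χ ∉ ({α, β} : Finset (IrrCharacter G)) := by
    intro h
    simp only [Finset.mem_insert, Finset.mem_singleton] at h
    rcases h with h | h
    · rw [← h, hχ] at hα; omega
    · rw [← h, hχ] at hβ; omega
  have n3 : α ∉ ({β} : Finset (IrrCharacter G)) := by
    intro h
    rw [Finset.mem_singleton] at h
    rw [← h, hα] at hβ; omega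
  have hsum4 : ∀ f : IrrCharacter G → ℤ, ∑ ψ ∈ ({tr G, χ, α, β} : Finset (IrrCharacter G)), f ψ =
      f (tr G) + (f χ + (f α + f β)) := by
    intro f
    rw [Finset.sum_insert n1, Finset.sum_insert n2, Finset.sum_insert n3, Finset.sum_singleton]
  set N' := H.D.NE \ ({tr G, χ, α, β} : Finset (IrrCharacter G)) with hN'
  have hrel := YStar.rel23' H hv hΘ
  rw [← Finset.sum_sdiff hsub, hsum4] at hrel
  have ε1 : H.D.ε (tr G) = 1 := by rw [htr]; exact H.D.ε_one
  have εχ : H.D.ε χ = -1 := by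
    rcases mod23_NE H mχ with ⟨-, h⟩ | ⟨h, -⟩
    · rw [hχ] at h; omega
    · exact h
  have εα : H.D.ε α = 1 := by
    rcases mod23_NE H mα with ⟨h, -⟩ | ⟨-, h⟩
    · exact h
    · rw [hα] at h; omega
  have εβ : H.D.ε β = -1 := by
    rcases mod23_NE H mβ with ⟨-, h⟩ | ⟨h, -⟩
    · rw [hβ] at h; omega
    · exact h
  rw [ε1, εχ, εα, εβ, hv1, vχ, vα, vβ, hχ, hα, hβ, dg_tr] at hrel
  norm_num at hrel
  -- the bound for the remaining characters
  have hb1 : ∑ ψ ∈ N', H.D.ε ψ * (v ψ ^ 2 * (244823040 / (dg ψ : ℤ))) ≤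
      ∑ ψ ∈ N', 1059840 * v ψ ^ 2 := by
    refine Finset.sum_le_sum fun ψ hψ => ?_
    rw [hN', Finset.mem_sdiff] at hψ
    have hq : 0 ≤ v ψ ^ 2 := sq_nonneg _
    rcases mod23_NE H hψ.1 with ⟨h, h'⟩ | ⟨h, -⟩
    · rw [h, one_mul, mul_comm]
      refine mul_le_mul_of_nonneg_right ?_ hq
      have h1 : dg ψ ≠ 1 := by
        intro h1
        apply hψ.2
        have := eq_one_of_dg H h1
        rw [← htr] at this
        rw [this]
        exact Finset.mem_insert_self _ _
      have h2 : (231 : ℤ) ≤ dg ψ := by exact_mod_cast (arith23 H _ (dg_mem_A H ψ)).1 h' h1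
      exact Int.ediv_le_of_le_mul (by linarith) (by linarith)
    · rw [h]
      have h1 : 0 ≤ v ψ ^ 2 * (244823040 / (dg ψ : ℤ)) :=
        mul_nonneg hq (Int.ediv_nonneg (by norm_num) (Int.natCast_nonneg _))
      linarith
  have hb2 : -(H.D.d * (v Θ ^ 2 * (244823040 / (dg Θ : ℤ)))) ≤ 1059840 * v Θ ^ 2 := by
    have hq : 0 ≤ v Θ ^ 2 := sq_nonneg _
    rcases mod23_X H hΘ with ⟨h, -⟩ | ⟨h, h'⟩
    · rw [h]
      have h1 : 0 ≤ v Θ ^ 2 * (244823040 / (dg Θ : ℤ)) :=
        mul_nonneg hq (Int.ediv_nonneg (by norm_num) (Int.natCast_nonneg _))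
      linarith
    · rw [h]
      have h2 : (231 : ℤ) ≤ dg Θ := by
        have := (arith23 H _ (dg_mem_A H Θ)).2 h' (dg_ne_twelve H Θ)
        omega
      have h3 : (244823040 : ℤ) / (dg Θ : ℤ) ≤ 1059840 :=
        Int.ediv_le_of_le_mul (by linarith) (by linarith)
      nlinarith
  have hb3 : 817 ≤ ∑ ψ ∈ N', v ψ ^ 2 + v Θ ^ 2 := by
    rw [← Finset.mul_sum] at hb1
    by_contra h
    push Not at h
    have h1 : ∑ ψ ∈ N', v ψ ^ 2 + v Θ ^ 2 ≤ 816 := by omega
    linarith
  -- the norm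
  have hd1 : Disjoint (insert Θ H.D.NE) s0 := by
    rw [Finset.disjoint_left]
    intro ψ hψ hψ0
    have h1 := h0 ψ hψ0
    rcases Finset.mem_insert.1 hψ with rfl | h
    · rcases mod23_X H hΘ with h | h <;> omega
    · rcases mod23_NE H h with h | h <;> omega
  have hΘN : Θ ∉ H.D.NE := fun h => Finset.disjoint_left.1 H.D.disj h hΘ
  have hnorm := hv.norm (insert Θ H.D.NE ∪ s0)
  rw [Finset.sum_union hd1, Finset.sum_insert hΘN, ← Finset.sum_sdiff hsub, hsum4, hv1, vχ, vα,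
    vβ] at hnorm
  linarith

end Cfsg.Agent.SporadicA.M24.SquareEnd
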