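import Cfsg.Agent.SporadicA.M24.ElevenCases
import Cfsg.Agent.SmallSimple.RelSylow
import Cfsg.Agent.SmallSimple.PrimeSylowAut
import Cfsg.Agent.SmallSimple.LocalData
import Cfsg.Agent.Lib.PGroupCoprimeAction
import Cfsg.Agent.M23.SylowTools

/-!
# Sylow 11-subgroups in a simple group of order `244823040`: the case `e = 10`, `|K| = 12`,
local analysis

`P` a Sylow 11-subgroup, `|N(P)| = 1320`, `C(P) = P × K`, `|K| = 12`. A Sylow 5-subgroup `Q` of `G`
lies in `N(P)` and centralises `K`; there is an involution `t ∈ K` whose centraliser contains a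
subgroup of index 1 or 3 in `N(P)`.
-/

set_option autoImplicit false
set_option linter.unusedSectionVars false

namespace Cfsg.Agent.SporadicA.M24.TwelveGroup

open Cfsg Subgroup
open Cfsg.Agent.SmallSimple Cfsg.Agent.SmallSimple.PrimeLocal
open Cfsg.Agent.SporadicA.M24.Sylow23 Cfsg.Agent.SporadicA.M24.ElevenTwo
open Cfsg.Agent.SporadicA.M24.ElevenCases

universe u

section General

variable {G : Type*} [Group G] [Finite G]

/-- A `p`-group `A` normalising `H`: `|C_H(A)| ≡ |H|` modulo `p`. -/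
theorem card_inf_centralizer_modEq {p : ℕ} [Fact p.Prime] {A H : Subgroup G} (hA : IsPGroup p A)
    (hAH : ∀ b ∈ A, ∀ u ∈ H, b * u * b⁻¹ ∈ H) :
    Nat.card H ≡ Nat.card (H ⊓ centralizer (A : Set G) : Subgroup G) [MOD p] := by
  let _ := Lib.PGroupCoprimeAction.conjAction A H hAH
  have h1 := hA.card_modEq_card_fixedPoints H
  have key : ∀ x : H, x ∈ MulAction.fixedPoints A H ↔ (x : G) ∈ centralizer (A : Set G) := by
    intro x
    rw [MulAction.mem_fixedPoints, mem_centralizer_iff]
    constructor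
    · intro hx a ha
      have h4 : a * (x : G) * a⁻¹ = x := congrArg Subtype.val (hx ⟨a, ha⟩)
      exact mul_inv_eq_iff_eq_mul.1 h4
    · intro hx a
      apply Subtype.ext
      change (a : G) * (x : G) * (a : G)⁻¹ = x
      rw [mul_inv_eq_iff_eq_mul]
      exact hx a a.2
  have h2 : Nat.card (MulAction.fixedPoints A H) =
      Nat.card (H ⊓ centralizer (A : Set G) : Subgroup G) :=
    Nat.card_congr
      { toFun := fun x => ⟨x.1, mem_inf.2 ⟨x.1.2, (key x.1).1 x.2⟩⟩
        invFun := fun x => ⟨⟨x.1, (mem_inf.1 x.2).1⟩, (key _).2 (mem_inf.1 x.2).2⟩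
        left_inv := fun x => rfl
        right_inv := fun x => rfl }
  rw [h2] at h1
  exact h1

end General

variable {G : Type u} [Group G] [Finite G] [IsSimpleGroup G]

theorem card_five (hcard : Nat.card G = 244823040) (Q : Sylow 5 G) : Nat.card Q = 5 := by
  have : Fact (Nat.Prime 5) := ⟨by norm_num⟩
  exact card_of_not_sq_dvd (by rw [hcard]; norm_num) (by rw [hcard]; norm_num) Q

/-- A Sylow 5-subgroup of `N(P)` centralises `K`. -/
theorem exists_five (hcard : Nat.card G = 244823040) {P : Sylow 11 G} {K : Subgroup G}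
    (h : IsLocal 11 P 10 K) (hk : Nat.card K = 12) :
    ∃ Q : Sylow 5 G, (Q : Subgroup G) ≤ normalizer (P : Set G) ∧
      ∀ x ∈ K, ∀ y ∈ (Q : Subgroup G), x * y = y * x := by
  have hp5 : Fact (Nat.Prime 5) := ⟨by norm_num⟩
  have hp3 : Fact (Nat.Prime 3) := ⟨by norm_num⟩
  have hN := h.card_normalizer
  rw [hk] at hN
  obtain ⟨⟨y, hyN⟩, hoy⟩ := exists_prime_orderOf_dvd_card' (G := normalizer (P : Set G)) 5
    (by rw [hN]; norm_num)
  have hoy' : orderOf y = 5 := by rwa [← Subgroup.orderOf_coe] at hoy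
  obtain ⟨Q, hQ⟩ := PrimeSylowAut.exists_sylow_eq_zpowers (fun Q => card_five hcard Q) hoy'
  have hQN : (Q : Subgroup G) ≤ normalizer (P : Set G) := by
    rw [hQ, zpowers_le]; exact hyN
  have hyQ : y ∈ (Q : Subgroup G) := by rw [hQ]; exact mem_zpowers y
  have hQp : IsPGroup 5 (Q : Subgroup G) := Q.isPGroup'
  have hact : ∀ b ∈ (Q : Subgroup G), ∀ u ∈ K, b * u * b⁻¹ ∈ K := by
    intro b hb u hu
    exact (mem_normalizer_iff.1 (h.normalizer_le (hQN hb)) u).1 hu
  obtain ⟨S, ⟨T, hT⟩, hS⟩ := Lib.PGroupCoprimeAction.exists_invariant_sylow hQp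
    (by rw [hk]; norm_num) hact 3
  have hTc : Nat.card T = 3 := card_of_not_sq_dvd (by rw [hk]; norm_num) (by rw [hk]; norm_num) T
  have hSc : Nat.card S = 3 := by
    rw [← hT]
    exact (Nat.card_congr ((T : Subgroup K).equivMapOfInjective K.subtype
      K.subtype_injective).symm.toEquiv).trans hTc
  have hSK : S ≤ K := by
    rw [← hT]; exact map_subtype_le _
  have hyS : y ∈ centralizer (S : Set G) := by
    refine M23.SylowTools.mem_centralizer_of_mem_normalizer (p := 3) (q := 5) (by norm_num)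
      (by norm_num) hSc ?_ (by rw [← hoy']; exact pow_orderOf_eq_one y) (by norm_num)
    rw [mem_normalizer_iff]
    intro u
    constructor
    · exact hS y hyQ u
    · intro hu
      have := hS y⁻¹ (inv_mem hyQ) _ hu
      simpa [mul_assoc] using this
  have hSle : S ≤ K ⊓ centralizer ((Q : Subgroup G) : Set G) := by
    intro u hu
    refine mem_inf.2 ⟨hSK hu, ?_⟩
    rw [mem_centralizer_iff]
    intro v hv
    have hv' : v ∈ zpowers y := by rw [← hQ]; exact hv
    obtain ⟨i, rfl⟩ := mem_zpowers_iff.1 hv'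
    have h1 : u * y = y * u := mem_centralizer_iff.1 hyS u hu
    exact (Commute.zpow_left (show Commute y u from h1.symm) i).eq
  have h3 : 3 ∣ Nat.card (K ⊓ centralizer ((Q : Subgroup G) : Set G) : Subgroup G) := by
    have := card_dvd_of_le hSle
    rwa [hSc] at this
  have h12 : Nat.card (K ⊓ centralizer ((Q : Subgroup G) : Set G) : Subgroup G) ∣ 12 := by
    rw [← hk]
    exact card_dvd_of_le inf_le_left
  have h5 := card_inf_centralizer_modEq hQp hact
  rw [hk] at h5
  have hle := Nat.le_of_dvd (by norm_num) h12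
  have heq : Nat.card (K ⊓ centralizer ((Q : Subgroup G) : Set G) : Subgroup G) = 12 := by
    generalize Nat.card (K ⊓ centralizer ((Q : Subgroup G) : Set G) : Subgroup G) = m at *
    unfold Nat.ModEq at h5
    interval_cases m <;> omega
  have htop : K ⊓ centralizer ((Q : Subgroup G) : Set G) = K :=
    Subgroup.eq_of_le_of_card_ge inf_le_left (by rw [hk, heq])
  refine ⟨Q, hQN, fun x hx z hz => ?_⟩
  have hx' : x ∈ K ⊓ centralizer ((Q : Subgroup G) : Set G) := by rw [htop]; exact hx
  exact ((mem_centralizer_iff.1 (mem_inf.1 hx').2) z hz).symm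

/-- The divisors of `24192` which are `1` modulo 11. -/
theorem arith {n : ℕ} (h : n ∣ 24192) (h1 : n % 11 = 1) :
    n ∈ [1, 12, 56, 144, 672, 1728, 8064] := by
  have h2 : ∀ a < 8, ∀ b < 4, ∀ c < 2, (!((2 ^ a * 3 ^ b * 7 ^ c) % 11 == 1) ||
      [1, 12, 56, 144, 672, 1728, 8064].elem (2 ^ a * 3 ^ b * 7 ^ c)) = true := by
    decide +kernel
  have h3 : n ∣ 2 ^ 7 * (3 ^ 3 * 7 ^ 1) := by norm_num; exact h
  obtain ⟨x, y, hx, hy, hxy⟩ := (Nat.dvd_mul).1 h3
  obtain ⟨z, w, hz, hw, hzw⟩ := (Nat.dvd_mul).1 hy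
  obtain ⟨a, ha, rfl⟩ := (Nat.dvd_prime_pow Nat.prime_two).1 hx
  obtain ⟨b, hb, rfl⟩ := (Nat.dvd_prime_pow Nat.prime_three).1 hz
  obtain ⟨c, hc, rfl⟩ := (Nat.dvd_prime_pow (by norm_num : Nat.Prime 7)).1 hw
  have h4 : n = 2 ^ a * 3 ^ b * 7 ^ c := by rw [← hxy, ← hzw]; ring
  have h5 := h2 a (by omega) b (by omega) c (by omega)
  rw [← h4, h1] at h5
  simpa using h5

/-- The possible indices of the centraliser of the involution `t`. -/
def idx : List ℕ :=
  [185472, 15456, 3312, 1288, 276, 23, 556416, 46368, 3864, 322, 9936, 828, 69]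

theorem idx_arith {n ν i : ℕ} (hν : ν = 440 ∨ ν = 1320) (h : n * ν * i = 244823040)
    (hn : n % 11 = 1) (h23 : 23 ∣ i) : i ∈ idx := by
  obtain ⟨j, rfl⟩ := h23
  rcases hν with rfl | rfl
  · have h1 : n * j = 24192 := by
      have : 10120 * (n * j) = 10120 * 24192 := by
        rw [show 10120 * 24192 = 244823040 by norm_num, ← h]; ring
      exact Nat.eq_of_mul_eq_mul_left (by norm_num) this
    have h2 := arith ⟨j, h1.symm⟩ hn
    simp only [List.mem_cons, List.not_mem_nil, or_false] at h2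
    unfold idx
    simp only [List.mem_cons, List.not_mem_nil, or_false]
    rcases h2 with rfl | rfl | rfl | rfl | rfl | rfl | rfl <;> omega
  · have h1 : n * j = 8064 := by
      have : 30360 * (n * j) = 30360 * 8064 := by
        rw [show 30360 * 8064 = 244823040 by norm_num, ← h]; ring
      exact Nat.eq_of_mul_eq_mul_left (by norm_num) this
    have h2 := arith (⟨j * 3, by rw [← mul_assoc, h1]; norm_num⟩) hn
    simp only [List.mem_cons, List.not_mem_nil, or_false] at h2
    unfold idx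
    simp only [List.mem_cons, List.not_mem_nil, or_false]
    rcases h2 with rfl | rfl | rfl | rfl | rfl | rfl | rfl <;> omega

/-- **Local data in the case `e = 10`, `|K| = 12`.** -/
theorem exists_data (hcard : Nat.card G = 244823040) {P : Sylow 11 G} {K : Subgroup G}
    (h : IsLocal 11 P 10 K) (hk : Nat.card K = 12) :
    ∃ (Q : Sylow 5 G) (t : G), (Q : Subgroup G) ≤ normalizer (P : Set G) ∧
      (∀ x ∈ K, ∀ y ∈ (Q : Subgroup G), x * y = y * x) ∧ t ∈ K ∧ t * t = 1 ∧ t ≠ 1 ∧
      orderOf t = 2 ∧ (centralizer ({t} : Set G)).index ∈ idx := by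
  have hp2 : Fact (Nat.Prime 2) := ⟨by norm_num⟩
  have hp11 : Fact (Nat.Prime 11) := ⟨by norm_num⟩
  obtain ⟨Q, hQN, hQK⟩ := exists_five hcard h hk
  have hN := h.card_normalizer
  rw [hk] at hN
  obtain ⟨S₀⟩ : Nonempty (Sylow 2 (normalizer (P : Set G))) := inferInstance
  set S : Subgroup G := (S₀ : Subgroup (normalizer (P : Set G))).map
    (normalizer (P : Set G)).subtype with hS
  have hSc : Nat.card S = 8 := by
    have h1 : Nat.card S = Nat.card S₀ :=
      Nat.card_congr ((S₀ : Subgroup (normalizer (P : Set G))).equivMapOfInjective _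
        (normalizer (P : Set G)).subtype_injective).symm.toEquiv
    have h2 : Nat.card S₀ * (S₀ : Subgroup (normalizer (P : Set G))).index = 1320 := by
      rw [show (1320 : ℕ) = 11 * 10 * 12 by norm_num, ← hN]
      exact (S₀ : Subgroup (normalizer (P : Set G))).card_mul_index
    have h3 : ¬ 2 ∣ (S₀ : Subgroup (normalizer (P : Set G))).index := S₀.not_dvd_index
    obtain ⟨k, hk'⟩ := IsPGroup.iff_card.1 S₀.isPGroup'
    rw [h1]
    have h4 : Nat.card S₀ = 2 ^ k := hk'
    rw [h4] at h2 ⊢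
    have h5 : 2 ^ k ∣ 8 := by
      have h6 : (2 ^ k).Coprime 165 := Nat.Coprime.pow_left k (by norm_num)
      exact h6.dvd_of_dvd_mul_right (show 2 ^ k ∣ 8 * 165 from ⟨_, by rw [h2]⟩)
    have h6 : 8 ∣ 2 ^ k := by
      have h7 : Nat.Coprime 8 (S₀ : Subgroup (normalizer (P : Set G))).index := by
        rw [show 8 = 2 ^ 3 by norm_num]
        exact Nat.Coprime.pow_left 3 ((Nat.Prime.coprime_iff_not_dvd (by norm_num)).2 h3)
      exact h7.dvd_of_dvd_mul_right (by rw [h2]; norm_num)
    exact Nat.dvd_antisymm h5 h6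
  have hSN : S ≤ normalizer (P : Set G) := map_subtype_le _
  have hSp : IsPGroup 2 S := IsPGroup.of_card (n := 3) (by rw [hSc]; norm_num)
  have hact : ∀ b ∈ S, ∀ u ∈ K, b * u * b⁻¹ ∈ K := by
    intro b hb u hu
    exact (mem_normalizer_iff.1 (h.normalizer_le (hSN hb)) u).1 hu
  have h2 := card_inf_centralizer_modEq hSp hact
  rw [hk] at h2
  obtain ⟨⟨t, ht⟩, hot⟩ := exists_prime_orderOf_dvd_card'
    (G := (K ⊓ centralizer (S : Set G) : Subgroup G)) 2
    (by unfold Nat.ModEq at h2; omega)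
  have hot' : orderOf t = 2 := by rwa [← Subgroup.orderOf_coe] at hot
  have ht2 : t * t = 1 := by rw [← pow_two, ← hot']; exact pow_orderOf_eq_one t
  have ht1 : t ≠ 1 := by rintro rfl; rw [orderOf_one] at hot'; omega
  have htK := (mem_inf.1 ht).1
  have htS := (mem_inf.1 ht).2
  refine ⟨Q, t, hQN, hQK, htK, ht2, ht1, hot', ?_⟩
  set C := centralizer ({t} : Set G) with hC
  have hPC : (P : Subgroup G) ≤ C := by
    intro x hx
    rw [hC, mem_centralizer_singleton_iff]
    exact (h.comm t htK x hx).symm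
  have hQC : (Q : Subgroup G) ≤ C := by
    intro x hx
    rw [hC, mem_centralizer_singleton_iff]
    exact (hQK t htK x hx).symm
  have hSC : S ≤ C := by
    intro x hx
    rw [hC, mem_centralizer_singleton_iff]
    exact (mem_centralizer_iff.1 htS) x hx
  have hνd : Nat.card (C ⊓ normalizer (P : Set G) : Subgroup G) ∣ 1320 := by
    rw [show (1320 : ℕ) = 11 * 10 * 12 by norm_num, ← hN]
    exact card_dvd_of_le inf_le_right
  have hν11 : 11 ∣ Nat.card (C ⊓ normalizer (P : Set G) : Subgroup G) := by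
    have h3 : Nat.card (P : Subgroup G) = 11 := card_eleven hcard P
    have := card_dvd_of_le (le_inf hPC (le_normalizer (H := (P : Subgroup G))))
    rwa [h3] at this
  have hν5 : 5 ∣ Nat.card (C ⊓ normalizer (P : Set G) : Subgroup G) := by
    have h3 : Nat.card (Q : Subgroup G) = 5 := card_five hcard Q
    have := card_dvd_of_le (le_inf hQC hQN)
    rwa [h3] at this
  have hν8 : 8 ∣ Nat.card (C ⊓ normalizer (P : Set G) : Subgroup G) := by
    have := card_dvd_of_le (le_inf hSC hSN)
    rwa [hSc] at this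
  have hn1 := RelSylow.relIndex_modEq_one P C hPC
  have hnν := RelSylow.relIndex_mul_card_inf (normalizer (P : Set G)) C
  have hci := C.card_mul_index
  rw [hcard, ← hnν] at hci
  have h23 : 23 ∣ C.index := by
    have h3 := not_dvd_centralizer hcard ht1 (by rw [hot']; norm_num)
    have h4 : 23 ∣ Nat.card C * C.index := by rw [C.card_mul_index, hcard]; norm_num
    exact ((Nat.Prime.dvd_mul (by norm_num)).1 h4).resolve_left h3
  refine idx_arith ?_ hci hn1 h23
  generalize Nat.card (C ⊓ normalizer (P : Set G) : Subgroup G) = ν at hνd hν11 hν5 hν8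
  obtain ⟨j, hj⟩ := hνd
  have h440 : 440 ∣ ν := by omega
  obtain ⟨i, hi⟩ := h440
  subst hi
  have h6 : i * j = 3 := by
    have : 440 * (i * j) = 440 * 3 := by rw [← mul_assoc, ← hj]
    exact Nat.eq_of_mul_eq_mul_left (by norm_num) this
  rcases (Nat.dvd_prime (by norm_num : Nat.Prime 3)).1 ⟨j, h6.symm⟩ with rfl | rfl
  · left; rfl
  · right; rfl

/-- Facts on `C(Q)`. -/
theorem five_facts (hcard : Nat.card G = 244823040) {P : Sylow 11 G} {K : Subgroup G}
    (h : IsLocal 11 P 10 K) (hk : Nat.card K = 12) {Q : Sylow 5 G}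
    (hQK : ∀ x ∈ K, ∀ y ∈ (Q : Subgroup G), x * y = y * x) {e : ℕ} {K5 : Subgroup G}
    (h5 : IsLocal 5 Q e K5) :
    K ≤ K5 ∧ 12 ∣ Nat.card K5 ∧ ¬ 11 ∣ Nat.card K5 ∧ ¬ 23 ∣ Nat.card K5 := by
  have hp5 : Fact (Nat.Prime 5) := ⟨by norm_num⟩
  have hp11 : Fact (Nat.Prime 11) := ⟨by norm_num⟩
  have hKle : K ≤ K5 := by
    intro x hx
    refine h5.mem_of_coprime x ?_ ?_
    · rw [mem_centralizer_iff]
      intro y hy
      exact (hQK x hx y hy).symm
    · intro hdvd
      have h1 : orderOf x ∣ 12 := by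
        rw [← hk]
        have := orderOf_dvd_natCard (⟨x, hx⟩ : K)
        rwa [Subgroup.orderOf_mk] at this
      have := hdvd.trans h1
      norm_num at this
  refine ⟨hKle, ?_, ?_, not_dvd_card_K hcard (by norm_num) (card_five hcard Q) h5⟩
  · rw [← hk]; exact card_dvd_of_le hKle
  · intro hdvd
    obtain ⟨⟨x, hx⟩, hox⟩ := exists_prime_orderOf_dvd_card' (G := K5) 11 hdvd
    have hox' : orderOf x = 11 := by rwa [← Subgroup.orderOf_coe] at hox
    obtain ⟨R, hR⟩ := PrimeSylowAut.exists_sylow_eq_zpowers (fun R => card_eleven hcard R) hox'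
    have hQle : (Q : Subgroup G) ≤ centralizer ((R : Subgroup G) : Set G) := by
      intro y hy
      rw [mem_centralizer_iff]
      intro z hz
      have hz' : z ∈ zpowers x := by rw [← hR]; exact hz
      obtain ⟨i, rfl⟩ := mem_zpowers_iff.1 hz'
      exact (Commute.zpow_left (show Commute x y from h5.comm x hx y hy) i).eq
    have h1 : Nat.card (centralizer ((R : Subgroup G) : Set G)) = 11 * 12 := by
      rw [← hk, ← h.card_centralizer]
      exact LocalData.card_centralizer_eq R P
    have h2 := card_dvd_of_le hQle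
    rw [h1] at h2
    have h3 : Nat.card (Q : Subgroup G) = 5 := card_five hcard Q
    rw [h3] at h2
    norm_num at h2

end Cfsg.Agent.SporadicA.M24.TwelveGroup
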