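import Cfsg.Agent.SporadicA.M24.Setup
import Cfsg.Agent.Characters.ClassMul
import Cfsg.Agent.S0876

/-!
# Class multiplication constants at a self-centralizing Sylow subgroup of prime order

* `sum_X` : the exceptional characters sum to `- d` at the elements of `P#`;
* `int_sc` : the number of `(x', y') ∈ x^G × y^G` with `x' y' = g`, `g ∈ P#`, for `p`-regular `x`, `y`;
* `int_23` : the case `p = 23` for `|G| = 244823040`.
-/

set_option autoImplicit false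
set_option linter.unusedSectionVars false

open Cfsg Subgroup
open Cfsg.Agent.Characters.Core
open Cfsg.Agent.SmallSimple
open Cfsg.Agent.M23Order.Base
open Cfsg.Agent.SporadicA.M24.Setup
open scoped ComplexConjugate

namespace Cfsg.Agent.SporadicA.M24.YClass

universe u

section General

variable {G : Type u} [Group G] [Finite G] {p e t : ℕ} {P : Sylow p G}

theorem conj_val (D : SC p e t P) {χ : IrrCharacter G} (hχ : χ ∈ D.NE) {g : G} (hg : g ∈ P)
    (hg1 : g ≠ 1) : conj ((χ : G → ℂ) g) = D.ε χ := by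
  rw [D.val χ hχ g hg hg1, map_intCast]

theorem sum_split (D : SC p e t P) [Fintype (IrrCharacter G)] {g : G} (hg : g ∈ P) (hg1 : g ≠ 1)
    (F : IrrCharacter G → ℂ) : ∑ χ : IrrCharacter G, F χ * conj ((χ : G → ℂ) g) =
      ∑ χ ∈ D.NE, (D.ε χ : ℂ) * F χ + ∑ χ ∈ D.X, F χ * conj ((χ : G → ℂ) g) := by
  classical
  rw [← Finset.sum_subset (Finset.subset_univ (D.NE ∪ D.X)), Finset.sum_union D.disj]
  · congr 1
    exact Finset.sum_congr rfl fun χ hχ => by rw [conj_val D hχ hg hg1, mul_comm]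
  · intro χ _ hχ
    rw [Finset.mem_union, not_or] at hχ
    rw [D.out χ hχ.1 hχ.2 g hg hg1, map_zero, mul_zero]

/-- The exceptional characters sum to `- d` at `P#`. -/
theorem sum_X (D : SC p e t P) (hp : p ≠ 1) {g : G} (hg : g ∈ P) (hg1 : g ≠ 1)
    (hX : D.X.Nonempty) : ∑ χ ∈ D.X, conj ((χ : G → ℂ) g) = -(D.d : ℂ) := by
  classical
  have := Fintype.ofFinite G
  have := finite_irr (G := G)
  have := Fintype.ofFinite (IrrCharacter G)
  have h1 := S0876.sum_irr_mul_conj (G := G) 1 g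
  have h2 : IsEmpty {x : G // x * 1 * x⁻¹ = g} :=
    ⟨fun x => hg1 (by rw [← x.2, mul_one, mul_inv_cancel])⟩
  rw [Nat.card_of_isEmpty, Nat.cast_zero, sum_split D hg hg1] at h1
  obtain ⟨Θ, hΘ⟩ := hX
  have h3 := D.rel_deg hp hΘ
  have h4 : ∑ χ ∈ D.NE, (D.ε χ : ℂ) * (χ : G → ℂ) 1 = D.d * D.f := by
    rw [Finset.sum_congr rfl fun χ _ => by rw [dg_eq]]
    exact_mod_cast h3
  have h5 : ∑ χ ∈ D.X, (χ : G → ℂ) 1 * conj ((χ : G → ℂ) g) =
      (D.f : ℂ) * ∑ χ ∈ D.X, conj ((χ : G → ℂ) g) := by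
    rw [Finset.mul_sum]
    exact Finset.sum_congr rfl fun χ hχ => by rw [dg_eq, D.deg_X χ hχ]
  rw [h4, h5] at h1
  have h6 : (D.f : ℂ) ≠ 0 := by
    have := dg_ne_zero Θ
    rw [D.deg_X Θ hΘ] at this
    exact_mod_cast this
  apply mul_left_cancel₀ h6
  linear_combination h1

/-- The exceptional characters agree on `p`-regular elements. -/
theorem eq_of_mem_X (D : SC p e t P) {Θ Θ' : IrrCharacter G} (hΘ : Θ ∈ D.X) (hΘ' : Θ' ∈ D.X)
    {x : G} (hx : ¬ p ∣ orderOf x) : (Θ : G → ℂ) x = (Θ' : G → ℂ) x := by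
  have h1 := (D.rel Θ hΘ x hx).symm.trans (D.rel Θ' hΘ' x hx)
  rcases D.d_mem with h | h <;> rw [h] at h1 <;> simpa using h1

/-- **Class multiplication constants** for `p`-regular classes at an element of `P#`. -/
theorem int_sc (D : SC p e t P) (hp : p ≠ 1) {g : G} (hg : g ∈ P) (hg1 : g ≠ 1)
    {Θ : IrrCharacter G} (hΘ : Θ ∈ D.X) {x y : G} (hx : ¬ p ∣ orderOf x)
    (hy : ¬ p ∣ orderOf y) : ∃ N : ℕ, (N : ℂ) * Nat.card G =
      (centralizer ({x} : Set G)).index * (centralizer ({y} : Set G)).index *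
      (∑ χ ∈ D.NE, (D.ε χ : ℂ) * ((χ : G → ℂ) x * (χ : G → ℂ) y / (χ : G → ℂ) 1) -
        D.d * ((Θ : G → ℂ) x * (Θ : G → ℂ) y / (Θ : G → ℂ) 1)) := by
  classical
  have := finite_irr (G := G)
  have := Fintype.ofFinite (IrrCharacter G)
  have h1 := Characters.ClassMul.card_class_mul x y g
  have h2 : ∑ χ : IrrCharacter G,
      (χ : G → ℂ) x * (χ : G → ℂ) y * conj ((χ : G → ℂ) g) / (χ : G → ℂ) 1 =
      ∑ χ ∈ D.NE, (D.ε χ : ℂ) * ((χ : G → ℂ) x * (χ : G → ℂ) y / (χ : G → ℂ) 1) -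
        D.d * ((Θ : G → ℂ) x * (Θ : G → ℂ) y / (Θ : G → ℂ) 1) := by
    rw [Finset.sum_congr rfl (g := fun χ : IrrCharacter G =>
      ((χ : G → ℂ) x * (χ : G → ℂ) y / (χ : G → ℂ) 1) * conj ((χ : G → ℂ) g))
      fun χ _ => by ring, sum_split D hg hg1,
      Finset.sum_congr rfl (s₁ := D.X) (g := fun χ : IrrCharacter G =>
      ((Θ : G → ℂ) x * (Θ : G → ℂ) y / (Θ : G → ℂ) 1) * conj ((χ : G → ℂ) g))
      fun χ hχ => by rw [eq_of_mem_X D hχ hΘ hx, eq_of_mem_X D hχ hΘ hy, dg_eq, dg_eq,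
        D.deg_X χ hχ, D.deg_X Θ hΘ], ← Finset.mul_sum, sum_X D hp hg hg1 ⟨Θ, hΘ⟩]
    ring
  rw [h2] at h1
  have hne : (Nat.card G : ℂ) ≠ 0 := by exact_mod_cast Nat.card_pos.ne'
  refine ⟨_, by rw [h1]; field_simp⟩

end General

/-- **Class multiplication constants** at an element of order 23. -/
theorem int_23 {G : Type u} [Group G] [Finite G] (H : Hyp G) {Θ : IrrCharacter G}
    (hΘ : Θ ∈ H.D.X) {x y : G} (hx : ¬ 23 ∣ orderOf x) (hy : ¬ 23 ∣ orderOf y) :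
    ∃ N : ℕ, (N : ℂ) * Nat.card G =
      (centralizer ({x} : Set G)).index * (centralizer ({y} : Set G)).index *
      (∑ χ ∈ H.D.NE, (H.D.ε χ : ℂ) * ((χ : G → ℂ) x * (χ : G → ℂ) y / (χ : G → ℂ) 1) -
        H.D.d * ((Θ : G → ℂ) x * (Θ : G → ℂ) y / (Θ : G → ℂ) 1)) := by
  have h23 : Fact (Nat.Prime 23) := ⟨by norm_num⟩
  have h1 : (H.P : Subgroup G) ≠ ⊥ := by
    intro h
    have h2 : Nat.card (H.P : Subgroup G) = 23 := H.hP
    rw [h, Subgroup.card_bot] at h2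
    omega
  obtain ⟨g, hg1⟩ := (Subgroup.ne_bot_iff_exists_ne_one.1 h1)
  exact int_sc H.D (by norm_num) g.2 (fun h => hg1 (Subtype.ext h)) hΘ hx hy

end Cfsg.Agent.SporadicA.M24.YClass
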