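import Cfsg.Agent.SmallSimple.DegreeSearch

/-!
# Arithmetic of the principal 23-block, if the principal 7-block has a character of degree 3520

A character of the principal 23-block is encoded by `z = 100 * s + v`, where `s` is the signed
degree and `v` the value at the elements of order 7.
-/

set_option autoImplicit false

namespace Cfsg.Agent.SporadicA.M24.YSearch

open Cfsg.Agent.SmallSimple.DegreeSearch

/-- signed degree -/
def sd (z : ℤ) : ℤ := (z + 50) / 100

/-- value at the elements of order 7 -/
def vl (z : ℤ) : ℤ := (z + 50) % 100 - 50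

/-- sign -/
def sg (z : ℤ) : ℤ := if z < 0 then -1 else 1

/-- signed value -/
def wt (z : ℤ) : ℤ := sg z * vl z

/-- `2661120` divided by the degree -/
def iv (z : ℤ) : ℤ := 2661120 / ((sd z).natAbs : ℤ)

/-- the term of the class multiplication constant -/
def qd (z : ℤ) : ℤ := sg z * (vl z * vl z) * iv z

/-- the possible nonexceptional characters -/
def C : List ℤ := [-1267198, -1039500, -383996, -154000, -52804, -52797, -25200, -4504, -4497,
  -2199, 23100, 98996, 99003, 351999, 352006, 554400]

/-- the possible exceptional characters -/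
def X : List ℤ := [-633606, -633599, -302400, -77000, -54006, -26402, 1198, 49498, 175996, 176003,
  277200, 985600, 1187994]

/-- the solutions -/
def sols : List (ℤ × List ℤ) := [
  (-633599, [-383996, -383996, -52804, -25200, 23100, 98996, 99003, 352006]),
  (-633599, [-383996, -154000, -154000, -154000, 23100, 98996, 99003, 352006]),
  (-633599, [-383996, -154000, -154000, -52804, -2199, 23100, 98996, 352006]),
  (-633599, [-383996, -154000, -154000, 23100, 98996, 99003, 99003, 99003]),
  (-633599, [-383996, -154000, -52804, -2199, 23100, 98996, 99003, 99003]),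
  (-633599, [-383996, -52804, -52804, -2199, -2199, 23100, 98996, 99003]),
  (-633599, [-154000, -154000, -52804, -52804, -52797, -4504, 98996, 98996]),
  (-633599, [-154000, -154000, -52804, -52804, -52797, -4497, 98996, 99003]),
  (-633599, [-154000, -154000, -52804, -52804, -4497, 23100, 23100, 98996]),
  (-633599, [-154000, -52804, -52804, -52804, -52797, -4497, -2199, 98996]),
  (-633599, [-154000, -52797, -52797, -25200, -4504, -4504, -2199, 23100]),
  (-633599, [-154000, -52797, -25200, -25200, -4504, -4504, -4497, -2199]),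
  (176003, [-1039500, -383996, -154000, -154000, -52797, -2199, 351999, 352006]),
  (176003, [-1039500, -383996, -154000, -52797, -2199, 99003, 99003, 351999]),
  (176003, [-1039500, -383996, -154000, -2199, 23100, 23100, 99003, 351999]),
  (176003, [-1039500, -383996, -52804, -52797, -2199, -2199, 99003, 351999]),
  (176003, [-1039500, -383996, -52804, -2199, -2199, 23100, 23100, 351999]),
  (176003, [-1039500, -154000, -154000, -52804, -52797, -4497, 23100, 351999]),
  (176003, [-1039500, -154000, -154000, -52804, -25200, -4497, -4497, 351999])]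

/-- bound for the sum of squares -/
def BD : ℕ := 160870070

/-- encoding -/
def enc (z : ℤ) : ℕ := (4 * ((sd z + 12672) / 23) + (wt z + 6)).toNat

/-- target of the search -/
def target (x : ℤ) : ℕ := ((4 * (-9065 - sd x + 101376) + 23 * (48 - wt x)) / 23).toNat

/-- the test at the leaves -/
def test (x : ℤ) (l : List ℤ) : Bool :=
  !((l.map sd).sum == -9065 - sd x) || !((l.map wt).sum == -wt x) ||
    !((2661120 + 756 + (l.map qd).sum + qd x) % 7056 == 0) || sols.contains (x, l)

/-- data for the engine -/
def trip (z : ℤ) : ℤ × ℕ × ℕ := (z, enc z, (sd z).natAbs ^ 2)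

/-- the search for one exceptional character -/
def chk (x : ℤ) : Bool :=
  Nat.blt (target x) 25600 && dfs (2 ^ 25600) (BD - 2 * (sd x).natAbs ^ 2)
    (fun l => test x l.reverse) (C.map trip) 8 (target x) 0 []

theorem search : X.all chk = true := by decide +kernel

theorem enc_eq : ∀ z ∈ C, 23 * (enc z : ℤ) = 4 * (sd z + 12672) + 23 * (wt z + 6) := by decide

theorem target_eq : ∀ x ∈ X, 23 * (target x : ℤ) = 4 * (-9065 - sd x + 101376) +
    23 * (48 - wt x) := by decide

theorem sum_enc {l : List ℤ} (h : ∀ z ∈ l, z ∈ C) : 23 * ((l.map enc).sum : ℤ) =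
    4 * ((l.map sd).sum + l.length * 12672) + 23 * ((l.map wt).sum + l.length * 6) := by
  induction l with
  | nil => simp
  | cons z l ih =>
    have h1 := ih fun y hy => h y (List.mem_cons_of_mem _ hy)
    have h2 := enc_eq z (h z (by simp))
    simp only [List.map_cons, List.sum_cons, List.length_cons]
    push_cast at h1 ⊢
    linarith

theorem spec {x : ℤ} (hx : x ∈ X) {l : List ℤ} (hlen : l.length = 8)
    (hsort : l.Pairwise (· ≤ ·)) (hmem : ∀ z ∈ l, z ∈ C)
    (hsd : (l.map sd).sum = -9065 - sd x) (hwt : (l.map wt).sum = -wt x)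
    (hsq : (l.map fun z => (sd z).natAbs ^ 2).sum + 2 * (sd x).natAbs ^ 2 ≤ BD)
    (hS : (7056 : ℤ) ∣ 2661120 + 756 + (l.map qd).sum + qd x) : (x, l) ∈ sols := by
  have h1 := search
  rw [List.all_eq_true] at h1
  have h2 := h1 x hx
  rw [chk, Bool.and_eq_true, Nat.blt_eq] at h2
  have h3 := target_eq x hx
  have h4 := sum_enc hmem
  rw [hsd, hwt, hlen] at h4
  have h5 : ((l.map enc).sum : ℤ) = target x := by
    have : (23 : ℤ) * ((l.map enc).sum : ℤ) = 23 * target x := by
      rw [h3, h4]; push_cast; ring
    linarith
  have h6 : (l.map enc).sum = target x := by exact_mod_cast h5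
  have h7 := (rep_of_sorted (by decide : C.Pairwise (· < ·)) hsort hmem).map trip
  have h8 := dfs_spec (w := 25600) (B := BD - 2 * (sd x).natAbs ^ 2)
    (P := fun l => test x l.reverse) h7 0 []
  rw [List.map_map, List.map_map, List.map_map, List.length_map] at h8
  have e1 : ((fun x : ℤ × ℕ × ℕ => x.2.1) ∘ trip) = enc := rfl
  have e2 : ((fun x : ℤ × ℕ × ℕ => x.2.2) ∘ trip) = fun z => (sd z).natAbs ^ 2 := rfl
  have e3 : ((fun x : ℤ × ℕ × ℕ => x.1) ∘ trip) = id := rfl
  rw [e1, e2, e3, List.map_id, hlen, h6, List.append_nil, List.reverse_reverse, zero_add] at h8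
  have h9 := h8 h2.1 (by omega) h2.2
  unfold test at h9
  rw [hsd, hwt] at h9
  have h10 : (2661120 + 756 + (l.map qd).sum + qd x) % 7056 = 0 := Int.emod_eq_zero_of_dvd hS
  rw [h10] at h9
  simpa using h9

/-! ### Values at the elements of order 5 -/

/-- the search for the values at the elements of order 5; `cd` gives the candidates. -/
def five (cd : ℕ → List ℤ) (m m' : ℤ) : List ℤ → ℤ → ℤ → ℤ → Bool
  | [], t, s, s' => !(t == 0) || !(s % m == 0) || !(s' % m' == 0)
  | z :: l, t, s, s' => (cd (sd z).natAbs).all fun v =>
      five cd m m' l (t + sg z * v) (s + sg z * (v * v) * iv z) (s' + sg z * (v * vl z) * iv z)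

theorem five_spec {α : Type*} {cd : ℕ → List ℤ} {m m' : ℤ} {Z : α → ℤ} {v : α → ℤ} :
    ∀ {l : List α} {t s s' : ℤ}, five cd m m' (l.map Z) t s s' = true →
      (∀ x ∈ l, v x ∈ cd (sd (Z x)).natAbs) →
      t + (l.map fun x => sg (Z x) * v x).sum = 0 →
      m ∣ s + (l.map fun x => sg (Z x) * (v x * v x) * iv (Z x)).sum →
      m' ∣ s' + (l.map fun x => sg (Z x) * (v x * vl (Z x)) * iv (Z x)).sum → False
  | [], t, s, s', h, _, h1, h2, h3 => by
    simp only [List.map_nil, List.sum_nil, add_zero] at h h1 h2 h3
    unfold five at h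
    rw [h1, Int.emod_eq_zero_of_dvd h2, Int.emod_eq_zero_of_dvd h3] at h
    simp at h
  | x :: l, t, s, s', h, h0, h1, h2, h3 => by
    rw [List.map_cons, five, List.all_eq_true] at h
    rw [List.map_cons, List.sum_cons] at h1 h2 h3
    exact five_spec (h (v x) (h0 x (by simp))) (fun y hy => h0 y (List.mem_cons_of_mem _ hy))
      (by rw [add_assoc]; exact h1) (by rw [add_assoc]; exact h2) (by rw [add_assoc]; exact h3)

/-- candidates for the values at the elements of order 5, complement of order 12 -/
def cd12 (d : ℕ) : List ℤ :=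
  if d = 22 ∨ d = 252 ∨ d = 12672 then [2, -3] else if d = 528 then [3, -2]
  else if d = 231 ∨ d = 6336 then [1, -4] else [0]

/-- candidates for the values at the elements of order 5, complement of order 192 -/
def cd192 (d : ℕ) : List ℤ :=
  if d = 22 then [2, -3, 12] else if d = 252 then [2, -3, 12, -8]
  else if d = 528 then [3, -2, 8, -12] else if d = 231 then [1, -4, 6, 16, -24]
  else if d = 6336 then [-4, 16, -24] else [0]

theorem five12 : ∀ s ∈ sols, s ≠ (176003,
    [-1039500, -154000, -154000, -52804, -25200, -4497, -4497, 351999]) →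
    five cd12 900 2520 (s.1 :: s.2) 0 (2661120 + 480) 2661120 = true := by
  decide +kernel

theorem five192 : ∀ s ∈ sols, five cd192 230400 1 (s.1 :: s.2) 0 (2661120 + 480) 0 = true := by
  decide +kernel

end Cfsg.Agent.SporadicA.M24.YSearch
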