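import Cfsg.Agent.SporadicA.M24.Integral
import Cfsg.Agent.SporadicA.M24.YSearch
import Cfsg.Agent.SporadicA.M24.YClass
import Cfsg.Agent.SmallSimple.PrimeValues

/-!
# The principal 23-block and the values at elements of orders 5 and 7

Interface between characters and `YSearch`.
-/

set_option autoImplicit false
set_option linter.unusedSectionVars false

open Cfsg Subgroup
open Cfsg.Agent.Characters.Core
open Cfsg.Agent.SmallSimple
open Cfsg.Agent.SmallSimple.FlatBlock Cfsg.Agent.SmallSimple.PrimeValues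
open Cfsg.Agent.SmallSimple.DegreeData
open Cfsg.Agent.M23Order.Base
open Cfsg.Agent.SporadicA.M24.Setup Cfsg.Agent.SporadicA.M24.Five Cfsg.Agent.SporadicA.M24.Seven
open Cfsg.Agent.SporadicA.M24.YSearch
open scoped ComplexConjugate

namespace Cfsg.Agent.SporadicA.M24.YBase

universe u

/-! ### Arithmetic -/

/-- values at the elements of order 7, complement of order 24 -/
def V7 : List ℤ := [0, 1, -1, 2, -2, 3, -3, 4, -4, 6, -6]

/-- values at the elements of order 5, complement of order 12 -/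
def V12 : List ℤ := [0, 1, -1, 2, -2, 3, -3, 4, -4]

/-- values at the elements of order 5, complement of order 192 -/
def V192 : List ℤ := [0, 1, -1, 2, -2, 3, -3, 4, -4, 6, -6, 8, -8, 12, -12, 16, -16, 24, -24]

theorem mem_V7 {v : ℤ} (h : v = 0 ∨ ∃ n m : ℕ, n ∣ 24 ∧ m ∣ 6 ∧ 0 < m ∧ 1 + m * n ^ 2 ≤ 24 ∧
    (v.natAbs = n * m ∨ v.natAbs = n)) : v ∈ V7 := by
  have key : ∀ n ∈ List.range 5, ∀ m ∈ List.range 7, n ∣ 24 → m ∣ 6 → 0 < m → 1 + m * n ^ 2 ≤ 24 →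
      n * m ∈ [1, 2, 3, 4, 6] ∧ n ∈ [1, 2, 3, 4, 6] := by decide +kernel
  have h2 : ∀ k : ℕ, k ∈ [1, 2, 3, 4, 6] → v.natAbs = k → v ∈ V7 := by
    intro k hk hvk
    unfold V7
    simp only [List.mem_cons, List.not_mem_nil, or_false] at hk ⊢
    omega
  rcases h with rfl | ⟨n, m, h3, h4, h5, h6, h7⟩
  · decide
  · have h8 : n < 5 := by
      by_contra h
      have : 5 ^ 2 ≤ n ^ 2 := Nat.pow_le_pow_left (by omega) 2
      have : 1 * n ^ 2 ≤ m * n ^ 2 := Nat.mul_le_mul_right _ h5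
      omega
    have h9 : m < 7 := by have := Nat.le_of_dvd (by norm_num) h4; omega
    obtain ⟨e1, e2⟩ := key n (List.mem_range.2 h8) m (List.mem_range.2 h9) h3 h4 h5 h6
    rcases h7 with h7 | h7
    · exact h2 _ e1 h7
    · exact h2 _ e2 h7

theorem mem_V12 {v : ℤ} (h : v = 0 ∨ ∃ n m : ℕ, n ∣ 12 ∧ m ∣ 4 ∧ 0 < m ∧ 1 + m * n ^ 2 ≤ 12 ∧
    (v.natAbs = n * m ∨ v.natAbs = n)) : v ∈ V12 := by
  have key : ∀ n ∈ List.range 4, ∀ m ∈ List.range 5, n ∣ 12 → m ∣ 4 → 0 < m → 1 + m * n ^ 2 ≤ 12 →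
      n * m ∈ [1, 2, 3, 4] ∧ n ∈ [1, 2, 3, 4] := by decide +kernel
  have h2 : ∀ k : ℕ, k ∈ [1, 2, 3, 4] → v.natAbs = k → v ∈ V12 := by
    intro k hk hvk
    unfold V12
    simp only [List.mem_cons, List.not_mem_nil, or_false] at hk ⊢
    omega
  rcases h with rfl | ⟨n, m, h3, h4, h5, h6, h7⟩
  · decide
  · have h8 : n < 4 := by
      by_contra h
      have : 4 ^ 2 ≤ n ^ 2 := Nat.pow_le_pow_left (by omega) 2
      have : 1 * n ^ 2 ≤ m * n ^ 2 := Nat.mul_le_mul_right _ h5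
      omega
    have h9 : m < 5 := by have := Nat.le_of_dvd (by norm_num) h4; omega
    obtain ⟨e1, e2⟩ := key n (List.mem_range.2 h8) m (List.mem_range.2 h9) h3 h4 h5 h6
    rcases h7 with h7 | h7
    · exact h2 _ e1 h7
    · exact h2 _ e2 h7

theorem mem_V192 {v : ℤ} (h : v = 0 ∨ ∃ n m : ℕ, n ∣ 192 ∧ m ∣ 4 ∧ 0 < m ∧
    1 + m * n ^ 2 ≤ 192 ∧ (v.natAbs = n * m ∨ v.natAbs = n)) : v ∈ V192 := by
  have key : ∀ n ∈ List.range 14, ∀ m ∈ List.range 5, n ∣ 192 → m ∣ 4 → 0 < m → 1 + m * n ^ 2 ≤ 192 →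
      n * m ∈ [1, 2, 3, 4, 6, 8, 12, 16, 24] ∧ n ∈ [1, 2, 3, 4, 6, 8, 12, 16, 24] := by
    decide +kernel
  have h2 : ∀ k : ℕ, k ∈ [1, 2, 3, 4, 6, 8, 12, 16, 24] → v.natAbs = k → v ∈ V192 := by
    intro k hk hvk
    unfold V192
    simp only [List.mem_cons, List.not_mem_nil, or_false] at hk ⊢
    omega
  rcases h with rfl | ⟨n, m, h3, h4, h5, h6, h7⟩
  · decide
  · have h8 : n < 14 := by
      by_contra h
      have : 14 ^ 2 ≤ n ^ 2 := Nat.pow_le_pow_left (by omega) 2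
      have : 1 * n ^ 2 ≤ m * n ^ 2 := Nat.mul_le_mul_right _ h5
      omega
    have h9 : m < 5 := by have := Nat.le_of_dvd (by norm_num) h4; omega
    obtain ⟨e1, e2⟩ := key n (List.mem_range.2 h8) m (List.mem_range.2 h9) h3 h4 h5 h6
    rcases h7 with h7 | h7
    · exact h2 _ e1 h7
    · exact h2 _ e2 h7

theorem arith7 : ∀ d ∈ A, ∀ v ∈ V7, d ≠ 1 → d ≠ 11 → (v - d) % 7 = 0 → (d % 7 = 0 → v = 0) →
    (1457280 * v) % d = 0 → 0 ≤ d + 6 * v →
    (d % 23 = 1 → 100 * (1 * (d : ℤ)) + v ∈ C) ∧ (d % 23 = 22 → 100 * (-1 * (d : ℤ)) + v ∈ C) ∧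
    (d % 23 = 12 → 100 * (1 * (d : ℤ)) + v ∈ X) ∧
    (d % 23 = 11 → 100 * (-1 * (d : ℤ)) + v ∈ X) := by
  decide +kernel

/-- degrees in the solutions -/
def DS : List ℕ := [22, 45, 231, 252, 528, 990, 1540, 1760, 3520, 3840, 6336, 10395]

theorem deg_mem : ∀ s ∈ sols, ∀ z ∈ s.1 :: s.2, (sd z).natAbs ∈ DS := by decide +kernel

theorem arith12 : ∀ d ∈ DS, ∀ v ∈ V12, (v - d) % 5 = 0 → (d % 5 = 0 → v = 0) →
    (4080384 * v) % d = 0 → 0 ≤ d + 4 * v → v ∈ cd12 d := by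
  decide +kernel

theorem arith192 : ∀ d ∈ DS, ∀ v ∈ V192, (v - d) % 5 = 0 → (d % 5 = 0 → v = 0) →
    (255024 * v) % d = 0 → 0 ≤ d + 4 * v → v ∈ cd192 d := by
  decide +kernel

theorem iv_mul : ∀ z ∈ C ++ X, iv z * ((sd z).natAbs : ℤ) = 2661120 := by decide +kernel

theorem decode {s v : ℤ} {d : ℕ} (hs : s = 1 ∨ s = -1) (hd : 0 < d) (hv : v ∈ V7) :
    sd (100 * (s * d) + v) = s * d ∧ vl (100 * (s * d) + v) = v ∧ sg (100 * (s * d) + v) = s := by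
  have h1 : -6 ≤ v ∧ v ≤ 6 := by
    revert v
    decide
  unfold sd vl sg
  rcases hs with rfl | rfl
  · refine ⟨by omega, by omega, ?_⟩
    rw [if_neg (by omega)]
  · refine ⟨by omega, by omega, ?_⟩
    rw [if_pos (by omega)]

/-! ### Characters -/

variable {G : Type u} [Group G] [Finite G] [IsSimpleGroup G] (H : Hyp G)

open Classical in
/-- the sign at 23 -/
noncomputable def sn (χ : IrrCharacter G) : ℤ := if χ ∈ H.D.NE then H.D.ε χ else -H.D.d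

/-- the code of a character -/
noncomputable def Z (v : IrrCharacter G → ℤ) (χ : IrrCharacter G) : ℤ :=
  100 * (sn H χ * dg χ) + v χ

theorem sn_mem (χ : IrrCharacter G) : sn H χ = 1 ∨ sn H χ = -1 := by
  unfold sn
  split_ifs with h
  · exact H.D.ε_mem χ h
  · rcases H.D.d_mem with h | h <;> rw [h] <;> simp

theorem sn_NE {χ : IrrCharacter G} (h : χ ∈ H.D.NE) : sn H χ = H.D.ε χ := if_pos h

theorem sn_X {χ : IrrCharacter G} (h : χ ∈ H.D.X) : sn H χ = -H.D.d :=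
  if_neg fun h' => Finset.disjoint_left.1 H.D.disj h' h

theorem decode_Z {v : IrrCharacter G → ℤ} {χ : IrrCharacter G} (hv : v χ ∈ V7) :
    sd (Z H v χ) = sn H χ * dg χ ∧ vl (Z H v χ) = v χ ∧ sg (Z H v χ) = sn H χ :=
  decode (sn_mem H χ) (Nat.pos_of_ne_zero (dg_ne_zero χ)) hv

theorem natAbs_sd {v : IrrCharacter G → ℤ} {χ : IrrCharacter G} (hv : v χ ∈ V7) :
    (sd (Z H v χ)).natAbs = dg χ := by
  rw [(decode_Z H hv).1, Int.natAbs_mul, Int.natAbs_natCast]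
  rcases sn_mem H χ with h | h <;> rw [h] <;> simp

/-- The relation at 23. -/
theorem rel_sum {Θ : IrrCharacter G} (hΘ : Θ ∈ H.D.X) {x : G} (hx : ¬ 23 ∣ orderOf x)
    {v : IrrCharacter G → ℤ} (hv : ∀ χ : IrrCharacter G, (χ : G → ℂ) x = v χ) :
    ∑ χ ∈ H.D.NE, H.D.ε χ * v χ = H.D.d * v Θ := by
  have h1 := H.D.rel Θ hΘ x hx
  have h2 : ((∑ χ ∈ H.D.NE, H.D.ε χ * v χ : ℤ) : ℂ) = ((H.D.d * v Θ : ℤ) : ℂ) := by
    push_cast
    rw [← hv, ← h1]
    refine Finset.sum_congr rfl fun χ _ => ?_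
    rw [hv]
  exact_mod_cast h2

/-- Class multiplication at 23 with integral values. -/
theorem int_sum {Θ : IrrCharacter G} (hΘ : Θ ∈ H.D.X) {x y : G} (hx : ¬ 23 ∣ orderOf x)
    (hy : ¬ 23 ∣ orderOf y) {v w : IrrCharacter G → ℤ}
    (hv : ∀ χ : IrrCharacter G, (χ : G → ℂ) x = v χ)
    (hw : ∀ χ : IrrCharacter G, (χ : G → ℂ) y = w χ) {q : IrrCharacter G → ℤ}
    (hq : ∀ χ : IrrCharacter G, χ ∈ H.D.NE ∨ χ ∈ H.D.X → q χ * (dg χ : ℤ) = 2661120) :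
    ∃ N : ℕ, (N : ℤ) * Nat.card G * 2661120 = (centralizer ({x} : Set G)).index *
      (centralizer ({y} : Set G)).index * (∑ χ ∈ H.D.NE, H.D.ε χ * (v χ * w χ) * q χ -
        H.D.d * (v Θ * w Θ) * q Θ) := by
  obtain ⟨N, hN⟩ := YClass.int_23 H hΘ hx hy
  refine ⟨N, ?_⟩
  have hterm : ∀ χ : IrrCharacter G, χ ∈ H.D.NE ∨ χ ∈ H.D.X →
      (χ : G → ℂ) x * (χ : G → ℂ) y / (χ : G → ℂ) 1 * 2661120 = (v χ * w χ) * q χ := by
    intro χ hχ
    have h1 : (q χ : ℂ) * dg χ = 2661120 := by exact_mod_cast hq χ hχ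
    have h2 : (dg χ : ℂ) ≠ 0 := by exact_mod_cast dg_ne_zero χ
    rw [hv, hw, dg_eq, ← h1]
    field_simp
  have hA : (∑ χ ∈ H.D.NE, (H.D.ε χ : ℂ) * ((χ : G → ℂ) x * (χ : G → ℂ) y / (χ : G → ℂ) 1)) *
      2661120 = ∑ χ ∈ H.D.NE, (H.D.ε χ : ℂ) * (v χ * w χ) * q χ := by
    rw [Finset.sum_mul]
    refine Finset.sum_congr rfl fun χ hχ => ?_
    rw [mul_assoc, hterm χ (Or.inl hχ)]
    ring
  have hB := hterm Θ (Or.inr hΘ)
  have h1 : ((N : ℂ) * Nat.card G) * 2661120 = (centralizer ({x} : Set G)).index *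
      (centralizer ({y} : Set G)).index * (∑ χ ∈ H.D.NE, (H.D.ε χ : ℂ) * (v χ * w χ) * q χ -
        H.D.d * (v Θ * w Θ) * q Θ) := by
    rw [hN, ← hA]
    linear_combination (-(centralizer ({x} : Set G)).index *
      (centralizer ({y} : Set G)).index * (H.D.d : ℂ)) * hB
  exact_mod_cast h1

/-- The list of the nonexceptional characters. -/
theorem exists_list {T : List (IrrCharacter G)} (hT : T.Nodup) (hsub : ∀ χ ∈ T, χ ∈ H.D.NE)
    (F : IrrCharacter G → ℤ) : ∃ l : List (IrrCharacter G), (T ++ l).Nodup ∧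
      (∀ χ, χ ∈ H.D.NE ↔ χ ∈ T ++ l) ∧ (T ++ l).length = 11 ∧ (l.map F).Pairwise (· ≤ ·) := by
  classical
  obtain ⟨l, h1, h2, h3⟩ := DegreeData.exists_sorted (H.D.NE \ T.toFinset) F
  have hmem : ∀ χ, χ ∈ l ↔ χ ∈ H.D.NE ∧ χ ∉ T := by
    intro χ
    rw [← List.mem_toFinset, h2, Finset.mem_sdiff, List.mem_toFinset]
  have hnd : (T ++ l).Nodup := by
    rw [List.nodup_append]
    refine ⟨hT, h1, fun χ hχ ψ hψ h => ?_⟩
    subst h
    exact ((hmem χ).1 hψ).2 hχ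
  have hiff : ∀ χ, χ ∈ H.D.NE ↔ χ ∈ T ++ l := by
    intro χ
    rw [List.mem_append, hmem]
    constructor
    · intro h
      by_cases h' : χ ∈ T
      · exact Or.inl h'
      · exact Or.inr ⟨h, h'⟩
    · rintro (h | h)
      · exact hsub χ h
      · exact h.1
  refine ⟨l, hnd, hiff, ?_, h3⟩
  have h4 : (T ++ l).toFinset = H.D.NE := by
    ext χ; rw [List.mem_toFinset, hiff]
  rw [← List.toFinset_card_of_nodup hnd, h4, H.D.card_NE]

theorem sum_NE {l : List (IrrCharacter G)} (hnd : l.Nodup) (hmem : ∀ χ, χ ∈ H.D.NE ↔ χ ∈ l)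
    (F : IrrCharacter G → ℤ) : ∑ χ ∈ H.D.NE, F χ = (l.map F).sum := by
  classical
  have h : H.D.NE = l.toFinset := by ext χ; rw [List.mem_toFinset, hmem]
  rw [h, List.sum_toFinset _ hnd]

end Cfsg.Agent.SporadicA.M24.YBase
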