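import Cfsg.Agent.SporadicA.M24.YBase

/-!
# The principal 23-block if the principal 7-block has a character of degree 3520

* `exists_code` : the codes of the 23-block are in `YSearch.sols`.
-/

set_option autoImplicit false
set_option linter.unusedSectionVars false

open Cfsg Subgroup
open Cfsg.Agent.Characters.Core
open Cfsg.Agent.SmallSimple
open Cfsg.Agent.SmallSimple.FlatBlock Cfsg.Agent.SmallSimple.PrimeValues
open Cfsg.Agent.SmallSimple.DegreeData
open Cfsg.Agent.M23Order.Base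
open Cfsg.Agent.SporadicA.M24.Setup Cfsg.Agent.SporadicA.M24.Five Cfsg.Agent.SporadicA.M24.Seven
open Cfsg.Agent.SporadicA.M24.YSearch Cfsg.Agent.SporadicA.M24.YBase
open scoped ComplexConjugate

namespace Cfsg.Agent.SporadicA.M24.YStage

universe u

variable {G : Type u} [Group G] [Finite G] [IsSimpleGroup G] (H : Hyp G)

include H

theorem not_23 {p : ℕ} [Fact p.Prime] {P : Sylow p G} (hP : Nat.card P = p) {x : G}
    (hx : x ∈ P) (hx1 : x ≠ 1) (hp : p ≠ 23) : ¬ 23 ∣ orderOf x := by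
  rw [Integral.orderOf_of_mem hP hx hx1]
  intro h
  exact hp ((Nat.prime_dvd_prime_iff_eq (by norm_num) (Fact.out : p.Prime)).1 h).symm

/-- The values at the elements of order 7. -/
theorem seven_facts {S : Sylow 7 G} {K' : Subgroup G} {M' : Ideal AlgInt}
    {B' : Finset (IrrCharacter G)} {ε' : IrrCharacter G → ℤ} {l' : List (IrrCharacter G)}
    {b : IrrCharacter G} (h7 : B7six S K' M' B' ε' l' b) (hK' : Nat.card K' = 24)
    {v : IrrCharacter G → ℤ} (hv : Values 7 S K' M' v) (χ : IrrCharacter G) :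
    v χ ∈ V7 ∧ (v χ - dg χ) % 7 = 0 ∧ (dg χ % 7 = 0 → v χ = 0) ∧
      (1457280 * v χ) % dg χ = 0 ∧ 0 ≤ (dg χ : ℤ) + 6 * v χ := by
  have h7p : Fact (Nat.Prime 7) := ⟨by norm_num⟩
  have hS := card_seven H S
  obtain ⟨y, hy, hy1⟩ := BlockIndex.exists_ne_one (P := (S : Subgroup G)) hS
  have hi := Integral.index_mul h7.loc.loc hS hy hy1
  rw [hK', H.hcard] at hi
  have hi' : (centralizer ({y} : Set G)).index = 1457280 := by omega
  refine ⟨?_, ?_, fun h => ?_, ?_, ?_⟩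
  · by_cases hχ : χ ∈ B'
    · have h1 := h7.loc.toFlat.val' hχ hy hy1
      rw [hv.val χ y hy hy1] at h1
      have h2 : v χ = ε' χ := by exact_mod_cast h1
      rw [h2]
      rcases h7.loc.ε_mem χ hχ with h | h <;> rw [h] <;> decide
    · have h1 := hv.mem χ (fun h => hχ ((h7.loc.mem_iff χ).1 h))
      rw [hK'] at h1
      exact mem_V7 h1
  · have h1 := hv.modEq χ
    have h2 := h1.symm.dvd
    omega
  · have h1 := Integral.seven_zero H χ (Nat.dvd_of_mod_eq_zero h) (w := y)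
      (by rw [Integral.orderOf_of_mem hS hy hy1])
    rw [hv.val χ y hy hy1] at h1
    exact_mod_cast h1
  · have h1 := hv.dvd χ y hy hy1
    rw [hi'] at h1
    exact Int.emod_eq_zero_of_dvd h1
  · have h1 := hv.nonneg χ
    norm_num at h1
    exact h1

/-- The codes of the nonexceptional characters. -/
theorem code_NE {v : IrrCharacter G → ℤ} (hf : ∀ χ : IrrCharacter G,
    v χ ∈ V7 ∧ (v χ - dg χ) % 7 = 0 ∧ (dg χ % 7 = 0 → v χ = 0) ∧
      (1457280 * v χ) % dg χ = 0 ∧ 0 ≤ (dg χ : ℤ) + 6 * v χ) {χ : IrrCharacter G}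
    (hχ : χ ∈ H.D.NE) (h1 : χ ≠ tr G) : Z H v χ ∈ C := by
  obtain ⟨f1, f2, f3, f4, f5⟩ := hf χ
  have hd1 : dg χ ≠ 1 := by
    intro h
    apply h1
    have h2 := eq_one_of_dg H h
    apply Subtype.ext
    rw [h2, H.D.coe_one, coe_tr]
  obtain ⟨e1, e2, -, -⟩ := arith7 _ (dg_mem_A H χ) _ f1 hd1 (dg_ne_eleven H χ) f2 f3 f4 f5
  unfold Z
  rw [sn_NE H hχ]
  rcases mod23_NE H hχ with ⟨h2, h3⟩ | ⟨h2, h3⟩
  · rw [h2]; exact e1 h3
  · rw [h2]; exact e2 h3

/-- The codes of the exceptional characters. -/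
theorem code_X {v : IrrCharacter G → ℤ} (hf : ∀ χ : IrrCharacter G,
    v χ ∈ V7 ∧ (v χ - dg χ) % 7 = 0 ∧ (dg χ % 7 = 0 → v χ = 0) ∧
      (1457280 * v χ) % dg χ = 0 ∧ 0 ≤ (dg χ : ℤ) + 6 * v χ) {χ : IrrCharacter G}
    (hχ : χ ∈ H.D.X) : Z H v χ ∈ X := by
  obtain ⟨f1, f2, f3, f4, f5⟩ := hf χ
  have hd1 : dg χ ≠ 1 := by
    intro h
    rcases mod23_X H hχ with h2 | h2 <;> rw [h] at h2 <;> omega
  obtain ⟨-, -, e1, e2⟩ := arith7 _ (dg_mem_A H χ) _ f1 hd1 (dg_ne_eleven H χ) f2 f3 f4 f5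
  unfold Z
  rw [sn_X H hχ]
  rcases mod23_X H hχ with ⟨h2, h3⟩ | ⟨h2, h3⟩
  · rw [h2]; exact e2 h3
  · rw [h2, neg_neg]; exact e1 h3

theorem iv_Z {v : IrrCharacter G → ℤ} {χ : IrrCharacter G} (hv : v χ ∈ V7) :
    iv (Z H v χ) = 2661120 / (dg χ : ℤ) := by
  unfold iv
  rw [natAbs_sd H hv]

theorem iv_mul_dg {v : IrrCharacter G → ℤ} (hf : ∀ χ : IrrCharacter G,
    v χ ∈ V7 ∧ (v χ - dg χ) % 7 = 0 ∧ (dg χ % 7 = 0 → v χ = 0) ∧
      (1457280 * v χ) % dg χ = 0 ∧ 0 ≤ (dg χ : ℤ) + 6 * v χ) (χ : IrrCharacter G)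
    (hχ : χ ∈ H.D.NE ∨ χ ∈ H.D.X) : iv (Z H v χ) * (dg χ : ℤ) = 2661120 := by
  by_cases h1 : χ = tr G
  · rw [iv_Z H (hf χ).1, h1, dg_tr]
    norm_num
  · have h2 : Z H v χ ∈ C ++ X := by
      rw [List.mem_append]
      rcases hχ with h | h
      · exact Or.inl (code_NE H hf h h1)
      · exact Or.inr (code_X H hf h)
    have h3 := iv_mul _ h2
    rwa [natAbs_sd H (hf χ).1] at h3

/-- the trivial character is nonexceptional of sign 1 -/
theorem tr_NE : tr G ∈ H.D.NE ∧ H.D.ε (tr G) = 1 := by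
  have h : H.D.one = tr G := Subtype.ext (by rw [H.D.coe_one, coe_tr])
  rw [← h]
  exact ⟨H.D.one_mem, H.D.ε_one⟩

theorem pos_NE {χ : IrrCharacter G} (h : dg χ % 23 = 1) : χ ∈ H.D.NE ∧ H.D.ε χ = 1 := by
  have h1 := mem_NE23 H (Or.inl h)
  refine ⟨h1, ?_⟩
  rcases mod23_NE H h1 with h2 | h2
  · exact h2.1
  · omega

/-- Sum of the squares of the degrees. -/
theorem sum_sq {l : List (IrrCharacter G)} (hnd : l.Nodup)
    (hmem : ∀ χ, χ ∈ H.D.NE ↔ χ ∈ l) {b c d : IrrCharacter G} (hb : dg b = 2024)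
    (hc : dg c = 1771) (hd : dg d = 5796) :
    (l.map fun χ => dg χ ^ 2).sum + 2 * H.D.f ^ 2 + 2024 ^ 2 + 1771 ^ 2 + 5796 ^ 2 ≤
      244823040 := by
  classical
  have h1 : l.toFinset = H.D.NE := by ext χ; rw [List.mem_toFinset, hmem]
  have hout : ∀ χ : IrrCharacter G, dg χ % 23 = 0 → χ ∉ H.D.NE ∪ H.D.X := by
    intro χ h2 h3
    rw [Finset.mem_union] at h3
    rcases h3 with h3 | h3
    · rcases mod23_NE H h3 with h | h <;> omega
    · rcases mod23_X H h3 with h | h <;> omega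
  have h2 := sum_dg_sq_le (G := G) (insert b (insert c (insert d (H.D.NE ∪ H.D.X))))
  have hne : ∀ {χ ψ : IrrCharacter G}, dg χ ≠ dg ψ → χ ≠ ψ := by
    rintro χ ψ h rfl
    exact h rfl
  rw [Finset.sum_insert, Finset.sum_insert, Finset.sum_insert (hout d (by rw [hd])),
    Finset.sum_union H.D.disj, ← h1, List.sum_toFinset _ hnd, hb, hc, hd, H.hcard,
    Finset.sum_congr (s₁ := H.D.X) rfl fun χ hχ => by rw [H.D.deg_X χ hχ], Finset.sum_const,
    H.D.card_X, smul_eq_mul] at h2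
  · omega
  · rw [Finset.mem_insert, not_or]
    exact ⟨hne (by rw [hc, hd]; norm_num), hout c (by rw [hc])⟩
  · rw [Finset.mem_insert, not_or, Finset.mem_insert, not_or]
    exact ⟨hne (by rw [hb, hc]; norm_num), hne (by rw [hb, hd]; norm_num), hout b (by rw [hb])⟩

/-- **Stage 1.** -/
theorem exists_code {R : Sylow 5 G} {K : Subgroup G} {M : Ideal AlgInt}
    {B : Finset (IrrCharacter G)} {ε : IrrCharacter G → ℤ} {a b c d : IrrCharacter G}
    (h5 : B5 R K M B ε a b c d) (hc : dg c = 1771) (hd : dg d = 5796) {S : Sylow 7 G}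
    {K' : Subgroup G} {M' : Ideal AlgInt} {B' : Finset (IrrCharacter G)}
    {ε' : IrrCharacter G → ℤ} {l' : List (IrrCharacter G)} (h7 : B7six S K' M' B' ε' l' b)
    {v : IrrCharacter G → ℤ} (hv : Values 7 S K' M' v)
    (hf : ∀ χ : IrrCharacter G, v χ ∈ V7 ∧ (v χ - dg χ) % 7 = 0 ∧ (dg χ % 7 = 0 → v χ = 0) ∧
      (1457280 * v χ) % dg χ = 0 ∧ 0 ≤ (dg χ : ℤ) + 6 * v χ) (hK' : Nat.card K' = 24)
    {s : IrrCharacter G} (hs : s ∈ B') (hs1 : dg s = 3520) {Θ : IrrCharacter G}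
    (hΘ : Θ ∈ H.D.X) : ∃ l : List (IrrCharacter G), (tr G :: a :: s :: l).Nodup ∧
      (∀ χ, χ ∈ H.D.NE ↔ χ ∈ tr G :: a :: s :: l) ∧ (Z H v Θ, l.map (Z H v)) ∈ sols := by
  classical
  have h7p : Fact (Nat.Prime 7) := ⟨by norm_num⟩
  have hS := card_seven H S
  obtain ⟨y, hy, hy1⟩ := BlockIndex.exists_ne_one (P := (S : Subgroup G)) hS
  have hi := Integral.index_mul h7.loc.loc hS hy hy1
  rw [hK', H.hcard] at hi
  have hi' : (centralizer ({y} : Set G)).index = 1457280 := by omega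
  have hy23 : ¬ 23 ∣ orderOf y := not_23 H hS hy hy1 (by norm_num)
  have hyv : ∀ χ : IrrCharacter G, (χ : G → ℂ) y = v χ := fun χ => hv.val χ y hy hy1
  obtain ⟨ht1, ht2⟩ := tr_NE H
  obtain ⟨ha1, ha2⟩ := pos_NE H (χ := a) (by rw [h5.dg_a])
  obtain ⟨hs2, hs3⟩ := pos_NE H (χ := s) (by rw [hs1])
  have hne : ∀ {χ ψ : IrrCharacter G}, dg χ ≠ dg ψ → χ ≠ ψ := by
    rintro χ ψ h rfl
    exact h rfl
  have hdt : dg (tr G) = 1 := dg_tr
  have hT : [tr G, a, s].Nodup := by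
    simp only [List.nodup_cons, List.mem_cons, List.not_mem_nil, or_false, not_or,
      not_false_eq_true, List.nodup_nil, and_true]
    refine ⟨⟨hne ?_, hne ?_⟩, hne ?_⟩
    · rw [hdt, h5.dg_a]; norm_num
    · rw [hdt, hs1]; norm_num
    · rw [h5.dg_a, hs1]; norm_num
  obtain ⟨l, hl1, hl2, hl3, hl4⟩ := exists_list H hT (by
    intro χ hχ
    simp only [List.mem_cons, List.not_mem_nil, or_false] at hχ
    rcases hχ with rfl | rfl | rfl
    · exact ht1
    · exact ha1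
    · exact hs2) (Z H v)
  have hl1' : (tr G :: a :: s :: l).Nodup := hl1
  have hl2' : ∀ χ, χ ∈ H.D.NE ↔ χ ∈ tr G :: a :: s :: l := hl2
  refine ⟨l, hl1', hl2', ?_⟩
  -- values
  have hvt : v (tr G) = 1 := by
    have h1 := hyv (tr G)
    rw [coe_tr] at h1
    simp only [Pi.one_apply] at h1
    exact_mod_cast h1.symm
  have hva : v a = 0 := (hf a).2.2.1 (by rw [h5.dg_a])
  have hvs : v s = -1 := by
    have h1 := h7.loc.toFlat.val' hs hy hy1
    rw [hyv] at h1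
    have h2 : v s = ε' s := by exact_mod_cast h1
    have h3 := (hf s).2.1
    rw [hs1] at h3
    rcases h7.loc.ε_mem s hs with h | h <;> rw [h] at h2 <;> omega
  have hiva : iv (Z H v a) = 480 := by rw [iv_Z H (hf a).1, h5.dg_a]; norm_num
  have hivs : iv (Z H v s) = 756 := by rw [iv_Z H (hf s).1, hs1]; norm_num
  have hivt : iv (Z H v (tr G)) = 2661120 := by rw [iv_Z H (hf _).1, dg_tr]; norm_num
  -- members of the list
  have hlNE : ∀ χ ∈ l, χ ∈ H.D.NE ∧ χ ≠ tr G := by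
    intro χ hχ
    refine ⟨(hl2' χ).2 (by simp [hχ]), ?_⟩
    rintro rfl
    exact (List.nodup_cons.1 hl1').1 (by simp [hχ])
  have hdec : ∀ χ ∈ l, sd (Z H v χ) = H.D.ε χ * dg χ ∧ vl (Z H v χ) = v χ ∧
      sg (Z H v χ) = H.D.ε χ := by
    intro χ hχ
    have h1 := decode_Z H (hf χ).1
    rwa [sn_NE H (hlNE χ hχ).1] at h1
  obtain ⟨x1, x2, x3⟩ := decode_Z H (hf Θ).1
  rw [sn_X H hΘ] at x1 x3
  have hfΘ : dg Θ = H.D.f := H.D.deg_X Θ hΘ
  -- the sums
  have r1 := H.D.rel_deg (by norm_num) hΘ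
  rw [sum_NE H hl1' hl2'] at r1
  have r2 := rel_sum H hΘ hy23 hyv
  rw [sum_NE H hl1' hl2'] at r2
  obtain ⟨N, r3⟩ := int_sum H hΘ hy23 hy23 hyv hyv (q := fun χ => iv (Z H v χ))
    (iv_mul_dg H hf)
  rw [sum_NE H hl1' hl2', hi', H.hcard] at r3
  simp only [List.map_cons, List.sum_cons, ht2, ha2, hs3, hvt, hva, hvs, hiva, hivs, hivt,
    hdt, h5.dg_a, hs1] at r1 r2 r3
  have e1 : ((l.map (Z H v)).map sd).sum = (l.map fun χ => H.D.ε χ * (dg χ : ℤ)).sum := by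
    rw [List.map_map]
    congr 1
    exact List.map_congr_left fun χ hχ => (hdec χ hχ).1
  have e2 : ((l.map (Z H v)).map wt).sum = (l.map fun χ => H.D.ε χ * v χ).sum := by
    rw [List.map_map]
    congr 1
    refine List.map_congr_left fun χ hχ => ?_
    show sg (Z H v χ) * vl (Z H v χ) = _
    rw [(hdec χ hχ).2.1, (hdec χ hχ).2.2]
  have e3 : ((l.map (Z H v)).map qd).sum =
      (l.map fun χ => H.D.ε χ * (v χ * v χ) * iv (Z H v χ)).sum := by
    rw [List.map_map]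
    congr 1
    refine List.map_congr_left fun χ hχ => ?_
    show sg (Z H v χ) * (vl (Z H v χ) * vl (Z H v χ)) * iv (Z H v χ) = _
    rw [(hdec χ hχ).2.1, (hdec χ hχ).2.2]
  refine YSearch.spec (code_X H hf hΘ) ?_ hl4 ?_ ?_ ?_ ?_ ?_
  · rw [List.length_map]
    rw [List.length_append] at hl3
    simp only [List.length_cons, List.length_nil] at hl3
    omega
  · intro z hz
    obtain ⟨χ, hχ, rfl⟩ := List.mem_map.1 hz
    exact code_NE H hf (hlNE χ hχ).1 (hlNE χ hχ).2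
  · rw [e1, x1, hfΘ]
    push_cast at r1
    linarith
  · rw [e2]
    unfold wt
    rw [x2, x3]
    linarith
  · have h1 := sum_sq H hl1' hl2' h5.dg_b hc hd
    simp only [List.map_cons, List.sum_cons, hdt, h5.dg_a, hs1] at h1
    have h2 : ((l.map (Z H v)).map fun z => (sd z).natAbs ^ 2).sum =
        (l.map fun χ => dg χ ^ 2).sum := by
      rw [List.map_map]
      congr 1
      refine List.map_congr_left fun χ hχ => ?_
      show (sd (Z H v χ)).natAbs ^ 2 = _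
      rw [natAbs_sd H (hf χ).1]
    rw [h2, natAbs_sd H (hf Θ).1, hfΘ]
    unfold BD
    omega
  · rw [e3]
    unfold qd
    rw [x2, x3]
    set T : ℤ := (l.map fun χ => H.D.ε χ * (v χ * v χ) * iv (Z H v χ)).sum with hTdef
    set U : ℤ := H.D.d * (v Θ * v Θ) * iv (Z H v Θ) with hU
    have h1 : -H.D.d * (v Θ * v Θ) * iv (Z H v Θ) = -U := by rw [hU]; ring
    rw [h1]
    omega

end Cfsg.Agent.SporadicA.M24.YStage
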